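import Cfsg.Statements.S0214
import Cfsg.Agent.H11.StrEmb

set_option autoImplicit false
open Cfsg

namespace Cfsg.Agent.S0214

open Cfsg.Agent.H11



/-- Let H be a proper subgroup of the finite group G and P a nontrivial Sylow 2-subgroup of H. Then H is strongly embedded in G if and only if N_G(X) ≤ H for every nontrivial subgroup X of P. -/
theorem result {G : Type*} [Group G] [Finite G] (H : Subgroup G) (hH : H ≠ ⊤) (P : Sylow 2 ↥H) (hP : (P : Subgroup ↥H) ≠ ⊥) : Cfsg.IsStronglyEmbedded H ↔ (∀ X : Subgroup ↥H, X ≤ (P : Subgroup ↥H) → X ≠ ⊥ → Subgroup.normalizer ((X.map H.subtype : Subgroup G) : Set G) ≤ H) := by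
  haveI : Fact (Nat.Prime 2) := ⟨Nat.prime_two⟩
  constructor
  · intro h X hX hne
    refine SE.normalizer_le h (Subgroup.map_subtype_le _) ?_
    rw [card_map_subtype]
    rcases (P.isPGroup'.to_le hX).card_eq_or_dvd with h1 | h1
    · exact absurd (Subgroup.card_eq_one.1 h1) hne
    · exact even_iff_two_dvd.2 h1
  · intro h
    refine isStronglyEmbedded_of_normalizers_le hH (isSylIn_map P) ?_ fun X hX hne => ?_
    · rwa [Ne, Subgroup.map_eq_bot_iff_of_injective _ H.subtype_injective]
    · have hXH : X ≤ H := hX.trans (Subgroup.map_subtype_le _)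
      have := h (X.subgroupOf H) (by
        rw [← Subgroup.map_le_map_iff_of_injective H.subtype_injective,
          Subgroup.map_subgroupOf_eq_of_le hXH]; exact hX) (by
        rw [Ne, Subgroup.subgroupOf_eq_bot]
        exact fun hd => hne (hd.eq_bot_of_le hXH))
      rwa [Subgroup.map_subgroupOf_eq_of_le hXH] at this

end Cfsg.Agent.S0214
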