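import Cfsg.Statements.S0344
import Cfsg.Agent.H4.Zass7

set_option autoImplicit false
open Cfsg

namespace Cfsg.Agent.S0344

open Cfsg.Agent.H4

theorem small {G Ω : Type*} [Group G] [Finite G] [MulAction G Ω] [Finite Ω]
    (hZ : Cfsg.IsZassenhausGroup G Ω) [IsSimpleGroup G] {a b : Ω} (hab : a ≠ b)
    (he : Even (Nat.card (St2 G a b))) : 2 * Nat.card (St2 G a b) ≤ Nat.card (hZ.zt.K a) - 1 := by
  obtain ⟨m, hm⟩ := hZ.zt.card_St2_dvd hab
  have := (hZ.zt.K a).one_lt_card_iff_ne_bot.2 (hZ.zt.K_ne_bot' hab (hZ.St2_ne_bot hab))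
  have : m ≠ 1 := by
    rintro rfl
    obtain ⟨c, s, h⟩ := hZ.zt.exists_S3 hab he (by omega)
    exact h.not_simple inferInstance
  have : m ≠ 0 := by rintro rfl; omega
  rw [hm, mul_comm]; exact Nat.mul_le_mul_left _ (by omega)


/-- A finite simple Zassenhaus group with a two-point stabiliser of even order is isomorphic to `PSL₂(F)` for a finite
field `F` with more than three elements. -/
theorem result {G Ω : Type*} [Group G] [Finite G] [MulAction G Ω] [Finite Ω]
    (hZ : Cfsg.IsZassenhausGroup G Ω) [IsSimpleGroup G]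
    {a b : Ω} (hab : a ≠ b) (heven : Even (Nat.card ↥(MulAction.stabilizer G a ⊓ MulAction.stabilizer G b))) :
    ∃ (F : Type) (_ : Field F) (_ : Fintype F), 3 < Fintype.card F ∧ Nonempty (G ≃* Matrix.ProjectiveSpecialLinearGroup (Fin 2) F) := by
  have h1 := small hZ hab heven
  obtain ⟨F, _, _, h2, -, h3⟩ := hZ.iso_PSL_of_even_small hab heven h1
  have := (St2 G a b).one_lt_card_iff_ne_bot.2 (hZ.St2_ne_bot hab)
  exact ⟨F, _, _, by omega, h3⟩

end Cfsg.Agent.S0344
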