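import Cfsg.Statements.S0497
import Cfsg.Agent.H19.CC
import Cfsg.Agent.S0254

set_option autoImplicit false
open Cfsg

namespace Cfsg.Agent.S0497

open Cfsg.Agent.H19 Cfsg.Agent.H4 Cfsg.Agent.H6 Subgroup

/-- A simple group of order 360 is isomorphic to the alternating group of degree 6. -/
theorem result {G : Type*} [Group G] [Finite G] [IsSimpleGroup G]
    (h : Nat.card G = 360) : Nonempty (G ≃* alternatingGroup (Fin 6)) := by
  classical
  have hc : ¬ IsMulCommutative G := not_comm_of_card_not_prime (by rw [h]; norm_num)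
  haveI := Fintype.ofFinite G
  haveI : Fact (Nat.Prime 5) := ⟨by norm_num⟩
  obtain ⟨x, K, hx, B, L, h1, h2, h3⟩ := d1_mem (p := 5) hc (by rw [h]; norm_num)
    (by rw [h]; norm_num)
  rw [h, show d1list 360 5 = [(1, 2, 36, [-9]), (1, 2, 36, [-4])] by decide +kernel] at h1
  have h4 : Nat.card K = 1 ∧ ∀ J : G, orderOf J = 2 → Nat.card (centralizer ({J} : Set G)) = 8 := by
    simp only [List.mem_cons, Prod.mk.injEq, List.not_mem_nil, or_false] at h1
    rcases h1 with ⟨hK, he, -, rfl⟩ | ⟨hK, he, -, rfl⟩ <;> refine ⟨hK, fun J hJ => ?_⟩ <;>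
      obtain ⟨k, _, h5, h6, h8, h9, rfl, h7, -, h10, -⟩ := e2_data hc B hK he h3 hJ <;>
      rw [h] at h7 h10
    · obtain rfl : k = 2 := by
        have := h10 (by decide +kernel)
        omega
      norm_num [-Nat.card_eq_fintype_card] at h7
      nlinarith
    · obtain rfl : k = 1 := by omega
      norm_num [-Nat.card_eq_fintype_card] at h7
      generalize Nat.card (centralizer ({J} : Set G)) = c at h7
      have : c ≤ 10 := by nlinarith
      interval_cases c <;> omega
  obtain rfl := card_eq_one.mp h4.1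
  obtain ⟨P⟩ : Nonempty (Sylow 3 G) := inferInstance
  have hP : Nat.card P = 9 := by rw [P.card_eq_multiplicity, h]; decide +kernel
  have h5 : CCS P := ccs_of_comm (IsPGroup.isMulCommutative_of_card_eq_prime_sq (p := 3) hP)
    fun y hy h5 z h6 h7 => by
      have h8 : orderOf y ∣ 9 := hP ▸ P.1.orderOf_dvd_natCard hy
      have h9 : orderOf z ∣ 2 ^ 3 * 3 ^ 2 * 5 := (orderOf_dvd_natCard z).trans (by rw [h]; norm_num)
      have h10 := orderOf_eq_one_iff.not.mpr h5
      rcases (h7.dvd_mul).mp h9 with e | e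
      · refine ((h7.dvd_mul).mp e).elim (fun e => absurd ?_ h10) fun e =>
          (Nat.prime_dvd_prime_iff_eq h7 Nat.prime_three).mp (h7.dvd_of_dvd_pow e)
        exact Nat.eq_one_of_dvd_coprimes (by norm_num) h8 (h4.2 z ((Nat.prime_dvd_prime_iff_eq h7
          Nat.prime_two).mp (h7.dvd_of_dvd_pow e)) ▸ (centralizer _).orderOf_dvd_natCard
            (mem_centralizer_singleton_iff.mpr h6.symm))
      · have h11 := (Nat.prime_dvd_prime_iff_eq h7 (by norm_num)).mp e
        exact absurd (h11 ▸ h6.orderOf_mul_eq_mul_orderOf_of_coprime (h11 ▸ Nat.Coprime.of_dvd_right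
          h8 (by norm_num))) (no_order_mul hx h10 _)
  have h6 : Nat.card (Sylow 3 G) = 10 := by
    have h6 := h5.card_dvd
    have h7 := card_sylow_mem (p := 3) (a := 2) (m := 40) hc (by norm_num) h
    rw [h, show sylc 360 40 3 = [10, 40] by decide +kernel] at h7
    simp only [List.mem_cons, List.not_mem_nil, or_false] at h7
    rw [hP] at h6
    omega
  obtain ⟨F, _, _, h7, ⟨e⟩⟩ := h5.iso_PSL hc (m := 2) (by rw [h6, hP]) (by rw [h, hP])
  have h8 := card_of_PSL rfl ⟨e⟩
  have h9 : Fintype.card F = 9 := by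
    rw [h] at h8
    generalize Fintype.card F = q at h7 h8
    have h10 : Nat.gcd 2 (q - 1) ≤ 2 := Nat.gcd_le_left _ two_pos
    have h11 : q ≤ 9 := by
      by_contra h11
      have : 99 ≤ q ^ 2 - 1 := by have : 100 ≤ q ^ 2 := by nlinarith
                                  omega
      nlinarith
    interval_cases q <;> simp_all
  exact ⟨e.trans (S0254.result h9).some⟩

end Cfsg.Agent.S0497
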