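import Cfsg.Statements.S0483
import Cfsg.Agent.GW.Cor

set_option autoImplicit false
open Cfsg

namespace Cfsg.Agent.S0483

/-- A finite perfect group whose Sylow 2-subgroups are dihedral of order at least 4 has quotient by its core
(largest normal subgroup of odd order) isomorphic to a projective special linear group of dimension 2 over a field of
odd order greater than 3, or to the alternating group of degree 7. -/
theorem result {X : Type*} [Group X] [Finite X] [Group.IsPerfect X]
    (S : Sylow 2 X) (n : ℕ) (hn : 2 ≤ n) (hS : Nonempty ((S : Subgroup X) ≃* DihedralGroup n)) :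
    (∃ (F : Type) (_ : Field F) (_ : Fintype F), Odd (Fintype.card F) ∧ 3 < Fintype.card F ∧
        Nonempty (X ⧸ Cfsg.oddCore X ≃* Matrix.ProjectiveSpecialLinearGroup (Fin 2) F)) ∨
      Nonempty (X ⧸ Cfsg.oddCore X ≃* alternatingGroup (Fin 7)) := by
  have hD : GW.DS X := ⟨S, n, hn, hS⟩
  obtain ⟨V, -, hV⟩ := hD.exists_klein_le S
  have he := GW.even_quot (Q := X) (even_iff_two_dvd.2
    (Dvd.dvd.trans (by rw [hV.card_four]; decide) V.card_subgroup_dvd_card))
  haveI : Nontrivial (X ⧸ oddCore X) := Finite.one_lt_card_iff_nontrivial.1 (by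
    have := Nat.card_pos (α := X ⧸ oddCore X); obtain ⟨k, hk⟩ := he; omega)
  exact GW.conc_of_perfect (GW.cd_quot hD.cd) (H10.pPrimeCore_quotient_pPrimeCore 2 X)
    (GW.perfect_of_surj Group.IsPerfect.commutator_eq_top _ (QuotientGroup.mk'_surjective _))

end Cfsg.Agent.S0483
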