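import Cfsg.Statements.S0810
import Cfsg.Agent.H12.PSL2Dih
import Cfsg.Agent.H4.Burnside

set_option autoImplicit false
open Cfsg

namespace Cfsg.Agent.S0810

theorem solv_of_dvd {G : Type*} [Group G] [Finite G] (h : Nat.card G ∣ 24) : Group.IsSolvable G :=
  H4.isSolvable_of_forall_prime_dvd Nat.prime_two Nat.prime_three fun r hr hd => by
    rcases (hr.dvd_mul (m := 2 ^ 3) (n := 3)).1 (hd.trans h) with h1 | h1
    · exact Or.inl ((Nat.prime_dvd_prime_iff_eq hr Nat.prime_two).1 (hr.dvd_of_dvd_pow h1))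
    · exact Or.inr ((Nat.prime_dvd_prime_iff_eq hr Nat.prime_three).1 h1)

theorem not_comm {F : Type*} [Field F] :
    ¬ IsMulCommutative (Matrix.ProjectiveSpecialLinearGroup (Fin 2) F) := fun h => by
  have := h.is_comm.comm (H12.upper (1 : F)) (H12.lower (1 : F))
  rw [← QuotientGroup.mk_mul, ← QuotientGroup.mk_mul, H12.psl2_mk_eq_mk_iff] at this
  rcases this with e | e
  · simpa using congrArg (fun g : Matrix.SpecialLinearGroup (Fin 2) F => g 0 0) e
  · have h1 := congrArg (fun g : Matrix.SpecialLinearGroup (Fin 2) F => g 0 0) e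
    have h2 := congrArg (fun g : Matrix.SpecialLinearGroup (Fin 2) F => g 0 1) e
    simp at h1 h2
    exact one_ne_zero (α := F) (by linear_combination h1 - h2)

theorem not_solv {F : Type*} [Field F] [Fintype F] (h : 4 ≤ Fintype.card F) :
    ¬ Group.IsSolvable (Matrix.ProjectiveSpecialLinearGroup (Fin 2) F) := fun hs => by
  have := H12.PSL_fin_simple (F := F) 2 le_rfl fun _ => h
  exact not_comm ⟨⟨IsSimpleGroup.comm_iff_isSolvable.2 hs⟩⟩

theorem not_solv_alt5 : ¬ Group.IsSolvable (alternatingGroup (Fin 5)) := fun hs =>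
  absurd (IsSimpleGroup.comm_iff_isSolvable.2 hs H12.alt5a H12.alt5b) (by decide +kernel)

theorem card_lt {q r a b : ℕ} (hr : 2 ≤ r) (hq : r ^ 2 ≤ q)
    (ha : Nat.gcd 2 (q - 1) * a = q * (q ^ 2 - 1)) (hb : Nat.gcd 2 (r - 1) * b = r * (r ^ 2 - 1)) :
    b < a := by
  have h1 : b ≤ r * (r ^ 2 - 1) := hb ▸ Nat.le_mul_of_pos_left _ (Nat.gcd_pos_of_pos_left _ two_pos)
  have h2 : q * (q ^ 2 - 1) ≤ 2 * a := ha ▸ Nat.mul_le_mul_right _ (Nat.gcd_le_left _ two_pos)
  have h3 : 2 * r ≤ q := by nlinarith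
  have h4 : r ^ 2 - 1 < q ^ 2 - 1 := by
    have : q < q ^ 2 := by nlinarith
    omega
  have h5 : 2 * r * (r ^ 2 - 1) < q * (q ^ 2 - 1) :=
    Nat.mul_lt_mul_of_le_of_lt h3 h4 (by omega)
  nlinarith

theorem main {F : Type*} [Field F] [Fintype F] {p n : ℕ} [Fact p.Prime] [CharP F p]
    (hF : Fintype.card F = p ^ n) :
    Cfsg.IsMinimalSimple (Matrix.ProjectiveSpecialLinearGroup (Fin 2) F) ↔
      4 ≤ p ^ n ∧ (5 ∣ p ^ n * ((p ^ n) ^ 2 - 1) → p ^ n ≤ 5) ∧
        ∀ k m, 2 ≤ m → k * m = n → p ^ k ≤ 3 := by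
  have hp : p.Prime := Fact.out
  have hG := H12.card_PSL2 hF
  have hq : 1 < p ^ n := hF ▸ Fintype.one_lt_card
  constructor
  · rintro ⟨h1, h2, h3⟩
    refine ⟨?_, fun h => ?_, fun k m hm hk => ?_⟩
    · by_contra h
      refine h2 ⟨⟨IsSimpleGroup.comm_iff_isSolvable.2 (solv_of_dvd ?_)⟩⟩
      generalize p ^ n = q at *
      have : q < 4 := by omega
      interval_cases q <;>
        simp only [Nat.reduceSub, Nat.reduceGcd, Nat.reducePow, Nat.reduceMul] at hG
      exacts [⟨4, by omega⟩, ⟨2, by omega⟩]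
    · obtain ⟨t, ht⟩ := H12.exists_golden (F := F) (hF ▸ h)
      obtain ⟨H, ⟨e⟩⟩ := H12.exists_alt5_of_root ht
      by_contra h5
      have := h3 H (by
        rintro rfl
        rw [← Subgroup.card_top, Nat.card_congr e.toEquiv, H12.card_alt5] at hG
        have h6 := Nat.mul_le_mul_right 60 (Nat.gcd_le_left (p ^ n - 1) two_pos)
        have h7 : 6 * (6 ^ 2 - 1) ≤ p ^ n * ((p ^ n) ^ 2 - 1) := Nat.mul_le_mul (by omega)
          (Nat.sub_le_sub_right (Nat.pow_le_pow_left (by omega) 2) 1)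
        omega)
      exact not_solv_alt5 (Group.isSolvable_of_surjective e.surjective (f := e.toMonoidHom))
    · by_contra h
      have hk0 : k ≠ 0 := by rintro rfl; simp at h
      have := Fintype.ofFinite (GaloisField p k)
      have hK : Fintype.card (GaloisField p k) = p ^ k := by
        rw [← Nat.card_eq_fintype_card, GaloisField.card p k hk0]
      obtain ⟨f⟩ := H12.nonempty_ringHom_of_card_pow (F := F) (K := GaloisField p k) (m := m)
        (by simp [hK, hF, ← hk, pow_mul])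
      let e := MonoidHom.ofInjective (H12.psl2_map_injective f)
      have := h3 (H12.pslMap (Fin 2) f).range (fun htop => by
        have := card_lt (by omega) (by
          rw [← hk, pow_mul]; exact Nat.pow_le_pow_right (by omega) hm) hG (H12.card_PSL2 hK)
        rw [Nat.card_congr e.toEquiv, htop, Subgroup.card_top] at this
        omega)
      exact not_solv (F := GaloisField p k) (by omega)
        (Group.isSolvable_of_surjective e.symm.surjective (f := e.symm.toMonoidHom))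
  · rintro ⟨h1, h2, h3⟩
    refine ⟨H12.PSL_fin_simple 2 le_rfl fun _ => hF ▸ h1, not_comm, fun H hH => ?_⟩
    rcases H12.dickson_psl2_iso p H with ⟨x, h4, -⟩ | ⟨h4, -⟩ | ⟨a, s, h4, -⟩ | ⟨-, ⟨e⟩⟩ |
      ⟨-, ⟨e⟩⟩ | ⟨-, ⟨e⟩⟩ | ⟨E, hE, h⟩
    · have := H12.isSolvable_of_fix (H.map Matrix.ProjectiveSpecialLinearGroup.toPGL) (x := x) (by
        rintro _ ⟨g, hg, rfl⟩
        rw [H12.toPGL_smul_proj]; exact h4 g hg)
      let e := H.equivMapOfInjective _ Matrix.ProjectiveSpecialLinearGroup.toPGL_injective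
      exact Group.isSolvable_of_isSolvable_injective (f := e.toMonoidHom) e.injective
    · exact Group.isSolvable_of_comm h4.isMulCommutative.is_comm.comm
    · exact h4.isSolvable
    · exact solv_of_dvd (by rw [Nat.card_congr e.toEquiv, H12.card_alt4]; norm_num)
    · exact solv_of_dvd (by rw [Nat.card_congr e.toEquiv, H12.card_perm4])
    · exfalso
      have h4 := H.card_mul_index
      have h5 : H.index ≠ 1 := fun e => hH (Subgroup.index_eq_one.1 e)
      rw [Nat.card_congr e.toEquiv, H12.card_alt5] at h4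
      rw [← h4] at hG
      have h6 := h2 (hG ▸ Dvd.dvd.mul_left (Dvd.dvd.mul_right (by norm_num) _) _)
      generalize p ^ n = q at *
      interval_cases q <;>
        simp only [Nat.reduceSub, Nat.reduceGcd, Nat.reducePow, Nat.reduceMul] at hG <;> omega
    · obtain ⟨m, hm1, hm⟩ := H12.exists_card_subfield_pow E
      rcases hm1.eq_or_lt with rfl | hm2
      · exact absurd (H12.card_PSL2_le_of_subfield (by simpa using hm) h) hH
      have := Fintype.ofFinite E
      obtain ⟨k, -, hk⟩ := FiniteField.card E p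
      rw [Nat.card_eq_fintype_card, Nat.card_eq_fintype_card, hk, hF, ← pow_mul] at hm
      have h4 := h3 k m hm2 (Nat.pow_right_injective hp.two_le hm)
      have h5 : Fintype.card E = 3 := by rw [Nat.card_eq_fintype_card] at hE; omega
      apply solv_of_dvd
      rcases h with ⟨⟨e⟩⟩ | ⟨⟨e⟩⟩ <;> rw [Nat.card_congr e.toEquiv]
      · rw [H12.card_PGL2 h5]; rfl
      · exact Dvd.intro_left _ (H12.card_PSL2 h5)

theorem five_dvd_iff (q : ℕ) (hq : 0 < q) : 5 ∣ q * (q ^ 2 - 1) ↔ ¬ (q % 5 = 2 ∨ q % 5 = 3) := by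
  rw [show q ^ 2 - 1 = (q + 1) * (q - 1) by simpa using Nat.sq_sub_sq q 1, Nat.prime_five.dvd_mul,
    Nat.prime_five.dvd_mul]
  omega

theorem pow_odd_mod {p k : ℕ} (hp : p = 2 ∨ p = 3) :
    p ^ (2 * k + 1) % 5 = 2 ∨ p ^ (2 * k + 1) % 5 = 3 := by
  induction k with
  | zero => rcases hp with rfl | rfl <;> simp
  | succ k ih =>
    rw [show 2 * (k + 1) + 1 = 2 * k + 1 + 2 by ring, pow_add]
    rcases hp with rfl | rfl <;> omega

theorem exists_div {n : ℕ} (hn : 2 ≤ n) (h : ¬ n.Prime) : ∃ k m, 2 ≤ k ∧ 2 ≤ m ∧ k * m = n := by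
  obtain ⟨k, ⟨m, rfl⟩, h1, h2⟩ := Nat.exists_dvd_of_not_prime2 hn h
  exact ⟨k, m, h1, by nlinarith, rfl⟩

/-- PSL_2(q) is minimal simple iff q is 2^r (r prime), 3^r (r an odd prime), a prime greater than 5 congruent to 2 or 3 mod 5, or 5. -/
theorem result {F : Type*} [Field F] [Fintype F] {q : ℕ} (hF : Fintype.card F = q) : Cfsg.IsMinimalSimple (Matrix.ProjectiveSpecialLinearGroup (Fin 2) F) ↔ ((∃ r : ℕ, r.Prime ∧ q = 2 ^ r) ∨ (∃ r : ℕ, r.Prime ∧ r ≠ 2 ∧ q = 3 ^ r) ∨ (q.Prime ∧ 5 < q ∧ (q % 5 = 2 ∨ q % 5 = 3)) ∨ q = 5) := by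
  obtain ⟨p, hp, n, hpp, hn⟩ := FiniteField.card' F
  have : Fact p.Prime := ⟨hpp⟩
  obtain ⟨n, hn0⟩ := n
  simp only [PNat.mk_coe] at hn
  rw [main hn, five_dvd_iff _ (pow_pos hpp.pos _), ← hF, hn]
  have hsm : ∀ r : ℕ, r.Prime → p ≤ 3 → ∀ k m, 2 ≤ m → k * m = r → p ^ k ≤ 3 := by
    intro r hr h3 k m hm hk
    rcases (Nat.dvd_prime hr).1 ⟨m, hk.symm⟩ with rfl | rfl
    · simpa using h3
    · have := hr.pos; nlinarith
  have hinj : ∀ s r : ℕ, s.Prime → r.Prime → p ^ n = s ^ r → p = s ∧ n = r := fun s r hs hr h => by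
    obtain rfl := (Nat.prime_dvd_prime_iff_eq hpp hs).1 (hpp.dvd_of_dvd_pow
      (h ▸ dvd_pow_self p hn0.ne'))
    exact ⟨rfl, Nat.pow_right_injective hpp.two_le h⟩
  have hone : (p ^ n).Prime → n = 1 := fun h => h.eq_one_of_pow
  constructor
  · rintro ⟨h1, h2, h3⟩
    by_cases hn1 : n = 1
    · subst hn1
      rw [pow_one] at *
      by_cases h5 : p = 5
      · simp [h5]
      · have h4 : p ≠ 4 := by rintro rfl; exact absurd hpp (by decide)
        exact Or.inr (Or.inr (Or.inl ⟨hpp, by omega, by omega⟩))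
    have hp3 : p ≤ 3 := by simpa using h3 1 n (by omega) (one_mul n)
    have hnp : n.Prime := by
      by_contra h
      obtain ⟨k, m, hk, hm, e⟩ := exists_div (by omega) h
      have h4 := h3 k m hm e
      have := Nat.pow_le_pow_left hpp.two_le k
      have := Nat.pow_le_pow_right two_pos hk
      omega
    have := hpp.two_le
    rcases (by omega : p = 2 ∨ p = 3) with rfl | rfl
    · exact Or.inl ⟨n, hnp, rfl⟩
    · refine Or.inr (Or.inl ⟨n, hnp, ?_, rfl⟩)
      rintro rfl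
      omega
  · rintro (⟨r, hr, h⟩ | ⟨r, hr, hr2, h⟩ | ⟨h1, h2, h3⟩ | h)
    · obtain ⟨rfl, rfl⟩ := hinj _ _ Nat.prime_two hr h
      refine ⟨Nat.pow_le_pow_right two_pos hr.two_le, fun h1 => ?_, hsm _ hr (by omega)⟩
      rcases hr.eq_two_or_odd' with rfl | ⟨k, rfl⟩
      · norm_num
      · exact absurd (pow_odd_mod (Or.inl rfl)) h1
    · obtain ⟨rfl, rfl⟩ := hinj _ _ Nat.prime_three hr h
      refine ⟨le_trans (by norm_num) (Nat.pow_le_pow_right (by norm_num) hr.two_le), fun h1 => ?_,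
        hsm _ hr le_rfl⟩
      obtain ⟨k, rfl⟩ := hr.odd_of_ne_two hr2
      exact absurd (pow_odd_mod (Or.inr rfl)) h1
    · refine ⟨by omega, fun h => absurd h3 h, fun k m hm hk => ?_⟩
      rw [hone h1] at hk
      have := Nat.le_of_dvd one_pos ⟨k, by rw [← hk, mul_comm]⟩
      omega
    · refine ⟨by omega, fun _ => h.le, fun k m hm hk => ?_⟩
      rw [hone (h ▸ Nat.prime_five)] at hk
      have := Nat.le_of_dvd one_pos ⟨k, by rw [← hk, mul_comm]⟩
      omega

end Cfsg.Agent.S0810
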