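import Cfsg.Statements.S0276
import Cfsg.Agent.H12.DicksonSL
import Cfsg.Agent.H12.SmallRecog

set_option autoImplicit false
open Cfsg

namespace Cfsg.Agent.S0276

/-- For q = 3 or 5 mod 8 the Sylow 2-subgroups of PSL_2(q) are elementary abelian of order 4. -/
theorem result {F : Type*} [Field F] [Fintype F] {q : ℕ} (hF : Fintype.card F = q) (hq : q % 8 = 3 ∨ q % 8 = 5) (P : Sylow 2 (Matrix.ProjectiveSpecialLinearGroup (Fin 2) F)) : IsKleinFour (P : Subgroup (Matrix.ProjectiveSpecialLinearGroup (Fin 2) F)) := by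
  subst hF
  obtain ⟨p, hp, n, hpp, hn⟩ := FiniteField.card' F
  have hg : Nat.gcd 2 (Fintype.card F - 1) = 2 := Nat.gcd_eq_left (by omega)
  have hG := H12.card_PSL2 (F := F) rfl
  rw [hg, show _ ^ 2 - 1 = _ by simpa using Nat.sq_sub_sq (Fintype.card F) 1] at hG
  have h4 : Nat.card P = 4 := by
    rcases hq with hq | hq
    · obtain ⟨k, hk⟩ : ∃ k, Fintype.card F = 8 * k + 3 := ⟨Fintype.card F / 8, by omega⟩
      refine (H12.card_sylow_of_card (k := 2) (m := (8 * k + 3) * (2 * k + 1) * (4 * k + 1)) P ?_ ?_).1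
      · rw [hk, show 8 * k + 3 - 1 = 8 * k + 2 by omega] at hG; linarith
      · simp only [Nat.prime_two.dvd_mul]; omega
    · obtain ⟨k, hk⟩ : ∃ k, Fintype.card F = 8 * k + 5 := ⟨Fintype.card F / 8, by omega⟩
      refine (H12.card_sylow_of_card (k := 2) (m := (8 * k + 5) * (2 * k + 1) * (4 * k + 3)) P ?_ ?_).1
      · rw [hk, show 8 * k + 5 - 1 = 8 * k + 4 by omega] at hG; linarith
      · simp only [Nat.prime_two.dvd_mul]; omega
  refine ⟨h4, (not_isCyclic_iff_exponent_eq_prime Nat.prime_two h4).1 fun h => ?_⟩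
  obtain ⟨g, hg'⟩ := (Subgroup.isCyclic_iff_exists_zpowers_eq_top _).1 h
  rw [← hg', Nat.card_zpowers] at h4
  have := H12.psl2_orderOf_dvd p (g := g) (fun h => by
    rw [h4] at h
    obtain rfl := (Nat.prime_dvd_prime_iff_eq hpp Nat.prime_two).1 (hpp.dvd_of_dvd_pow (n := 2) h)
    have := dvd_pow_self 2 n.ne_zero
    omega)
  rw [h4, hg] at this
  omega

end Cfsg.Agent.S0276
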