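import Cfsg.Statements.S0799
import Cfsg.Agent.H12.DicksonPSL

set_option autoImplicit false
open Cfsg

namespace Cfsg.Agent.S0799

/-- Dickson's classification of the subgroups of PSL_2(q), q a power of the prime p, d = gcd(2, q − 1): every subgroup H is (a) cyclic or dihedral with k dividing (q+1)/d or (q−1)/d (cyclic of order k, or dihedral of order 2k), (b) isomorphic to a subgroup of the normaliser of a Sylow p-subgroup, (c) isomorphic to A_4, S_4 or A_5, or (d) isomorphic to PSL_2(K) or PGL_2(K) for a finite field K with |K|^m = q. -/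
theorem result {F : Type*} [Field F] [Fintype F] {q : ℕ} (hF : Fintype.card F = q) (p : ℕ) [Fact p.Prime] [CharP F p] (H : Subgroup (Matrix.ProjectiveSpecialLinearGroup (Fin 2) F)) : (∃ k : ℕ, (k ∣ (q + 1) / Nat.gcd 2 (q - 1) ∨ k ∣ (q - 1) / Nat.gcd 2 (q - 1)) ∧ ((IsCyclic H ∧ Nat.card H = k) ∨ Nonempty (H ≃* DihedralGroup k))) ∨ (∃ (P : Sylow p (Matrix.ProjectiveSpecialLinearGroup (Fin 2) F)) (K : Subgroup (Matrix.ProjectiveSpecialLinearGroup (Fin 2) F)), K ≤ Subgroup.normalizer ((P : Subgroup (Matrix.ProjectiveSpecialLinearGroup (Fin 2) F)) : Set (Matrix.ProjectiveSpecialLinearGroup (Fin 2) F)) ∧ Nonempty (H ≃* K)) ∨ Nonempty (H ≃* alternatingGroup (Fin 4)) ∨ Nonempty (H ≃* Equiv.Perm (Fin 4)) ∨ Nonempty (H ≃* alternatingGroup (Fin 5)) ∨ (∃ (K : Type) (_ : Field K) (_ : Fintype K) (m : ℕ), Fintype.card K ^ m = q ∧ (Nonempty (H ≃* Matrix.ProjectiveSpecialLinearGroup (Fin 2) K) ∨ Nonempty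 (H ≃* Matrix.ProjGenLinGroup (Fin 2) K))) := by
  subst hF
  rcases H12.dickson_psl2_iso p H with ⟨x, h1, -⟩ | ⟨h1, h2⟩ | ⟨a, s, h1, h2⟩ | ⟨-, h⟩ | ⟨-, h⟩ |
    ⟨-, h⟩ | ⟨E, -, h⟩
  · refine Or.inr (Or.inl ⟨(H12.rootSylow p x).mapSurjective (QuotientGroup.mk'_surjective _), H, ?_,
      ⟨MulEquiv.refl _⟩⟩)
    intro g hg
    obtain ⟨g, rfl⟩ := QuotientGroup.mk_surjective g
    exact Subgroup.le_normalizer_map _ ⟨g, H12.mem_normalizer_rootSL.2 (h1 _ hg), rfl⟩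
  · obtain ⟨g, hg⟩ := (Subgroup.isCyclic_iff_exists_zpowers_eq_top H).1 h1
    rw [← hg, Nat.card_zpowers] at h2
    exact Or.inl ⟨_, H12.psl2_orderOf_dvd p h2, Or.inl ⟨h1, by rw [← hg, Nat.card_zpowers]⟩⟩
  · exact Or.inl ⟨_, H12.psl2_orderOf_dvd p h2, Or.inr h1.nonempty_equiv⟩
  · exact Or.inr (Or.inr (Or.inl h))
  · exact Or.inr (Or.inr (Or.inr (Or.inl h)))
  · exact Or.inr (Or.inr (Or.inr (Or.inr (Or.inl h))))
  · obtain ⟨K, _, _, ⟨e⟩⟩ := H12.exists_small_field E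
    obtain ⟨m, -, hm⟩ := H12.exists_card_subfield_pow E
    refine Or.inr (Or.inr (Or.inr (Or.inr (Or.inr ⟨K, inferInstance, inferInstance, m, ?_, ?_⟩))))
    · rw [← Nat.card_eq_fintype_card, ← Nat.card_congr e.toEquiv, hm, Nat.card_eq_fintype_card]
    · rcases h with ⟨⟨f⟩⟩ | ⟨⟨f⟩⟩
      · exact Or.inr ⟨f.trans (H12.pglCongr _ e)⟩
      · exact Or.inl ⟨f.trans (H12.pslCongr _ e)⟩

end Cfsg.Agent.S0799
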