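import Cfsg.Statements.S3178
import Cfsg.Agent.H26.DihFrob
import Cfsg.Agent.H11.Fus
import Cfsg.Agent.H11.Count
import Cfsg.Agent.H25.Cyc

set_option autoImplicit false
open Cfsg

namespace Cfsg.Agent.S3178

open Cfsg.Agent.H11

theorem abstract {G : Type*} [Group G] [Finite G] (S : Sylow 2 G) {w u b : G} {k : ℕ} (hw : orderOf w = 2 ^ k)
    (hu : u ∈ (S : Subgroup G)) (hz : orderOf (u * u) = 2)
    (hzc : ∀ s ∈ (S : Subgroup G), s * (u * u) = (u * u) * s)
    (F1 : ∀ s ∈ (S : Subgroup G), s * s ∈ Subgroup.zpowers w)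
    (F3 : ∀ s ∈ (S : Subgroup G), ∀ t ∈ (S : Subgroup G), s * s = t * t → (s⁻¹ * t) ^ 4 = 1)
    (F4 : ∀ s ∈ (S : Subgroup G), ∀ t ∈ (S : Subgroup G), s ^ 4 = 1 → t ^ 4 = 1 → s * t = t * s)
    (F5 : ∀ t ∈ (S : Subgroup G), orderOf t = 2 → t = u * u ∨ t = b ∨ t = b * (u * u)) :
    HasNormalPComplement 2 G := by
  set z := u * u with hzdef
  have hzz : z * z = 1 := by rw [← pow_two, ← hz, pow_orderOf_eq_one]
  have hu4 : u ^ 4 = 1 := by rw [← hzz, hzdef]; simp [pow_succ, mul_assoc]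
  have sq4 : ∀ t : G, t * t = 1 → t ^ 4 = 1 := fun t ht => by
    rw [show t ^ 4 = (t * t) * (t * t) by simp [pow_succ, mul_assoc], ht, one_mul]
  have sq2 : ∀ t : G, orderOf t = 2 → t * t = 1 := fun t ht => by rw [← pow_two, ← ht, pow_orderOf_eq_one]
  have iso : ∀ g : G, g * z * g⁻¹ ∈ (S : Subgroup G) → g * z * g⁻¹ = z := by
    intro g hg
    set y := g * z * g⁻¹ with hy
    have hyo : orderOf y = 2 := by rw [hy, orderOf_conj, hz]
    have hSz : IsSylIn 2 (S : Subgroup G) (Subgroup.centralizer {z}) :=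
      isSylIn_of_sylow_le S fun s hs => by rintro _ rfl; exact (hzc s hs).symm
    obtain ⟨c, hc1, hc2⟩ := exists_conj_cent_le hSz (a := y) (isConj_iff.2 ⟨g, rfl⟩).symm
      (R := (S : Subgroup G) ⊓ Subgroup.centralizer {y}) (S.isPGroup'.to_inf_left) inf_le_right
    have h1 : c * u * c⁻¹ ∈ (S : Subgroup G) := cj_le_iff.1 hc2 u ⟨hu, by
      rintro _ rfl; exact F4 _ hg _ hu (sq4 _ (sq2 _ hyo)) hu4⟩
    have h2 : c * z * c⁻¹ = z := by
      refine invol_unique_zpowers (a := w) (by rw [orderOf_conj, hz]) hz ?_ (F1 u hu)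
      have := F1 _ h1
      rwa [show c * u * c⁻¹ * (c * u * c⁻¹) = c * z * c⁻¹ by rw [hzdef]; group] at this
    rw [← h2] at hc1
    simpa using hc1
  apply H3.hasNormalPComplement_of_forall_le S
  intro T hT _ g hg ho
  have hodd := Nat.coprime_two_right.1 ho
  have hcj : ∀ x ∈ T, g * x * g⁻¹ ∈ T := fun x hx => (Subgroup.mem_normalizer_iff.1 hg x).1 hx
  have inv : ∀ t ∈ T, t * t = 1 → g * t = t * g := by
    intro t ht htt
    by_cases h1 : t = 1
    · simp [h1]
    have hto : orderOf t = 2 := orderOf_eq_prime (by rw [pow_two, htt]) h1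
    by_cases h2 : t = z
    · subst h2; exact mul_inv_eq_iff_eq_mul.1 (iso g (hT (hcj _ ht)))
    have h3 : g * t * g⁻¹ ≠ z := by
      intro h
      have h4 : g⁻¹ * z * g⁻¹⁻¹ = t := by rw [← h]; group
      exact h2 (by rw [← h4]; exact iso g⁻¹ (h4 ▸ hT ht))
    have h4 : g * t * g⁻¹ = t ∨ g * t * g⁻¹ = t * z := by
      rcases F5 _ (hT ht) hto with h | h | h <;>
      rcases F5 _ (hT (hcj _ ht)) (by rw [orderOf_conj, hto]) with h' | h' | h'
      all_goals first | exact absurd h h2 | exact absurd h' h3 | skip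
      · exact Or.inl (h'.trans h.symm)
      · exact Or.inr (by rw [h', h])
      · exact Or.inr (by rw [h', h, mul_assoc, hzz, mul_one])
      · exact Or.inl (h'.trans h.symm)
    rcases h4 with h4 | h4
    · exact mul_inv_eq_iff_eq_mul.1 h4
    · have hzT : z ∈ T := by
        have := T.mul_mem (T.inv_mem ht) (hcj _ ht)
        rwa [h4, inv_mul_cancel_left] at this
      exact commute_of_odd_of_mod (k := 1) hodd (by rw [pow_one, pow_two, hzz])
        (mul_inv_eq_iff_eq_mul.1 (iso g (hT (hcj _ hzT)))) h4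
  intro x hx
  have h1 : g * (x * x) = (x * x) * g := by
    obtain ⟨j, hj⟩ : ∃ j, orderOf (x * x) = 2 ^ j := by
      have := orderOf_dvd_of_mem_zpowers (F1 x (hT hx))
      rw [hw] at this
      obtain ⟨j, -, hj⟩ := (Nat.dvd_prime_pow Nat.prime_two).1 this
      exact ⟨j, hj⟩
    refine commute_of_odd_of_zpowers hodd hj ?_
    have h2 : g * (x * x) * g⁻¹ ∈ Subgroup.zpowers w := by
      have := F1 _ (hT (hcj x hx))
      rwa [show g * x * g⁻¹ * (g * x * g⁻¹) = g * (x * x) * g⁻¹ by group] at this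
    have h3 : Subgroup.zpowers (g * (x * x) * g⁻¹) = Subgroup.zpowers (x * x) :=
      H25.eq_of_card_eq_of_isCyclic (C := Subgroup.zpowers w) (Subgroup.zpowers_le.2 h2)
        (Subgroup.zpowers_le.2 (F1 x (hT hx))) (by rw [Nat.card_zpowers, Nat.card_zpowers, orderOf_conj])
    rw [← h3]; exact Subgroup.mem_zpowers _
  set c := x⁻¹ * (g * x * g⁻¹) with hc
  have hcT : c ∈ T := T.mul_mem (T.inv_mem hx) (hcj x hx)
  have hc4 : c ^ 4 = 1 := F3 _ (hT hx) _ (hT (hcj x hx)) (by
    rw [show g * x * g⁻¹ * (g * x * g⁻¹) = g * (x * x) * g⁻¹ by group, h1, mul_inv_cancel_right])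
  have hcc : g * (c * c) = (c * c) * g := inv _ (T.mul_mem hcT hcT) (by
    rw [← hc4]; simp [pow_succ, mul_assoc])
  set d := c⁻¹ * (g * c * g⁻¹) with hd
  have hdT : d ∈ T := T.mul_mem (T.inv_mem hcT) (hcj c hcT)
  have hdd : d * d = 1 := by
    have h2 := F4 _ (hT (hcj c hcT)) _ (hT (T.inv_mem hcT)) (by rw [conj_pow, hc4]; simp) (by rw [inv_pow, hc4]; simp)
    calc d * d = c⁻¹ * (g * c * g⁻¹ * c⁻¹) * (g * c * g⁻¹) := by rw [hd]; group
      _ = c⁻¹ * c⁻¹ * (g * (c * c) * g⁻¹) := by rw [h2]; group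
      _ = 1 := by rw [hcc]; group
  have hgc : g * c = c * g := commute_of_odd_of_mod (k := 1) hodd (by rw [pow_one, pow_two, hdd]) (inv d hdT hdd)
    (by rw [hd]; group)
  exact (commute_of_odd_of_mod (k := 2) hodd hc4 hgc (by rw [hc]; group)).symm

/-- Groups with a modular Sylow 2-subgroup have a normal 2-complement. Let S, of order 2^(n+1) with n ≥ 3, be a Sylow 2-subgroup of a finite group G, and suppose S contains an element a of order 2^n and an involution b with b a b⁻¹ = a^(2^(n-1) + 1); so S is the non-abelian 2-group with a cyclic subgroup of index 2 that is neither dihedral, semidihedral nor generalized quaternion. Then G has a normal 2-complement. -/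
theorem result {G : Type*} [Group G] [Finite G]
    (S : Sylow 2 G) (n : ℕ) (hn : 3 ≤ n) (hS : Nat.card ↥(S : Subgroup G) = 2 ^ (n + 1))
    (a b : G) (ha : a ∈ (S : Subgroup G)) (hb : b ∈ (S : Subgroup G))
    (hao : orderOf a = 2 ^ n) (hbo : orderOf b = 2) (hrel : b * a * b⁻¹ = a ^ (2 ^ (n - 1) + 1)) :
    Cfsg.HasNormalPComplement 2 G := by
  have hx1 : a ^ 2 ^ n = 1 := by rw [← hao, pow_orderOf_eq_one]
  set X : ZMod (2 ^ n) → G := fun i => a ^ i.val with hX
  have hXX : ∀ i j, X i * X j = X (i + j) := fun i j => (pow_val_add hx1 i j).symm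
  have hinj : ∀ {i j}, X i = X j ↔ i = j := ⟨pow_val_injective hao, fun h => by rw [h]⟩
  have hX0 : X 0 = 1 := by simp [hX]
  have hX1 : X 1 = a := by
    have := pow_val_natCast hx1 1
    rwa [Nat.cast_one, pow_one] at this
  have hbb : b * b = 1 := by rw [← pow_two, ← hbo, pow_orderOf_eq_one]
  have h2h := two_hh (n := n) (by omega)
  have h2q := two_qq (n := n) (by omega)
  have h8 : 2 * fr n 3 = qq n := two_mul_fr hn
  have hbX : ∀ i, b * X i = X (i + hh n * i) * b := by
    intro i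
    rw [← mul_inv_eq_iff_eq_mul, hX]
    dsimp only
    rw [← conj_pow, hrel, ← pow_mul, ← pow_val_natCast hx1]
    congr 2
    simp [hh, fr]; ring
  have hbn : b ∉ Subgroup.zpowers a := by
    rintro ⟨k, rfl⟩
    have h1 := hbX 1
    rw [hX1, ((Commute.refl a).zpow_left k).eq, mul_left_inj, ← hX1, hinj] at h1
    exact hh_ne (n := n) (by omega) (by linear_combination -h1)
  have hXm : ∀ i, X i ∈ Subgroup.zpowers a := fun i => Subgroup.npow_mem_zpowers _ _
  have hXe : ∀ s ∈ Subgroup.zpowers a, ∃ i, s = X i := by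
    intro s hs
    obtain ⟨m, rfl⟩ := mem_powers_iff_mem_zpowers.2 hs
    exact ⟨m, (pow_val_natCast hx1 m).symm⟩
  have hne : ∀ i j, X i * b ≠ X j := fun i j h => hbn (by
    rw [← inv_mul_cancel_left (X i) b, h]; exact Subgroup.mul_mem _ (Subgroup.inv_mem _ (hXm i)) (hXm j))
  have hidx : (Subgroup.zpowers a).relIndex (S : Subgroup G) = 2 := by
    have := card_mul_relIndex (Subgroup.zpowers_le.2 ha)
    rw [Nat.card_zpowers, hao, hS, pow_succ] at this
    exact Nat.eq_of_mul_eq_mul_left (by positivity) this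
  have hmem : ∀ s ∈ (S : Subgroup G), ∃ i, s = X i ∨ s = X i * b := by
    intro s hs
    by_cases h : s ∈ Subgroup.zpowers a
    · obtain ⟨i, hi⟩ := hXe s h; exact ⟨i, Or.inl hi⟩
    · obtain ⟨i, hi⟩ := hXe (s * b) ((mul_mem_iff_of_relIndex_two hidx hs hb).2 (by simp [h, hbn]))
      exact ⟨i, Or.inr (by rw [← hi, mul_assoc, hbb, mul_one])⟩
  have hYX : ∀ i j, X i * b * X j = X (i + j + hh n * j) * b := fun i j => by
    rw [mul_assoc, hbX, ← mul_assoc, hXX, add_assoc]
  have hYY : ∀ i j, X i * b * (X j * b) = X (i + j + hh n * j) := fun i j => by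
    rw [← mul_assoc, hYX, mul_assoc, hbb, mul_one]
  have hXY : ∀ i j, X i * (X j * b) = X (i + j) * b := fun i j => by rw [← mul_assoc, hXX]
  have hXi : ∀ i, (X i)⁻¹ = X (-i) := fun i => by rw [inv_eq_iff_mul_eq_one, hXX, add_neg_cancel, hX0]
  have hYi : ∀ i, (X i * b)⁻¹ = X (-i + hh n * i) * b := fun i => by
    rw [inv_eq_iff_mul_eq_one, hYY, ← hX0]; congr 1
    linear_combination (qq n * i) * h2h - hh n * i * h2q
  have p4 : ∀ t : G, t ^ 4 = (t * t) * (t * t) := fun t => by simp [pow_succ, mul_assoc]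
  have hX4 : ∀ i, X i ^ 4 = X (4 * i) := fun i => by rw [p4, hXX, hXX]; congr 1; ring
  have hY4 : ∀ i, (X i * b) ^ 4 = X (4 * i) := fun i => by
    rw [p4, hYY, hXX]; congr 1; linear_combination i * h2h
  have heven : ∀ i : ZMod (2 ^ n), X (4 * i) = 1 → hh n * i = 0 := fun i hi => by
    rw [← hX0, hinj] at hi
    obtain ⟨c, rfl⟩ := two_pow_mul_eq_zero (k := 2) (by omega) (by rw [← hi]; norm_num : 2 ^ 2 * i = 0)
    linear_combination (c * fr n 3) * h2h - (hh n * c) * h8
  have hX2 : ∀ i, X (2 * i) ∈ Subgroup.zpowers (X 2) := fun i => by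
    refine ⟨i.val, ?_⟩
    simp only [hX, zpow_natCast]
    rw [ZMod.val_mul, ← pow_mul, ← pow_eq_pow_mod _ hx1]
  obtain ⟨k, hk⟩ : ∃ k, orderOf (X 2) = 2 ^ k := by
    have := orderOf_dvd_of_mem_zpowers (hXm 2)
    rw [hao] at this
    obtain ⟨j, -, hj⟩ := (Nat.dvd_prime_pow Nat.prime_two).1 this
    exact ⟨j, hj⟩
  have huu : X (qq n) * X (qq n) = X (hh n) := by rw [hXX, ← two_mul, h2q]
  have hhh : hh n * hh n = 0 := by linear_combination qq n * h2h - hh n * h2q
  refine abstract S (w := X 2) (u := X (qq n)) (b := b) hk (Subgroup.zpowers_le.2 ha (hXm _)) ?_ ?_ ?_ ?_ ?_ ?_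
  · rw [huu]
    exact orderOf_eq_prime (by rw [pow_two, hXX, ← two_mul, h2h, hX0])
      (by rw [← hX0, Ne, hinj]; exact hh_ne (by omega))
  · intro s hs
    rw [huu]
    obtain ⟨i, rfl | rfl⟩ := hmem s hs
    · rw [hXX, hXX, add_comm]
    · rw [hYX, hXY, hhh, add_zero, add_comm]
  · intro s hs
    obtain ⟨i, rfl | rfl⟩ := hmem s hs
    · rw [hXX, ← two_mul]; exact hX2 i
    · rw [hYY, show i + i + hh n * i = 2 * (i + qq n * i) by linear_combination -i * h2q]; exact hX2 _
  · intro s hs t ht h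
    obtain ⟨i, rfl | rfl⟩ := hmem s hs <;> obtain ⟨j, rfl | rfl⟩ := hmem t ht
    · rw [hXX, hXX, hinj] at h
      rw [hXi, hXX, hX4, ← hX0]; congr 1; linear_combination -2 * h
    · rw [hXX, hYY, hinj] at h
      rw [hXi, hXY, hY4, ← hX0]; congr 1; linear_combination -2 * h - j * h2h
    · rw [hXX, hYY, hinj] at h
      rw [hYi, hYX, hY4, ← hX0]; congr 1; linear_combination -2 * h + (3 * i + 2 * j) * h2h
    · rw [hYY, hYY, hinj] at h
      rw [hYi, hYY, hX4, ← hX0]; congr 1; linear_combination -2 * h + (3 * i + j) * h2h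
  · intro s hs t ht h h'
    obtain ⟨i, rfl | rfl⟩ := hmem s hs <;> obtain ⟨j, rfl | rfl⟩ := hmem t ht
    · rw [hXX, hXX, add_comm]
    · rw [hX4] at h
      rw [hXY, hYX, heven i h, add_zero, add_comm]
    · rw [hX4] at h'
      rw [hXY, hYX, heven j h', add_zero, add_comm]
    · rw [hY4] at h h'
      rw [hYY, hYY, heven i h, heven j h', add_comm i j]
  · intro t ht ho
    have htt : t * t = 1 := by rw [← pow_two, ← ho, pow_orderOf_eq_one]
    rw [huu]
    obtain ⟨i, rfl | rfl⟩ := hmem t ht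
    · rw [hXX, ← hX0, hinj, ← two_mul] at htt
      rcases two_mul_eq_zero (by omega) htt with rfl | rfl
      · rw [hX0, orderOf_one] at ho; omega
      · exact Or.inl rfl
    · have h4 : X (4 * i) = 1 := by rw [← hY4, p4, htt, one_mul]
      rw [hYY, heven i h4, add_zero, ← hX0, hinj, ← two_mul] at htt
      rcases two_mul_eq_zero (by omega) htt with rfl | rfl
      · exact Or.inr (Or.inl (by rw [hX0, one_mul]))
      · exact Or.inr (Or.inr (by rw [hbX, hhh, add_zero]))

end Cfsg.Agent.S3178
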