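import Cfsg.Statements.S3183
import Cfsg.Agent.H11.Fus

set_option autoImplicit false
open Cfsg

namespace Cfsg.Agent.S3183

open Cfsg.Agent.H11

theorem key {G : Type*} [Group G] [Finite G]
    (hCI : ∀ S T : Sylow 2 G, S ≠ T → ∃ U : Sylow 2 G,
      (S : Subgroup G) ⊓ (T : Subgroup G) ≤ (Subgroup.center ↥(U : Subgroup G)).map (U : Subgroup G).subtype)
    (S : Sylow 2 G) (n : ℕ) : ∀ T : Sylow 2 G, T ≠ S →
      Nat.card G ≤ n + Nat.card ↥((S : Subgroup G) ⊓ (T : Subgroup G)) →
      ∀ d ∈ (S : Subgroup G) ⊓ (T : Subgroup G), ∀ s ∈ (S : Subgroup G), s * d = d * s := by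
  induction n with
  | zero =>
    intro T hT hn
    exfalso
    have h1 : (S : Subgroup G) ⊓ (T : Subgroup G) = ⊤ :=
      Subgroup.eq_top_of_le_card _ (by simpa using hn)
    apply hT
    ext1
    rw [eq_top_iff.2 (h1 ▸ inf_le_left : ⊤ ≤ (S : Subgroup G)), eq_top_iff.2 (h1 ▸ inf_le_right : ⊤ ≤ (T : Subgroup G))]
  | succ n ih =>
    intro T hT hn d hd s hs
    obtain ⟨U, hU⟩ := hCI S T hT.symm
    set D := (S : Subgroup G) ⊓ (T : Subgroup G) with hD
    have hUD : ∀ u ∈ (U : Subgroup G), ∀ x ∈ D, u * x = x * u := by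
      intro u hu x hx
      obtain ⟨y, hy, rfl⟩ := hU hx
      exact congrArg Subtype.val (Subgroup.mem_center_iff.1 hy ⟨u, hu⟩)
    have hUN : (U : Subgroup G) ≤ Subgroup.normalizer (D : Set G) := by
      intro u hu
      apply mem_normalizer_of_forall
      intro x hx
      rw [hUD u hu x hx, mul_inv_cancel_right]; exact hx
    have hlt : D < S := by
      refine lt_of_le_of_ne inf_le_left fun h => hT ?_
      have h1 : (S : Subgroup G) ≤ T := h ▸ inf_le_right
      exact Sylow.ext (S.3 T.2 h1)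
    obtain ⟨g, hg, hle⟩ := (isSylIn_of_sylow_le U hUN).exists_cj_le
      (Q := (S : Subgroup G) ⊓ Subgroup.normalizer (D : Set G)) (S.2.to_le inf_le_left) inf_le_right
    have hV : ∀ v ∈ (g⁻¹ • U : Sylow 2 G), ∀ x ∈ D, v * x = x * v := by
      intro v hv x hx
      have h1 := hUD _ (mem_sylow_smul.1 hv) _ (conj_mem_of_mem_normalizer hg hx)
      have h2 : v * x = g⁻¹ * (g⁻¹⁻¹ * v * g⁻¹ * (g * x * g⁻¹)) * g := by group
      rw [h2, h1]; group
    by_cases hVS : (g⁻¹ • U : Sylow 2 G) = S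
    · exact hV s (hVS ▸ hs) d hd
    · have hle2 : (S : Subgroup G) ⊓ Subgroup.normalizer (D : Set G) ≤ (S : Subgroup G) ⊓ (g⁻¹ • U : Sylow 2 G) := by
        intro x hx
        refine ⟨hx.1, mem_sylow_smul.2 ?_⟩
        rw [inv_inv]; exact cj_le_iff.1 hle x hx
      have hlt2 := (lt_inf_normalizer_of_lt S.2 hlt).trans_le hle2
      exact ih _ hVS (by have := card_lt_of_lt hlt2; omega) d (hlt2.le hd) s hs

/-- Let G be a finite group in which the intersection of any two distinct Sylow 2-subgroups is contained in the centre of some Sylow 2-subgroup, and let S be a Sylow 2-subgroup. Then for every x in S the centralizer of x in S is a Sylow 2-subgroup of the centralizer of x in G (no 2-subgroup centralizing x is larger), and for every other Sylow 2-subgroup T the intersection S ∩ T lies in both the centre of S and the centre of T. -/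
theorem result {G : Type*} [Group G] [Finite G]
    (hCI : ∀ S T : Sylow 2 G, S ≠ T → ∃ U : Sylow 2 G,
      (S : Subgroup G) ⊓ (T : Subgroup G) ≤ (Subgroup.center ↥(U : Subgroup G)).map (U : Subgroup G).subtype)
    (S : Sylow 2 G) :
    (∀ x ∈ (S : Subgroup G), ∀ P : Subgroup G, IsPGroup 2 ↥P → P ≤ Subgroup.centralizer ({x} : Set G) →
        Nat.card ↥P ≤ Nat.card ↥((S : Subgroup G) ⊓ Subgroup.centralizer ({x} : Set G))) ∧
    (∀ T : Sylow 2 G, T ≠ S →
        (S : Subgroup G) ⊓ (T : Subgroup G) ≤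
          (Subgroup.center ↥(S : Subgroup G)).map (S : Subgroup G).subtype ⊓
            (Subgroup.center ↥(T : Subgroup G)).map (T : Subgroup G).subtype) := by
  have hk : ∀ S T : Sylow 2 G, T ≠ S → ∀ d ∈ (S : Subgroup G) ⊓ (T : Subgroup G), ∀ s ∈ (S : Subgroup G), s * d = d * s :=
    fun S T hT => key hCI S (Nat.card G) T hT (by omega)
  refine ⟨?_, ?_⟩
  · intro x hx P hP hPx
    have hQ : IsPGroup 2 ↥(P ⊔ Subgroup.zpowers x) := by
      refine IsPGroup.to_sup_of_normal_left' hP (S.2.to_le (Subgroup.zpowers_le.2 hx)) ?_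
      rw [Subgroup.zpowers_le]
      apply mem_normalizer_of_forall
      intro y hy
      rw [← mem_cent1.1 (hPx hy), mul_inv_cancel_right]; exact hy
    obtain ⟨T, hT⟩ := hQ.exists_le_sylow
    by_cases hTS : T = S
    · subst hTS
      exact Subgroup.card_le_of_le (le_inf (le_sup_left.trans hT) hPx)
    · have h1 : (S : Subgroup G) ⊓ Subgroup.centralizer ({x} : Set G) = S :=
        inf_eq_left.2 fun s hs => mem_cent1.2 (hk S T hTS x ⟨hx, hT (Subgroup.mem_sup_right (Subgroup.mem_zpowers x))⟩ s hs)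
      rw [h1]
      exact (isSylIn_top S).card_le hP le_top
  · intro T hT d hd
    refine ⟨⟨⟨d, hd.1⟩, Subgroup.mem_center_iff.2 fun s => Subtype.ext (hk S T hT d hd s s.2), rfl⟩,
      ⟨⟨d, hd.2⟩, Subgroup.mem_center_iff.2 fun s => Subtype.ext (hk T S hT.symm d ⟨hd.2, hd.1⟩ s s.2), rfl⟩⟩

end Cfsg.Agent.S3183
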