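import Cfsg.Statements.S3974
import Cfsg.Agent.H25.Schur3

set_option autoImplicit false
universe u v
open Cfsg

namespace Cfsg.Agent.S3974

open Cfsg.Agent.H25 Subgroup

theorem exists_not_pow {A : Type*} [CommGroup A] [Finite A] {p : ℕ} (hp : p.Prime)
    (h : p ∣ Nat.card A) : ∃ m : A, ∀ y : A, ∀ c : ℤ, y ^ p = m ^ c → (p : ℤ) ∣ c := by
  obtain ⟨B, hB⟩ := H27.exists_index_prime hp h
  have hne : B ≠ ⊤ := by
    rintro rfl
    rw [index_top] at hB
    exact hp.one_lt.ne hB
  obtain ⟨m, hm⟩ : ∃ m, m ∉ B := by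
    by_contra hc
    push Not at hc
    exact hne (eq_top_iff.2 fun x _ => hc x)
  refine ⟨m, fun y c hc => ?_⟩
  have h1 : orderOf (QuotientGroup.mk' B m) = p := by
    haveI := Fact.mk hp
    refine orderOf_eq_prime ?_ (fun h => hm ((QuotientGroup.eq_one_iff _).1 h))
    rw [← hB, index_eq_card, pow_card_eq_one']
  rw [← h1, orderOf_dvd_iff_zpow_eq_one, ← map_zpow, ← hc, map_pow, ← hB, index_eq_card,
    pow_card_eq_one']

theorem exists_hom_int {K : Type*} [CommGroup K] [Group.FG K]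
    (htf : ∀ (a : K) (n : ℕ), n ≠ 0 → a ^ n = 1 → a = 1) {p : ℕ} {k : K}
    (hk : ∀ y : K, y ^ p ≠ k) : ∃ θ : K →* Multiplicative ℤ, ¬ (p : ℤ) ∣ (θ k).toAdd := by
  have hfin : Module.Finite ℤ (Additive K) := by
    rw [Module.Finite.iff_addGroup_fg]; infer_instance
  have hmt : IsMulTorsionFree K := by
    refine ⟨fun n hn a b hab => ?_⟩
    have : (a * b⁻¹) ^ n = 1 := by
      rw [mul_pow, inv_pow, mul_inv_eq_one]; exact hab
    exact mul_inv_eq_one.1 (htf _ n hn this)
  let b := Module.Free.chooseBasis ℤ (Additive K)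
  by_contra hc
  push Not at hc
  have h1 : ∀ i, (p : ℤ) ∣ b.repr (Additive.ofMul k) i := fun i =>
    hc (AddMonoidHom.toMultiplicativeRight (b.coord i).toAddMonoidHom)
  choose c hc using h1
  refine hk (Additive.toMul (∑ i, c i • b i)) ?_
  rw [← toMul_nsmul]
  refine congrArg Additive.toMul (show _ = Additive.ofMul k from ?_)
  rw [← b.sum_repr (Additive.ofMul k), Finset.smul_sum]
  refine Finset.sum_congr rfl (fun i _ => ?_)
  rw [hc, mul_smul, natCast_zsmul]

/-- Let `Q` be a finite group with Schur multiplier `A`. Any two Schur covering groups of `Q` (finite stem extensions `σ₁ : Γ₁ →* Q`, `σ₂ : Γ₂ →* Q` with kernels isomorphic to `A`, `Γ₁, Γ₂` in the universe of `Q`) are isomorphic over `Q` — there is a group isomorphism `e : Γ₁ ≃* Γ₂` with `σ₂ ∘ e = σ₁` — if and only if the order of the commutator quotient of `Q` is coprime to the order of `A`. In particular a finite perfect group has a unique Schur covering group up to isomorphism over it. -/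
theorem result {Q : Type u} [Group Q] [Finite Q] {A : Type v} [CommGroup A] (hA : Cfsg.HasSchurMultiplier Q A) : (∀ (Γ₁ Γ₂ : Type u) [Group Γ₁] [Finite Γ₁] [Group Γ₂] [Finite Γ₂] (σ₁ : Γ₁ →* Q) (σ₂ : Γ₂ →* Q), Cfsg.IsStemExtension σ₁ → Cfsg.IsStemExtension σ₂ → Nonempty (σ₁.ker ≃* A) → Nonempty (σ₂.ker ≃* A) → ∃ e : Γ₁ ≃* Γ₂, σ₂.comp e.toMonoidHom = σ₁) ↔ Nat.Coprime (Nat.card (Abelianization Q)) (Nat.card A) := by
  have hE := hopf_cext (stdPres_surj Q)
  have hAf := (finite_of_hasSchur hA).2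
  obtain ⟨eA⟩ := (hasSchur_iff (stdPres_surj Q)).1 hA
  constructor
  · intro h
    by_contra hco
    obtain ⟨p, hp, hp1, hp2⟩ := Nat.Prime.not_coprime_iff_dvd.1 hco
    set π := hopfπ (stdPres Q) with hπ
    obtain ⟨S, h1, h2, h3⟩ := hopf_exists_compl (stdPres Q) le_rfl (fun a ha => ⟨a, ha, by
      rw [inv_mul_cancel]; exact one_mem _⟩)
    rw [← hπ] at h1 h2 h3
    haveI := Fact.mk hp
    -- an element `x` with `x ^ p ∈ S * E'` and `x ∉ S * E'`
    obtain ⟨q, hq⟩ := exists_prime_orderOf_dvd_card' p hp1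
    obtain ⟨q, rfl⟩ : ∃ y, Abelianization.of y = q := QuotientGroup.mk_surjective q
    obtain ⟨x, rfl⟩ := hE.surj q
    have h4 : π (x ^ p) ∈ commutator Q := by
      rw [← Abelianization.ker_of, MonoidHom.mem_ker, map_pow, map_pow, ← hq, pow_orderOf_eq_one]
    obtain ⟨c, hc, hc'⟩ := exists_mem_commutator_map (ζ := MonoidHom.id Q) (stem_id Q).2.1 π
      (fun y => hE.surj y) h4
    obtain ⟨k, hk, hk'⟩ := h3 (c⁻¹ * x ^ p) (by
      rw [MonoidHom.mem_ker, map_mul, map_inv, hc', inv_mul_cancel])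
    have h5 : Abelianization.of k = Abelianization.of x ^ p := by
      have h6 : Abelianization.of (k⁻¹ * (c⁻¹ * x ^ p)) = 1 :=
        Abelianization.commutator_subset_ker _ hk'.2
      have h7 : Abelianization.of c = 1 := Abelianization.commutator_subset_ker _ hc
      rwa [map_mul, map_mul, map_inv, map_inv, h7, inv_one, one_mul, map_pow, inv_mul_eq_one] at h6
    letI := centCommGroup (h1.trans hE.cent)
    have hS : ∀ a ∈ S, a ∈ commutator _ → a = 1 := fun a ha h => by
      have : a ∈ S ⊓ mult π := ⟨ha, h1 ha, h⟩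
      rwa [h2, mem_bot] at this
    haveI : S.Normal := H27.normal_of_le_ker hE.cent h1
    have hst := stem_of_compl hE h1 h3
    have hfin := finite_of_stem hst
    haveI : S.FiniteIndex := finiteIndex_of_finite_quotient
    obtain ⟨θ, hθ⟩ := exists_hom_int (K := S) (p := p) (k := ⟨k, hk⟩) (fun a n hn h =>
      Subtype.ext (hS a a.2 (hopf_mem_commutator_of_pow hn (by
        rw [← coe_pow, h]; exact one_mem _)))) (fun y hy => by
      have h6 : (y : Hopf (stdPres Q)) ^ p = k := congrArg Subtype.val hy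
      have h7 : (x⁻¹ * y) ^ p ∈ commutator _ := by
        rw [← Abelianization.ker_of, MonoidHom.mem_ker, map_pow, map_mul, mul_pow, ← map_pow _ y.1,
          h6, h5, map_inv, inv_pow, inv_mul_cancel]
      have h8 := map_mem_commutator π (hopf_mem_commutator_of_pow hp.ne_zero h7)
      rw [map_mul, (MonoidHom.mem_ker).1 (h1 y.2), mul_one, map_inv, inv_mem_iff,
        ← Abelianization.ker_of, MonoidHom.mem_ker] at h8
      rw [h8, orderOf_one] at hq
      exact hp.one_lt.ne hq)
    obtain ⟨m, hm⟩ := exists_not_pow hp hp2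
    let f : S →* Hopf (stdPres Q) := ((mult π).subtype.comp eA.toMonoidHom).comp
      ((zpowersHom A m).comp θ)
    have hf : ∀ s, f s ∈ mult π := fun s => (eA _).2
    let g : S →* Hopf (stdPres Q) := MonoidHom.mk' (fun s => s * (f s)⁻¹) (fun a b => by
      have := hE.mult_comm (inv_mem (hf a))
      rw [map_mul, coe_mul, mul_inv_rev, mul_assoc, mul_assoc, ← this, mul_assoc])
    have hg : ∀ s, g s = s * (f s)⁻¹ := fun s => rfl
    have g1 : g.range ≤ π.ker := by
      rintro _ ⟨s, rfl⟩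
      exact mul_mem (h1 s.2) (inv_mem (hf s).1)
    have g2 : ∀ a ∈ mult π, a ∈ g.range → a = 1 := by
      rintro _ ha ⟨s, rfl⟩
      have : s = 1 := Subtype.ext (hS s s.2 (by
        have := mul_mem ha.2 (hf s).2
        rwa [hg, inv_mul_cancel_right] at this))
      rw [this, map_one]
    have g3 : ∀ a ∈ π.ker, ∃ s ∈ g.range, s⁻¹ * a ∈ mult π := by
      intro a ha
      obtain ⟨s, hs, hs'⟩ := h3 a ha
      refine ⟨g ⟨s, hs⟩, ⟨_, rfl⟩, ?_⟩
      rw [hg, mul_inv_rev, inv_inv, mul_assoc]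
      exact mul_mem (hf _) hs'
    haveI : g.range.Normal := H27.normal_of_le_ker hE.cent g1
    have hst' := stem_of_compl hE g1 g3
    have hfin' := finite_of_stem hst'
    let e₂ := multEquivKer hE.surj hst' (QuotientGroup.mk' g.range) (fun a => rfl)
      (fun a ha h => g2 a ha ((QuotientGroup.eq_one_iff _).1 h))
    obtain ⟨e, he⟩ := h _ _ _ _ hst hst' ⟨(eA.trans (multEquivKer hE.surj hst (QuotientGroup.mk' S)
      (fun a => rfl) (fun a ha h => hS a ((QuotientGroup.eq_one_iff _).1 h) ha.2))).symm⟩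
      ⟨(eA.trans e₂).symm⟩
    have he' : ∀ a, QuotientGroup.lift g.range π g1 (e (QuotientGroup.mk' S a)) = π a :=
      fun a => DFunLike.congr_fun he _
    have hμ : ∀ a, (e (QuotientGroup.mk' S a))⁻¹ * QuotientGroup.mk' g.range a ∈
        (QuotientGroup.lift g.range π g1).ker := fun a => by
      rw [MonoidHom.mem_ker, map_mul, map_inv, he', inv_mul_eq_one]; rfl
    letI := centCommGroup hst'.2.1
    let μ : Hopf (stdPres Q) →* (QuotientGroup.lift g.range π g1).ker :=
      MonoidHom.mk' (fun a => ⟨_, hμ a⟩) (fun a b => Subtype.ext (by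
        have := mem_center_iff.1 (hst'.2.1 (hμ a))
        show _ = _ * ((e (QuotientGroup.mk' S b))⁻¹ * QuotientGroup.mk' g.range b)
        rw [← mul_assoc, ← this]
        simp only [map_mul, mul_inv_rev, mul_assoc]))
    have h6 : μ k = μ x ^ p := by
      have := congrArg (Abelianization.lift μ) h5
      rwa [map_pow] at this
    have h7 : μ k = e₂ (eA (m ^ (θ ⟨k, hk⟩).toAdd)) := by
      apply Subtype.ext
      show (e (QuotientGroup.mk' S k))⁻¹ * QuotientGroup.mk' g.range k =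
        QuotientGroup.mk' g.range (f ⟨k, hk⟩)
      rw [show QuotientGroup.mk' S k = 1 from (QuotientGroup.eq_one_iff _).2 hk, map_one, inv_one,
        one_mul, ← mul_inv_eq_one, ← map_inv, ← map_mul]
      exact (QuotientGroup.eq_one_iff _).2 ⟨⟨k, hk⟩, rfl⟩
    refine hθ (hm (eA.symm (e₂.symm (μ x))) _ ?_)
    rw [← map_pow, ← map_pow, ← h6, h7, MulEquiv.symm_apply_apply, MulEquiv.symm_apply_apply]
  · intro hco Γ₁ Γ₂ _ _ _ _ σ₁ σ₂ h₁ h₂ ⟨e₁⟩ ⟨e₂⟩
    obtain ⟨η₁, hη₁⟩ := hopf_lift' (stdPres Q) (CExt.of_stem h₁)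
    obtain ⟨η₂, hη₂⟩ := hopf_lift' (stdPres Q) (CExt.of_stem h₂)
    have hinj := inj_on_mult_of_card (stdPres_surj Q) hA h₁ (Nat.card_congr e₁.toEquiv).ge η₁ hη₁
    have hk : η₁.ker ≤ (hopfπ (stdPres Q)).ker := fun a ha => by
      rw [MonoidHom.mem_ker, ← hη₁, (MonoidHom.mem_ker).1 ha, map_one]
    letI := centCommGroup (hk.trans hE.cent)
    letI := centCommGroup h₂.2.1
    have hc : ∀ a : η₁.ker, (η₂.comp η₁.ker.subtype) a ∈ σ₂.ker := fun a => by
      show σ₂ (η₂ a) = 1
      rw [hη₂]; exact hk a.2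
    obtain ⟨g, hg⟩ := exists_extend_of_pow (D := σ₂.ker) hco (fun d => by
      rw [← Nat.card_congr e₂.toEquiv, pow_card_eq_one']) _ (ker_to_ab_injective hk hinj) (fun b => by
        obtain ⟨x, rfl⟩ : ∃ y, Abelianization.of y = b := QuotientGroup.mk_surjective b
        have h4 : hopfπ _ (x ^ Nat.card (Abelianization Q)) ∈ commutator Q := by
          rw [← Abelianization.ker_of, MonoidHom.mem_ker, map_pow, map_pow, pow_card_eq_one']
        obtain ⟨c, hc, hc'⟩ := exists_mem_commutator_map (ζ := MonoidHom.id Q) (stem_id Q).2.1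
          (hopfπ _) (fun y => hE.surj y) h4
        have h5 : η₁ (c⁻¹ * x ^ Nat.card (Abelianization Q)) ∈ mult σ₁ := by
          rw [mult_eq_ker_of_stem h₁, MonoidHom.mem_ker, hη₁, map_mul, map_inv, hc', inv_mul_cancel]
        obtain ⟨m, hm, hm'⟩ := exists_mem_mult_map hE.surj h₁.2.1 η₁ hη₁ h5
        refine ⟨⟨m⁻¹ * (c⁻¹ * x ^ Nat.card (Abelianization Q)), by
          rw [MonoidHom.mem_ker, map_mul, map_inv, hm', inv_mul_cancel]⟩, ?_⟩
        have h7 : Abelianization.of c = 1 := Abelianization.commutator_subset_ker _ hc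
        have h8 : Abelianization.of m = 1 := Abelianization.commutator_subset_ker _ hm.2
        show Abelianization.of (m⁻¹ * _) = _
        rw [map_mul, map_mul, map_inv, map_inv, h7, h8, inv_one, one_mul, one_mul, map_pow])
      ((η₂.comp η₁.ker.subtype).codRestrict _ hc)
    have hs := surj_of_stem hE.surj h₁ η₁ hη₁
    obtain ⟨ρ, hρ⟩ := exists_factor_of_central η₁ hs η₂ σ₂.ker h₂.2.1 (g.comp Abelianization.of)
      (fun a ha => congrArg Subtype.val (hg ⟨a, ha⟩))
    have h3 : ∀ y, σ₂ (ρ y) = σ₁ y := fun y => by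
      obtain ⟨a, rfl⟩ := hs y
      rw [hρ, map_mul, map_inv, (MonoidHom.mem_ker).1 (SetLike.coe_mem _), inv_one, mul_one, hη₁, hη₂]
    have h4 : Function.Bijective ρ := by
      refine (Nat.bijective_iff_surjective_and_card _).2 ⟨surj_of_stem h₁.1 h₂ ρ h3, ?_⟩
      rw [← σ₁.ker.card_mul_index, ← σ₂.ker.card_mul_index, index_ker, index_ker,
        MonoidHom.range_eq_top.2 h₁.1, MonoidHom.range_eq_top.2 h₂.1, Nat.card_congr e₁.toEquiv,
        Nat.card_congr e₂.toEquiv]
    exact ⟨MulEquiv.ofBijective ρ h4, MonoidHom.ext h3⟩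

end Cfsg.Agent.S3974
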