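import Cfsg.Statements.S4034
import Cfsg.Agent.H25.ClassSize

set_option autoImplicit false
open Cfsg

namespace Cfsg.Agent.S4034

universe u

def Hyp (p : ℕ) (G : Type u) [Group G] : Prop :=
  ∀ x : G, (orderOf x).Coprime p → ∃ k, (Subgroup.centralizer ({x} : Set G)).index = p ^ k

theorem hyp_quot {p : ℕ} [hp : Fact p.Prime] (G : Type u) [Group G] [Finite G] (h : Hyp p G)
    (N : Subgroup G) [N.Normal] : Hyp p (G ⧸ N) := by
  intro y hy
  obtain ⟨x, hx, rfl⟩ := H25.exists_lift_coprime _ (QuotientGroup.mk'_surjective N) p hy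
  obtain ⟨k, hk⟩ := h x hx
  have := H25.index_centralizer_map_dvd _ (QuotientGroup.mk'_surjective N) x
  rw [hk] at this
  obtain ⟨j, -, hj⟩ := (Nat.dvd_prime_pow hp.out).mp this
  exact ⟨j, hj⟩

theorem hyp_solvable {p : ℕ} [hp : Fact p.Prime] (G : Type u) [Group G] [Finite G] (h : Hyp p G) :
    Group.IsSolvable G := by
  refine H25.isSolvable_of_class (fun G _ => Hyp p G) (fun G _ _ h N _ x hx => ?_)
    (fun G _ _ h N _ => hyp_quot G h N) (fun G _ _ h hs => ?_) G h
  · obtain ⟨k, hk⟩ := h x (by rwa [Subgroup.orderOf_coe])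
    have := H25.index_centralizer_normal_dvd N x
    rw [hk] at this
    obtain ⟨j, -, hj⟩ := (Nat.dvd_prime_pow hp.out).mp this
    exact ⟨j, hj⟩
  · by_cases h1 : ∀ x : G, (orderOf x).Coprime p → x = 1
    · have := (H25.isPGroup_of_forall_coprime h1).isNilpotent
      infer_instance
    · push Not at h1
      obtain ⟨x, hx, hx1⟩ := h1
      obtain ⟨k, hk⟩ := h x hx
      exact H25.isSolvable_of_simple_of_class_prime_pow hs hp.out hx1 hk

open scoped commutatorElement in
theorem hyp_comm {p : ℕ} [hp : Fact p.Prime] (G : Type u) [Group G] [Finite G] (h : Hyp p G)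
    (H : Subgroup G) (hH : (Nat.card H).Coprime p) : ∀ a ∈ H, ∀ b ∈ H, a * b = b * a := by
  induction hn : Nat.card G using Nat.strong_induction_on generalizing G with
  | _ m ih =>
  intro a ha b hb
  by_cases h0 : pCore p G = ⊥
  · have hF : (Nat.card (fittingSubgroup G)).Coprime p := by
      rw [Nat.coprime_comm, Nat.Prime.coprime_iff_not_dvd hp.out]
      have := H1.not_dvd_relIndex_pCore_fittingSubgroup (G := G) p
      rwa [h0, Subgroup.relIndex_bot_left] at this
    have key : ∀ x ∈ H, x ∈ Subgroup.centralizer (fittingSubgroup G : Set G) := by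
      intro x hx
      obtain ⟨k, hk⟩ := h x (Nat.Coprime.coprime_dvd_left (H.orderOf_dvd_natCard hx) hH)
      have h1 := H25.relIndex_dvd_index_of_normal_right (Subgroup.centralizer {x})
        (fittingSubgroup G)
      rw [hk] at h1
      have h2 := Nat.eq_one_of_dvd_coprimes (Nat.Coprime.pow_right k hF)
        (Subgroup.relIndex_dvd_card _ _) h1
      rw [Subgroup.relIndex_eq_one] at h2
      exact Subgroup.mem_centralizer_iff.mpr fun y hy =>
        Subgroup.mem_centralizer_singleton_iff.mp (h2 hy)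
    exact Subgroup.mem_centralizer_iff.mp (key b hb) a
      (H1.centralizer_fittingSubgroup_le (hyp_solvable G h) (key a ha))
  · have h1 := ih _ (hn ▸ H1.card_quotient_lt h0) _ (hyp_quot G h (pCore p G))
      (H.map (QuotientGroup.mk' _)) (Nat.Coprime.coprime_dvd_left (H.card_map_dvd _) hH) rfl
      _ ⟨a, ha, rfl⟩ _ ⟨b, hb, rfl⟩
    have h2 : ⁅a, b⁆ ∈ pCore p G ⊓ H := by
      refine Subgroup.mem_inf.mpr ⟨?_, ?_⟩
      · rw [← QuotientGroup.ker_mk' (pCore p G), MonoidHom.mem_ker,
          map_commutatorElement, commutatorElement_eq_one_iff_mul_comm]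
        exact h1
      · rw [commutatorElement_def]
        exact H.mul_mem (H.mul_mem (H.mul_mem ha hb) (H.inv_mem ha)) (H.inv_mem hb)
    rw [(Subgroup.disjoint_of_coprime_natCard (H1.coprime_card_of_isPGroup_of_coprime
      (H1.isPGroup_pCore p G) hH)).eq_bot, Subgroup.mem_bot, commutatorElement_eq_one_iff_mul_comm] at h2
    exact h2

def Hyp2 (p : ℕ) (G : Type u) [Group G] : Prop :=
  ∃ H : Subgroup G, IsMulCommutative H ∧ IsPiHall ({p}ᶜ : Set ℕ) H

theorem index_pow {p : ℕ} [hp : Fact p.Prime] {G : Type u} [Group G] [Finite G] {H : Subgroup G}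
    (h : IsPiHall ({p}ᶜ : Set ℕ) H) : ∃ k, H.index = p ^ k := by
  have := (H1.isPiHall_iff.mp h).2
  rw [compl_compl] at this
  exact (H1.isPiNum_singleton_iff hp.out Subgroup.index_ne_zero_of_finite).mp this

theorem hyp2_solvable {p : ℕ} [hp : Fact p.Prime] (G : Type u) [Group G] [Finite G]
    (h : Hyp2 p G) : Group.IsSolvable G := by
  refine H25.isSolvable_of_class (fun G _ => Hyp2 p G) (fun G _ _ ⟨H, hc, hH⟩ N _ => ?_)
    (fun G _ _ ⟨H, hc, hH⟩ N _ => ?_) (fun G _ _ ⟨H, hc, hH⟩ hs => ?_) G h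
  · refine ⟨H.subgroupOf N, inferInstance, ?_⟩
    have := H1.isPiHallOf_inf (H1.isPiHallOf_top.mpr hH) (le_top : N ≤ ⊤)
      Subgroup.le_normalizer_of_normal
    rwa [H1.isPiHallOf_iff_subgroupOf inf_le_right, Subgroup.inf_subgroupOf_right] at this
  · exact ⟨H.map (QuotientGroup.mk' N), inferInstance,
      H1.isPiHall_map hH (QuotientGroup.mk'_surjective N)⟩
  · obtain ⟨k, hk⟩ := index_pow hH
    by_cases h0 : H = ⊥
    · rw [h0, Subgroup.index_bot] at hk
      have := (IsPGroup.of_card hk).isNilpotent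
      infer_instance
    · obtain ⟨⟨x, hx⟩, hx1⟩ := Subgroup.ne_bot_iff_exists_ne_one.mp h0
      have h1 : (Subgroup.centralizer ({x} : Set G)).index ∣ p ^ k := hk ▸
        Subgroup.index_dvd_of_le fun y hy =>
          Subgroup.mem_centralizer_singleton_iff.mpr (H2.mul_comm_of_mem hy hx)
      obtain ⟨j, -, hj⟩ := (Nat.dvd_prime_pow hp.out).mp h1
      exact H25.isSolvable_of_simple_of_class_prime_pow hs hp.out
        (fun e => hx1 (Subtype.ext e)) hj

/-- Let G be a finite group and p a prime. Every conjugacy class of p-regular elements of G (elements of order prime to p) has p-power size if and only if G has an abelian p-complement, i.e. an abelian subgroup of order prime to p and p-power index. -/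
theorem result {G : Type*} [Group G] [Finite G] {p : ℕ} (hp : p.Prime) :
    (∀ x : G, (orderOf x).Coprime p → ∃ k : ℕ, (ConjClasses.mk x).carrier.ncard = p ^ k) ↔
    (∃ H : Subgroup G, IsMulCommutative H ∧ ¬ p ∣ Nat.card H ∧ ∃ k : ℕ, H.index = p ^ k) := by
  have := Fact.mk hp
  simp only [H25.ncard_carrier_mk]
  constructor
  · intro h
    obtain ⟨H, hH⟩ := H1.exists_isPiHall ({p}ᶜ : Set ℕ) (hyp_solvable G h)
    have h1 := (H1.isPiNum_compl_singleton_iff hp).mp (H1.isPiHall_iff.mp hH).1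
    exact ⟨H, H2.isMulCommutative_of_forall (hyp_comm G h H h1),
      (Nat.Prime.coprime_iff_not_dvd hp).mp h1.symm, index_pow hH⟩
  · rintro ⟨H, hc, h1, k, hk⟩ x hx
    have hH : IsPiHall ({p}ᶜ : Set ℕ) H := H1.isPiHall_iff.mpr
      ⟨(H1.isPiNum_compl_singleton_iff hp).mpr ((Nat.Prime.coprime_iff_not_dvd hp).mpr h1).symm, by
        rw [compl_compl]
        exact (H1.isPiNum_singleton_iff hp Subgroup.index_ne_zero_of_finite).mpr ⟨k, hk⟩⟩
    obtain ⟨g, hg⟩ := H1.exists_le_conj_isPiHall (hyp2_solvable G ⟨H, hc, hH⟩)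
      (U := Subgroup.zpowers x) ((H1.isPiNum_compl_singleton_iff hp).mpr
        (by rwa [Nat.card_zpowers])) hH
    have h2 := H1.mem_conj_smul.mp (hg (Subgroup.mem_zpowers x))
    have h3 : (Subgroup.centralizer ({g⁻¹ * x * g⁻¹⁻¹} : Set G)).index ∣ p ^ k := hk ▸
        Subgroup.index_dvd_of_le fun y hy =>
          Subgroup.mem_centralizer_singleton_iff.mpr (H2.mul_comm_of_mem hy (by simpa using h2))
    rw [H25.index_centralizer_conj] at h3
    obtain ⟨j, -, hj⟩ := (Nat.dvd_prime_pow hp).mp h3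
    exact ⟨j, hj⟩

end Cfsg.Agent.S4034
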