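import Cfsg.Statements.S4160
import Cfsg.Agent.H26.ClassSize

set_option autoImplicit false
open Cfsg

namespace Cfsg.Agent.S4160


/-- Let G be a finite group and p ≠ q primes each dividing the size of some conjugacy class of G, such that no conjugacy class size is divisible by pq. Then G has a normal p-complement or a normal q-complement. -/
theorem result {G : Type*} [Group G] [Finite G] (p q : ℕ) (hp : p.Prime) (hq : q.Prime) (hpq : p ≠ q)
    (hp' : ∃ x : G, p ∣ (Subgroup.centralizer ({x} : Set G)).index) (hq' : ∃ x : G, q ∣ (Subgroup.centralizer ({x} : Set G)).index) (h : ∀ x : G, ¬ p * q ∣ (Subgroup.centralizer ({x} : Set G)).index) :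
    Cfsg.HasNormalPComplement p G ∨ Cfsg.HasNormalPComplement q G := by
  have : Fact p.Prime := ⟨hp⟩
  have : Fact q.Prime := ⟨hq⟩
  obtain ⟨P⟩ : Nonempty (Sylow p G) := inferInstance
  obtain ⟨Q⟩ : Nonempty (Sylow q G) := inferInstance
  by_contra hn
  push Not at hn
  have key : ∀ (r : ℕ) [Fact r.Prime] (R : Sylow r G), ¬ HasNormalPComplement r G →
      2 * {x : G | x ≠ 1 ∧ ∃ g : G, g⁻¹ * x * g ∈ Subgroup.centralizer (R : Set G)}.ncard + 2 ≤ Nat.card G := by
    intro r _ R hr
    have h1 : {x : G | x ≠ 1 ∧ ∃ g : G, g⁻¹ * x * g ∈ Subgroup.centralizer (R : Set G)}.ncard ≤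
        (Subgroup.normalizer (R : Set G)).index * (Nat.card (Subgroup.centralizer (R : Set G)) - 1) :=
      H26.ncard_conj_le (H1.normalizer_le_normalizer_centralizer (R : Subgroup G))
    have h2 : (Subgroup.centralizer (R : Set G)).relIndex (Subgroup.normalizer (R : Set G)) ≠ 1 :=
      fun h => hr (H3.hasNormalPComplement_of_normalizer_le_centralizer R (Subgroup.relIndex_eq_one.mp h))
    have h3 := H1.card_mul_relIndex (Subgroup.centralizer_le_normalizer (R : Set G))
    have h4 := (Subgroup.normalizer (R : Set G)).index_mul_card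
    have h5 : (Subgroup.centralizer (R : Set G)).relIndex (Subgroup.normalizer (R : Set G)) ≠ 0 :=
      Subgroup.index_ne_zero_of_finite
    have h6 : (Subgroup.normalizer (R : Set G)).index ≠ 0 := Subgroup.index_ne_zero_of_finite
    have h7 : 0 < Nat.card (Subgroup.centralizer (R : Set G)) := Nat.card_pos
    erw [← h4, ← h3]
    obtain ⟨c, hc⟩ := Nat.exists_eq_add_of_lt h7
    obtain ⟨e, he⟩ : ∃ e, (Subgroup.centralizer (R : Set G)).relIndex (Subgroup.normalizer (R : Set G)) = e + 2 :=
      ⟨(Subgroup.centralizer (R : Set G)).relIndex (Subgroup.normalizer (R : Set G)) - 2, by omega⟩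
    obtain ⟨n, hn⟩ := Nat.exists_eq_succ_of_ne_zero h6
    erw [hc, hn] at h1
    erw [hc, he, hn]
    simp only [zero_add, Nat.add_sub_cancel, Nat.succ_eq_add_one] at h1 ⊢
    nlinarith [Nat.zero_le (n * c * e), Nat.zero_le (c * e), Nat.zero_le (n * e)]
  have h1 := key p P hn.1
  have h2 := key q Q hn.2
  have sub : ∀ (r : ℕ) [Fact r.Prime] (R : Sylow r G) (x : G),
      ¬ r ∣ (Subgroup.centralizer ({x} : Set G)).index →
      ∃ g : G, g⁻¹ * x * g ∈ Subgroup.centralizer (R : Set G) := by
    intro r _ R x hx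
    obtain ⟨S, hS⟩ := H26.exists_sylow_le_of_not_dvd_index hx
    obtain ⟨g, rfl⟩ := MulAction.exists_smul_eq G R S
    refine ⟨g, fun y hy => ?_⟩
    have := H26.mem_cent.mp (hS (H26.mem_smul_sylow.mpr (show g⁻¹ * (g * y * g⁻¹) * g ∈ (R : Subgroup G) by
      simpa [mul_assoc] using! hy)))
    calc y * (g⁻¹ * x * g) = g⁻¹ * (g * y * g⁻¹ * x) * g := by group
      _ = _ := by rw [this]; group
  have h3 : (Set.univ : Set G) ⊆ insert 1
      ({x : G | x ≠ 1 ∧ ∃ g : G, g⁻¹ * x * g ∈ Subgroup.centralizer (P : Set G)} ∪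
        {x : G | x ≠ 1 ∧ ∃ g : G, g⁻¹ * x * g ∈ Subgroup.centralizer (Q : Set G)}) := by
    intro x _
    by_cases hx : x = 1
    · exact Or.inl hx
    right
    by_cases h1 : p ∣ (Subgroup.centralizer ({x} : Set G)).index
    · right
      exact ⟨hx, sub q Q x fun h2 =>
        h x (((Nat.coprime_primes hp hq).mpr hpq).mul_dvd_of_dvd_of_dvd h1 h2)⟩
    · exact Or.inl ⟨hx, sub p P x h1⟩
  have h4 := (Set.ncard_le_ncard h3).trans ((Set.ncard_insert_le _ _).trans
    (Nat.add_le_add_right (Set.ncard_union_le _ _) 1))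
  rw [Set.ncard_univ] at h4
  omega

end Cfsg.Agent.S4160
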