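import Cfsg.Statements.S3322
import Cfsg.Agent.GW.DG2
import Cfsg.Agent.S1230

set_option autoImplicit false
open Cfsg

namespace Cfsg.Agent.S3322

open Subgroup Cfsg.Agent.GW

/-- Call a group a D-group when it has a proper subgroup outside of which every element x satisfies x² = 1 (for instance a dihedral group, or an elementary abelian 2-group). Let G be a finite group with a subgroup H that is a D-group (witnessed by a proper subgroup A of H) of order divisible by 4, such that H = C_G(j) for every involution j in the centre of H. If G is not solvable, then G has a normal subgroup N whose order is odd or twice an odd number with G/N isomorphic to PSL(2, q) or PGL(2, q) for some prime power q > 3 (q may be even). -/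
theorem result
    {G : Type*} [Group G] [Finite G] (H A : Subgroup G) (hAH : A < H) (hD : ∀ x ∈ H, x ∉ A → x ^ 2 = 1)
    (h4 : 4 ∣ Nat.card ↥H)
    (hC : ∀ j ∈ H, orderOf j = 2 → (∀ h ∈ H, h * j = j * h) → Subgroup.centralizer ({j} : Set G) = H)
    (hns : ¬ Group.IsSolvable G) :
    ∃ (N : Subgroup G) (_ : N.Normal), (Odd (Nat.card ↥N) ∨ ∃ m : ℕ, Odd m ∧ Nat.card ↥N = 2 * m) ∧
      ∃ (F : Type) (_ : Field F) (_ : Fintype F), 3 < Fintype.card F ∧
        (Nonempty (G ⧸ N ≃* Matrix.ProjectiveSpecialLinearGroup (Fin 2) F) ∨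
          Nonempty (G ⧸ N ≃* Matrix.ProjGenLinGroup (Fin 2) F)) := by
  obtain ⟨x, xH, xA⟩ := SetLike.exists_of_lt hAH
  have hD' : ∀ y ∈ H, y ∉ A → y * y = 1 := fun y hy h => (pow_two y).symm.trans (hD y hy h)
  change DCon G
  by_cases h0 : ∀ a ∈ H, a * a = 1
  · have hc : ∀ a ∈ H, ∀ b ∈ H, a * b = b * a := fun a ha b hb => by
      rw [← inv_eq_of_mul_eq_one_right (h0 _ (mul_mem ha hb)), mul_inv_rev,
        inv_eq_of_mul_eq_one_right (h0 a ha), inv_eq_of_mul_eq_one_right (h0 b hb)]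
    have hC' : ∀ j ∈ H, orderOf j = 2 → centralizer {j} = H := fun j hj h2 =>
      hC j hj h2 fun h hh => hc h hh j hj
    have hp : IsPGroup 2 H := fun a => ⟨1, Subtype.ext (by simpa [pow_two] using h0 a a.2)⟩
    have hne : H ≠ ⊥ := by rintro rfl; simp at h4
    obtain ⟨P, hP⟩ := hp.exists_le_sylow
    obtain ⟨j, hj, j2⟩ := H11.exists_invol_of_even (H := H) (even_iff_two_dvd.2 (dvd_trans ⟨2, rfl⟩ h4))
    obtain ⟨z, hz, z2, hzc⟩ := H11.exists_orderOf_eq_centralizer_of_normalized P.isPGroup'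
      P.isPGroup' (fun e => hne (le_bot_iff.1 (e ▸ hP))) le_normalizer
    have hzH : z ∈ H := hC' j hj j2 ▸ H11.mem_cent1.2 (hzc j (hP hj)).symm
    obtain rfl : H = P := le_antisymm hP fun s hs => hC' z hzH z2 ▸ H11.mem_cent1.2 (hzc s hs)
    obtain ⟨F, _, _, h1, h2⟩ := S1230.result P (fun h => by
      obtain ⟨a, ha⟩ := h.exists_ofOrder_eq_natCard
      have := Nat.le_of_dvd two_pos (orderOf_dvd_of_pow_eq_one (x := a) (n := 2)
        (Subtype.ext ((pow_two _).trans (h0 a a.2))))
      have := Nat.le_of_dvd Nat.card_pos h4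
      omega) (fun h => hns ((Group.isSolvable_iff_subgroup_quotient (P : Subgroup G)).2
        ⟨H1.isSolvable_of_isPGroup hp, FT.solvable_of_odd
          (Nat.not_even_iff_odd.1 (mt even_iff_two_dvd.1 P.not_dvd_index))⟩)) fun t ht => by
      obtain ⟨g, -, hg⟩ := (H11.isSylIn_top P).exists_conj_invol_mem ht trivial
      have e : ∀ c ∈ centralizer {t}, g * c * g⁻¹ ∈ (P : Subgroup G) := fun c hc' =>
        hC' _ hg ((H11.orderOf_conj _ _).trans ht) ▸ H11.mem_cent1.2 (by
          rw [conj_mul, conj_mul, H11.mem_cent1.1 hc'])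
      refine ⟨⟨⟨fun a b => Subtype.ext ?_⟩⟩, fun c hc' => ?_⟩
      · simpa [conj_mul] using hc _ (e a a.2) _ (e b b.2)
      · simpa [conj_mul, pow_two] using h0 _ (e c hc')
    exact dcon_of_hom (f := MonoidHom.id G) Function.surjective_id (Or.inl (by simp))
      ⟨F, _, _, h1 ▸ Nat.le_of_dvd Nat.card_pos h4, Or.inl h2⟩
  push Not at h0
  obtain ⟨a, ha, h1⟩ := h0
  have h : DH H A x a := ⟨hAH.le, xH, xA, hD', ha, h1, hC⟩
  have h2 := H11.card_mul_relIndex hAH.le
  rw [h.relIndex le_rfl hAH.not_ge] at h2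
  obtain ⟨j, hj, j2⟩ := H11.exists_invol_of_even (H := A) (even_iff_two_dvd.2 (by omega))
  by_cases h3 : ∀ i ∈ A, orderOf i = 2 → i = j
  · exact h.dcon_one hj j2 h3 hns
  push Not at h3
  obtain ⟨i, hi, i2, ne⟩ := h3
  exact h.dcon_two hi hj i2 j2 ne hns

end Cfsg.Agent.S3322
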