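import Cfsg.Statements.S1477
import Cfsg.Agent.H21.CN

set_option autoImplicit false
set_option linter.style.haveILetI false
open Cfsg

namespace Cfsg.Agent.S1477

open Cfsg.Agent.H20 Cfsg.Agent.H21 Cfsg.Agent.BG

/-- Let G be a finite group in which every non-identity element has nilpotent centralizer, and H a nilpotent subgroup not properly contained in any nilpotent subgroup. Then the order of H is coprime to its index; if the order of H is not a prime power then H ∩ gHg⁻¹ = 1 whenever gHg⁻¹ ≠ H; and if H ∩ gHg⁻¹ = 1 whenever gHg⁻¹ ≠ H, then C_G(x) ≤ H for every non-identity x ∈ H. -/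
theorem result {G : Type*} [Group G] [Finite G] (hCN : Cfsg.IsCNGroup G) (H : Subgroup G) (hH : Group.IsNilpotent H)
    (hmax : ∀ L : Subgroup G, Group.IsNilpotent L → H ≤ L → L = H) :
    (Nat.card H).Coprime H.index ∧
      (¬ IsPrimePow (Nat.card H) → Nat.card H ≠ 1 → ∀ g : G, H.map (MulAut.conj g).toMonoidHom ≠ H → H ⊓ H.map (MulAut.conj g).toMonoidHom = ⊥) ∧
      ((∀ g : G, H.map (MulAut.conj g).toMonoidHom ≠ H → H ⊓ H.map (MulAut.conj g).toMonoidHom = ⊥) → ∀ x ∈ H, x ≠ 1 → Subgroup.centralizer ({x} : Set G) ≤ H) := by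
  have h := cnOf_top.2 hCN
  refine ⟨Subgroup.relIndex_top_right H ▸ (h.max_nil_hall hH hmax).coprime, fun h1 h2 g hg => ?_,
    fun h1 x hx hx1 => h.max_nil_cent1_le hH hmax hx hx1 fun g hg => ?_⟩
  · by_contra h3
    refine hg (h.max_nil_ti hH hmax (fun p hp => ?_) h3)
    by_contra h4
    push Not at h4
    obtain ⟨q, hq, hd⟩ := Nat.exists_prime_and_dvd h2
    have h5 : ∀ r : ℕ, r.Prime ∧ r ∣ Nat.card H → r = p := fun r hr => by_contra fun e => h4 r hr.1 e hr.2
    exact h1 (isPrimePow_iff_unique_prime_dvd.2 ⟨q, ⟨hq, hd⟩, fun r hr => (h5 r hr).trans (h5 q ⟨hq, hd⟩).symm⟩)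
  · rw [mem_norm_iff_cj]
    by_contra h2
    refine hx1 (Subgroup.mem_bot.1 (h1 g h2 ▸ ⟨hx, mem_cj'.2 ⟨x, hx, ?_⟩⟩))
    rw [mem_cent1.1 hg, mul_inv_cancel_right]

end Cfsg.Agent.S1477
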