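import Cfsg.Statements.S4774
import Cfsg.Agent.H7.PSL2Deg
-- import your own Cfsg.Agent.* helpers here

set_option autoImplicit false
open Cfsg

namespace Cfsg.Agent.S4774


/-- Let F be a finite field of odd characteristic t with q > 5 elements and let S be isomorphic to PSL(2,F) or to SL(2,F). Then the vertices of the character degree graph of S are the primes dividing q(q²−1); the prime t is adjacent to no vertex; two distinct primes dividing q² − 1 are adjacent exactly when one of them is 2, or both divide q + 1, or both divide q − 1. -/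
theorem result (F : Type*) [Field F] [Fintype F] (t : ℕ) [Fact t.Prime] [CharP F t] (ht : t ≠ 2) (q : ℕ) (hq : Fintype.card F = q) (h5 : 5 < q) {S : Type*} [Group S] [Finite S] (hS : Nonempty (S ≃* Matrix.ProjectiveSpecialLinearGroup (Fin 2) F) ∨ Nonempty (S ≃* Matrix.SpecialLinearGroup (Fin 2) F)) : Cfsg.degreePrimes S = {r : ℕ | r.Prime ∧ r ∣ q * (q ^ 2 - 1)} ∧ ∀ r s : ℕ, (Cfsg.degreeGraph S).Adj r s ↔ (r ≠ s ∧ r.Prime ∧ s.Prime ∧ r ∣ q ^ 2 - 1 ∧ s ∣ q ^ 2 - 1 ∧ (r = 2 ∨ s = 2 ∨ (r ∣ q + 1 ∧ s ∣ q + 1) ∨ (r ∣ q - 1 ∧ s ∣ q - 1))) := by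
  have hq' : Nat.card F = q := by rw [Nat.card_eq_fintype_card, hq]
  have hodd : Odd q := by
    obtain ⟨n, -, hn⟩ := FiniteField.card F t
    rw [← hq, hn]
    exact ((Fact.out : t.Prime).odd_of_ne_two ht).pow
  have h1 : ¬ Nat.card F - 1 ∣ 4 := fun h => by
    have := Nat.le_of_dvd (by norm_num) h
    omega
  have h2 : ¬ Nat.card F + 1 ∣ 4 := fun h => by
    have := Nat.le_of_dvd (by norm_num) h
    omega
  have hsq : q ^ 2 - 1 = (q + 1) * (q - 1) := by simpa using Nat.sq_sub_sq q 1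
  have e1 : 2 ∣ q + 1 := by obtain ⟨k, rfl⟩ := hodd; omega
  have e2 : 2 ∣ q - 1 := by obtain ⟨k, rfl⟩ := hodd; omega
  refine ⟨hq' ▸ H7.Pd.primes_eq hS h1 h2, fun r s => ?_⟩
  rw [H7.Pd.adj_iff hS h1 h2, hq', hsq]
  refine and_congr_right fun _ => and_congr_right fun hr => and_congr_right fun hs => ?_
  constructor
  · rintro (⟨a, b⟩ | ⟨a, b⟩)
    · exact ⟨a.mul_right _, b.mul_right _, Or.inr (Or.inr (Or.inl ⟨a, b⟩))⟩
    · exact ⟨a.mul_left _, b.mul_left _, Or.inr (Or.inr (Or.inr ⟨a, b⟩))⟩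
  · rintro ⟨a, b, rfl | rfl | h | h⟩
    · rcases hs.dvd_mul.1 b with b | b
      · exact Or.inl ⟨e1, b⟩
      · exact Or.inr ⟨e2, b⟩
    · rcases hr.dvd_mul.1 a with a | a
      · exact Or.inl ⟨a, e1⟩
      · exact Or.inr ⟨a, e2⟩
    · exact Or.inl h
    · exact Or.inr h

end Cfsg.Agent.S4774
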