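import Cfsg.Statements.S0981
import Cfsg.Agent.H19.BTc
import Cfsg.Agent.H12.Transport

set_option autoImplicit false
open Cfsg

namespace Cfsg.Agent.S0981

open Cfsg.Agent.H19

/-- A simple group of order 4080 is isomorphic to the projective special linear group of dimension 2 over the field with 16 elements. -/
theorem result {G : Type*} [Group G] [Finite G] [IsSimpleGroup G] (h : Nat.card G = 4080) {F : Type*} [Field F] [Fintype F] (hF : Fintype.card F = 16) : Nonempty (G ≃* Matrix.ProjectiveSpecialLinearGroup (Fin 2) F) := by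
  have hc : ¬ IsMulCommutative G := not_comm_of_card_not_prime (by rw [h]; norm_num)
  haveI := Fintype.ofFinite G
  haveI : Fact (Nat.Prime 17) := ⟨by norm_num⟩
  rcases brauer_tuan (p := 17) (q := 2) (b := 4) (g₀ := 15) hc (by norm_num) (by norm_num)
    (by rw [h]; norm_num) (by norm_num) with ⟨-, e⟩ | ⟨m, K, _, _, h1, h2, -, ⟨e⟩⟩
  · have := card_of_PSL (ZMod.card 17) e
    rw [h] at this
    norm_num at this
  · obtain ⟨f⟩ := H12.nonempty_ringEquiv_of_natCard_eq (F := K) (K := F) (by
      rw [Nat.card_eq_fintype_card, Nat.card_eq_fintype_card, hF]; omega)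
    exact ⟨e.trans (H12.pslCongr _ f)⟩

end Cfsg.Agent.S0981
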