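import Cfsg.Statements.S0984
import Cfsg.Agent.H19.Two
import Cfsg.Agent.WA.Main
import Cfsg.Agent.S0494

set_option autoImplicit false
open Cfsg

namespace Cfsg.Agent.S0984

open Cfsg.Agent.H19 Subgroup Matrix MatrixGroups

theorem a5_sq : (Finset.univ.filter fun x : Equiv.Perm (Fin 5) =>
    Equiv.Perm.sign x = 1 ∧ x * x = 1).card = 16 := by decide +kernel

theorem q_cases {q k : ℕ} (hq : 3 < q) (hp : IsPrimePow q) (h : q * (q ^ 2 - 1) * k = 5040)
    (hk : k = 1 ∨ (Odd q ∧ 2 ∣ k)) : q = 5 ∧ k = 42 := by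
  have h1 : q ≤ 17 := by
    by_contra h2
    have hk0 : 1 ≤ k := Nat.pos_of_ne_zero (by rintro rfl; simp at h)
    have h3 : 18 * 18 - 1 ≤ q ^ 2 - 1 := Nat.sub_le_sub_right (by nlinarith) 1
    have : 18 * (18 * 18 - 1) * 1 ≤ q * (q ^ 2 - 1) * k :=
      Nat.mul_le_mul (Nat.mul_le_mul (by omega) h3) hk0
    omega
  rw [Nat.odd_iff] at hk
  interval_cases q <;> first | omega | (exfalso; revert hp; decide)

theorem sq_one_le {G : Type*} [Group G] [Finite G] [IsSimpleGroup G] (hc : ¬ IsMulCommutative G)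
    (h8 : ∀ P : Sylow 2 G, Nat.card (P : Subgroup G) = 8)
    (hP : ∀ P : Sylow 2 G, ∀ a ∈ (P : Subgroup G), a ^ 2 = 1) {t : G} (ht : orderOf t = 2)
    (h7 : ¬ 7 ∣ Nat.card (centralizer ({t} : Set G))) {s : G} (hs : s * s = 1) (h1 : s ≠ 1) :
    IsConj t s := by
  have hz : ∀ u : G, orderOf u = 2 → IsPGroup 2 (zpowers u) := fun u hu =>
    IsPGroup.of_card (n := 1) (by rw [Nat.card_zpowers, hu]; rfl)
  obtain ⟨P, hPt⟩ := (hz t ht).exists_le_sylow
  obtain ⟨Q, hQs⟩ := (hz s (orderOf_eq_prime (by rw [sq, hs]) h1)).exists_le_sylow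
  obtain ⟨g, hg⟩ := MulAction.exists_smul_eq G Q P
  have hsP : g * s * g⁻¹ ∈ (P : Subgroup G) := by
    rw [← hg, Sylow.coe_subgroup_smul]
    exact Subgroup.smul_mem_pointwise_smul _ _ _ (hQs (mem_zpowers s))
  have htP : t ∈ (P : Subgroup G) := hPt (mem_zpowers t)
  have ht1 : t ≠ 1 := by rintro rfl; simp at ht
  set N := normalizer ((P : Subgroup G) : Set G) with hN
  letI : MulAction N G := MulAction.compHom G ((MulAut.conj (G := G)).comp N.subtype)
  have hsm : ∀ (n : N) (x : G), n • x = n * x * (n : G)⁻¹ := fun _ _ => rfl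
  have hS : ((P : Set G) \ {1}).ncard = 7 := by
    rw [Set.ncard_diff_singleton_of_mem (s := (P : Set G)) P.one_mem, ← Nat.card_coe_set_eq]
    exact congrArg (· - 1) (h8 P)
  have horb : MulAction.orbit N t ⊆ (P : Set G) \ {1} := by
    rintro _ ⟨n, rfl⟩
    exact ⟨(mem_normalizer_iff.mp n.2 t).mp htP, fun e => ht1 (by simpa [hsm] using e)⟩
  have hd : 7 ∣ (MulAction.stabilizer N t).index := by
    have h2 := seven_dvd_of_eight hc P (h8 P) (hP P)
    rw [← hN, ← (MulAction.stabilizer N t).card_mul_index] at h2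
    refine ((Nat.Prime.dvd_mul (by norm_num)).1 h2).resolve_left fun e => h7 (e.trans ?_)
    rw [← card_map_of_injective N.subtype_injective]
    refine card_dvd_of_le ?_
    rintro _ ⟨n, hn, rfl⟩
    rw [SetLike.mem_coe, MulAction.mem_stabilizer_iff, hsm] at hn
    rw [mem_centralizer_singleton_iff]
    exact mul_inv_eq_iff_eq_mul.1 hn
  have he : MulAction.orbit N t = (P : Set G) \ {1} :=
    Set.eq_of_subset_of_ncard_le horb (by
      rw [hS, ncard_orbit_eq_index]
      exact Nat.le_of_dvd (Nat.pos_of_ne_zero index_ne_zero_of_finite) hd)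
  have : g * s * g⁻¹ ∈ MulAction.orbit N t := he ▸ ⟨hsP, fun e => h1 (by simpa using e)⟩
  obtain ⟨n, hn⟩ := this
  exact (isConj_iff.2 ⟨n, hn⟩ : IsConj t (g * s * g⁻¹)).trans
    (isConj_iff.2 ⟨g, rfl⟩ : IsConj s (g * s * g⁻¹)).symm

/-- A simple group of order 2520 is isomorphic to the alternating group of degree 7. -/
theorem result {G : Type*} [Group G] [Finite G] [IsSimpleGroup G] (h : Nat.card G = 2520) : Nonempty (G ≃* alternatingGroup (Fin 7)) := by
  classical
  have hc : ¬ IsMulCommutative G := not_comm_of_card_not_prime (by rw [h]; norm_num)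
  have h8 : ∀ P : Sylow 2 G, Nat.card (P : Subgroup G) = 8 := fun P => by
    rw [P.card_eq_multiplicity, h, show (2520 : ℕ) = 2 ^ 3 * 315 from rfl,
      Nat.factorization_mul (by norm_num) (by norm_num), Finsupp.add_apply,
      Nat.Prime.factorization_pow (by norm_num), Nat.factorization_eq_zero_of_not_dvd (by norm_num)]
    simp
  have hpsl : ∀ (F : Type) [Field F] [Fintype F], 3 < Fintype.card F →
      ¬ Nonempty (G ≃* PSL(2, F)) := fun F _ _ h3 e => by
    have h1 := card_of_PSL rfl e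
    have hp := Fintype.isPrimePow_card_of_field (α := F)
    rcases (Nat.dvd_prime Nat.prime_two).1 (Nat.gcd_dvd_left 2 (Fintype.card F - 1)) with h2 | h2
    · rw [h2, h] at h1
      have h4 : Fintype.card F ≤ 14 := by
        by_contra h5
        have h6 : 15 * 15 - 1 ≤ Fintype.card F ^ 2 - 1 := Nat.sub_le_sub_right (by nlinarith) 1
        have : 15 * (15 * 15 - 1) ≤ Fintype.card F * (Fintype.card F ^ 2 - 1) :=
          Nat.mul_le_mul (by omega) h6
        omega
      generalize Fintype.card F = q at *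
      interval_cases q <;> omega
    · rw [h2, h] at h1
      have := q_cases h3 hp (k := 1) (by omega) (Or.inl rfl)
      omega
  by_cases hP : ∃ P : Sylow 2 G, ∃ a ∈ (P : Subgroup G), a ^ 2 ≠ 1
  · obtain ⟨P, hP⟩ := hP
    rcases conc_of_eight hc P (h8 P) hP with ⟨F, _, _, -, h2, e⟩ | e
    · exact (hpsl F h2 e).elim
    · exact e
  push Not at hP
  have hab : WA.Ab2 (⊤ : Subgroup G) := fun T _ hT a ha b hb => by
    obtain ⟨P, hTP⟩ := hT.exists_le_sylow
    have h1 : ∀ a ∈ (P : Subgroup G), a⁻¹ = a := fun a ha =>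
      inv_eq_of_mul_eq_one_right (by rw [← sq]; exact hP P a ha)
    have := h1 _ (mul_mem (hTP ha) (hTP hb))
    rw [_root_.mul_inv_rev, h1 a (hTP ha), h1 b (hTP hb)] at this
    exact this.symm
  rcases WA.walter hc hab with ⟨F, _, _, ⟨n, hn, hF⟩, e⟩ | ⟨F, _, _, -, h3, e⟩ |
    ⟨t, E, E₀, F, _, _, ht, -, ⟨h1, h2, h3, h4, -⟩, h5, -, -, ho, h6, ⟨e⟩⟩
  · refine (hpsl F ?_ e).elim
    have : 2 ^ 2 ≤ 2 ^ n := Nat.pow_le_pow_right (by norm_num) hn
    omega
  · exact (hpsl F h3 e).elim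
  have ht1 : t ≠ 1 := by rintro rfl; simp at ht
  set C := centralizer ({t} : Set G) with hC
  have hCt : C ≠ ⊤ := centralizer_ne_top hc t ht1
  have hE : 2 * Nat.card E₀ = Fintype.card F * (Fintype.card F ^ 2 - 1) := by
    rw [← card_of_PSL rfl ⟨e⟩, Nat.gcd_eq_left (by obtain ⟨k, hk⟩ := ho; omega)]
  have hdis : Disjoint (zpowers t) E₀ := by
    rw [disjoint_iff, eq_bot_iff, ← h4]; exact inf_le_inf_left _ h5
  have hcm : ∀ a : zpowers t, ∀ b : E₀, Commute ((zpowers t).subtype a) (E₀.subtype b) :=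
    fun a b => h3 a a.2 b (h5 b.2)
  let φ := (zpowers t).subtype.noncommCoprod E₀.subtype hcm
  have hφ : Function.Injective φ := by
    rw [injective_iff_map_eq_one]
    rintro ⟨a, b⟩ hab
    have := Subgroup.disjoint_iff_mul_eq_one.1 hdis a.2 b.2 hab
    exact Prod.ext (Subtype.ext this.1) (Subtype.ext this.2)
  have hd : 2 * Nat.card E₀ ∣ Nat.card C := by
    have : φ.range ≤ C := by
      rintro _ ⟨⟨a, b⟩, rfl⟩
      exact mul_mem (h1 a.2) (h2 (h5 b.2))
    have h7 := card_dvd_of_le this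
    rwa [← Nat.card_congr (MonoidHom.ofInjective hφ).toEquiv, Nat.card_prod, Nat.card_zpowers,
      ht] at h7
  obtain ⟨k, hk⟩ := hd
  have hi := C.card_mul_index
  rw [h, hk, hE] at hi
  obtain ⟨hq, hk2⟩ := q_cases h6 (Fintype.isPrimePow_card_of_field (α := F))
    (k := 2 * (k * C.index)) (by linarith) (Or.inr ⟨ho, dvd_mul_right _ _⟩)
  have hf := two_mul_card_dvd_factorial_index hc C hCt
  have hi2 : C.index ∣ 21 := ⟨k, by linarith⟩
  have hi3 : C.index ≤ 21 := Nat.le_of_dvd (by norm_num) hi2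
  have hi4 : C.index = 7 ∨ C.index = 21 := by
    rw [h] at hf
    generalize C.index = m at *
    interval_cases m <;> simp_all [Nat.factorial]
  rcases hi4 with hi4 | hi4
  · obtain ⟨f, hf⟩ := exists_injective_alt hc (exists_smul_ne_quotient C hCt) 7 hi4
    refine ⟨MulEquiv.ofBijective f ((Nat.bijective_iff_injective_and_card f).2 ⟨hf, ?_⟩)⟩
    rw [h, nat_card_alternatingGroup, Nat.card_eq_fintype_card, Fintype.card_fin]
    norm_num [Nat.factorial]
  exfalso
  have hk1 : k = 1 := by rw [hi4] at hk2; omega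
  rw [hq] at hE
  have hE2 : Nat.card E₀ = 60 := by omega
  haveI : IsSimpleGroup PSL(2, F) := H12.PSL_fin_simple (F := F) 2 le_rfl (fun _ => h6)
  haveI : IsSimpleGroup E₀ := e.isSimpleGroup
  obtain ⟨e5⟩ := S0494.result hE2
  have hsub : {s : G | s * s = 1} ⊆ insert 1 {s | IsConj t s} := fun s hs => by
    by_cases h1 : s = 1
    · exact Or.inl h1
    · exact Or.inr (sq_one_le hc h8 hP ht (by rw [hk, hE, hk1]; norm_num) hs h1)
  have hle : {s : G | s * s = 1}.ncard ≤ 22 := by
    refine (Set.ncard_le_ncard hsub).trans ((Set.ncard_insert_le _ _).trans ?_)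
    have := card_class_eq_index t
    rw [← Nat.card_coe_set_eq]
    exact Nat.succ_le_succ (this.trans hi4).le
  let A := {x : Equiv.Perm (Fin 5) // Equiv.Perm.sign x = 1 ∧ x * x = 1}
  have hA : Nat.card A = 16 := by
    rw [Nat.card_eq_fintype_card, Fintype.card_subtype, a5_sq]
  let ψ : zpowers t × A → {s : G | s * s = 1} := fun x =>
    ⟨φ (x.1, e5.symm ⟨x.2.1, x.2.2.1⟩), by
      change φ _ * φ _ = 1
      rw [← map_mul, Prod.mk_mul_mk, ← map_mul]
      have h7 : x.1 * x.1 = 1 := by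
        have := pow_card_eq_one' (x := x.1)
        rwa [Nat.card_zpowers, ht, sq] at this
      have h9 : (⟨x.2.1, x.2.2.1⟩ * ⟨x.2.1, x.2.2.1⟩ : alternatingGroup (Fin 5)) = 1 :=
        Subtype.ext x.2.2.2
      rw [h7, h9, map_one]
      exact map_one φ⟩
  have hψ : Function.Injective ψ := fun x y hxy => by
    have := hφ (congrArg Subtype.val hxy)
    rw [Prod.mk.injEq] at this
    have h9 := congrArg Subtype.val (e5.symm.injective this.2)
    exact Prod.ext this.1 (Subtype.ext h9)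
  have := Nat.card_le_card_of_injective ψ hψ
  rw [Nat.card_prod, Nat.card_zpowers, ht, hA, Nat.card_coe_set_eq] at this
  omega

end Cfsg.Agent.S0984
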