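import Cfsg.Statements.S1011
import Cfsg.Agent.H19.CC
import Cfsg.Agent.H11.ElC2

set_option autoImplicit false
open Cfsg

namespace Cfsg.Agent.S1011

open Cfsg.Agent.H19 Cfsg.Agent.H4 Cfsg.Agent.H6 Subgroup

/-- A simple group of order 504 is isomorphic to the projective special linear group of dimension 2 over the field with 8 elements. -/
theorem result {G : Type*} [Group G] [Finite G] [IsSimpleGroup G] (h : Nat.card G = 504) {F : Type*} [Field F] [Fintype F] (hF : Fintype.card F = 8) : Nonempty (G ≃* Matrix.ProjectiveSpecialLinearGroup (Fin 2) F) := by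
  classical
  have hc : ¬ IsMulCommutative G := not_comm_of_card_not_prime (by rw [h]; norm_num)
  haveI := Fintype.ofFinite G
  haveI : Fact (Nat.Prime 7) := ⟨by norm_num⟩
  obtain ⟨x, K, hx, B, L, h1, h2, h3⟩ := d1_mem (p := 7) hc (by rw [h]; norm_num)
    (by rw [h]; norm_num)
  rw [h, show d1list 504 7 = [(1, 2, 36, [8])] by decide +kernel] at h1
  simp only [List.mem_singleton, Prod.mk.injEq] at h1
  obtain ⟨hK, he, hs, rfl⟩ := h1
  have h4 : ∀ J : G, orderOf J = 2 → Nat.card (centralizer ({J} : Set G)) = 8 := fun J hJ => by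
    obtain ⟨k, _, h5, h6, h8, h9, rfl, h7, h10, -⟩ := e2_data hc B hK he h3 hJ
    rw [h] at h7 h10
    obtain rfl : k = 2 := by
      have := h10 (by decide +kernel)
      omega
    norm_num [-Nat.card_eq_fintype_card] at h7
    nlinarith
  obtain rfl := card_eq_one.mp hK
  have hpr : ∀ {z : G}, (orderOf z).Prime → orderOf z = 2 ∨ orderOf z = 3 ∨ orderOf z = 7 :=
    fun {z} hz => by
      have h9 : orderOf z ∣ 2 ^ 3 * 3 ^ 2 * 7 := (orderOf_dvd_natCard z).trans (by rw [h]; norm_num)
      rcases (hz.dvd_mul).mp h9 with e | e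
      · exact ((hz.dvd_mul).mp e).imp
          (fun e => (Nat.prime_dvd_prime_iff_eq hz Nat.prime_two).mp (hz.dvd_of_dvd_pow e)) fun e =>
          Or.inl ((Nat.prime_dvd_prime_iff_eq hz Nat.prime_three).mp (hz.dvd_of_dvd_pow e))
      · exact Or.inr (Or.inr ((Nat.prime_dvd_prime_iff_eq hz (by norm_num)).mp e))
  have h2d : ∀ {y z : G}, orderOf z = 2 → Commute z y → orderOf y ∣ 8 := fun {y z} hz e =>
    h4 z hz ▸ (centralizer _).orderOf_dvd_natCard (mem_centralizer_singleton_iff.mpr e.symm)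
  obtain ⟨P⟩ : Nonempty (Sylow 3 G) := inferInstance
  have hP : Nat.card P = 9 := by rw [P.card_eq_multiplicity, h]; decide +kernel
  have h5 : CCS P := ccs_of_comm (IsPGroup.isMulCommutative_of_card_eq_prime_sq (p := 3) hP)
    fun y hy h5 z h6 h7 => by
      have h8 : orderOf y ∣ 9 := hP ▸ P.1.orderOf_dvd_natCard hy
      have h10 := orderOf_eq_one_iff.not.mpr h5
      rcases hpr h7 with e | e | e
      · exact absurd (Nat.eq_one_of_dvd_coprimes (by norm_num) h8 (h2d e h6)) h10
      · exact e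
      · exact absurd (e ▸ h6.orderOf_mul_eq_mul_orderOf_of_coprime (e ▸ Nat.Coprime.of_dvd_right
          h8 (by norm_num))) (no_order_mul hx h10 _)
  have h6 : Nat.card (Sylow 3 G) = 28 := by
    have h6 := h5.card_dvd
    have h7 := card_sylow_mem (p := 3) (a := 2) (m := 56) hc (by norm_num) h
    rw [h, show sylc 504 56 3 = [7, 28] by decide +kernel] at h7
    simp only [List.mem_cons, List.not_mem_nil, or_false] at h7
    rw [hP] at h6
    omega
  obtain ⟨Q, hQ⟩ := exists_sylow_eq hx.ord hx.nsq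
  have h7 : CCS Q := fun y hy h7 => by
    obtain ⟨i, rfl⟩ := (mem_zpowers_iff_xp hx.ord).mp (hQ ▸ hy)
    rw [hQ, ← hx.centralizer_eq]
    ext a
    simpa only [mem_centralizer_singleton_iff, ← commute_iff_eq, Commute.symm_iff (a := a)] using
      commute_xp_iff hx.ord fun e => h7 (by rw [e, xp_zero])
  have h8 := h5.ncard_pel
  have h9 := h7.ncard_pel
  rw [h6, hP] at h8
  rw [← sN_eq_card hx.ord hx.nsq, hs, hQ, Nat.card_zpowers, hx.ord] at h9
  have h10 : (pel 2 G).ncard ≤ 63 := by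
    have h10 := Set.ncard_le_ncard (s := pel 7 G ∪ pel 3 G ∪ pel 2 G) (t := Set.univ \ {1}) (by
      rintro y ((e | e) | e) <;> exact ⟨trivial, e.1⟩)
    rw [Set.ncard_union_eq (Set.disjoint_union_left.mpr ⟨disjoint_pel (by norm_num),
      disjoint_pel (by norm_num)⟩), Set.ncard_union_eq (disjoint_pel (by norm_num)),
      Set.ncard_diff_singleton_of_mem (Set.mem_univ _), Set.ncard_univ, h] at h10
    omega
  have h11 : ∀ J : G, orderOf J = 2 → ∀ c ∈ centralizer ({J} : Set G), c ^ 2 = 1 := by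
    intro J hJ c hc'
    have h11 := card_class_mul_card_centralizer J
    rw [h4 J hJ, h] at h11
    have h12 : {a | IsConj J a} = pel 2 G := Set.eq_of_subset_of_ncard_le (fun a ha =>
      ⟨fun e => by simp [e] at ha; simp [ha] at hJ, 1, by
        rw [pow_one, sq, sq_of_isConj (by rw [← sq, ← hJ, pow_orderOf_eq_one]) ha]⟩) (by
      rw [← Nat.card_coe_set_eq]
      exact h10.trans (le_of_eq (Nat.eq_of_mul_eq_mul_left (by norm_num) h11).symm))
    by_cases e : c = 1
    · simp [e]
    have h13 : c ∈ pel 2 G := ⟨e, 3, orderOf_dvd_iff_pow_eq_one.mp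
      (h2d hJ (mem_centralizer_singleton_iff.mp hc').symm)⟩
    rw [sq, sq_of_isConj (by rw [← sq, ← hJ, pow_orderOf_eq_one]) (h12 ▸ h13 : c ∈ {a | IsConj J a})]
  obtain ⟨T⟩ : Nonempty (Sylow 2 G) := inferInstance
  have hT : Nat.card T = 8 := by rw [T.card_eq_multiplicity, h]; decide +kernel
  have h12 : H11.EC T := ⟨fun e => ?_, fun e => ?_, fun t ht => ⟨?_, h11 t ht⟩⟩
  · obtain ⟨E, _, _, h13, -, ⟨e⟩⟩ := h12.iso_PSL
    obtain ⟨f⟩ := H12.nonempty_ringEquiv_of_natCard_eq (F := E) (K := F) (by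
      rw [Nat.card_eq_fintype_card, Nat.card_eq_fintype_card, hF, h13, hT])
    exact ⟨e.trans (H12.pslCongr _ f)⟩
  · obtain ⟨g, hg⟩ := IsCyclic.exists_ofOrder_eq_natCard (α := T)
    rw [hT, ← orderOf_coe] at hg
    have := orderOf_dvd_of_pow_eq_one (h11 (g.1 ^ 4) (by rw [orderOf_pow, hg]; rfl) g
      (mem_centralizer_singleton_iff.mpr (Commute.self_pow _ 4)))
    rw [hg] at this; norm_num at this
  · rcases e.eq_bot_or_eq_top with e | e <;> rw [e] at hT <;> simp [h, -Nat.card_eq_fintype_card] at hT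
  · exact ⟨⟨fun a b => Subtype.ext (Commute.of_orderOf_dvd_two (fun g => orderOf_dvd_of_pow_eq_one
      (Subtype.ext (h11 t ht g g.2))) a b ▸ rfl)⟩⟩

end Cfsg.Agent.S1011
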