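import Cfsg.Statements.S0904
import Cfsg.Agent.H6.Kernel
-- import your own Cfsg.Agent.* helpers here

set_option autoImplicit false
open Cfsg

namespace Cfsg.Agent.S0904

open Cfsg.Agent.H4 Cfsg.Agent.H6

theorem aux {G : Type*} [Group G] [Finite G] [IsSimpleGroup G] (hna : ∃ a b : G, a * b ≠ b * a)
    {p q r a b : ℕ} (hp : p.Prime) (hq : q.Prime) (hr : r.Prime) (hpq : p ≠ q) (hpr : p ≠ r)
    (hqr : q ≠ r) (hcard : Nat.card G = p ^ a * q ^ b * r) {g : G} (h1 : p ∣ orderOf g)
    (h2 : r ∣ orderOf g) : False := by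
  classical
  obtain ⟨M, hM⟩ := exists_isPModular hp
  obtain ⟨M', hM'⟩ := exists_isPModular hq
  haveI := hM.2.1
  haveI := hM'.2.1
  have h3 := weak_orth hM (isPBlock_principal (G := G)) (x := 1) (by simpa using hp.one_lt.ne') h1
  rw [← Finset.add_sum_erase _ _ (Finset.mem_univ (irrOne G)), if_pos irrOne_mem_principal] at h3
  simp only [irrOne_apply, map_one, mul_one] at h3
  refine not_memLocalIdeal_one (M := M') ?_
  rw [eq_neg_of_add_eq_zero_left h3, memLocalIdeal_neg_iff]
  refine memLocalIdeal_sum _ fun χ hχ => ?_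
  split_ifs with h
  swap
  · exact memLocalIdeal_zero
  by_cases hrd : r ∣ charDegree (χ : G → ℂ)
  · rw [apply_eq_zero_of_defect_zero hr χ.2 _ h2, map_zero, mul_zero]
    · exact memLocalIdeal_zero
    · rw [hcard, Nat.factorization_mul (mul_ne_zero (pow_ne_zero _ hp.ne_zero)
        (pow_ne_zero _ hq.ne_zero)) hr.ne_zero, Finsupp.add_apply, hr.factorization_self,
        Nat.factorization_eq_zero_of_not_dvd]
      · exact (hr.dvd_iff_one_le_factorization χ.2.charDegree_pos.ne').1 hrd
      · intro h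
        rcases (Nat.Prime.dvd_mul hr).1 h with h | h
        · exact hpr ((Nat.prime_dvd_prime_iff_eq hr hp).1 (hr.dvd_of_dvd_pow h)).symm
        · exact hqr ((Nat.prime_dvd_prime_iff_eq hr hq).1 (hr.dvd_of_dvd_pow h)).symm
  refine MemLocalIdeal.mul_right' ?_ (conj_char_mem χ.2.isCharacter g)
  rw [← irr_deg_cast, memLocalIdeal_natCast_iff hM']
  by_contra hqd
  have h4 := χ.2.charDegree_dvd_card
  rw [hcard] at h4
  have h5 := Nat.Coprime.dvd_of_dvd_mul_right
    (Nat.Coprime.pow_right b ((Nat.Prime.coprime_iff_not_dvd hq).2 hqd).symm)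
    (Nat.Coprime.dvd_of_dvd_mul_right ((Nat.Prime.coprime_iff_not_dvd hr).2 hrd).symm h4)
  obtain ⟨k, -, hk⟩ := (Nat.dvd_prime_pow hp).1 h5
  refine Finset.ne_of_mem_erase hχ (Subtype.ext (eq_one_of_principal_of_degree hM hna h (k := k) ?_))
  rw [← irr_deg_cast, hk, Nat.cast_pow]



/-- Let G be a finite simple group of order p ^ a * q ^ b * r with p, q, r distinct primes. Then every Sylow r-subgroup S of G satisfies C_G(S) = S. -/
theorem result {G : Type*} [Group G] [Finite G] [IsSimpleGroup G] (p q r a b : ℕ) (hp : p.Prime) (hq : q.Prime) [Fact r.Prime] (hpq : p ≠ q) (hpr : p ≠ r) (hqr : q ≠ r) (hcard : Nat.card G = p ^ a * q ^ b * r) (S : Sylow r G) : Subgroup.centralizer (S : Set G) = (S : Subgroup G) := by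
  have hr : r.Prime := Fact.out
  have hS : Nat.card S = r := by
    rw [S.card_eq_multiplicity, hcard, Nat.factorization_mul (mul_ne_zero (pow_ne_zero _ hp.ne_zero)
      (pow_ne_zero _ hq.ne_zero)) hr.ne_zero, Finsupp.add_apply, hr.factorization_self,
      Nat.factorization_eq_zero_of_not_dvd, zero_add, pow_one]
    intro h
    rcases (Nat.Prime.dvd_mul hr).1 h with h | h
    · exact hpr ((Nat.prime_dvd_prime_iff_eq hr hp).1 (hr.dvd_of_dvd_pow h)).symm
    · exact hqr ((Nat.prime_dvd_prime_iff_eq hr hq).1 (hr.dvd_of_dvd_pow h)).symm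
  have hle : (S : Subgroup G) ≤ Subgroup.centralizer (S : Set G) := by
    haveI := isCyclic_of_prime_card hS
    exact Subgroup.le_centralizer _
  by_cases hna : ∃ a b : G, a * b ≠ b * a
  swap
  · push Not at hna
    have : (S : Subgroup G) = ⊤ := by
      refine (IsSimpleGroup.eq_bot_or_eq_top_of_normal _
        ⟨fun n hn g => by rwa [hna g n, mul_inv_cancel_right]⟩).resolve_left fun h => ?_
      rw [h, Subgroup.card_bot] at hS
      exact hr.one_lt.ne hS
    exact le_antisymm (this ▸ le_top) hle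
  refine le_antisymm ?_ hle
  by_contra hn
  have h1 : (S : Subgroup G).relIndex (Subgroup.centralizer (S : Set G)) ≠ 1 := by
    rwa [Ne, Subgroup.relIndex_eq_one]
  obtain ⟨t, ht, htd⟩ := Nat.exists_prime_and_dvd h1
  haveI := Fact.mk ht
  have h2 : t ∣ (S : Subgroup G).index := htd.trans (Subgroup.relIndex_dvd_index_of_le hle)
  have h3 : (S : Subgroup G).index = p ^ a * q ^ b := by
    have := (S : Subgroup G).index_mul_card
    rw [hS, hcard] at this
    exact Nat.eq_of_mul_eq_mul_right hr.pos this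
  obtain ⟨x, hx⟩ := exists_prime_orderOf_dvd_card' t
    (htd.trans (Subgroup.relIndex_dvd_card (S : Subgroup G) (Subgroup.centralizer (S : Set G))))
  obtain ⟨y, hy⟩ := exists_prime_orderOf_dvd_card' (G := S) r (by rw [hS])
  have hc : Commute (x : G) y := (x.2 y y.2).symm
  rw [← Subgroup.orderOf_coe] at hx hy
  have htr : t ≠ r := by
    rintro rfl
    exact S.not_dvd_index h2
  have h4 : orderOf ((x : G) * y) = t * r := by
    rw [hc.orderOf_mul_eq_mul_orderOf_of_coprime, hx, hy]
    rw [hx, hy]; exact (Nat.coprime_primes ht hr).2 htr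
  rw [h3] at h2
  rcases (Nat.Prime.dvd_mul ht).1 h2 with h | h
  · obtain rfl := (Nat.prime_dvd_prime_iff_eq ht hp).1 (ht.dvd_of_dvd_pow h)
    exact aux hna hp hq hr hpq hpr hqr hcard (h4 ▸ dvd_mul_right _ _) (h4 ▸ dvd_mul_left _ _)
  · obtain rfl := (Nat.prime_dvd_prime_iff_eq ht hq).1 (ht.dvd_of_dvd_pow h)
    exact aux hna hq hp hr hpq.symm hqr hpr (by rw [hcard, mul_comm (p ^ a)])
      (h4 ▸ dvd_mul_right _ _) (h4 ▸ dvd_mul_left _ _)

end Cfsg.Agent.S0904
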