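import Cfsg.Statements.S1001
import Cfsg.Agent.S0904
import Cfsg.Agent.H4.Burnside

set_option autoImplicit false
open Cfsg

namespace Cfsg.Agent.S1001

/-- In a finite simple group whose order has the form p * 3^a * 2^b with p prime, the centralizer of any element of order p is the cyclic group it generates. -/
theorem result {G : Type*} [Group G] [Finite G] [IsSimpleGroup G] (p a b : ℕ) (hp : p.Prime) (hG : Nat.card G = p * 3 ^ a * 2 ^ b) (x : G) (hx : orderOf x = p) : Subgroup.centralizer ({x} : Set G) = Subgroup.zpowers x := by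
  classical
  haveI : Fact p.Prime := ⟨hp⟩
  by_cases h23 : p = 2 ∨ p = 3
  · have hs : Group.IsSolvable G := by
      refine Cfsg.Agent.H4.isSolvable_of_forall_prime_dvd (p := 2) (q := 3) Nat.prime_two Nat.prime_three ?_
      intro r hr hd
      rw [hG] at hd
      rcases (Nat.Prime.dvd_mul hr).mp hd with h | h
      · rcases (Nat.Prime.dvd_mul hr).mp h with h | h
        · rw [(Nat.prime_dvd_prime_iff_eq hr hp).mp h]; exact h23
        · exact Or.inr ((Nat.prime_dvd_prime_iff_eq hr Nat.prime_three).mp (hr.dvd_of_dvd_pow h))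
      · exact Or.inl ((Nat.prime_dvd_prime_iff_eq hr Nat.prime_two).mp (hr.dvd_of_dvd_pow h))
    have hc : ∀ a b : G, a * b = b * a := IsSimpleGroup.comm_iff_isSolvable.mpr hs
    have hx1 : x ≠ 1 := by
      rintro rfl
      rw [orderOf_one] at hx
      exact hp.one_lt.ne hx
    have hn : (Subgroup.zpowers x).Normal := ⟨fun n hn g => by
      rw [hc g n, mul_inv_cancel_right]; exact hn⟩
    have htop : Subgroup.zpowers x = ⊤ := by
      rcases hn.eq_bot_or_eq_top with h | h
      · exact absurd (Subgroup.zpowers_eq_bot.mp h) hx1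
      · exact h
    rw [htop, eq_top_iff]
    intro g _
    rw [Subgroup.mem_centralizer_iff]
    intro y _
    exact hc y g
  · push Not at h23
    have hP : IsPGroup p (Subgroup.zpowers x) := by
      apply IsPGroup.of_card (n := 1)
      rw [Nat.card_zpowers, hx, pow_one]
    obtain ⟨S, hS⟩ := hP.exists_le_sylow
    have hcS : Nat.card S = p := by
      rw [Sylow.card_eq_multiplicity, hG]
      have h3 : (3 ^ a * 2 ^ b).Coprime p := by
        apply Nat.Coprime.mul_left
        · exact Nat.Coprime.pow_left _ ((Nat.coprime_primes Nat.prime_three hp).mpr (Ne.symm h23.2))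
        · exact Nat.Coprime.pow_left _ ((Nat.coprime_primes Nat.prime_two hp).mpr (Ne.symm h23.1))
      rw [mul_assoc, Nat.factorization_mul hp.ne_zero (by positivity)]
      rw [Finsupp.add_apply, hp.factorization_self, Nat.factorization_eq_zero_of_not_dvd
        ((Nat.Prime.coprime_iff_not_dvd hp).mp h3.symm)]
      simp
    have heq : Subgroup.zpowers x = S := by
      apply Subgroup.eq_of_le_of_card_ge hS
      rw [Nat.card_zpowers, hx]
      exact hcS.le
    have := Cfsg.Agent.S0904.result (G := G) 3 2 p a b Nat.prime_three Nat.prime_two (by norm_num)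
      (Ne.symm h23.2) (Ne.symm h23.1) (by rw [hG]; ring) S
    rw [heq, ← this]
    have h2 : (S : Set G) = (Subgroup.zpowers x : Set G) := by rw [heq]; rfl
    rw [h2, ← Subgroup.centralizer_closure, ← Subgroup.zpowers_eq_closure]

end Cfsg.Agent.S1001
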