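import Cfsg.Statements.S0228
import Cfsg.Agent.H12.SmallRecog

set_option autoImplicit false
open Cfsg

namespace Cfsg.Agent.S0228

/-- A group of order 12 in which no involution is central is isomorphic to the alternating group on four letters. -/
theorem result {G : Type*} [Group G] [Finite G] (hG : Nat.card G = 12) (hz : ∀ z : G, orderOf z = 2 → z ∉ Subgroup.center G) : Nonempty (G ≃* alternatingGroup (Fin 4)) := by
  have : Fact (Nat.Prime 2) := ⟨Nat.prime_two⟩
  have : Fact (Nat.Prime 3) := ⟨Nat.prime_three⟩
  refine H12.NoCyclicNormal.equiv_alt4 (H12.noCyclicNormal_of_prime fun p x hp hxo hxn hidx => ?_) hG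
  have hp24 : p ∣ 12 := hG ▸ hxo ▸ orderOf_dvd_natCard x
  have hp23 : p = 2 ∨ p = 3 := by
    have := Nat.le_of_dvd (by norm_num) hp24
    interval_cases p <;> simp_all <;> norm_num at hp
  set C := Subgroup.centralizer ({x} : Set G) with hCdef
  have hC := C.card_mul_index
  have hi0 : 0 < C.index := Nat.pos_of_ne_zero Subgroup.index_ne_zero_of_finite
  rw [hG] at hC
  rcases hp23 with rfl | rfl
  · have : C = ⊤ := Subgroup.index_eq_one.1 (by omega)
    refine hz x hxo (Subgroup.mem_center_iff.2 fun g => ?_)
    exact Subgroup.mem_centralizer_singleton_iff.1 (this ▸ Subgroup.mem_top g : g ∈ C)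
  · -- some involution `b` commutes with `x`; its centraliser has order divisible by 6
    obtain ⟨b, hb⟩ := exists_prime_orderOf_dvd_card' (G := C) 2 (by
      generalize C.index = i at *
      interval_cases i <;> omega)
    have hb2 : orderOf (b : G) = 2 := by rw [Subgroup.orderOf_coe, hb]
    apply hz b hb2
    have hxb : (b : G) * x = x * b := Subgroup.mem_centralizer_singleton_iff.1 b.2
    set D := Subgroup.centralizer ({(b : G)} : Set G) with hD
    have h3 : 3 ∣ Nat.card D := hxo ▸ Subgroup.orderOf_dvd_natCard D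
      (Subgroup.mem_centralizer_singleton_iff.2 hxb.symm)
    have h4 : 4 ∣ Nat.card D := by
      have hp : IsPGroup 2 (Subgroup.zpowers (b : G)) :=
        IsPGroup.of_card (n := 1) (by rw [Nat.card_zpowers, hb2]; rfl)
      obtain ⟨P, hP⟩ := hp.exists_le_sylow
      obtain ⟨h1, -⟩ := H12.card_sylow_of_card (k := 2) (m := 3) P hG (by norm_num)
      have hcomm : IsMulCommutative (P : Subgroup G) :=
        IsPGroup.isMulCommutative_of_card_eq_prime_sq (p := 2) h1
      have hle : (P : Subgroup G) ≤ D := (Subgroup.le_centralizer _).trans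
        (Subgroup.centralizer_le (Set.singleton_subset_iff.2 (hP (Subgroup.mem_zpowers _))))
      have := Subgroup.card_dvd_of_le hle
      erw [h1] at this
      exact this
    have h12 : 12 ∣ Nat.card D := Nat.Coprime.mul_dvd_of_dvd_of_dvd (m := 3) (n := 4) (by norm_num) h3 h4
    have : D = ⊤ := Subgroup.eq_top_of_le_card _ (hG ▸ Nat.le_of_dvd Nat.card_pos h12)
    exact Subgroup.mem_center_iff.2 fun g =>
      Subgroup.mem_centralizer_singleton_iff.1 (this ▸ Subgroup.mem_top g : g ∈ D)

end Cfsg.Agent.S0228
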