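import Cfsg.Statements.S1012
import Cfsg.Agent.H12.SmallRecog

set_option autoImplicit false
open Cfsg

namespace Cfsg.Agent.S1012

theorem aux {G : Type*} [Group G] [Finite G] (h6 : ∀ g : G, orderOf g ≠ 6) (a b : G)
    (ha : orderOf a = 2) (hb : orderOf b = 3) : ¬ Commute a b := by
  intro hc
  apply h6 (a * b)
  rw [hc.orderOf_mul_eq_mul_orderOf_of_coprime (by rw [ha, hb]; norm_num), ha, hb]

/-- A group of order 24 containing no element of order 6 is isomorphic to the symmetric group of degree 4. -/
theorem result {G : Type*} [Group G] [Finite G] (h : Nat.card G = 24) (h6 : ∀ g : G, orderOf g ≠ 6) : Nonempty (G ≃* Equiv.Perm (Fin 4)) := by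
  have : Fact (Nat.Prime 2) := ⟨Nat.prime_two⟩
  have : Fact (Nat.Prime 3) := ⟨Nat.prime_three⟩
  refine H12.NoCyclicNormal.equiv_perm4 (H12.noCyclicNormal_of_prime fun p x hp hxo hxn hidx => ?_) h
  have hp24 : p ∣ 24 := h ▸ hxo ▸ orderOf_dvd_natCard x
  have hp23 : p = 2 ∨ p = 3 := by
    have := Nat.le_of_dvd (by norm_num) hp24
    interval_cases p <;> simp_all <;> norm_num at hp
  have hC := (Subgroup.centralizer ({x} : Set G)).card_mul_index
  have hi0 : 0 < (Subgroup.centralizer ({x} : Set G)).index := Nat.pos_of_ne_zero Subgroup.index_ne_zero_of_finite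
  rw [h] at hC
  rcases hp23 with rfl | rfl
  · obtain ⟨b, hb⟩ := exists_prime_orderOf_dvd_card' (G := Subgroup.centralizer ({x} : Set G)) 3 (by
      generalize (Subgroup.centralizer ({x} : Set G)).index = i at *
      interval_cases i; omega)
    exact aux h6 x b hxo (by rw [Subgroup.orderOf_coe, hb])
      (Subgroup.mem_centralizer_singleton_iff.1 b.2).symm
  · obtain ⟨b, hb⟩ := exists_prime_orderOf_dvd_card' (G := Subgroup.centralizer ({x} : Set G)) 2 (by
      generalize (Subgroup.centralizer ({x} : Set G)).index = i at *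
      interval_cases i <;> omega)
    exact aux h6 b x (by rw [Subgroup.orderOf_coe, hb]) hxo
      (Subgroup.mem_centralizer_singleton_iff.1 b.2)

end Cfsg.Agent.S1012
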