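import Cfsg.Statements.S3815
import Cfsg.Agent.H1.Cores
import Cfsg.Agent.H1.SylowIn

set_option autoImplicit false
open Cfsg

namespace Cfsg.Agent.S3815

/-- Let G be a finite group, p a prime and d ∈ G an element of order prime to p. If dg has order prime to p for every element g ∈ G of order prime to p, then d ∈ O_{p'}(G). -/
theorem result {G : Type*} [Group G] [Finite G] {p : ℕ} [Fact p.Prime]
    (d : G) (hd : (orderOf d).Coprime p)
    (h : ∀ g : G, (orderOf g).Coprime p → (orderOf (d * g)).Coprime p) :
    d ∈ Cfsg.pPrimeCore p G := by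
  let S : Subgroup G :=
    { carrier := {d | ∀ g : G, (orderOf (d * g)).Coprime p ↔ (orderOf g).Coprime p}
      one_mem' := by simp
      mul_mem' := by
        intro a b ha hb g
        rw [mul_assoc, ha, hb]
      inv_mem' := by
        intro a ha g
        rw [← ha, mul_inv_cancel_left] }
  have hconj : ∀ a b : G, orderOf (a * b * a⁻¹) = orderOf b := fun a b =>
    (MulAut.conj a).orderOf_eq b
  have hSn : S.Normal := ⟨by
    intro n hn a g
    have : a * n * a⁻¹ * g = a * (n * (a⁻¹ * g * a)) * a⁻¹ := by group
    rw [this, hconj, hn]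
    have := hconj a⁻¹ g
    rw [inv_inv] at this
    rw [this]⟩
  have hdS : d ∈ S := by
    intro g
    refine ⟨fun hg => ?_, h g⟩
    have key : ∀ n : ℕ, (orderOf (d ^ n * (d * g))).Coprime p := by
      intro n
      induction n with
      | zero => simpa using hg
      | succ n ih => rw [pow_succ', mul_assoc]; exact h _ ih
    have := key (orderOf d - 1)
    rwa [← mul_assoc, ← pow_succ, Nat.sub_add_cancel (orderOf_pos d), pow_orderOf_eq_one,
      one_mul] at this
  refine H1.le_pPrimeCore (N := S) ?_ hdS
  rw [Nat.coprime_comm, Nat.Prime.coprime_iff_not_dvd Fact.out]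
  intro hdvd
  obtain ⟨x, hx⟩ := exists_prime_orderOf_dvd_card' p hdvd
  have := (x.2 1).2 (by simp)
  rw [mul_one, Subgroup.orderOf_coe, hx] at this
  exact (Fact.out : p.Prime).one_lt.ne' (Nat.coprime_self p |>.1 this)

end Cfsg.Agent.S3815
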