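import Cfsg.Statements.S1342
import Cfsg.Agent.H10.PComp

set_option autoImplicit false
open Cfsg

namespace Cfsg.Agent.S1342

/-- For a finite group X, L*_{2'}(X) is normal in X. -/
theorem result {X : Type*} [Group X] [Finite X] : (Cfsg.extendedTwoLayer X).Normal := by
  open Subgroup Cfsg.Agent.H10 in
  have := pLayer_normal 2 X
  have : (pPrimePCore 2 X).Normal := inferInstanceAs (comap _ _).Normal
  have key : ∀ (M : Subgroup X) [M.Normal], (⨆ T : Sylow 2 M,
      OqOf 2 (centralizer (((T : Subgroup M).map M.subtype : Subgroup X) : Set X))).Normal := by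
    intro M _
    refine normal_of_normalizer_top fun g _ => mem_normalizer_of_conj_le fun x hx => ?_
    refine (?_ : Subgroup.map (MulAut.conj g).toMonoidHom _ ≤ _) (conj_mem_conj g hx)
    rw [Subgroup.map_iSup]
    refine iSup_le fun T => le_iSup_of_le ((MulAut.conjNormal g : MulAut M) • T) (le_of_eq ?_)
    rw [conj_OqOf, conj_centralizer, map_map]
    congr 3
    exact (map_map (T : Subgroup M) M.subtype (MulAut.conjNormal g : MulAut M).toMonoidHom).symm
  exact Subgroup.sup_normal _ _ (hK := key _)

end Cfsg.Agent.S1342
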