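import Cfsg.Statements.S4198
import Cfsg.Agent.H1.Basic

set_option autoImplicit false
open Cfsg

namespace Cfsg.Agent.S4198

open Equiv Equiv.Perm

def S : ℕ → Finset (Multiset ℕ)
  | 0 => {0}
  | n + 1 => (S n).biUnion fun m => insert (1 ::ₘ m) (m.toFinset.image fun a => (a + 1) ::ₘ m.erase a)

theorem mem_S (n : ℕ) : ∀ m : Multiset ℕ, (∀ i ∈ m, 0 < i) → m.sum = n → m ∈ S n := by
  induction n with
  | zero =>
    intro m h1 h2
    rw [S, Finset.mem_singleton, Multiset.eq_zero_iff_forall_notMem]
    intro a ha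
    have := h1 a ha
    have := Multiset.le_sum_of_mem ha
    omega
  | succ n ih =>
    intro m h1 h2
    obtain ⟨a, ha⟩ := Multiset.exists_mem_of_ne_zero (s := m) (by rintro rfl; simp at h2)
    obtain ⟨r, rfl⟩ := Multiset.exists_cons_of_mem ha
    rw [Multiset.sum_cons] at h2
    have h3 := h1 a ha
    have h4 : ∀ i ∈ r, 0 < i := fun i hi => h1 i (Multiset.mem_cons_of_mem hi)
    rw [S, Finset.mem_biUnion]
    by_cases h : a = 1
    · subst h
      exact ⟨r, ih r h4 (by omega), Finset.mem_insert_self _ _⟩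
    · obtain ⟨b, rfl⟩ : ∃ b, a = b + 1 := ⟨a - 1, by omega⟩
      refine ⟨b ::ₘ r, ih _ (fun i hi => ?_) (by rw [Multiset.sum_cons]; omega),
        Finset.mem_insert_of_mem (Finset.mem_image.2 ⟨b, by simp, by simp⟩)⟩
      rcases Multiset.mem_cons.1 hi with rfl | hi
      · omega
      · exact h4 i hi

theorem part_five : Nat.card (Nat.Partition 5) ≤ 8 := by
  have h : (S 5).card = 7 := by decide +kernel
  have := Nat.card_le_card_of_injective (fun p : Nat.Partition 5 =>
    (⟨p.parts, mem_S 5 _ (fun i hi => p.parts_pos hi) p.parts_sum⟩ : S 5))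
    fun p q e => Nat.Partition.ext (congrArg Subtype.val e)
  rw [Nat.card_eq_finsetCard, h] at this
  omega

theorem part_succ (n : ℕ) : Nat.card (Nat.Partition (n + 1)) ≤ 2 * Nat.card (Nat.Partition n) := by
  have h : ∀ p : Nat.Partition (n + 1), ∃ x : Bool × Nat.Partition n,
      (x.1 = true ∧ p.parts = 1 ::ₘ x.2.parts) ∨
      (x.1 = false ∧ ∃ a r, (∀ b ∈ r, a ≤ b) ∧ p.parts = (a + 1) ::ₘ r ∧ x.2.parts = a ::ₘ r) := by
    intro p
    have h2 := p.parts_sum
    have hne : p.parts.toFinset.Nonempty := Multiset.toFinset_nonempty.2 (by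
      intro h; rw [h] at h2; simp at h2)
    obtain ⟨a, ha, hmin⟩ := Finset.exists_min_image _ id hne
    rw [Multiset.mem_toFinset] at ha
    obtain ⟨r, hr⟩ := Multiset.exists_cons_of_mem ha
    have h3 := p.parts_pos ha
    have h4 : ∀ i ∈ r, 0 < i := fun i hi => p.parts_pos (hr ▸ Multiset.mem_cons_of_mem hi)
    rw [hr, Multiset.sum_cons] at h2
    by_cases h : a = 1
    · subst h
      exact ⟨(true, ⟨r, fun hi => h4 _ hi, by omega⟩), Or.inl ⟨rfl, hr⟩⟩
    · obtain ⟨b, rfl⟩ : ∃ b, a = b + 1 := ⟨a - 1, by omega⟩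
      refine ⟨(false, ⟨b ::ₘ r, fun {i} hi => ?_, by rw [Multiset.sum_cons]; omega⟩),
        Or.inr ⟨rfl, b, r, fun c hc => ?_, hr, rfl⟩⟩
      · rcases Multiset.mem_cons.1 hi with rfl | hi
        · omega
        · exact h4 i hi
      · have := hmin c (Multiset.mem_toFinset.2 (hr ▸ Multiset.mem_cons_of_mem hc))
        simp only [id] at this
        omega
  choose f hf using h
  have := Nat.card_le_card_of_injective f fun p q e => by
    apply Nat.Partition.ext
    rcases hf p with ⟨a1, a2⟩ | ⟨a1, a, r, a2, a3, a4⟩ <;>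
      rcases hf q with ⟨b1, b2⟩ | ⟨b1, b, s, b2, b3, b4⟩
    · rw [a2, b2, e]
    · rw [e, b1] at a1; cases a1
    · rw [e, b1] at a1; cases a1
    · rw [e, b4] at a4
      have h1 : a ≤ b := by
        rcases Multiset.mem_cons.1 (a4 ▸ Multiset.mem_cons_self b s) with h | h
        · exact h.ge
        · exact a2 b h
      have h2 : b ≤ a := by
        rcases Multiset.mem_cons.1 (a4.symm ▸ Multiset.mem_cons_self a r) with h | h
        · exact h.ge
        · exact b2 a h
      obtain rfl := le_antisymm h1 h2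
      rw [a3, b3, (Multiset.cons_inj_right a).1 a4]
  simpa using this

theorem part_le (k : ℕ) : Nat.card (Nat.Partition (k + 5)) ≤ 2 ^ (k + 3) := by
  induction k with
  | zero => exact part_five
  | succ k ih => exact (part_succ (k + 5)).trans (by rw [pow_succ]; omega)

theorem conj_cases {α : Type*} [Fintype α] [DecidableEq α] {x y : alternatingGroup α}
    (h : (x : Perm α).cycleType = (y : Perm α).cycleType) (h' : ¬ IsConj x y) :
    ∃ g : Perm α, sign g = -1 ∧ g * x * g⁻¹ = y := by
  obtain ⟨g, hg⟩ := isConj_iff.1 (isConj_iff_cycleType_eq.2 h)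
  rcases Int.units_eq_one_or (sign g) with h1 | h1
  · exact absurd (isConj_iff.2 ⟨⟨g, h1⟩, Subtype.ext hg⟩) h'
  · exact ⟨g, h1, hg⟩

theorem split {α : Type*} [Fintype α] [DecidableEq α] {x y : alternatingGroup α}
    (h : (x : Perm α).cycleType = (y : Perm α).cycleType) (h' : ¬ IsConj x y) :
    (∀ c ∈ (x : Perm α).cycleType, Odd c) ∧ Fintype.card α ≤ (x : Perm α).cycleType.sum + 1 := by
  obtain ⟨g, h1, hg⟩ := conj_cases h h'
  have : Subgroup.centralizer {(x : Perm α)} ≤ alternatingGroup α := by
    intro c hc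
    rcases Int.units_eq_one_or (sign c) with h2 | h2
    · exact h2
    · refine absurd (isConj_iff.2 ⟨⟨g * c, by simp [h1, h2]⟩, Subtype.ext ?_⟩) h'
      show g * c * x * (g * c)⁻¹ = y
      rw [mul_assoc g, Subgroup.mem_centralizer_singleton_iff.1 hc, ← hg]; group
  exact ⟨(centralizer_le_alternating_iff.1 this).1, (centralizer_le_alternating_iff.1 this).2.1⟩

/-- For n ≥ 5 the alternating group of degree n has strictly fewer conjugacy classes than the symmetric group of degree n, and the symmetric group of degree n (whose classes correspond to the partitions of n) has at most 2^(n−2) conjugacy classes. -/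
theorem result (n : ℕ) (hn : 5 ≤ n) : Nat.card (ConjClasses (alternatingGroup (Fin n))) < Nat.card (ConjClasses (Equiv.Perm (Fin n))) ∧ Nat.card (ConjClasses (Equiv.Perm (Fin n))) ≤ 2 ^ (n - 2) := by
  classical
  constructor
  · haveI : Nonempty (Quotient (IsConj.setoid ↥(alternatingGroup (Fin n)))) := ⟨⟦1⟧⟩
    let t : ConjClasses (alternatingGroup (Fin n)) → Multiset ℕ := fun C => (Quotient.out C).1.cycleType
    have hconj : ∀ C D : ConjClasses (alternatingGroup (Fin n)), IsConj (Quotient.out C) (Quotient.out D) → C = D :=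
      fun C D h => Quotient.out_equiv_out.1 h
    have hpar : ∀ C, Even ((t C).sum + (t C).card) := fun C => by
      have := (Quotient.out C).2
      rw [mem_alternatingGroup, sign_of_cycleType] at this
      exact (neg_one_pow_eq_one_iff_even (by decide)).1 this
    have h : ∀ C, ∃ σ : Perm (Fin n), (C = Function.invFun t (t C) ∧ σ.cycleType = t C) ∨
        (C ≠ Function.invFun t (t C) ∧ ∃ a r, Even a ∧ (∀ b ∈ r, Odd b) ∧ t C = (a + 1) ::ₘ r ∧
          σ.cycleType = a ::ₘ r ∧ n ≤ (t C).sum + 1) := by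
      intro C
      by_cases hC : C = Function.invFun t (t C)
      · exact ⟨_, Or.inl ⟨hC, rfl⟩⟩
      · obtain ⟨h1, h2⟩ := split (x := Quotient.out C) (y := Quotient.out (Function.invFun t (t C) : ConjClasses _))
          (Function.invFun_eq ⟨C, rfl⟩ : t _ = t C).symm fun h => hC (hconj _ _ h)
        rw [Fintype.card_fin] at h2
        change n ≤ (t C).sum + 1 at h2
        obtain ⟨a, ha⟩ := Multiset.exists_mem_of_ne_zero (s := t C) (by
          intro h; rw [h] at h2; simp at h2; omega)
        obtain ⟨r, hr⟩ := Multiset.exists_cons_of_mem ha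
        obtain ⟨b, rfl⟩ := h1 a ha
        have h3 : 2 ≤ 2 * b + 1 := two_le_of_mem_cycleType ha
        have h4 : (t C).sum ≤ n := by
          have := sum_cycleType_le (Quotient.out C).1
          rwa [Fintype.card_fin] at this
        obtain ⟨σ, hσ⟩ := (exists_with_cycleType_iff (Fin n) (m := (2 * b) ::ₘ r)).2 ⟨by
          rw [hr] at h4
          simp only [Multiset.sum_cons, Fintype.card_fin] at h4 ⊢
          omega, fun c hc => by
          rcases Multiset.mem_cons.1 hc with rfl | hc
          · omega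
          · exact two_le_of_mem_cycleType (show c ∈ t C from hr ▸ Multiset.mem_cons_of_mem hc)⟩
        exact ⟨σ, Or.inr ⟨hC, 2 * b, r, even_two_mul b, fun c hc =>
          h1 c (show c ∈ t C from hr ▸ Multiset.mem_cons_of_mem hc), hr, hσ, h2⟩⟩
    choose f hf using h
    have hpar' : ∀ C D a r, t D = (a + 1) ::ₘ r → t C ≠ a ::ₘ r := fun C D a r h1 h2 => by
      have a1 := hpar C
      have a2 := hpar D
      rw [h2] at a1
      rw [h1] at a2
      simp only [Multiset.sum_cons, Multiset.card_cons, Nat.even_iff] at a1 a2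
      omega
    have hinj : Function.Injective fun C => ConjClasses.mk (f C) := by
      intro C D e
      have e' := isConj_iff_cycleType_eq.1 (ConjClasses.mk_eq_mk_iff_isConj.1 e)
      rcases hf C with ⟨a1, a2⟩ | ⟨a1, a, r, a2, a3, a4, a5, -⟩ <;>
        rcases hf D with ⟨b1, b2⟩ | ⟨b1, b, s, b2, b3, b4, b5, -⟩
      · rw [a1, b1, ← a2, ← b2, e']
      · exact absurd (by rw [← a2, e', b5]) (hpar' C D b s b4)
      · exact absurd (by rw [← b2, ← e', a5]) (hpar' D C a r a4)
      · rw [a5, b5] at e'
        obtain rfl : a = b := by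
          rcases Multiset.mem_cons.1 (e' ▸ Multiset.mem_cons_self a r) with h | h
          · exact h
          · exact absurd (b3 a h) (Nat.not_odd_iff_even.2 a2)
        obtain rfl := (Multiset.cons_inj_right a).1 e'
        have e2 : t C = t D := a4.trans b4.symm
        rw [← e2] at b1
        have e3 : t (Function.invFun t (t C)) = t C := Function.invFun_eq ⟨C, rfl⟩
        obtain ⟨g, g1, g2⟩ := conj_cases e3 fun h => a1 (hconj _ _ h).symm
        obtain ⟨h, h1, h2⟩ := conj_cases (e3.trans e2) fun h => b1 (hconj _ _ h).symm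
        refine hconj _ _ (isConj_iff.2 ⟨⟨h * g⁻¹, by simp [g1, h1]⟩, Subtype.ext ?_⟩)
        show h * g⁻¹ * (Quotient.out C).1 * (h * g⁻¹)⁻¹ = (Quotient.out D).1
        rw [← g2, ← h2]; group
    have hsw : (swap (⟨0, by omega⟩ : Fin n) ⟨1, by omega⟩).cycleType = {2} :=
      isSwap_iff_cycleType.1 ⟨_, _, by simp, rfl⟩
    rw [Nat.card_eq_fintype_card, Nat.card_eq_fintype_card]
    refine Fintype.card_lt_of_injective_of_notMem _ hinj
      (b := ConjClasses.mk (swap (⟨0, by omega⟩ : Fin n) ⟨1, by omega⟩)) ?_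
    rintro ⟨C, e⟩
    have e' := (isConj_iff_cycleType_eq.1 (ConjClasses.mk_eq_mk_iff_isConj.1 e)).trans hsw
    rcases hf C with ⟨a1, a2⟩ | ⟨a1, a, r, a2, a3, a4, a5, a6⟩
    · have := hpar C
      rw [← a2, e'] at this
      exact absurd this (by decide)
    · have := congrArg Multiset.sum (a5.symm.trans e')
      rw [a4] at a6
      simp only [Multiset.sum_cons, Multiset.sum_singleton] at this a6
      omega
  · obtain ⟨k, rfl⟩ : ∃ k, n = k + 5 := ⟨n - 5, by omega⟩
    refine le_trans ?_ (part_le k)
    have := Nat.card_le_card_of_injective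
      (fun C : ConjClasses (Perm (Fin (k + 5))) => (Quotient.out C).partition)
      fun C D e => Quotient.out_equiv_out.1 (partition_eq_of_isConj.2 e)
    rwa [Fintype.card_fin] at this

end Cfsg.Agent.S4198
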