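import Cfsg.Statements.S0803
import Cfsg.Agent.H12.DicksonPSL

set_option autoImplicit false
open Cfsg

namespace Cfsg.Agent.S0803

/-- PSL_2(q) has a subgroup isomorphic to S_4 iff q² ≡ 1 (mod 16). -/
theorem result {F : Type*} [Field F] [Fintype F] {q : ℕ} (hF : Fintype.card F = q) : (∃ H : Subgroup (Matrix.ProjectiveSpecialLinearGroup (Fin 2) F), Nonempty (H ≃* Equiv.Perm (Fin 4))) ↔ q ^ 2 % 16 = 1 := by
  subst hF
  obtain ⟨p, hp, n, hpp, hn⟩ := FiniteField.card' F
  have : Fact p.Prime := ⟨hpp⟩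
  have hq : 0 < Fintype.card F := Fintype.card_pos
  constructor
  · rintro ⟨H, ⟨e⟩⟩
    have h4 : orderOf (H12.perm4a * H12.perm4b) = 2 ^ 2 :=
      orderOf_eq_prime_pow H12.perm4_rels.2.2.2 H12.perm4_rels.2.2.1
    rw [← e.symm.orderOf_eq, ← Subgroup.orderOf_coe] at h4
    generalize ((e.symm (H12.perm4a * H12.perm4b) : H) : Matrix.ProjectiveSpecialLinearGroup (Fin 2) F) = g at h4
    by_cases h2 : p = 2
    · subst h2
      exfalso
      obtain ⟨g, rfl⟩ := QuotientGroup.mk_surjective g
      have h1 : g ^ 2 ^ 3 = 1 := by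
        have := pow_orderOf_eq_one (g : Matrix.ProjectiveSpecialLinearGroup (Fin 2) F)
        rw [h4, ← QuotientGroup.mk_pow, H12.psl2_mk_eq_one_iff] at this
        rw [pow_succ, pow_mul]
        rcases this with h | h <;> rw [h] <;> simp
      obtain ⟨x, hx⟩ := H12.exists_mem_rootSL_of_pow 2 h1
      have h3 : (g : Matrix.ProjectiveSpecialLinearGroup (Fin 2) F) ^ 2 = 1 := by
        rw [← QuotientGroup.mk_pow, H12.pow_char_of_mem_rootSL 2 hx]; rfl
      have := orderOf_dvd_of_pow_eq_one h3
      rw [h4] at this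
      omega
    · have hodd : Odd (Fintype.card F) := hn ▸ (hpp.odd_of_ne_two h2).pow
      have h := H12.psl2_orderOf_dvd p (g := g) (by
        rw [h4]; exact fun h => h2 ((Nat.prime_dvd_prime_iff_eq hpp Nat.prime_two).1 (hpp.dvd_of_dvd_pow h)))
      obtain ⟨k, hk⟩ := hodd
      rw [h4, Nat.gcd_eq_left (by omega)] at h
      have : Fintype.card F % 16 = 1 ∨ Fintype.card F % 16 = 7 ∨ Fintype.card F % 16 = 9 ∨
        Fintype.card F % 16 = 15 := by omega
      rcases this with h | h | h | h <;> rw [Nat.pow_mod, h]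
  · intro h
    have h1 : Fintype.card F % 8 = 1 ∨ Fintype.card F % 8 = 7 := by
      rw [Nat.pow_mod] at h
      have h3 : Fintype.card F % 8 = Fintype.card F % 16 % 8 := by omega
      have : Fintype.card F % 16 < 16 := Nat.mod_lt _ (by norm_num)
      generalize Fintype.card F % 16 = r at *
      rw [h3]
      interval_cases r <;> simp at h ⊢
    obtain ⟨t, ht⟩ := H12.exists_sqrt_two (F := F) (by omega)
    refine H12.exists_perm4_of_sq (fun h2 => ?_) ht
    have := FiniteField.even_card_of_char_two (F := F) (by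
      have : CharP F 2 := CharTwo.of_one_ne_zero_of_two_eq_zero one_ne_zero h2
      exact ringChar.eq F 2)
    omega

end Cfsg.Agent.S0803
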