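import Cfsg.Statements.S0804
import Cfsg.Agent.H12.DicksonPSL

set_option autoImplicit false
open Cfsg

namespace Cfsg.Agent.S0804

/-- PSL_2(q) has a subgroup isomorphic to A_5 iff 5 ∣ q(q² − 1). -/
theorem result {F : Type*} [Field F] [Fintype F] {q : ℕ} (hF : Fintype.card F = q) : (∃ H : Subgroup (Matrix.ProjectiveSpecialLinearGroup (Fin 2) F), Nonempty (H ≃* alternatingGroup (Fin 5))) ↔ 5 ∣ q * (q ^ 2 - 1) := by
  constructor
  · rintro ⟨H, ⟨e⟩⟩
    rw [← H12.card_PSL2 hF]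
    refine Dvd.dvd.mul_left (Dvd.dvd.trans ?_ H.card_subgroup_dvd_card) _
    rw [Nat.card_congr e.toEquiv, H12.card_alt5]; norm_num
  · intro h
    subst hF
    obtain ⟨t, ht⟩ := H12.exists_golden h
    exact H12.exists_alt5_of_root ht

end Cfsg.Agent.S0804
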