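import Cfsg.Statements.S0805
import Cfsg.Agent.H12.DicksonPSL

set_option autoImplicit false
open Cfsg

namespace Cfsg.Agent.S0805

/-- Subfield subgroups: let F be a finite field of odd order q and K a finite field with |K|^m = q, m ≥ 1. Then PSL_2(F) has a subgroup isomorphic to PSL_2(K), and has a subgroup isomorphic to PGL_2(K) if and only if m is even. -/
theorem result {F K : Type*} [Field F] [Fintype F] [Field K] [Fintype K] {q : ℕ} (hF : Fintype.card F = q) (hodd : Odd q) (m : ℕ) (hm : 1 ≤ m) (hK : Fintype.card K ^ m = q) : (∃ H : Subgroup (Matrix.ProjectiveSpecialLinearGroup (Fin 2) F), Nonempty (H ≃* Matrix.ProjectiveSpecialLinearGroup (Fin 2) K)) ∧ ((∃ H : Subgroup (Matrix.ProjectiveSpecialLinearGroup (Fin 2) F), Nonempty (H ≃* Matrix.ProjGenLinGroup (Fin 2) K)) ↔ Even m) := by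
  obtain ⟨f⟩ := H12.nonempty_ringHom_of_card_pow (F := F) (K := K) (m := m) (by simp [hK, hF])
  have hr : Odd (Fintype.card K) := (Nat.odd_pow_iff (by omega)).1 (hK ▸ hodd)
  have hr1 : 1 < Fintype.card K := Fintype.one_lt_card
  refine ⟨⟨_, ⟨(MonoidHom.ofInjective (H12.psl2_map_injective f)).symm⟩⟩, ?_, ?_⟩
  · rintro ⟨H, ⟨e⟩⟩
    by_contra hm2
    have h1 := H.card_subgroup_dvd_card
    rw [Nat.card_congr e.toEquiv, H12.card_PGL2 rfl] at h1
    have h2 := H12.card_PSL2 hF
    rw [Nat.gcd_eq_left (by obtain ⟨k, hk⟩ := hodd; omega)] at h2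
    have h3 := Nat.mul_dvd_mul_left 2 h1
    rw [h2] at h3
    have h4 : q ^ 2 - 1 = (∑ i ∈ Finset.range m, (Fintype.card K ^ 2) ^ i) * (Fintype.card K ^ 2 - 1) := by
      rw [geom_sum_mul_of_one_le (Nat.one_le_pow _ _ (by omega)), ← pow_mul, mul_comm 2, pow_mul, hK]
    rw [h4, ← mul_assoc, ← mul_assoc] at h3
    have h5 := Nat.dvd_of_mul_dvd_mul_right (by have := Nat.one_lt_pow two_ne_zero hr1; omega) h3
    have h6 : Odd (q * ∑ i ∈ Finset.range m, (Fintype.card K ^ 2) ^ i) := by
      refine hodd.mul ?_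
      rw [Finset.odd_sum_iff_odd_card_odd, Finset.filter_true_of_mem (fun i _ => hr.pow.pow),
        Finset.card_range]
      exact Nat.not_even_iff_odd.1 hm2
    exact (Nat.not_even_iff_odd.2 h6) (even_iff_two_dvd.2 (Dvd.dvd.trans (Dvd.intro _ rfl) h5))
  · rintro ⟨k, rfl⟩
    have hle : (Matrix.ProjGenLinGroup.map (n := Fin 2) f).range ≤
        Matrix.ProjectiveSpecialLinearGroup.toPGL.range := by
      rintro _ ⟨g, rfl⟩
      obtain ⟨g, rfl⟩ := Matrix.ProjGenLinGroup.mk_surjective g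
      have hd : f g.1.det ≠ 0 := (map_ne_zero f).2 g.det_ne_zero
      obtain ⟨c, hc⟩ : IsSquare (f g.1.det) := by
        rw [FiniteField.isSquare_iff (by
          rw [Ne, FiniteField.even_card_iff_char_two, hF]; exact Nat.odd_iff.1 hodd ▸ one_ne_zero) hd,
          ← map_pow]
        obtain ⟨j, hj⟩ : Fintype.card K - 1 ∣ Fintype.card F / 2 := by
          obtain ⟨a, ha⟩ := Nat.sub_dvd_pow_sub_pow (Fintype.card K) 1 k
          obtain ⟨b, hb⟩ := hr.pow (n := k)
          refine ⟨a * (b + 1), ?_⟩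
          rw [one_pow] at ha
          rw [← mul_assoc, ← ha, hF, ← hK, pow_add, hb]
          have : (2 * b + 1) * (2 * b + 1) = 1 + 2 * ((2 * b + 1 - 1) * (b + 1)) := by
            rw [Nat.add_sub_cancel]; ring
          omega
        rw [hj, pow_mul, FiniteField.pow_card_sub_one_eq_one _ g.det_ne_zero, one_pow, map_one]
      have hc0 : c ≠ 0 := by rintro rfl; simp at hc; simp [hc] at hd
      rw [Matrix.ProjGenLinGroup.map_mk]
      refine H12.mem_range_toPGL_of_det (c := c⁻¹) ?_
      change _ * (f.mapMatrix g.1).det = 1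
      rw [← RingHom.map_det, hc, Fintype.card_fin]
      field_simp
    refine ⟨(Matrix.ProjGenLinGroup.map (n := Fin 2) f).range.comap
      Matrix.ProjectiveSpecialLinearGroup.toPGL, ⟨?_⟩⟩
    exact ((Subgroup.equivMapOfInjective _ _ Matrix.ProjectiveSpecialLinearGroup.toPGL_injective).trans
      (MulEquiv.subgroupCongr (Subgroup.map_comap_eq_self hle))).trans
      (MonoidHom.ofInjective (H12.pgl2_map_injective f)).symm

end Cfsg.Agent.S0805
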