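import Cfsg.Statements.S0255
import Cfsg.Agent.S0495
import Cfsg.Agent.H12.Lin

set_option autoImplicit false
open Cfsg

namespace Cfsg.Agent.S0255

/-- PSL_2(7) is isomorphic to PSL_3(2). -/
theorem result {F K : Type*} [Field F] [Fintype F] [Field K] [Fintype K] (hF : Fintype.card F = 7) (hK : Fintype.card K = 2) : Nonempty (Matrix.ProjectiveSpecialLinearGroup (Fin 2) F ≃* Matrix.ProjectiveSpecialLinearGroup (Fin 3) K) := by
  have := H12.PSL_fin_simple (F := K) 3 (by omega) (by omega)
  have h := H12.card_PSL_fin hK 3 (by omega)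
  simp [Fin.prod_univ_three] at h
  have : Finite (Matrix.ProjectiveSpecialLinearGroup (Fin 3) K) := Nat.finite_of_card_ne_zero (by omega)
  exact (S0495.result h hF).map MulEquiv.symm

end Cfsg.Agent.S0255
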