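import Cfsg.Statements.S2202
import Cfsg.Agent.H25.AbInv

set_option autoImplicit false
open Cfsg

namespace Cfsg.Agent.S2202

open Cfsg.Agent.H25 Cfsg.Agent.H21 Cfsg.Agent.H20

/-- Finite groups in which the centralizer of every involution is abelian. Let G be a finite group of even order in which the centralizer of every element of order 2 is abelian. Then the Sylow 2-subgroups of G are cyclic, or a Sylow 2-subgroup of G is normal, or G is isomorphic to the direct product of SL₂(F) for a finite field F of characteristic two and an abelian group of odd order. -/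
theorem result {G : Type*} [Group G] [Finite G] (heven : Even (Nat.card G)) (h : ∀ t : G, orderOf t = 2 → IsMulCommutative ↥(Subgroup.centralizer ({t} : Set G))) :
    (∀ P : Sylow 2 G, IsCyclic ↥P) ∨ (∀ P : Sylow 2 G, (P : Subgroup G).Normal) ∨
    (∃ (F : Type) (_ : Field F) (_ : Fintype F) (A : Type) (_ : CommGroup A) (_ : Finite A), CharP F 2 ∧ Odd (Nat.card A) ∧ Nonempty (G ≃* Matrix.SpecialLinearGroup (Fin 2) F × A)) := by
  obtain ⟨T⟩ : Nonempty (Sylow 2 G) := inferInstance
  by_cases h1 : IsCyclic T
  · left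
    intro P
    obtain ⟨g, -, e⟩ := (sylowOf_top T).exists_cj_eq (sylowOf_top P)
    have : IsCyclic (P : Subgroup G) := by rw [← e, isCyclic_cj]; exact h1
    exact this
  by_cases h2 : Subgroup.normalizer ((T : Subgroup G) : Set G) = ⊤
  · right; left
    intro P
    obtain ⟨g, -, e⟩ := (sylowOf_top T).exists_cj_eq (sylowOf_top P)
    rw [← e, cj_eq_of_mem_norm (h2 ▸ Subgroup.mem_top g)]
    exact Subgroup.normalizer_eq_top_iff.mp h2
  right; right
  have hA : AI G := AI.of_sylow h (sylowOf_top T) h1 h2
  obtain ⟨F, _, _, hF, ⟨e⟩⟩ := hA.psl (sylowOf_top T)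
  obtain ⟨n, hn, hTn⟩ := hA.four_le (sylowOf_top T)
  haveI : CharP F 2 := charP_of_card_eq_prime_pow (hF.trans hTn)
  have h4 : 4 ≤ Fintype.card F := by
    rw [hF, hTn]; exact Nat.pow_le_pow_right (n := 2) (by norm_num) hn
  obtain ⟨e'⟩ := split_of_odd_center h4 (fun z hz => hA.toTII.odd_of_mem_center hz) e
  letI : CommGroup (Subgroup.center G) :=
    { (inferInstance : Group (Subgroup.center G)) with
      mul_comm := fun a b => Subtype.ext (Subgroup.mem_center_iff.mp b.2 a) }
  let e2 : Shrink.{0} (Subgroup.center G) ≃* Subgroup.center G := Shrink.mulEquiv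
  refine ⟨F, inferInstance, inferInstance, Shrink.{0} (Subgroup.center G), inferInstance,
    Finite.of_equiv _ e2.symm.toEquiv, inferInstance, ?_,
    ⟨e'.trans (MulEquiv.prodCongr (MulEquiv.refl _) e2.symm)⟩⟩
  rw [Nat.card_congr e2.toEquiv, ← Nat.not_even_iff_odd, even_iff_two_dvd]
  intro hd
  obtain ⟨z, hz, hzo⟩ := exists_prime_order_mem Nat.prime_two hd
  exact hA.toTII.odd_of_mem_center hz (by rw [hzo])

end Cfsg.Agent.S2202
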