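import Cfsg.Statements.S3261
import Cfsg.Agent.H4.BSW4
import Cfsg.Agent.S0254

set_option autoImplicit false
open Cfsg

namespace Cfsg.Agent.S3261

open Cfsg.Agent.H4

open Equiv in
theorem cent_A6 (α : alternatingGroup (Fin 6)) (h1 : orderOf α = 2)
    (h2 : (α : Perm (Fin 6)).support.card = 4) :
    Nonempty (Subgroup.centralizer ({α} : Set (alternatingGroup (Fin 6))) ≃* DihedralGroup 4) := by
  let a : alternatingGroup (Fin 6) := ⟨swap 0 2 * swap 2 1 * swap 1 3 * swap 4 5, Perm.mem_alternatingGroup.2 (by decide)⟩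
  let s : alternatingGroup (Fin 6) := ⟨swap 0 1 * swap 4 5, Perm.mem_alternatingGroup.2 (by decide)⟩
  have h3 : ∀ β : Perm (Fin 6), orderOf β = 2 → β.support.card = 4 → β.cycleType = {2, 2} :=
    fun β h3 h4 => by
    obtain ⟨n, hn⟩ := Perm.cycleType_prime_order (h3 ▸ Nat.prime_two)
    rw [← Perm.sum_cycleType, hn, h3, Multiset.sum_replicate, smul_eq_mul] at h4
    rw [hn, h3, show n = 1 by omega]; rfl
  obtain ⟨c, hc⟩ := isConj_iff.1 (alternatingGroup.isConj_of (σ := α) (τ := a ^ 2)
    (Perm.isConj_iff_cycleType_eq.2 ((h3 _ (by rwa [Subgroup.orderOf_coe]) h2).trans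
      (h3 _ (orderOf_eq_prime (by decide) (by decide)) (by decide)).symm)) (by simp [h2]))
  have h4 : orderOf a = 4 := orderOf_eq_prime_pow (p := 2) (n := 1) (by decide) (by decide)
  obtain ⟨e⟩ := H11.nonempty_closure_equiv_dihedral (a := a) (s := s) (by norm_num) h4 (by decide)
    (by decide) (by rw [mem_zpowers_iff_mem_range_orderOf, h4]; decide)
  have h5 : ∀ g : Perm (Fin 6), Perm.sign g = 1 → g * (a ^ 2 :) = (a ^ 2 :) * g →
      ∃ k : Fin 4, g = (a ^ k.val :) ∨ g = (s * a ^ k.val :) := by decide +kernel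
  have h6 : Subgroup.centralizer {a ^ 2} = Subgroup.closure {a, s} := le_antisymm (fun g hg => by
    obtain ⟨k, hk⟩ := h5 g g.2 (congrArg Subtype.val (H11.mem_cent1.1 hg))
    have h6 : a ∈ Subgroup.closure {a, s} := Subgroup.subset_closure (by simp)
    rcases hk with hk | hk <;> rw [Subtype.ext hk]
    exacts [pow_mem h6 _, mul_mem (Subgroup.subset_closure (by simp)) (pow_mem h6 _)])
    ((Subgroup.closure_le _).2 (by
      rintro _ (rfl | rfl) <;> exact H11.mem_cent1.2 (by decide)))
  exact ⟨((MulAut.conj c).subgroupMap _).trans ((MulEquiv.subgroupCongr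
    ((H11.cj_cent1 c α).trans (hc ▸ h6))).trans e)⟩



/-- Let α̃ be an involution of the alternating group A₆ that is a product of two disjoint transpositions (it lies in the centre of a Sylow 2-subgroup of A₆; its centralizer is dihedral of order 8). Let G be a finite group that has no subgroup of index 2 and contains an involution α, central in some Sylow 2-subgroup of G, with C_G(α) ≅ C_{A₆}(α̃). Then G is isomorphic to A₆ or to PSL₂(7). -/
theorem result {G : Type*} [Group G] [Finite G]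
    (hG : ∀ H : Subgroup G, H.index ≠ 2)
    (αt : ↥(alternatingGroup (Fin 6))) (hαt : orderOf αt = 2) (hsupp : (αt : Equiv.Perm (Fin 6)).support.card = 4)
    (α : G) (hα : orderOf α = 2) (S : Sylow 2 G) (hαS : α ∈ (S : Subgroup G)) (hαc : ∀ s ∈ (S : Subgroup G), s * α = α * s)
    (e : ↥(Subgroup.centralizer ({α} : Set G)) ≃* ↥(Subgroup.centralizer ({αt} : Set ↥(alternatingGroup (Fin 6))))) :
    Nonempty (G ≃* ↥(alternatingGroup (Fin 6))) ∨
      (∃ (F : Type) (_ : Field F) (_ : Fintype F), Fintype.card F = 7 ∧ Nonempty (G ≃* Matrix.ProjectiveSpecialLinearGroup (Fin 2) F)) := by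
  obtain ⟨f⟩ := cent_A6 αt hαt hsupp
  have h1 := card_of_dih (e.trans f)
  have h3 : (S : Subgroup G) = Subgroup.centralizer {α} := (S.is_maximal'
    (IsPGroup.of_card (n := 3) h1) fun s hs => H11.mem_cent1.2 (hαc s hs)).symm
  obtain ⟨K, s, h, hK⟩ := exists_bw_of_cent hG S (by norm_num)
    ((MulEquiv.subgroupCongr h3).trans (e.trans f)) hα h3
  rcases h.classify with ⟨-, h4⟩ | ⟨-, F, _, _, h4, -, -, ⟨φ⟩⟩
  · omega
  · rcases h4 with h4 | h4
    · obtain ⟨ψ⟩ := S0254.result (F := F) (by omega)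
      exact Or.inl ⟨φ.trans ψ⟩
    · exact Or.inr ⟨F, inferInstance, inferInstance, by omega, ⟨φ⟩⟩

end Cfsg.Agent.S3261
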