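import Cfsg.Statements.S2475
import Cfsg.Agent.H27.PSL2a

set_option autoImplicit false
open Cfsg

namespace Cfsg.Agent.S2475

open Cfsg.Agent.H27 Cfsg.Agent.H12
open scoped MatrixGroups


/-- The set of element orders of PSL(2,q): let F be a finite field of characteristic p with q ≥ 4 elements and d = gcd(2, q − 1). The orders of elements of PSL(2,F) are exactly the divisors of p, of (q − 1)/d and of (q + 1)/d. -/
theorem result {F : Type*} [Field F] [Fintype F] (p : ℕ) [Fact p.Prime] [CharP F p] (h4 : 4 ≤ Fintype.card F) :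
    Set.range (orderOf : Matrix.ProjectiveSpecialLinearGroup (Fin 2) F → ℕ) =
      {m : ℕ | m ∣ p ∨ m ∣ (Fintype.card F - 1) / Nat.gcd 2 (Fintype.card F - 1) ∨ m ∣ (Fintype.card F + 1) / Nat.gcd 2 (Fintype.card F - 1)} := by
  have hp : p.Prime := Fact.out
  have k : ∀ (g : PSL(2, F)) (m : ℕ), m ∣ orderOf g → m ∈ Set.range (orderOf : PSL(2, F) → ℕ) :=
    fun g m h => ⟨_, orderOf_pow_orderOf_div (orderOf_pos g).ne' h⟩
  have k2 : ∀ N, N = Fintype.card F - 1 ∨ N = Fintype.card F + 1 → ∀ m,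
      m ∣ N / Nat.gcd 2 (Fintype.card F - 1) → m ∈ Set.range (orderOf : PSL(2, F) → ℕ) :=
    fun N hN m h => by
      obtain ⟨t, ht, hr⟩ := exists_orderOf_eq (F := F) (k := N) (hN.imp (·.dvd) (·.dvd)) (by omega)
      refine k t m ?_
      rwa [psl_orderOf_mk hr, ht, gcd_two_eq (by omega) hN]
  ext m
  constructor
  · rintro ⟨g, rfl⟩
    by_cases h : p ∣ orderOf g
    · obtain ⟨g, rfl⟩ := QuotientGroup.mk_surjective g
      have h' : p ∣ orderOf g := h.trans (orderOf_map_dvd (QuotientGroup.mk' _) g)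
      have hq := char_dvd_natCard (F := F) p
      have n1 : ¬ p ∣ 1 := hp.one_lt.ne' ∘ Nat.dvd_one.1
      left
      rcases type_cases (g : M2 F) with h1 | h1 | h1 | h1
      · rw [psl2_mk_eq_one_iff.2 (scal_sl_iff.1 h1), orderOf_one]; exact one_dvd _
      · obtain ⟨a, y, ha, -, hc⟩ := exists_sl_isConj_un h1
        have hc' : IsConj (triS a y : PSL(2, F)) g := (QuotientGroup.mk' _).map_isConj hc
        rw [orderOf_dvd_iff_pow_eq_one, ← IsConj.pow_eq_one' hc',
          ← QuotientGroup.mk_pow, psl2_mk_eq_one_iff, ← scal_sl_iff]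
        change Scal (ι2 (triS a y ^ p) : M2 F)
        rw [map_pow, ι2_triS_of_sq ha, un_pow]
        simp [un_zero, sc_one, Scal]
      · have := h'.trans (orderOf_dvd_of_pow_eq_one (sl_pow_eq_one_of_spl h1))
        refine (n1 ((Nat.dvd_add_right this).1 ?_)).elim
        rwa [Nat.sub_add_cancel Nat.card_pos]
      · exact (n1 ((Nat.dvd_add_right hq).1
          (h'.trans (orderOf_dvd_of_pow_eq_one (sl_pow_eq_one_of_ell h1))))).elim
    · exact Or.inr (psl2_orderOf_dvd p h).symm
  · rintro (h | h | h)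
    · refine k (upper 1 : SL(2, F)) m ?_
      rwa [orderOf_eq_prime (p := p)]
      · rw [← QuotientGroup.mk_pow, upper_pow]; simp
      · intro e
        have := (scal_sl_iff.2 (psl2_mk_eq_one_iff.1 e)).1
        simp at this
    · exact k2 _ (Or.inl rfl) m h
    · exact k2 _ (Or.inr rfl) m h

end Cfsg.Agent.S2475
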