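import Cfsg.Statements.S4429
import Mathlib
import Cfsg.Agent.H19.E3
import Cfsg.Agent.H8.Ord1

set_option autoImplicit false
open Cfsg

namespace Cfsg.Agent.S4429

open scoped ComplexConjugate commutatorElement Pointwise
-- OPENS H19
open Cfsg.Agent.H8
open Cfsg.Agent.H6 hiding blockCoeff_eq_zero blockDefect_eq blockHeight_eq blockPart_add
  blockPart_eq_zero_of_regular blockPart_eq_zero_of_singular blockPart_irr_of_mem
  blockPart_irr_of_not_mem blockPart_isClassFunction blockPart_smul blockPart_sub blockPart_sum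
  blockPart_zero block_eq_blockOf block_eq_of_mem block_nonempty centralChar_mem char_mem
  conj_char_mem deg_factorization_le exists_height_zero irrOne_mem_principal isPBlock_blockOf
  isPBlock_principal mem_blockOf_self orderOf_conj' sameBlock_refl sameBlock_symm
  sameBlock_trans weak_orth weak_orth'
open Cfsg.Agent.H4 hiding exists_int_of_isIntegral_rat
open Cfsg.Agent.H5
open Cfsg.Agent.H3
open Cfsg.Agent.H19 hiding card_sylow_eq center_eq_bot_of_simple charDegree_irrOne
  lt_inf_normalizer_of_lt

open Classical in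
noncomputable def cnt (G : Type*) [Group G] [Fintype G] (n : ℕ) : ℕ :=
  (Finset.univ.filter fun χ : IrrCharacter G => charDegree (χ : G → ℂ) = n).card

open Classical in
theorem cnt_eq {G : Type*} [Group G] [Fintype G] {p : ℕ} [hp : Fact p.Prime] {x : G}
    {K : Subgroup G} {h : PO p x K} (B : BD h) (hK : Nat.card K = 1) {L : List ℤ}
    (h2 : B.ε * B.z = 1 + L.sum) (h3 : (L : Multiset ℤ) = (B.X.erase (irrOne G)).val.map
      fun χ => B.a χ * charDegree (χ : G → ℂ)) {n : ℕ} (hn : ¬ p ∣ n) :
    cnt G n = (if 1 = n then 1 else 0) + (L.map Int.natAbs).count n +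
      if (1 + L.sum).natAbs = n then (p - 1) / eN h.ord else 0 := by
  obtain rfl := Subgroup.eq_bot_of_card_eq _ hK
  haveI := Fintype.ofFinite ((ZMod p)ˣ ⧸ EE h.ord)
  have hd : Disjoint B.X (Finset.univ.image B.μ) := Finset.disjoint_right.mpr fun _ e => by
    obtain ⟨q, -, rfl⟩ := Finset.mem_image.mp e; exact B.notX q
  have ht : (p - 1) / eN h.ord = tN h.ord := by
    rw [← eN_mul h.ord, Nat.mul_div_cancel_left _ (eN_pos h.ord)]
  have hz : (1 + L.sum).natAbs = B.z := by
    rw [← h2]; rcases B.hε with e | e <;> simp [e]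
  have e1 : cnt G n = ((B.X ∪ Finset.univ.image B.μ).filter
      fun χ : IrrCharacter G => charDegree (χ : G → ℂ) = n).card := by
    unfold cnt
    congr 1
    ext χ
    simp only [Finset.mem_filter, Finset.mem_univ, true_and, Finset.mem_union, Finset.mem_image]
    refine ⟨fun e => ⟨?_, e⟩, fun e => e.2⟩
    by_contra hc
    push Not at hc
    exact hn (e ▸ ⟨_, (B.fd_other hc.1 hc.2).symm⟩)
  have e2 : (L.map Int.natAbs).count n = ((B.X.erase (irrOne G)).filter
      fun χ : IrrCharacter G => charDegree (χ : G → ℂ) = n).card := by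
    rw [← Multiset.coe_count, ← Multiset.map_coe, h3, Multiset.map_map, Multiset.count_map,
      Finset.card_def, Finset.filter_val]
    congr 1
    refine Multiset.filter_congr fun χ hχ => ?_
    have := B.ha χ (Finset.mem_of_mem_erase hχ)
    rcases this with e | e <;> simp [e, eq_comm]
  rw [e1, Finset.filter_union, Finset.card_union_of_disjoint (Finset.disjoint_filter_filter hd), e2,
    hz, ht]
  congr 1
  · rw [← Finset.insert_erase B.one_mem, Finset.filter_insert, charDegree_irrOne,
      Finset.erase_insert (Finset.notMem_erase _ _)]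
    split_ifs
    · rw [Finset.card_insert_of_notMem (by simp), add_comm]
    · simp
  · rw [Finset.filter_image, Finset.card_image_of_injective _ B.inj]
    simp only [B.deg_μ]
    split_ifs with e
    · simp [e, tN]
    · simp [e]

theorem sum_cnt {G : Type*} [Group G] [Fintype G] (N : ℕ) (hN : Nat.card G < N ^ 2) (f : ℕ → ℕ) :
    ∑ χ : IrrCharacter G, f (charDegree (χ : G → ℂ)) = ∑ n ∈ Finset.range N, cnt G n * f n := by
  classical
  rw [← Finset.sum_fiberwise_of_maps_to (s := Finset.univ) (t := Finset.range N)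
    (g := fun χ : IrrCharacter G => charDegree (χ : G → ℂ)) fun χ _ => Finset.mem_range.2
      (lt_of_pow_lt_pow_left₀ 2 (Nat.zero_le _) ((degree_sq_le_card χ).trans_lt hN))]
  refine Finset.sum_congr rfl fun n _ => ?_
  rw [Finset.sum_congr rfl fun χ hχ => congrArg f (Finset.mem_filter.1 hχ).2, Finset.sum_const,
    smul_eq_mul, cnt]

theorem cnt_eq_zero {G : Type*} [Group G] [Fintype G] {n : ℕ}
    (h : ∀ χ : IrrCharacter G, charDegree (χ : G → ℂ) ≠ n) : cnt G n = 0 := by
  classical
  unfold cnt
  simp [h]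

theorem exists_of_cnt {G : Type*} [Group G] [Fintype G] {n : ℕ} (h : cnt G n ≠ 0) :
    ∃ χ : IrrCharacter G, charDegree (χ : G → ℂ) = n := by
  by_contra hc
  push Not at hc
  exact h (cnt_eq_zero hc)

set_option maxHeartbeats 1600000 in

/-- Let G be a simple group of order 7920. Then G has exactly ten irreducible complex characters, and their degrees, listed with multiplicity, are 1, 10, 10, 10, 11, 16, 16, 44, 45, 55: for every natural number n, the number of irreducible characters of degree n is 1 if n ∈ {1, 11, 44, 45, 55}, 3 if n = 10, 2 if n = 16, and 0 otherwise. -/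
theorem result {G : Type*} [Group G] [Finite G] [IsSimpleGroup G] (hG : Nat.card G = 7920) : Nat.card (Cfsg.IrrCharacter G) = 10 ∧ ∀ n : ℕ, Nat.card {χ : Cfsg.IrrCharacter G // Cfsg.charDegree (χ : G → ℂ) = n} = (if n = 1 ∨ n = 11 ∨ n = 44 ∨ n = 45 ∨ n = 55 then 1 else if n = 10 then 3 else if n = 16 then 2 else 0) := by
  classical
  have hc : ¬ IsMulCommutative G := not_comm_of_card_not_prime (by rw [hG]; norm_num)
  haveI := Fintype.ofFinite G
  haveI : Fact (Nat.Prime 11) := ⟨by norm_num⟩
  haveI : Fact (Nat.Prime 5) := ⟨by norm_num⟩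
  obtain ⟨x, K, h, B, L, h1, h2, h3⟩ := d1_mem (p := 11) hc (by rw [hG]; norm_num)
    (by rw [hG]; norm_num)
  obtain ⟨x', K', h', B', L', h1', h2', h3'⟩ := d1_mem (p := 5) hc (by rw [hG]; norm_num)
    (by rw [hG]; norm_num)
  rw [hG, show d1list 7920 11 = [(1, 5, 144, [-10, -10, 12, 12]), (1, 5, 144, [-10, -10, -10, 45])]
    by decide +kernel] at h1
  have h4 : (Nat.card K' ≠ 1 ∧ L' = [11]) ∨ (Nat.card K' = 1 ∧ eN h'.ord = 4 ∧
      ((L'.map Int.natAbs).count 12 = 0 ∧ (1 + L'.sum).natAbs ≠ 12) ∧
      ((L'.map Int.natAbs).count 9 + (if (1 + L'.sum).natAbs = 9 then 1 else 0) ≠ 0 ∨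
      (L'.map Int.natAbs).count 16 + (if (1 + L'.sum).natAbs = 16 then 1 else 0) ≠ 2 ∨
      L' = [16, 16, -44] ∨ L' = [11, 16, -44] ∨ L' = [11, 16, 16])) := by
    have : ∀ t ∈ d1list 7920 5, (t.1 ≠ 1 ∧ t.2.2.2 = [11]) ∨ (t.1 = 1 ∧ t.2.1 = 4 ∧
      ((t.2.2.2.map Int.natAbs).count 12 = 0 ∧ (1 + t.2.2.2.sum).natAbs ≠ 12) ∧
      ((t.2.2.2.map Int.natAbs).count 9 + (if (1 + t.2.2.2.sum).natAbs = 9 then 1 else 0) ≠ 0 ∨
      (t.2.2.2.map Int.natAbs).count 16 + (if (1 + t.2.2.2.sum).natAbs = 16 then 1 else 0) ≠ 2 ∨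
      t.2.2.2 = [16, 16, -44] ∨ t.2.2.2 = [11, 16, -44] ∨ t.2.2.2 = [11, 16, 16])) := by
      decide +kernel
    exact this _ (hG ▸ h1')
  simp only [List.mem_cons, Prod.mk.injEq, List.not_mem_nil, or_false] at h1
  have hK : Nat.card K = 1 := by rcases h1 with h1 | h1 <;> exact h1.1
  have he : eN h.ord = 5 := by rcases h1 with h1 | h1 <;> exact h1.2.1
  have c11 := fun n hn => cnt_eq B hK h2 h3 (n := n) hn
  rw [he] at c11
  have hL : L = [-10, -10, -10, 45] := by
    rcases h1 with h1 | h1
    · exfalso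
      obtain ⟨-, -, -, rfl⟩ := h1
      rcases h4 with ⟨h4, -⟩ | ⟨h4, h5, ⟨h6, h7⟩, -⟩
      · obtain ⟨θ, hθ⟩ := exists_of_cnt (G := G) (n := 5) (by rw [c11 5 (by norm_num)]; decide)
        have hv : ∀ g, 5 ∣ orderOf g → (θ : G → ℂ) g = 0 := fun g hg =>
          apply_eq_zero_of_defect_zero (by norm_num) θ.2 (by
            rw [hθ, hG, show 7920 = 5 ^ 1 * 1584 by norm_num, Nat.factorization_mul (by norm_num)
              (by norm_num)]
            simp [Nat.factorization_eq_zero_of_not_dvd (show ¬ 5 ∣ 1584 by norm_num),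
              Nat.Prime.factorization_self (show Nat.Prime 5 by norm_num)]) hg
        have := eq_bot_of_small h' (commutator_eq_top_of_simple hc) (χ := θ)
          (fun e => by rw [e, charDegree_irrOne] at hθ; omega) (by omega) fun y hy i hi => by
            rw [hv _ (h'.dvd_orderOf hi hy), hv _ (by rw [orderOf_xp h'.ord hi])]
        exact h4 (by rw [this, Subgroup.card_bot])
      · have := cnt_eq B' h4 h2' h3' (n := 12) (by norm_num)
        rw [c11 12 (by norm_num), h6, if_neg h7] at this
        revert this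
        decide
    · exact h1.2.2.2
  subst hL
  have hc5 : ∀ n, ¬ 5 ∣ n → cnt G n = ([1, 11, 16, 16, 44] : List ℕ).count n := by
    rcases h4 with ⟨-, rfl⟩ | ⟨h4, h5, -, h6⟩
    · exfalso
      have : B'.z = 12 := by rcases B'.hε with e | e <;> rw [e] at h2' <;> simp at h2' <;> omega
      have h7 := c11 12 (by norm_num)
      unfold cnt at h7
      have h8 : B'.μ 1 ∈ Finset.univ.filter
        fun χ : IrrCharacter G => charDegree (χ : G → ℂ) = 12 := by simp [B'.deg_μ, this]
      have := Finset.card_pos.2 ⟨_, h8⟩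
      rw [h7] at this
      revert this
      decide
    · have c5 := fun n hn => cnt_eq B' h4 h2' h3' (n := n) hn
      rw [h5] at c5
      have e9 := c5 9 (by norm_num)
      have e16 := c5 16 (by norm_num)
      rw [c11 9 (by norm_num)] at e9
      rw [c11 16 (by norm_num)] at e16
      rcases h6 with h6 | h6 | rfl | rfl | rfl
      · exact (h6 (by simpa using e9.symm)).elim
      · exact (h6 (by simpa using e16.symm)).elim
      all_goals
        intro n hn
        rw [c5 n hn]
        simp only [List.count_cons, List.count_nil, List.map_cons, List.map_nil, List.sum_cons,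
          List.sum_nil, beq_iff_eq]
        norm_num
        split_ifs <;> omega
  have hc11 : ∀ n, ¬ 11 ∣ n → cnt G n = ([1, 10, 10, 10, 45, 16, 16] : List ℕ).count n := by
    intro n hn
    rw [c11 n hn]
    simp only [List.count_cons, List.count_nil, List.map_cons, List.map_nil, List.sum_cons,
      List.sum_nil, beq_iff_eq]
    norm_num
    split_ifs <;> omega
  have h0 : cnt G 0 = 0 := cnt_eq_zero fun χ => χ.2.charDegree_pos.ne'
  have hn : ∀ n, n ≠ 55 → cnt G n = ([1, 10, 10, 10, 11, 16, 16, 44, 45] : List ℕ).count n := by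
    intro n hn
    by_cases h5 : 5 ∣ n
    · by_cases h11 : 11 ∣ n
      · have : n = 0 ∨ 110 ≤ n := by omega
        rcases this with rfl | h6
        · rw [h0]; rfl
        · rw [cnt_eq_zero fun χ e => by have := degree_sq_le_card χ; rw [e, hG] at this; nlinarith]
          simp only [List.count_cons, List.count_nil, beq_iff_eq]
          split_ifs <;> omega
      · rw [hc11 n h11]
        simp only [List.count_cons, List.count_nil, beq_iff_eq]
        split_ifs <;> omega
    · rw [hc5 n h5]
      simp only [List.count_cons, List.count_nil, beq_iff_eq]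
      split_ifs <;> omega
  have hs : ∀ f : ℕ → ℕ, ∑ χ : IrrCharacter G, f (charDegree (χ : G → ℂ)) = cnt G 55 * f 55 +
      ∑ n ∈ (Finset.range 89).erase 55,
        ([1, 10, 10, 10, 11, 16, 16, 44, 45] : List ℕ).count n * f n := fun f => by
    rw [sum_cnt 89 (by rw [hG]; norm_num),
      ← Finset.add_sum_erase _ _ (show 55 ∈ Finset.range 89 from Finset.mem_range.2 (by norm_num)),
      Finset.sum_congr rfl fun n hn' => congrArg (· * f n) (hn n (Finset.ne_of_mem_erase hn'))]
  have h55 : cnt G 55 = 1 := by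
    have := hs (· ^ 2)
    rw [sum_charDegree_sq, hG, show ∑ n ∈ (Finset.range 89).erase 55,
      ([1, 10, 10, 10, 11, 16, 16, 44, 45] : List ℕ).count n * n ^ 2 = 4895 by decide +kernel] at this
    omega
  refine ⟨?_, fun n => ?_⟩
  · have := hs fun _ => 1
    rw [h55, show ∑ n ∈ (Finset.range 89).erase 55,
      ([1, 10, 10, 10, 11, 16, 16, 44, 45] : List ℕ).count n * 1 = 9 by decide +kernel] at this
    simpa using this
  · have : Nat.card {χ : IrrCharacter G // charDegree (χ : G → ℂ) = n} = cnt G n := by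
      rw [Nat.card_eq_fintype_card, Fintype.card_subtype, cnt]
    rw [this]
    by_cases h5 : n = 55
    · rw [h5, h55]; rfl
    · rw [hn n h5]
      simp only [List.count_cons, List.count_nil, beq_iff_eq]
      split_ifs <;> omega

end Cfsg.Agent.S4429
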