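import Cfsg.Statements.S0928
import Mathlib
import Cfsg.Agent.H8.Subsec3

set_option autoImplicit false
open Cfsg

namespace Cfsg.Agent.S0928

-- OPENS
open Cfsg.Agent.H8
open Cfsg.Agent.H6 hiding blockCoeff_eq_zero blockCoeff_mem blockDefect_eq blockHeight_eq
  blockPart_add blockPart_eq_zero_of_regular blockPart_eq_zero_of_singular blockPart_irr_of_mem
  blockPart_irr_of_not_mem blockPart_isClassFunction blockPart_smul blockPart_sub blockPart_sum
  blockPart_zero block_eq_blockOf block_eq_of_mem block_nonempty card_defectGroup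
  centralChar_mem char_mem conj_char_mem deg_factorization_le exists_height_zero
  irrOne_mem_principal isPBlock_blockOf isPBlock_principal isPGroup_zpowers mem_blockOf_self
  orderOf_conj' sameBlock_refl sameBlock_symm sameBlock_trans weak_orth weak_orth'
open Cfsg.Agent.H4 hiding exists_int_of_isIntegral_rat
open Cfsg.Agent.H5
open Cfsg.Agent.H3


/-- Let χ be an irreducible character of the finite group G and p a prime. If χ g = 0 for every element g of order p, then the exponent of p in the degree χ(1) equals the exponent of p in the order of G (χ has p-defect zero). -/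
theorem result {G : Type*} [Group G] [Finite G] (p : ℕ) [Fact p.Prime] (χ : Cfsg.IrrCharacter G) (hvan : ∀ g : G, orderOf g = p → (χ : G → ℂ) g = 0) : (Cfsg.charDegree (χ : G → ℂ)).factorization p = (Nat.card G).factorization p := by
  classical
  have hp : p.Prime := Fact.out
  obtain ⟨M, hM⟩ := exists_isPModular hp
  have := hM.2.1
  have := Fintype.ofFinite G
  have hB := isPBlock_blockOf (M := M) χ
  have hχ := mem_blockOf_self (M := M) χ
  set B := blockOf M (χ : G → ℂ)
  obtain ⟨D, hD⟩ := exists_isDefectGroup p hB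
  have hcard := card_defectGroup hM hB hD
  suffices hd : blockDefect p B = 0 by
    have h1 := defect_add_bmin (p := p) ⟨χ, hχ⟩
    have h2 := bmin_le (p := p) hχ
    have h3 := deg_factorization_le (p := p) χ
    omega
  by_contra hd
  obtain ⟨z, hz⟩ := exists_prime_orderOf_dvd_card' (G := D) p (by
    rw [hcard]; exact dvd_pow_self _ hd)
  have hz' : orderOf (z : G) = p := by rw [Subgroup.orderOf_coe, hz]
  have h := secData_centralizer (p := p) (x := (z : G)) ⟨1, by rw [hz', pow_one]⟩
  obtain ⟨b, hb⟩ := h.exists_induced hM hB hD z.2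
  generalize Subgroup.centralizer ({(z : G)} : Set G) = C at h b hb
  have := Fintype.ofFinite C
  have hez : orderOf h.elt = p := by rw [← Subgroup.orderOf_coe, SecData.coe_elt, hz']
  obtain ⟨ξ, hξ, hne⟩ : ∃ ξ ∈ b, (ξ : C → ℂ) h.elt ≠ (ξ : C → ℂ) 1 := by
    by_contra hcon
    push Not at hcon
    have h1 := sum_degree_mul_eq_zero hM hb.1 (y := h.elt) (by rw [hez])
    rw [Finset.sum_congr rfl fun ξ hξ => by
      rw [hcon ξ (mem_bfin.mp hξ), ← irr_coe_charDegree, ← Nat.cast_mul], ← Nat.cast_sum,
      Nat.cast_eq_zero, Finset.sum_eq_zero_iff] at h1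
    obtain ⟨ξ, hξ⟩ := block_nonempty hb.1
    exact mul_ne_zero (irr_charDegree_ne_zero ξ) (irr_charDegree_ne_zero ξ) (h1 ξ (mem_bfin.mpr hξ))
  set f : G → ℂ := fun g => if g ^ p = 1 then 1 else 0 with hf
  have hfc : IsClassFunction G f := by
    intro g t
    simp only [hf, conj_pow, mul_inv_eq_one, mul_eq_left]
  have hfR : ∀ g, f g ∈ locRing M := by
    intro g; simp only [hf]; split_ifs
    · exact one_mem _
    · exact zero_mem _
  have h1 := redC_res_sum_div hb hξ hχ hfc hfR
  have h2 : ∑ g, f g * (χ : G → ℂ) g = (χ : G → ℂ) 1 := by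
    rw [Finset.sum_eq_single 1]
    · simp [hf]
    · intro g _ hg
      simp only [hf]
      split_ifs with hgp
      · rw [hvan g (orderOf_eq_prime hgp hg), mul_zero]
      · rw [zero_mul]
    · simp
  have h3 : ∑ c : C, f c * (ξ : C → ℂ) c = 0 := by
    have e : ∑ c : C, f c * (ξ : C → ℂ) c =
        (ξ : C → ℂ) h.elt / (ξ : C → ℂ) 1 * ∑ c : C, f c * (ξ : C → ℂ) c := by
      conv_lhs => rw [← Equiv.sum_comp (Equiv.mulLeft h.elt)]
      rw [Finset.mul_sum]
      refine Finset.sum_congr rfl fun c _ => ?_
      rw [Equiv.coe_mulLeft, irr_central_mul ξ.2 h.elt_mem_center]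
      have : f ((h.elt * c : C) : G) = f c := by
        simp only [hf, Subgroup.coe_mul, SecData.coe_elt]
        rw [(h.commute c).mul_pow, ← hz', pow_orderOf_eq_one, one_mul]
      rw [this]; ring
    by_contra h0
    apply hne
    have e2 : (ξ : C → ℂ) h.elt / (ξ : C → ℂ) 1 = 1 := by
      apply mul_right_cancel₀ h0
      rw [← e, one_mul]
    rwa [div_eq_one_iff_eq (irr_one_ne_zero ξ)] at e2
  rw [h2, h3, div_self (irr_one_ne_zero χ), zero_div, redC_zero, redC_one] at h1
  exact zero_ne_one h1

end Cfsg.Agent.S0928
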