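import Cfsg.Statements.S3341
import Cfsg.Agent.H19.T3
import Cfsg.Agent.H6.AbFrob2
import Cfsg.Agent.S0497
import Cfsg.Agent.S0496

set_option autoImplicit false
open Cfsg

namespace Cfsg.Agent.S3341

open Cfsg.Agent.H19 Cfsg.Agent.H4 Cfsg.Agent.H5 Cfsg.Agent.H6 Subgroup

theorem main {G : Type*} [Group G] [Fintype G] [IsSimpleGroup G] (P : Sylow 3 G)
    (hcomm : IsMulCommutative (P : Subgroup G)) (hexp : ∀ a ∈ (P : Subgroup G), a ^ 3 = 1)
    (hcard : Nat.card P = 9) (hP : CCS P) {v w : (P : Subgroup G)} (hv : v ≠ 1) (hw : w ≠ 1)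
    (hvw : ¬ IsConj (v : G) w) (hc : ¬ IsMulCommutative G) : Nat.card G ≤ 100 ∨
      Nat.card G ≤ 720 ∧ Nat.card ↥(normalizer ((P : Subgroup G) : Set G)) = 36 := by
  classical
  haveI := Fintype.ofFinite (P : Subgroup G)
  have hG := commutator_eq_top_of_simple hc
  have hC : centralizer ((P : Subgroup G) : Set G) = P := le_antisymm
    ((centralizer_le (Set.singleton_subset_iff.mpr v.2)).trans (hP v v.2 (by simpa using hv)).le)
    (le_centralizer_iff_isMulCommutative.mpr hcomm)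
  have h : AF P := ⟨hcomm.1.1, fun y hy h1 => by rw [hP y hy h1, hC]; exact inf_le_left⟩
  have hS : SE P (normalizer ((P : Subgroup G) : Set G)) := ⟨fun a ha b hb => congrArg Subtype.val
    (hcomm.1.1 ⟨a, ha⟩ ⟨b, hb⟩), rfl, fun t ht h1 => (hP t ht h1).le.trans le_normalizer⟩
  have ho : ∀ {y : (P : Subgroup G)}, y ≠ 1 → orderOf (y : G) = 3 := fun {y} hy =>
    orderOf_eq_prime (hexp y y.2) (by simpa using hy)
  have hpp : ∀ {y : (P : Subgroup G)}, y ≠ 1 → IsPPart 3 (y : G) (y : G) := fun hy =>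
    isPPart_self Nat.prime_three ⟨1, ho hy⟩
  have hN : Nat.card ↥(normalizer ((P : Subgroup G) : Set G)) =
      9 * Nat.card (autz (P : Subgroup G)) := by
    rw [card_autz, hC, ← hcard, relIndex, ← Nat.card_congr (subgroupOfEquivOfLe
      (le_normalizer (H := (P : Subgroup G)))).toEquiv]
    exact (card_mul_index _).symm
  have he1 : Nat.card (autz (P : Subgroup G)) ≠ 1 := fun e => not_normalizer_le_centralizer hc 3
    ((show 3 ∣ 9 by norm_num).trans (hcard ▸ card_subgroup_dvd_card _)) P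
    (relIndex_eq_one.mp ((card_autz _).symm.trans e))
  have he4 : Nat.card (autz (P : Subgroup G)) ≤ 4 := by
    have h1 : ∀ {y : (P : Subgroup G)}, y ≠ 1 → (Finset.univ.filter fun x : (P : Subgroup G) =>
        IsConj (y : G) x).card = Nat.card (autz (P : Subgroup G)) := fun hy => by
      have := h.sum_isConj hy fun _ => 1
      simp only [Finset.sum_boole, Finset.sum_const, Finset.card_univ, nsmul_eq_mul, mul_one,
        ← Nat.card_eq_fintype_card] at this
      exact_mod_cast this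
    have h2 := Finset.card_le_card (s := (Finset.univ.filter fun x : (P : Subgroup G) =>
      IsConj (v : G) x) ∪ Finset.univ.filter fun x : (P : Subgroup G) => IsConj (w : G) x)
      (t := Finset.univ.erase 1) fun x hx => Finset.mem_erase.mpr ⟨by
        rintro rfl
        simp [hv, hw] at hx, Finset.mem_univ _⟩
    rw [Finset.card_union_of_disjoint (Finset.disjoint_filter.mpr fun x _ e e' =>
      hvw (e.trans e'.symm)), h1 hv, h1 hw, Finset.card_erase_of_mem (Finset.mem_univ _),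
      Finset.card_univ, ← Nat.card_eq_fintype_card, hcard] at h2
    omega
  obtain ⟨M, hM⟩ := exists_isPModular Nat.prime_three
  haveI := hM.2.1
  obtain ⟨D⟩ := h.nonempty_data hM (by omega)
  obtain ⟨ψ₀, h0, -⟩ := h.exists_ne (by omega) 1
  have hY := D.card_Y h
  have h2Y := D.two_le_card_Y h0
  rw [hcard] at hY
  have he : Nat.card (autz (P : Subgroup G)) = 2 ∧ D.Y.card = 4 ∨
      Nat.card (autz (P : Subgroup G)) = 4 ∧ D.Y.card = 2 := by
    generalize Nat.card (autz (P : Subgroup G)) = e at *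
    interval_cases e <;> omega
  have hinv : ∀ y : (P : Subgroup G), ∃ α ∈ autz (P : Subgroup G), α y = y⁻¹ := fun y => by
    obtain ⟨α, hα⟩ := exists_prime_orderOf_dvd_card' (G := autz (P : Subgroup G)) 2 (by omega)
    rw [orderOf_eq_prime_iff] at hα
    refine ⟨α, α.2, eq_inv_of_mul_eq_one_right (by_contra fun e => hα.2 (Subtype.ext
      (h.free α.2 e ?_)))⟩
    rw [map_mul, ← MulAut.mul_apply, ← coe_mul, ← sq, hα.1, h.comm]; rfl
  have hne : ∀ α ∈ autz (P : Subgroup G), ∀ β ∈ autz (P : Subgroup G), α v * β w ≠ 1 :=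
    fun α hα β hβ e => by
      obtain ⟨γ, hγ, h1⟩ := hinv (β w)
      exact hvw (h.isConj_iff.mpr ⟨β⁻¹ * γ⁻¹ * α, mul_mem (mul_mem (inv_mem hβ) (inv_mem hγ)) hα, by
        simp [eq_inv_of_mul_eq_one_left e, ← h1]⟩)
  have ha1 := D.a_one h hM h0
  have hn := D.norm_eq h hM h0
  have hX1 : 1 ≤ ∑ χ ∈ D.X, D.a χ ^ 2 := by
    rw [← Finset.add_sum_erase _ _ D.one_mem_X, ha1]
    have := Finset.sum_nonneg fun χ (_ : χ ∈ D.X.erase (irrOne G)) => sq_nonneg (D.a χ)
    omega
  have hd : D.d = 0 := by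
    rcases he with ⟨e1, e2⟩ | ⟨e1, e2⟩ <;> rw [e1, e2] at hn <;> push_cast at hn
    · exact pow_eq_zero_iff two_ne_zero |>.mp (by
        have := sq_nonneg (D.d - D.δ); have := sq_nonneg D.d; omega)
    · obtain ⟨a, b, -, h3⟩ := Finset.card_eq_two.mp e2
      obtain ⟨ψ₁, -, rfl⟩ := D.mem_Y.mp (h3 ▸ by simp : a ∈ D.Y)
      obtain ⟨ψ₂, -, rfl⟩ := D.mem_Y.mp (h3 ▸ by simp : b ∈ D.Y)
      have h4 := D.two ⟨ψ₁, ψ₂, fun ψ hψ => by simpa [h3] using D.ζ_mem_Y hψ⟩
      have h5 : -2 < D.d ∧ D.d < 2 := by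
        rcases D.sign with e | e <;> rw [e] at hn <;> constructor <;> nlinarith
      rcases D.sign with e | e <;> rw [e] at hn h4 <;> by_contra h6
      · rw [show D.d = -1 by omega] at hn; omega
      · rw [show D.d = 1 by omega] at hn; omega
  have hs : ∑ χ ∈ D.X, D.a χ ^ 2 = Nat.card (autz (P : Subgroup G)) := by
    rcases D.sign with e | e <;> rw [hd, e] at hn <;> omega
  have hcong : ∀ χ ∈ D.X, (9 : ℤ) ∣ charDegree (χ : G → ℂ) - D.a χ := fun χ hχ => by
    obtain ⟨m, hm⟩ := (χ.2.isGen.sub (isCharacter_one.isGen.intCast_smul (D.a χ))).exists_int_of_vanishing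
      P fun g hg h1 => by
        simp [D.apply_X h hM hχ (hpp (y := ⟨g, hg⟩) (by simpa using h1)) hg h1]
    rw [hcard] at hm
    simp only [Pi.sub_apply, Pi.smul_apply, smul_eq_mul, mul_one,
      ← χ.2.isCharacter.charDegree_cast] at hm
    exact ⟨m, by exact_mod_cast hm⟩
  set z := charDegree (D.ζ ψ₀ : G → ℂ) with hz
  have hz1 : ∀ ψ, ψ ≠ 1 → (D.ζ ψ : G → ℂ) 1 = z := fun ψ hψ => by
    rw [D.eq_on_regular h hM (D.ζ_mem_Y hψ) (D.ζ_mem_Y h0) (by simp),
      (D.ζ ψ₀).2.isCharacter.charDegree_cast]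
  have hZ : (9 : ℤ) ∣ D.δ * z - Nat.card (autz (P : Subgroup G)) := by
    have h1 := D.rel h hM (D.ζ_mem_Y h0) (g := 1) (by simp)
    simp only [hd, hz1 ψ₀ h0, ← fun χ : IrrCharacter G => χ.2.isCharacter.charDegree_cast] at h1
    have h2 : D.δ * z = ∑ χ ∈ D.X, D.a χ * charDegree (χ : G → ℂ) := by
      have : ((D.δ * z : ℤ) : ℂ) = (∑ χ ∈ D.X, D.a χ * charDegree (χ : G → ℂ) : ℤ) := by
        push_cast at h1 ⊢; linear_combination -h1
      exact_mod_cast this
    rw [h2, ← hs, ← Finset.sum_sub_distrib]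
    exact Finset.dvd_sum fun χ hχ => by rw [sq, ← mul_sub]; exact (hcong χ hχ).mul_left _
  haveI := Fintype.ofFinite ((P : Subgroup G) →* ℂˣ)
  haveI := Fintype.ofFinite (normalizer ((P : Subgroup G) : Set G))
  have hcard' : (Finset.univ.erase (1 : (P : Subgroup G) →* ℂˣ)).card = 8 := by
    letI : CommGroup (P : Subgroup G) := IsMulCommutative.instCommGroup
    rw [Finset.card_erase_of_mem (Finset.mem_univ _), Finset.card_univ, ← Nat.card_eq_fintype_card,
      CommGroup.card_monoidHom_of_hasEnoughRootsOfUnity, hcard]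
  have key : ∀ ψ ∈ Finset.univ.erase (1 : (P : Subgroup G) →* ℂˣ), Nat.card G * (D.δ *
      (∑ α : autz (P : Subgroup G), ∑ β : autz (P : Subgroup G), (ψ (α.1 v * β.1 w) : ℂ)) / z -
      ∑ χ ∈ D.X, (D.a χ ^ 3 / charDegree (χ : G → ℂ) : ℂ)) =
      ∑ t : normalizer ((P : Subgroup G) : Set G), (∑ α : autz (P : Subgroup G),
        (ψ (α.1 (⟨t * v * t⁻¹, hS.conj_mem t.2 v.2⟩ * w)) : ℂ) - Nat.card (autz (P : Subgroup G))) := by
    intro ψ hψ
    have hψ := Finset.ne_of_mem_erase hψ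
    have h1 := hS.sum_eq (isGen_ucol (M := M) ψ).isClassFunction (fun g hg => by
      obtain ⟨y, hy⟩ := exists_isPPart Nat.prime_three g
      have h1 : y ≠ 1 := fun e => hg (ucol_of_regular hM ψ (IsPPart.not_dvd_of_eq_one (e ▸ hy)))
      obtain ⟨k, hk⟩ := IsPPart.pow_order hy
      obtain ⟨Q, hQ⟩ := (IsPGroup.of_card (G := zpowers y) (by rw [Nat.card_zpowers, hk])).exists_le_sylow
      have h2 : g ∈ (Q : Subgroup G) := hP.all Q y (hQ (mem_zpowers y)) h1 ▸
        mem_centralizer_singleton_iff.mpr (IsPPart.commute hy).symm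
      obtain ⟨c, rfl⟩ := MulAction.exists_smul_eq G P Q
      have h3 := hexp _ ((mem_smul_sylow P c g).mp h2)
      refine orderOf_eq_prime (conj_eq_one_iff.mp (by rw [← conj_pow, inv_inv, h3])) ?_
      rintro rfl
      exact hg (ucol_of_regular hM ψ (by simp))) (v := ⟨v, le_normalizer v.2⟩)
      (w := ⟨w, le_normalizer w.2⟩) (ho hv) (ho hw) hvw
    rw [D.expand hψ, hd, D.apply_ζ h hM hψ (hpp hv) hv, D.apply_ζ h hM hψ (hpp hw) hw, hd,
      hz1 ψ hψ] at h1
    convert h1 using 2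
    · simp only [map_mul, Units.val_mul, ← Finset.sum_mul_sum]
      have e1 : ∑ χ ∈ D.X, D.a χ * ((χ : G → ℂ) v * (χ : G → ℂ) w / (χ : G → ℂ) 1) =
          ∑ χ ∈ D.X, (D.a χ ^ 3 / charDegree (χ : G → ℂ) : ℂ) := Finset.sum_congr rfl fun χ hχ => by
        rw [D.apply_X h hM hχ (hpp hv) v.2 (by simpa using hv),
          D.apply_X h hM hχ (hpp hw) w.2 (by simpa using hw), ← χ.2.isCharacter.charDegree_cast]
        ring
      rw [e1]
      push_cast
      linear_combination (-(D.δ * ((∑ α : autz (P : Subgroup G), (ψ (α.1 v) : ℂ)) *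
        ((∑ α : autz (P : Subgroup G), (ψ (α.1 w) : ℂ)) / z)))) * D.δ_sq
    · rename_i t _
      have h2 : (⟨t * v * t⁻¹, hS.conj_mem t.2 v.2⟩ * w : (P : Subgroup G)) ≠ 1 := by
        obtain ⟨α, hα, h3⟩ := h.isConj_iff.mp (isConj_iff.mpr ⟨t, rfl⟩ : IsConj (v : G)
          (⟨t * v * t⁻¹, hS.conj_mem t.2 v.2⟩ : (P : Subgroup G)))
        exact h3 ▸ hne α hα 1 (one_mem _)
      exact (h.ucol_apply hM ψ (hpp h2) h2).symm
  have h1 := Finset.sum_congr rfl key
  have e1 : ∑ ψ ∈ Finset.univ.erase (1 : (P : Subgroup G) →* ℂˣ), ∑ α : autz (P : Subgroup G),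
      ∑ β : autz (P : Subgroup G), (ψ (α.1 v * β.1 w) : ℂ) =
      ∑ α : autz (P : Subgroup G), ∑ β : autz (P : Subgroup G), -1 := by
    rw [Finset.sum_comm]
    exact Finset.sum_congr rfl fun α _ => by
      rw [Finset.sum_comm, Finset.sum_congr rfl fun β _ => h.sum_erase (hne _ α.2 _ β.2)]
  have e2 : ∀ t : normalizer ((P : Subgroup G) : Set G), ∑ ψ ∈ Finset.univ.erase
      (1 : (P : Subgroup G) →* ℂˣ), ∑ α : autz (P : Subgroup G),
      (ψ (α.1 (⟨t * v * t⁻¹, hS.conj_mem t.2 v.2⟩ * w)) : ℂ) = ∑ α : autz (P : Subgroup G), -1 :=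
    fun t => by
      rw [Finset.sum_comm]
      refine Finset.sum_congr rfl fun α _ => h.sum_erase ?_
      obtain ⟨β, hβ, h3⟩ := h.isConj_iff.mp (isConj_iff.mpr ⟨t, rfl⟩ : IsConj (v : G)
        (⟨t * v * t⁻¹, hS.conj_mem t.2 v.2⟩ : (P : Subgroup G)))
      rw [← h3, ne_eq, map_eq_one_iff _ α.1.injective]
      exact hne β hβ 1 (one_mem _)
  rw [Finset.sum_comm, ← Finset.mul_sum, Finset.sum_sub_distrib, ← Finset.sum_div,
    ← Finset.mul_sum, e1, Finset.sum_const (s := Finset.univ.erase 1)] at h1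
  simp only [Finset.sum_sub_distrib, e2] at h1
  simp only [Finset.sum_const, Finset.card_univ, ← Nat.card_eq_fintype_card, hcard', hN,
    nsmul_eq_mul] at h1
  have h2 : (Nat.card G : ℝ) * (D.δ * Nat.card (autz (P : Subgroup G)) ^ 2 / z +
      8 * ∑ χ ∈ D.X, (D.a χ ^ 3 / charDegree (χ : G → ℂ) : ℝ)) =
      81 * Nat.card (autz (P : Subgroup G)) ^ 2 := by
    refine Complex.ofReal_injective ?_
    push_cast at h1 ⊢
    linear_combination -h1
  have h3 : 1 - ((Nat.card (autz (P : Subgroup G)) : ℝ) - 1) / 8 ≤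
      ∑ χ ∈ D.X, (D.a χ ^ 3 / charDegree (χ : G → ℂ) : ℝ) := by
    rw [← Finset.add_sum_erase _ _ D.one_mem_X, ha1] at hs ⊢
    have h4 : ∀ χ ∈ D.X.erase (irrOne G), -(D.a χ ^ 2 / 8 : ℝ) ≤
        D.a χ ^ 3 / charDegree (χ : G → ℂ) := fun χ hχ => by
      have h5 := Finset.single_le_sum (f := fun χ => D.a χ ^ 2) (fun _ _ => sq_nonneg _) hχ
      have h6 := hcong χ (Finset.mem_of_mem_erase hχ)
      have h7 : (0 : ℝ) < charDegree (χ : G → ℂ) := by exact_mod_cast χ.2.charDegree_pos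
      have h8 : -2 < D.a χ := by nlinarith
      by_cases e : D.a χ = -1
      · have h9 : (8 : ℝ) ≤ charDegree (χ : G → ℂ) := by exact_mod_cast (by omega)
        rw [e, le_div_iff₀ h7]; push_cast; linarith
      · have h9 : (0 : ℝ) ≤ D.a χ := by exact_mod_cast (by omega)
        exact (neg_nonpos.mpr (by positivity)).trans (by positivity)
    have h5 := Finset.sum_le_sum h4
    rw [Finset.sum_neg_distrib, ← Finset.sum_div] at h5
    have h6 : ∑ χ ∈ D.X.erase (irrOne G), (D.a χ : ℝ) ^ 2 =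
        Nat.card (autz (P : Subgroup G)) - 1 := by
      rw [eq_sub_iff_add_eq']; exact_mod_cast hs
    rw [h6] at h5
    simp only [charDegree_irrOne]
    push_cast
    linarith
  have h4 : (0 : ℝ) < z := by exact_mod_cast (D.ζ ψ₀).2.charDegree_pos
  have h5 : -(16 / 5 : ℝ) ≤ D.δ * Nat.card (autz (P : Subgroup G)) ^ 2 / z := by
    rw [le_div_iff₀ h4]
    rcases D.sign with e | e <;> rw [e] at hZ ⊢
    · have : (0 : ℝ) ≤ Nat.card (autz (P : Subgroup G)) ^ 2 := by positivity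
      push_cast; linarith
    · have h6 : (5 : ℝ) ≤ z := by exact_mod_cast (by omega)
      rcases he with e | e <;> rw [e.1] <;> push_cast <;> linarith
  have h6 : (0 : ℝ) ≤ Nat.card G := by positivity
  rcases he with e | e <;> rw [e.1] at h2 h3 h5 hN <;> push_cast at h2 h3 h5
  · exact Or.inl (by exact_mod_cast (by nlinarith : (Nat.card G : ℝ) ≤ 100))
  · exact Or.inr ⟨by exact_mod_cast (by nlinarith : (Nat.card G : ℝ) ≤ 720), hN⟩

/-- Let G be a finite simple group whose Sylow 3-subgroup S is elementary abelian of order 9, such that G has more than one conjugacy class of elements of order 3 and C_G(s) = S for every non-identity s in S. Then G is isomorphic to the alternating group of degree 6. -/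
theorem result {G : Type*} [Group G] [Finite G] [IsSimpleGroup G]
    (P : Sylow 3 G) (S : Subgroup G) (hSP : S = P) (hcomm : IsMulCommutative S) (hexp : ∀ a ∈ S, a ^ 3 = 1)
    (hcard : Nat.card S = 9)
    (hclasses : ∃ a b : G, orderOf a = 3 ∧ orderOf b = 3 ∧ ∀ g : G, g * a * g⁻¹ ≠ b)
    (hcent : ∀ s ∈ S, s ≠ 1 → Subgroup.centralizer ({s} : Set G) = S) :
    Nonempty (G ≃* alternatingGroup (Fin 6)) := by
  subst hSP
  haveI := Fintype.ofFinite G
  obtain ⟨a, b, ha, hb, hab⟩ := hclasses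
  have hc : ¬ IsMulCommutative G := not_comm_of_card_not_prime fun e => by
    have := (Nat.dvd_prime e).mp (hcard ▸ card_subgroup_dvd_card (P : Subgroup G))
    rcases this with e' | e'
    · omega
    · rw [← e'] at e; norm_num at e
  have h1 : ∀ a : G, orderOf a = 3 → ∃ v : (P : Subgroup G), v ≠ 1 ∧ IsConj a v := fun a ha => by
    obtain ⟨Q, hQ⟩ := (IsPGroup.of_card (p := 3) (G := zpowers a) (n := 1)
      (by rw [Nat.card_zpowers, ha]; rfl)).exists_le_sylow
    obtain ⟨c, rfl⟩ := MulAction.exists_smul_eq G P Q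
    refine ⟨⟨_, (mem_smul_sylow P c a).mp (hQ (mem_zpowers a))⟩, fun e => ?_,
      isConj_iff.mpr ⟨c⁻¹, by simp⟩⟩
    rw [conj_eq_one_iff.mp (show c⁻¹ * a * c⁻¹⁻¹ = 1 by simpa using congrArg Subtype.val e)] at ha
    simp at ha
  obtain ⟨v, hv, h2⟩ := h1 a ha
  obtain ⟨w, hw, h3⟩ := h1 b hb
  have h4 := main P hcomm hexp hcard hcent hv hw (fun e => by
    obtain ⟨c, hc⟩ := isConj_iff.mp (h2.trans (e.trans h3.symm))
    exact hab c hc) hc
  have h5 := S0496.result hc (by omega)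
  have h6 : 9 ∣ Nat.card G := hcard ▸ card_subgroup_dvd_card (P : Subgroup G)
  refine S0497.result ((by omega : _ ∨ Nat.card G = 504).resolve_right fun e => ?_)
  have h7 := (normalizer ((P : Subgroup G) : Set G)).index_mul_card
  have h8 := card_sylow_modEq_one 3 G
  rw [show (normalizer ((P : Subgroup G) : Set G)).index = _ from P.card_eq_index_normalizer.symm, e,
    (h4.resolve_left (by omega)).2] at h7
  rw [show Nat.card (Sylow 3 G) = 14 by omega] at h8
  exact absurd h8 (by decide)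

end Cfsg.Agent.S3341
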