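import Cfsg.Statements.S4456
import Mathlib
import Cfsg.Agent.H6.Princ2

set_option autoImplicit false
open Cfsg

namespace Cfsg.Agent.S4456

open scoped ComplexConjugate commutatorElement Pointwise
-- OPENS
open Cfsg.Agent.H8
open Cfsg.Agent.H6 hiding blockCoeff_eq_zero blockDefect_eq blockHeight_eq blockPart_add
  blockPart_eq_zero_of_regular blockPart_eq_zero_of_singular blockPart_irr_of_mem
  blockPart_irr_of_not_mem blockPart_isClassFunction blockPart_smul blockPart_sub blockPart_sum
  blockPart_zero block_eq_blockOf block_eq_of_mem block_nonempty centralChar_mem char_mem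
  conj_char_mem deg_factorization_le exists_height_zero irrOne_mem_principal isPBlock_blockOf
  isPBlock_principal mem_blockOf_self orderOf_conj' sameBlock_refl sameBlock_symm
  sameBlock_trans weak_orth weak_orth'
open Cfsg.Agent.H4 hiding exists_int_of_isIntegral_rat
open Cfsg.Agent.H5
open Cfsg.Agent.H3 hiding mem_of_pow_mem_of_coprime


/-- Let p be a prime and G a finite group such that p divides the degree of every irreducible character of G of degree greater than one. Then G has a normal p-complement: a normal subgroup of order prime to p whose index is a power of p. -/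
theorem result {G : Type*} [Group G] [Finite G] (p : ℕ) (hp : p.Prime) (hdeg : ∀ χ : Cfsg.IrrCharacter G, Cfsg.charDegree (χ : G → ℂ) ≠ 1 → p ∣ Cfsg.charDegree (χ : G → ℂ)) : ∃ N : Subgroup G, N.Normal ∧ (Nat.card N).Coprime p ∧ ∃ k : ℕ, N.index = p ^ k := by
  haveI := Fact.mk hp
  haveI := Fintype.ofFinite G
  obtain ⟨M, hM⟩ := exists_isPModular hp
  haveI := hM.2.1
  have h := hasNormalPComplement_of_linear hM (H8.isPBlock_principal (G := G)) (bmin_principal hM)
    (fun χ _ h => (irr_charDegree_eq_one_iff χ).mp (by by_contra h1; exact h (hdeg χ h1)))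
  obtain ⟨N, hN, h1, h2⟩ := hasNormalPComplement_iff_exists_normal.mp h
  obtain ⟨k, hk⟩ := IsPGroup.iff_card.mp h2
  exact ⟨N, hN, ((hp.coprime_iff_not_dvd).mpr h1).symm, k, hk⟩

end Cfsg.Agent.S4456
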