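import Cfsg.Statements.S3103
import Cfsg.Agent.H26.A8Sub
import Cfsg.Agent.H26.AutP
import Cfsg.Agent.H9.PCons

set_option autoImplicit false
open Cfsg

namespace Cfsg.Agent.S3103

def prodAut (V W : Type*) [Group V] [Group W] : MulAut V →* MulAut (V × W) where
  toFun a := MulEquiv.prodCongr a (MulEquiv.refl W)
  map_one' := rfl
  map_mul' _ _ := rfl

theorem emb {V : Type*} [Group V] [IsMulCommutative V] {r : ℕ} (hr : r ≤ 4)
    (h : ∀ x : V, x ^ 2 = 1) (hc : Nat.card V = 2 ^ r) :
    ∃ f : MulAut V →* alternatingGroup (Fin 8), Function.Injective f := by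
  let W := Fin (4 - r) → Multiplicative (ZMod 2)
  have : IsMulCommutative (V × W) := ⟨⟨fun a b => Prod.ext (mul_comm' _ _) (mul_comm _ _)⟩⟩
  have h2 : ∀ x : Multiplicative (ZMod 2), x ^ 2 = 1 := by decide
  obtain ⟨e⟩ := H26.nonempty_mulAut_equiv_GL (V := V × W) (p := 2) (r := 4)
    (fun x => Prod.ext (h _) (funext fun i => h2 _)) (by
      rw [Nat.card_prod, hc, Nat.card_fun]; simp [← pow_add, hr])
  obtain ⟨e'⟩ := H26.A8.gl4
  refine ⟨(e.trans e').toMonoidHom.comp (prodAut V W), (e.trans e').injective.comp fun a b hab => ?_⟩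
  ext x
  exact congrArg Prod.fst (DFunLike.congr_fun hab (x, 1))

/-- Let X be a finite 2-constrained group with no nontrivial normal subgroup of odd order such that O₂(X) has sectional 2-rank at most 4. Then X/O₂(X) is isomorphic to a subgroup of the alternating group of degree 8. -/
theorem result {X : Type*} [Group X] [Finite X] (hc : Cfsg.IsPConstrained 2 X) (hO : Cfsg.oddCore X = ⊥)
    (h4 : Cfsg.SectionalPRankLE 2 4 ↥(Cfsg.pCore 2 X)) :
    ∃ f : X ⧸ Cfsg.pCore 2 X →* ↥(alternatingGroup (Fin 8)), Function.Injective f := by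
  have hC := (H9.isPConstrained_iff_of_pPrimeCore_eq_bot hO).1 hc
  have hQ := H1.isPGroup_pCore 2 X
  set Q := pCore 2 X with hQd
  have hcomm : IsMulCommutative (Q ⧸ frattini Q) :=
    Subgroup.Normal.quotient_commutative_iff_commutator_le.2 (H3.commutator_le_frattini hQ)
  have hexp : ∀ x : Q ⧸ frattini Q, x ^ 2 = 1 := fun x => by
    obtain ⟨y, rfl⟩ := QuotientGroup.mk_surjective x
    rw [← QuotientGroup.mk_pow, QuotientGroup.eq_one_iff]
    exact H3.pow_mem_frattini hQ y
  obtain ⟨r, hr⟩ := (hQ.to_quotient (frattini Q)).exists_card_eq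
  have hr4 : r ≤ 4 := by
    have e := QuotientGroup.congr ((frattini Q).subgroupOf ⊤) (frattini Q) Subgroup.topEquiv (by
      ext x; simp [Subgroup.mem_subgroupOf])
    have h1 := h4 ⊤ ((frattini Q).subgroupOf ⊤) ⊤
      ⟨⟨fun a b => Subtype.ext (e.injective (by simp [mul_comm']))⟩⟩
      fun a _ => e.injective (by rw [map_pow, hexp, map_one])
    rw [Subgroup.card_top, Nat.card_congr e.toEquiv, hr] at h1
    exact (Nat.pow_le_pow_iff_right (by norm_num)).1 h1
  obtain ⟨f, hf⟩ := emb hr4 hexp hr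
  let θ := f.comp ((H26.quotAut (frattini Q)).comp (MulAut.conjNormal : X →* MulAut Q))
  have hm : ∀ g, g ∈ θ.ker ↔ ∀ x : Q, MulAut.conjNormal g x * x⁻¹ ∈ frattini Q := fun g => by
    rw [← H26.mem_ker_quotAut, MonoidHom.mem_ker, MonoidHom.mem_ker, MonoidHom.comp_apply,
      map_eq_one_iff f hf]; rfl
  have hk : θ.ker = Q := by
    refine le_antisymm (le_sSup ⟨inferInstance, H9.isPGroup_of_forall_coprime fun g hg ho => ?_⟩)
      fun g hg => (hm g).2 fun x => ?_
    · have h1 := H26.card_dvd_of_frattini hQ hr (Subgroup.zpowers (MulAut.conjNormal g : MulAut Q))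
        (fun a ha => H26.mem_ker_quotAut _ |>.1 ((Subgroup.zpowers_le.2
          ((H26.mem_ker_quotAut _).2 ((hm g).1 hg))) ha))
      obtain ⟨k, hk⟩ := (hQ.to_subgroup (frattini Q)).exists_card_eq
      rw [Nat.card_zpowers, hk, ← pow_mul] at h1
      have h2 := orderOf_eq_one_iff.1 (Nat.eq_one_of_dvd_coprimes (ho.pow_right _)
        (orderOf_map_dvd _ g) h1)
      have h3 : g ∈ Q := hC fun x hx => by
        have := congrArg Subtype.val (DFunLike.congr_fun h2 ⟨x, hx⟩)
        rw [MulAut.conjNormal_apply, mul_inv_eq_iff_eq_mul] at this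
        exact this.symm
      obtain ⟨j, hj⟩ := hQ ⟨g, h3⟩
      exact orderOf_eq_one_iff.1 (Nat.eq_one_of_dvd_coprimes (ho.pow_right j) dvd_rfl
        (orderOf_dvd_of_pow_eq_one (congrArg Subtype.val hj)))
    · exact H3.commutator_le_frattini hQ (Subgroup.commutator_mem_commutator
        (Subgroup.mem_top (⟨g, hg⟩ : Q)) (Subgroup.mem_top x))
  exact ⟨QuotientGroup.lift Q θ hk.ge, (QuotientGroup.injective_lift_iff _ _ _).2 hk.symm⟩

end Cfsg.Agent.S3103
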