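import Cfsg.Statements.S0110
import Cfsg.Agent.H26.ES2

set_option autoImplicit false
open Cfsg

namespace Cfsg.Agent.S0110


/-- In a p-group G, an extraspecial subgroup E with [G, E] ≤ Z(E) satisfies G = E C_G(E). -/
theorem result {G : Type*} [Group G] [Finite G] {p : ℕ} [Fact p.Prime] (hG : IsPGroup p G) (E : Subgroup G) (hE : Cfsg.IsExtraspecial p E) (h : ⁅(⊤ : Subgroup G), E⁆ ≤ E ⊓ Subgroup.centralizer (E : Set G)) : E ⊔ Subgroup.centralizer (E : Set G) = ⊤ := by
  obtain ⟨n, c, hc⟩ := H26.exists_ES_of_isExtraspecial hE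
  have := c.nontrivial_of_isExtraspecial hE
  have hn : E.Normal := by
    rw [← Subgroup.normalizer_eq_top_iff, eq_top_iff, Subgroup.le_normalizer_iff_commutator_le_right]
    exact h.trans inf_le_left
  rw [eq_top_iff]
  intro g _
  have h1 : ∀ x, c.π ((MulAut.conjNormal g : MulAut E).toMonoidHom x) = c.π x := fun x => by
    have h2 := h (Subgroup.commutator_mem_commutator (Subgroup.mem_top g) x.2)
    have h3 : c.π ⟨_, h2.1⟩ = 0 := by
      rw [← c.mem_Z, ← c.nd_iff.mp hc]
      exact Subgroup.mem_center_iff.mpr fun y => Subtype.ext (h2.2 y y.2)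
    have h4 : (MulAut.conjNormal g : MulAut E).toMonoidHom x = ⟨_, h2.1⟩ * x :=
      Subtype.ext (by simp [commutatorElement_def])
    rw [h4, c.π_mul, h3, zero_add]
  obtain ⟨y, hy⟩ := hc.exists_conj _ h1 (hc.map_ζ_of_π _ fun x y => by rw [h1, h1])
  rw [show g = y * ((y : G)⁻¹ * g) by group]
  refine mul_mem (Subgroup.mem_sup_left y.2) (Subgroup.mem_sup_right fun x hx => ?_)
  have h5 : g * x * g⁻¹ = y * x * (y : G)⁻¹ := by simpa using congrArg Subtype.val (hy ⟨x, hx⟩)
  calc x * ((y : G)⁻¹ * g) = (y : G)⁻¹ * (y * x * (y : G)⁻¹) * g := by group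
    _ = _ := by rw [← h5]; group

end Cfsg.Agent.S0110
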