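import Cfsg.Statements.S0095
import Cfsg.Agent.H26.ES2

set_option autoImplicit false
open Cfsg

namespace Cfsg.Agent.S0095


/-- The order of an extraspecial p-group is an odd power p^(2n+1) of p with n ≥ 1. -/
theorem result {P : Type*} [Group P] [Finite P] {p : ℕ} [Fact p.Prime] (h : Cfsg.IsExtraspecial p P) : ∃ n : ℕ, 1 ≤ n ∧ Nat.card P = p ^ (2 * n + 1) := by
  obtain ⟨n, c, hc⟩ := H26.exists_ES_of_isExtraspecial h
  obtain ⟨m, hm⟩ := hc.exists_finrank
  have := c.nontrivial_of_isExtraspecial h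
  have h1 : 0 < Module.finrank (ZMod p) (Fin n → ZMod p) := Module.finrank_pos
  exact ⟨m, by omega, by rw [c.card_eq_pow, hm]⟩

end Cfsg.Agent.S0095
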