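import Cfsg.Statements.S4364
import Cfsg.Agent.H26.ClassSize
import Cfsg.Agent.S4037

set_option autoImplicit false
open Cfsg

namespace Cfsg.Agent.S4364

theorem aux {G : Type*} [Group G] [Finite G] (p : ℕ) [hp : Fact p.Prime] (hO : pCore p G = ⊥)
    (x : G) (hx : ∃ a : ℕ, (Subgroup.centralizer ({x} : Set G)).index = p ^ a) :
    Subgroup.normalClosure ({x} : Set G) ≤
      Subgroup.centralizer (Subgroup.normalClosure ({x} : Set G) : Set G) := by
  obtain ⟨a, ha⟩ := hx
  set N := Subgroup.normalClosure ({x} : Set G) with hN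
  have hsol : Group.IsSolvable N := S4037.result x hp.out a (by
    rw [← ha, H26.index_cent_eq_ncard]
    congr 1)
  set F := (fittingSubgroup N).map N.subtype with hF
  have hFp : ¬ p ∣ Nat.card F := by
    intro hd
    obtain ⟨y, hy⟩ := exists_prime_orderOf_dvd_card' p hd
    have h1 : IsPGroup p (Subgroup.zpowers (y : G)) :=
      IsPGroup.of_card (n := 1) (by rw [Nat.card_zpowers, Subgroup.orderOf_coe, hy, pow_one])
    have h2 := H1.le_pCore_of_le_fittingSubgroup h1
      ((Subgroup.zpowers_le.mpr y.2).trans (H1.map_subtype_fittingSubgroup_le N))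
    rw [hO, le_bot_iff, Subgroup.zpowers_eq_bot] at h2
    rw [← Subgroup.orderOf_coe, h2, orderOf_one] at hy
    exact hp.out.one_lt.ne hy
  have h1 : F ≤ Subgroup.centralizer ({x} : Set G) := by
    rw [← Subgroup.relIndex_eq_one]
    have a1 := H26.relIndex_dvd_index_of_normal_right (Subgroup.centralizer ({x} : Set G)) F
    rw [ha] at a1
    exact Nat.eq_one_of_dvd_coprimes ((hp.out.coprime_iff_not_dvd.mpr hFp).pow_left a) a1
      (Subgroup.relIndex_dvd_card _ _)
  have h2 : N ≤ Subgroup.centralizer (F : Set G) :=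
    Subgroup.normalClosure_le_normal (Set.singleton_subset_iff.mpr (H26.le_cent_iff.mp h1))
  have h3 : N ≤ F := by
    intro y hy
    refine ⟨⟨y, hy⟩, H1.centralizer_fittingSubgroup_le hsol fun z hz => Subtype.ext ?_, rfl⟩
    exact h2 hy z ⟨z, hz, rfl⟩
  exact h2.trans (Subgroup.centralizer_le h3)

/-- Let G be a finite group, p a prime and x an element whose conjugacy class has p-power size. Then for any two conjugates y and z of x, the commutator y z y⁻¹ z⁻¹ lies in O_p(G), the largest normal p-subgroup of G. -/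
theorem result {G : Type*} [Group G] [Finite G] (p : ℕ) [Fact p.Prime]
    (x : G) (hx : ∃ a : ℕ, (Subgroup.centralizer ({x} : Set G)).index = p ^ a) (g h : G) :
    (g * x * g⁻¹) * (h * x * h⁻¹) * (g * x * g⁻¹)⁻¹ * (h * x * h⁻¹)⁻¹ ∈ Cfsg.pCore p G := by
  have h1 := aux p (H1.pCore_quotient_pCore p) ((QuotientGroup.mk' (pCore p G)) x) (by
    obtain ⟨a, ha⟩ := hx
    have h0 := H26.index_cent_map_dvd (QuotientGroup.mk'_surjective (pCore p G)) x
    rw [ha] at h0
    obtain ⟨b, -, hb⟩ := (Nat.dvd_prime_pow (Fact.out : p.Prime)).mp h0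
    exact ⟨b, hb⟩)
  have h2 : ∀ g : G, (QuotientGroup.mk' (pCore p G)) (g * x * g⁻¹) ∈
      Subgroup.normalClosure ({(QuotientGroup.mk' (pCore p G)) x} : Set (G ⧸ pCore p G)) := by
    intro g
    have h5 : (QuotientGroup.mk' (pCore p G)) x ∈
      Subgroup.normalClosure ({(QuotientGroup.mk' (pCore p G)) x} : Set (G ⧸ pCore p G)) :=
        Subgroup.subset_normalClosure rfl
    rw [map_mul, map_mul, map_inv]
    exact Subgroup.normalClosure_normal.conj_mem _ h5 _
  have h3 := h1 (h2 h) _ (h2 g)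
  generalize g * x * g⁻¹ = a at h3 ⊢
  generalize h * x * h⁻¹ = b at h3 ⊢
  have h4 : (QuotientGroup.mk' (pCore p G)) (a * b * a⁻¹ * b⁻¹) = 1 := by
    rw [map_mul, map_mul, map_mul, h3, map_inv, map_inv]
    group
  exact (QuotientGroup.eq_one_iff _).mp h4

end Cfsg.Agent.S4364
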