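import Cfsg.Statements.S4127
import Cfsg.Agent.H25.DirFac
import Cfsg.Agent.S4364
import Cfsg.Agent.H26.PElt
import Cfsg.Agent.H1.Coprime
import Cfsg.Agent.H3.PNil
import Cfsg.Agent.H2.Subnormal

set_option autoImplicit false
open Cfsg

namespace Cfsg.Agent.S4127

theorem mem_pCore {G : Type*} [Group G] [Finite G] (p : ℕ) [Fact p.Prime] (x : G)
    (h1 : ∃ k : ℕ, orderOf x = p ^ k)
    (hx : ∃ a : ℕ, (Subgroup.centralizer ({x} : Set G)).index = p ^ a) : x ∈ pCore p G := by
  have h2 : ((x : G ⧸ pCore p G)) ∈ pCore p (G ⧸ pCore p G) := by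
    obtain ⟨k, hk⟩ := h1
    have h3 : IsPGroup p (Subgroup.zpowers (x : G ⧸ pCore p G)) := by
      have := (H26.isPGroup_zpowers_of_orderOf hk).map (QuotientGroup.mk' (pCore p G))
      rwa [MonoidHom.map_zpowers] at this
    refine H2.le_pCore_of_forall_conj (fun g => ?_) (Subgroup.mem_zpowers _)
    refine h3.to_sup_of_normal_right' (h3.map _) ?_
    obtain ⟨g, rfl⟩ := QuotientGroup.mk_surjective g
    refine le_trans ?_ (Subgroup.centralizer_le_normalizer _)
    rw [Subgroup.zpowers_le, ← H26.le_cent_iff, H1.conj_smul_eq_map, MonoidHom.map_zpowers,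
      Subgroup.zpowers_le, H26.mem_cent, ← mul_inv_eq_one, mul_inv_rev, ← mul_assoc]
    have := (QuotientGroup.eq_one_iff _).mpr (S4364.result p x hx g 1)
    simp only [one_mul, inv_one, mul_one] at this
    exact this
  rw [H1.pCore_quotient_pCore, Subgroup.mem_bot] at h2
  exact (QuotientGroup.eq_one_iff x).mp h2

/-- Let G be a finite group, p a prime and p^a the largest power of p dividing the size of any conjugacy class of G. If some element of p-power order has a conjugacy class of size exactly p^a, then G has a normal p-complement. -/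
theorem result {G : Type*} [Group G] [Finite G] (p : ℕ) [Fact p.Prime]
    (a : ℕ) (hmax : ∀ y : G, ¬ p ^ (a + 1) ∣ (Subgroup.centralizer ({y} : Set G)).index)
    (hx : ∃ x : G, (∃ k : ℕ, orderOf x = p ^ k) ∧ (Subgroup.centralizer ({x} : Set G)).index = p ^ a) :
    Cfsg.HasNormalPComplement p G := by
  obtain ⟨x, h1, h2⟩ := hx
  have hp := (Fact.out : p.Prime)
  have hxO := mem_pCore p x h1 ⟨a, h2⟩
  set C := Subgroup.centralizer ({x} : Set G) with hC
  obtain ⟨P⟩ : Nonempty (Sylow p C) := inferInstance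
  obtain ⟨hPn, H, hHn, hH, h3, h4⟩ := H25.direct_factor_of_sup_centralizer P
    (H25.sup_centralizer_eq_top_of_not_dvd P fun y hy hd => hmax (x * y) (by
      obtain ⟨k, hk⟩ := h1
      rw [H26.cent_mul_of_coprime (H26.mem_cent.mp y.2).symm
        (by rw [hk, Subgroup.orderOf_coe]; exact (hy.pow_right k).symm), pow_succ']
      rw [H26.index_cent_subgroup] at hd
      rw [← Subgroup.relIndex_mul_index inf_le_left, Subgroup.inf_relIndex_left, h2]
      exact Nat.mul_dvd_mul_right hd _))
  have h5 : ∀ U : Subgroup G, IsPGroup p U → U ≤ C → U ≤ (P : Subgroup C).map C.subtype :=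
    fun U hU hUC => (H1.isSylowIn_map_subtype P).le_of_le_normalizer' hUC hU (hUC.trans (by
      have := Subgroup.le_normalizer_map (H := (P : Subgroup C)) C.subtype
      rwa [Subgroup.normalizer_eq_top, ← MonoidHom.range_eq_map, Subgroup.range_subtype] at this))
  have h6 : (P : Subgroup C).map C.subtype ≤ Subgroup.centralizer (H.map C.subtype : Set G) := by
    rintro _ ⟨y, hy, rfl⟩ _ ⟨z, hz, rfl⟩
    exact congrArg Subtype.val (Subgroup.commute_of_normal_of_disjoint _ _ hHn hPn
      (disjoint_iff.mpr (by rw [inf_comm, h3])) z y hz hy)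
  have hxP : x ∈ (P : Subgroup C).map C.subtype := by
    obtain ⟨k, hk⟩ := h1
    exact h5 _ (H26.isPGroup_zpowers_of_orderOf hk) (Subgroup.zpowers_le.mpr (H26.mem_cent_self x))
      (Subgroup.mem_zpowers x)
  have h7 := H1.le_centralizer_of_pxq (P.isPGroup'.map C.subtype) (Q := H.map C.subtype)
    (by rw [Subgroup.card_map_of_injective C.subtype_injective]
        exact (hp.coprime_iff_not_dvd.mpr hH).symm) (H1.isPGroup_pCore p G) h6
    Subgroup.le_normalizer_of_normal Subgroup.le_normalizer_of_normal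
    ((h5 _ (H1.isPGroup_pCore p G).to_inf_left (inf_le_right.trans
      (Subgroup.centralizer_le (Set.singleton_subset_iff.mpr hxP)))).trans h6)
  have h8 : H.IsComplement' (P : Subgroup C) :=
    H2.isComplement'_of_normal (by rw [inf_comm, h3]) (by rw [sup_comm, h4])
  refine H3.hasNormalPComplement_of_isPGroup_quotient (Subgroup.centralizer (pCore p G : Set G)) ?_
    (H3.hasNormalPComplement_of_le (Subgroup.centralizer_le (Set.singleton_subset_iff.mpr hxO))
      ⟨P, H, hHn, h8⟩)
  obtain ⟨n, hn⟩ := IsPGroup.iff_card.mp P.isPGroup'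
  have h9 := Subgroup.index_dvd_of_le h7
  rw [Subgroup.index_map_subtype, h8.symm.index_eq_card, hn, h2, ← pow_add] at h9
  obtain ⟨j, -, hj⟩ := (Nat.dvd_prime_pow hp).mp h9
  exact IsPGroup.of_card hj

end Cfsg.Agent.S4127
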