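import Cfsg.Statements.S3192
import Cfsg.Agent.H25.Ito5
import Cfsg.Agent.H27.PSL2a

set_option autoImplicit false
open Cfsg

namespace Cfsg.Agent.S3192

open Subgroup Cfsg.Agent.H20 Cfsg.Agent.H21 Cfsg.Agent.H25 Cfsg.Agent.H27
open scoped MatrixGroups

theorem index_equiv {G H : Type*} [Group G] [Group H] (e : G ≃* H) (x : G) : C₁⟦e x⟧.index = C₁⟦x⟧.index := by
  refine Nat.dvd_antisymm (H26.index_cent_map_dvd (f := e.toMonoidHom) e.surjective x) ?_
  simpa using H26.index_cent_map_dvd (f := e.symm.toMonoidHom) e.symm.surjective (e x)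

theorem set_eq {F : Type*} [Field F] [Finite F] (h2 : (2 : F) = 0) (h4 : 4 ≤ Nat.card F) :
    {m : ℕ | ∃ x : PSL(2, F), C₁⟦x⟧.index ≠ 1 ∧ m = C₁⟦x⟧.index} =
      {Nat.card F ^ 2 - 1, Nat.card F * (Nat.card F + 1), Nat.card F * (Nat.card F - 1)} := by
  obtain ⟨k, hk⟩ := Nat.exists_eq_add_of_le' h4
  have hi := fun g : SL(2, F) => index_cent_psl_of_ne (g := g) (Or.inl h2)
  ext m
  constructor
  · rintro ⟨x, hx, rfl⟩
    obtain ⟨g, rfl⟩ := QuotientGroup.mk_surjective x
    rw [hi] at hx ⊢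
    rcases type_cases (g : M2 F) with h | h | h | h
    · rw [torS_scal h, index_top] at hx; exact absurd rfl hx
    · exact Or.inl (index_torS_uni_even h2 h)
    · exact Or.inr (Or.inl (index_torS_spl h))
    · exact Or.inr (Or.inr (index_torS_ell h))
  · have hsq : ∀ a : Fˣ, a ^ 2 = 1 → a = 1 := fun a ha => by
      have : ((a : F) - 1) ^ 2 = 0 := by
        have : (a : F) ^ 2 = 1 := by simpa using congrArg Units.val ha
        linear_combination this + (1 - a) * h2
      exact Units.ext (sub_eq_zero.1 (pow_eq_zero_iff two_ne_zero |>.1 this))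
    rintro (rfl | rfl | rfl)
    · have := index_torS_uni_even h2 (uni_triS (a := 1) (one_pow 2) one_ne_zero)
      refine ⟨(triS 1 1 : SL(2, F)), ?_, by rw [hi, this]⟩
      rw [hi, this, hk, show (k + 4) ^ 2 = k * k + 8 * k + 15 + 1 by ring]; omega
    · obtain ⟨a, ha⟩ : ∃ a : Fˣ, a ≠ 1 := by
        haveI : Nontrivial Fˣ := Finite.one_lt_card_iff_nontrivial.1 (by rw [Nat.card_units]; omega)
        exact exists_ne 1
      have := index_torS_spl (spl_dgS (mt (hsq a) ha))
      refine ⟨(dgS a : SL(2, F)), ?_, by rw [hi, this]⟩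
      rw [hi, this, hk]; nlinarith
    · obtain ⟨e, he⟩ := exists_ell F
      obtain ⟨z, hz, z1⟩ := exists_ne_one (A := C1 e) fun e' => by
        have := card_C1 he
        rw [e', card_bot] at this; omega
      have := index_torS_ell (ell_of_mem_C1 he hz fun hs => z1 (by
        obtain ⟨a, rfl⟩ := exists_mu2 hs
        rw [hsq a.1 a.2, triS_one_zero]))
      refine ⟨(z : SL(2, F)), ?_, by rw [hi, this]⟩
      rw [hi, this, hk, show k + 4 - 1 = k + 3 from rfl]; nlinarith

/-- Simple groups of conjugate type rank three. For a finite group G consider the set of indices of the centralizers of the non-central elements of G. Then G is a non-abelian simple group for which this set has exactly three members if and only if G is isomorphic to PSL(2, 2^m) for some m ≥ 2. -/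
theorem result (G : Type*) [Group G] [Finite G] :
    (IsSimpleGroup G ∧ ¬ IsMulCommutative G ∧
        Set.ncard {m : ℕ | ∃ x : G, x ∉ Subgroup.center G ∧ m = (Subgroup.centralizer ({x} : Set G)).index} = 3) ↔
      ∃ (m : ℕ) (F : Type) (_ : Field F) (_ : Fintype F), 2 ≤ m ∧ Fintype.card F = 2 ^ m ∧
        Nonempty (G ≃* Matrix.ProjectiveSpecialLinearGroup (Fin 2) F) := by
  constructor
  · rintro ⟨hs, hc, h⟩
    have hZ : center G = ⊥ := (hs.eq_bot_or_eq_top_of_normal _ inferInstance).resolve_right fun e =>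
      hc ⟨⟨fun a b => (mem_center_iff.1 (e.ge (mem_top b)) a)⟩⟩
    obtain ⟨a, ha, e⟩ := rank_three hZ (h ▸ Set.ncard_le_ncard (by
      rintro _ ⟨h1, x, rfl⟩
      exact ⟨x, mt H26.index_cent_eq_one_iff.2 h1.ne', rfl⟩) (Set.finite_of_ncard_ne_zero (by omega)))
      fun hG => hc ⟨⟨IsSimpleGroup.comm_iff_isSolvable.2 hG⟩⟩
    haveI := Fintype.ofFinite (GaloisField 2 a)
    exact ⟨a, GaloisField 2 a, inferInstance, inferInstance, ha,
      by rw [← Nat.card_eq_fintype_card, GaloisField.card 2 a (by omega)], e⟩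
  · rintro ⟨m, F, _, _, hm, hF, ⟨e⟩⟩
    haveI : CharP F 2 := charP_of_card_eq_prime_pow hF
    have h4 : 4 ≤ Fintype.card F := hF ▸ Nat.pow_le_pow_right (n := 2) two_pos hm
    have h := set_eq (F := F) two_eq_zero_of_charP (by rwa [Nat.card_eq_fintype_card])
    have h' : {m : ℕ | ∃ x : G, x ∉ center G ∧ m = C₁⟦x⟧.index} =
        {m : ℕ | ∃ x : PSL(2, F), C₁⟦x⟧.index ≠ 1 ∧ m = C₁⟦x⟧.index} := by
      ext n
      exact ⟨fun ⟨x, hx, hn⟩ => ⟨e x, by rw [index_equiv]; exact mt H26.index_cent_eq_one_iff.1 hx,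
        by rwa [index_equiv]⟩, fun ⟨x, hx, hn⟩ => ⟨e.symm x, by rwa [← H26.index_cent_eq_one_iff, index_equiv],
        by rwa [index_equiv]⟩⟩
    haveI := H12.PSL_fin_simple (F := F) 2 le_rfl fun _ => h4
    rw [h] at h'
    refine ⟨e.isSimpleGroup, fun hc => ?_, ?_⟩
    · obtain ⟨x, hx, -⟩ := h'.ge (Or.inl rfl)
      exact hx (mem_center_iff.2 fun g => mul_comm' g x)
    · rw [← Nat.card_eq_fintype_card] at h4
      obtain ⟨k, hk⟩ := Nat.exists_eq_add_of_le' h4
      rw [h', hk, show (k + 4) ^ 2 = k * k + 8 * k + 15 + 1 by ring, show k + 4 - 1 = k + 3 from rfl,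
        Nat.add_sub_cancel]
      exact Set.ncard_eq_three.2 ⟨_, _, _, by nlinarith, by nlinarith, by nlinarith, rfl⟩

end Cfsg.Agent.S3192
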