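import Cfsg.Statements.S2251
import Cfsg.Agent.H15.Sz11

set_option autoImplicit false
open Cfsg

namespace Cfsg.Agent.S2251

/-- The subgroups of the Suzuki group: with q = 2^(2m+1), m ≥ 1, r = 2^m and the group realised as the stabiliser in SL₄ of the Suzuki–Tits ovoid, every proper subgroup is contained in the normalizer of a Sylow 2-subgroup, or in the normalizer of a cyclic subgroup of order q − 1, q + 2r + 1 or q − 2r + 1, or in a subgroup isomorphic to a smaller Suzuki group Sz(s) with s = 2^(2k+1) ≥ 8 and 2k+1 a proper divisor of 2m+1. -/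
theorem result {F : Type*} [Field F] [Fintype F] {m : ℕ} (hm : 1 ≤ m) (hF : Fintype.card F = 2 ^ (2 * m + 1)) (M : Subgroup ↥(Cfsg.Sz F m)) (hM : M ≠ ⊤) :
    (∃ P : Sylow 2 ↥(Cfsg.Sz F m), M ≤ Subgroup.normalizer ((P : Subgroup ↥(Cfsg.Sz F m)) : Set ↥(Cfsg.Sz F m))) ∨
    (∃ U : Subgroup ↥(Cfsg.Sz F m), IsCyclic ↥U ∧ Nat.card ↥U ∈ ({2 ^ (2 * m + 1) - 1, 2 ^ (2 * m + 1) + 2 ^ (m + 1) + 1, 2 ^ (2 * m + 1) - 2 ^ (m + 1) + 1} : Set ℕ) ∧
      M ≤ Subgroup.normalizer (U : Set ↥(Cfsg.Sz F m))) ∨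
    (∃ (K : Type) (_ : Field K) (_ : Fintype K) (k : ℕ), 1 ≤ k ∧ k < m ∧ Fintype.card K = 2 ^ (2 * k + 1) ∧ 2 * k + 1 ∣ 2 * m + 1 ∧
      ∃ S : Subgroup ↥(Cfsg.Sz F m), Nonempty (↥S ≃* ↥(Cfsg.Sz K k)) ∧ M ≤ S) := by
  have := H15.Sz.charP_two hF
  have hq := Nat.card_eq_fintype_card.trans hF
  let T := H15.Sz.ovModel hm hF
  obtain ⟨g, H, e, h⟩ := T.classify hm hq M
  have key : ∀ {X}, H ≤ X → M ≤ X.map (MulAut.conj g⁻¹).toMonoidHom := fun h x hx =>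
    H11.mem_map_conj.2 (h (e ▸ by simpa using H11.conj_mem_map_conj g hx))
  rcases h with h | ⟨A, hA, h⟩ | ⟨K, h1, h2, h3⟩
  · have := Fact.mk Nat.prime_two
    refine Or.inl ⟨g⁻¹ • T.sylow, ?_⟩
    rw [Sylow.coe_subgroup_smul, H11.conj_smul_eq_map, H15.normalizer_map_conj, T.coe_sylow, T.normalizer_Q]
    exact key h
  · refine Or.inr (Or.inl ⟨_, (hA.map g⁻¹).torus.cyc, ?_, (key h).trans (H15.normalizer_map_conj _ _).ge⟩)
    rw [H11.card_map_conj]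
    rcases hA with ⟨x, rfl⟩ | ⟨u, hu, rfl⟩
    · exact Or.inl (by rw [H11.card_map_conj, T.card_D, hq])
    · exact Or.inr (hu.card_torus hm hq).1
  obtain ⟨k, hk, hd⟩ := H15.Sz.Model.card_subfield hq K
  have hk1 : 1 ≤ k := Nat.pos_of_ne_zero (by rintro rfl; exact h1 hk)
  let _ := Fintype.ofFinite (Shrink.{0} K)
  have hK : Fintype.card (Shrink.{0} K) = 2 ^ (2 * k + 1) := by
    rw [← Nat.card_eq_fintype_card, ← hk, Nat.card_congr (equivShrink.{0} K)]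
  have := H15.Sz.charP_two hK
  let φ : Shrink.{0} K →+* F := K.subtype.comp (Shrink.ringEquiv.{0} K).toRingHom
  have hφ := H15.Sz.map_tw hF hK φ
  have h4 : ∀ a ∈ K, ∃ x, φ x = a := fun a ha => ⟨(Shrink.ringEquiv.{0} K).symm ⟨a, ha⟩,
    congrArg Subtype.val ((Shrink.ringEquiv.{0} K).apply_symm_apply _)⟩
  refine Or.inr (Or.inr ⟨Shrink.{0} K, inferInstance, inferInstance, k, hk1, ?_, hK, hd, _, ⟨?_⟩,
    key (h2 (T.ι (H15.Sz.ovModel hk1 hK) hφ).range (fun a ha c hc => ?_) (fun a ha => ?_) ⟨_, T.ι_W _ hφ⟩)⟩)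
  · refine (show k ≤ m by have := Nat.le_of_dvd (by omega) hd; omega).lt_of_ne ?_
    rintro rfl
    refine hM (top_le_iff.1 fun x _ => ?_)
    have : H = ⊤ := h3 (SetLike.coe_injective (Set.eq_of_subset_of_ncard_le (Set.subset_univ _)
      (by rw [Subfield.coe_top, Set.ncard_univ, hq, ← hk, ← Nat.card_coe_set_eq]; rfl)))
    have h5 := H11.mem_map_conj.1 (e ▸ this ▸ Subgroup.mem_top (g * x * g⁻¹))
    rwa [show g⁻¹ * (g * x * g⁻¹) * g = x by group] at h5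
  · exact (Subgroup.equivMapOfInjective _ _ (MulAut.conj g⁻¹).injective).symm.trans (MonoidHom.ofInjective (T.ι_inj _ hφ)).symm
  · obtain ⟨a, rfl⟩ := h4 a ha
    obtain ⟨c, rfl⟩ := h4 c hc
    exact ⟨_, T.ι_S _ hφ a c⟩
  · obtain ⟨x, hx⟩ := h4 a ha
    exact ⟨_, (T.ι_D _ hφ (Units.mk0 x (by rintro rfl; exact a.ne_zero (by rw [← hx, map_zero])))).trans
      (congrArg T.D (Units.ext hx))⟩

end Cfsg.Agent.S2251
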