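import Cfsg.Statements.S2970
import Cfsg.Agent.H24.Iso
import Cfsg.Agent.H26.PElt
import Cfsg.Agent.H3.Fusion

set_option autoImplicit false
open Cfsg

namespace Cfsg.Agent.S2970


/-- Let G be a finite group, p a prime and x ∈ G an element of p-power order which is isolated in G. Then the image of x in any quotient G ⧸ N is isolated in G ⧸ N; and if x ≠ 1 and the Sylow p-subgroups of G are cyclic, then G has a normal p-complement. -/
theorem result {G : Type*} [Group G] [Finite G] {p : ℕ} [Fact p.Prime] (x : G) (hx : ∃ k : ℕ, orderOf x = p ^ k) (hiso : Cfsg.IsIsolated x) : (∀ (N : Subgroup G) [N.Normal], Cfsg.IsIsolated (QuotientGroup.mk x : G ⧸ N)) ∧ (x ≠ 1 → (∀ P : Sylow p G, IsCyclic ↥(P : Subgroup G)) → Cfsg.HasNormalPComplement p G) := by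
  have hxp : IsPGroup p (Subgroup.zpowers x) := by
    obtain ⟨k, hk⟩ := hx; exact H26.isPGroup_zpowers_of_orderOf hk
  refine ⟨fun N _ => H24.IsIsolated.mk' hiso hxp N, fun h1 hc => ?_⟩
  obtain ⟨P, hP⟩ := hxp.exists_le_sylow
  have hxP : x ∈ (P : Subgroup G) := hP (Subgroup.mem_zpowers x)
  have hN := H24.IsIsolated.normalizer_le hiso P.isPGroup' hxP
  apply H3.hasNormalPComplement_of_normalizer_le_centralizer P
  let Q : Sylow p (Subgroup.normalizer ((P : Subgroup G) : Set G)) := P.subtype (P : Subgroup G).le_normalizer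
  haveI : Q.Normal := P.normal_in_normalizer
  haveI := hc P
  haveI : IsCyclic Q := isCyclic_of_surjective _ (Subgroup.subgroupOfEquivOfLe (P : Subgroup G).le_normalizer).symm.surjective
  rcases Q.le_center_or_le_commutator with h | h
  · intro n hn y hy
    have := Subgroup.mem_center_iff.1 (h (x := ⟨y, (P : Subgroup G).le_normalizer hy⟩) hy) ⟨n, hn⟩
    exact (congrArg Subtype.val this).symm
  · exfalso
    have h2 := H3.inf_commutator_inf_center_eq_bot (Q : Subgroup (Subgroup.normalizer ((P : Subgroup G) : Set G)))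
      IsCyclic.isMulCommutative Q.card_coprime_index
    have h3 : (⟨x, (P : Subgroup G).le_normalizer hxP⟩ : Subgroup.normalizer ((P : Subgroup G) : Set G)) ∈
        (Q : Subgroup (Subgroup.normalizer ((P : Subgroup G) : Set G))) ⊓ commutator _ ⊓ Subgroup.center _ := by
      refine ⟨⟨hxP, h hxP⟩, Subgroup.mem_center_iff.2 fun g => ?_⟩
      exact Subtype.ext (Subgroup.mem_centralizer_singleton_iff.1 (hN g.2))
    rw [h2] at h3
    exact h1 (congrArg Subtype.val (Subgroup.mem_bot.1 h3))

end Cfsg.Agent.S2970
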