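import Cfsg.Statements.S4145
import Cfsg.Agent.H3.Misc1
import Cfsg.Agent.S0082
import Cfsg.Agent.H9.PSolv

set_option autoImplicit false
open Cfsg

namespace Cfsg.Agent.S4145

open Cfsg.Agent.H3

theorem aux {G : Type*} [Group G] [Finite G] {p : ℕ} [hp : Fact p.Prime] (P : Sylow p G)
    (hP : IsCyclic (P : Subgroup G)) (Z : Subgroup G) [Z.Normal] (h1 : IsPGroup p Z) (h2 : Z ≠ ⊥) :
    IsPSolvable p G := by
  have h3 : Z ≤ P := h1.le_sylow_of_normal P
  have hc : IsMulCommutative (P : Subgroup G) := IsCyclic.isMulCommutative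
  set C := Subgroup.centralizer (Z : Set G)
  have h4 : (P : Subgroup G) ≤ C := (P : Subgroup G).le_centralizer.trans (Subgroup.centralizer_le h3)
  have hS := sylowIn_of_le P h4
  have e := Subgroup.subgroupOfEquivOfLe h4
  have h5 : IsCyclic hS.toSylow := isCyclic_of_surjective e.symm e.symm.surjective
  refine H9.isPSolvable_of_normal_of_quotient C ?_ (H9.isPSolvable_of_coprime
    ((Nat.Prime.coprime_iff_not_dvd hp.out).mpr fun h => P.not_dvd_index
      (h.trans (Subgroup.index_dvd_of_le h4))).symm)
  rcases S0082.result hS.toSylow h5 with h | h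
  · exact H9.isPSolvable_of_hasNormalPComplement h
  refine (h2 (eq_bot_iff.mpr fun z hz => ?_)).elim
  have h6 := inf_commutator_inf_center_eq_bot (hS.toSylow : Subgroup C) IsCyclic.isMulCommutative
    hS.toSylow.card_coprime_index
  exact congrArg Subtype.val (h6.le (x := ⟨z, h4 (h3 hz)⟩) ⟨⟨h3 hz,
    le_commutator_of_pResidual_eq_top h hS.toSylow.2 (h3 hz)⟩,
    Subgroup.mem_center_iff.mpr fun y => Subtype.ext (y.2 z hz).symm⟩)

/-- Let G be a finite group with a cyclic Sylow p-subgroup and H a normal subgroup such that p divides both the order of H and the index of H. Then H has a normal p-complement and G is p-solvable. -/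
theorem result {G : Type*} [Group G] [Finite G] (p : ℕ) [Fact p.Prime]
    (P : Sylow p G) (hP : IsCyclic (P : Subgroup G)) (H : Subgroup G) [H.Normal] (h1 : p ∣ Nat.card H) (h2 : p ∣ H.index) :
    Cfsg.HasNormalPComplement p H ∧ Cfsg.IsPSolvable p G := by
  have h3 : HasNormalPComplement p H := by
    have h4 : (P : Subgroup G) ≤ H ⊔ P := le_sup_right
    have hS := sylowIn_of_le P h4
    have e := Subgroup.subgroupOfEquivOfLe h4
    rcases S0082.result hS.toSylow (isCyclic_of_surjective e.symm e.symm.surjective) with h | h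
    · exact hasNormalPComplement_of_le le_sup_left h
    have h5 : pResidual p (H ⊔ P : Subgroup G) ≤ H.subgroupOf _ :=
      pResidual_le_of_isPGroup_quotient (isPGroup_quotient_of_sup_eq_top hS.toSylow.2 (by
        rw [hS.coe_toSylow, ← Subgroup.subgroupOf_sup le_sup_left h4, Subgroup.subgroupOf_self]))
    rw [h, top_le_iff, Subgroup.subgroupOf_eq_top] at h5
    exact (P.not_dvd_index (h2.trans (Subgroup.index_dvd_of_le (h4.trans h5)))).elim
  refine ⟨h3, ?_⟩
  set K := (pResidual p H).map H.subtype
  have h4 : ¬ p ∣ Nat.card K := by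
    rwa [Subgroup.card_map_of_injective H.subtype_injective, ← hasNormalPComplement_iff_not_dvd]
  have hπ := QuotientGroup.mk'_surjective K
  refine H9.isPSolvable_of_normal_of_quotient K (H9.isPSolvable_of_coprime
    ((Nat.Prime.coprime_iff_not_dvd Fact.out).mpr h4).symm) ?_
  have := Subgroup.Normal.map (inferInstance : H.Normal) _ hπ
  refine aux (P.mapSurjective hπ) (isCyclic_of_surjective _
    ((QuotientGroup.mk' K).subgroupMap_surjective P)) (H.map (QuotientGroup.mk' K)) ?_ ?_
  · rintro ⟨_, x, hx, rfl⟩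
    obtain ⟨k, hk⟩ := isPGroup_quotient_pResidual (p := p) ((⟨x, hx⟩ : H) : H ⧸ pResidual p H)
    refine ⟨k, Subtype.ext ?_⟩
    exact (map_pow _ _ _).symm.trans ((QuotientGroup.eq_one_iff _).mpr
      ⟨_, (QuotientGroup.eq_one_iff _).mp hk, rfl⟩)
  · rw [Ne, Subgroup.map_eq_bot_iff, QuotientGroup.ker_mk']
    exact fun h => h4 (h1.trans (Subgroup.card_dvd_of_le h))

end Cfsg.Agent.S4145
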