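import Cfsg.Statements.S4551
import Cfsg.Agent.H6.Dade2
-- import your own Cfsg.Agent.* helpers here

set_option autoImplicit false
open Cfsg

namespace Cfsg.Agent.S4551

open Cfsg.Agent.H4 Cfsg.Agent.H6


/-- Let N be a normal subgroup of the finite group G of index prime to p, P a Sylow p-subgroup of G with G = N·C_G(P), and M a maximal ideal of the algebraic integers containing p. Then restriction to N is a bijection from the principal p-block of G onto the principal p-block of N: every member of the principal block of G restricts to a member of the principal block of N, and every member of the principal block of N is the restriction of exactly one member of the principal block of G. -/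
theorem result {G : Type*} [Group G] [Finite G] (p : ℕ) [Fact p.Prime] (M : Ideal Cfsg.AlgInt) (hM : Cfsg.IsPModular p M) (N : Subgroup G) [N.Normal] (hidx : ¬ p ∣ N.index) (P : Sylow p G) (hsup : N ⊔ Subgroup.centralizer ((P : Subgroup G) : Set G) = ⊤) : (∀ χ ∈ Cfsg.principalBlock M G, ∃ θ ∈ Cfsg.principalBlock M ↥N, ∀ n : N, (χ : G → ℂ) n = (θ : N → ℂ) n) ∧ ∀ θ ∈ Cfsg.principalBlock M ↥N, ∃! χ : Cfsg.IrrCharacter G, χ ∈ Cfsg.principalBlock M G ∧ ∀ n : N, (χ : G → ℂ) n = (θ : N → ℂ) n := by
  classical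
  haveI := hM.2.1
  letI := Fintype.ofFinite N
  obtain ⟨h1, h2⟩ := alperin_dade hM hidx P hsup
  constructor
  · intro χ hχ
    obtain ⟨θ, hθ, h⟩ := (χ.2.isCharacter.restrict N).exists_constituent fun h =>
      χ.2.apply_one_ne_zero (congrFun h 1)
    have hθ' := mem_principal_of_under hχ (θ := ⟨θ, hθ⟩) h
    obtain ⟨χ₀, h3, h4⟩ := h1 _ hθ'
    exact ⟨_, hθ', h2 χ₀ h3 χ hχ _ h4 h ▸ h4⟩
  · intro θ hθ
    obtain ⟨χ₀, h3, h4⟩ := h1 _ hθ
    refine ⟨χ₀, ⟨h3, h4⟩, fun χ ⟨h5, h6⟩ => h2 χ₀ h3 χ h5 θ h4 ?_⟩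
    rw [show (fun n : N => (χ : G → ℂ) n) = θ from funext h6, θ.2.classInner_self]
    exact one_ne_zero

end Cfsg.Agent.S4551
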