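import Cfsg.Statements.S2299
import Cfsg.Agent.H27.SL2c

set_option autoImplicit false
open Cfsg

namespace Cfsg.Agent.S2299

open Cfsg.Agent.H27 Cfsg.Agent.H4 Cfsg.Agent.H5


/-- Over a finite field F with q elements, q odd, every irreducible complex character of SL₂ has degree 1, q, q + 1, q − 1, (q + 1)/2 or (q − 1)/2; and when q ≥ 5 (so that these six numbers are distinct) there are exactly one irreducible character of degree 1, one of degree q, (q − 3)/2 of degree q + 1, (q − 1)/2 of degree q − 1, two of degree (q + 1)/2 and two of degree (q − 1)/2. -/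
theorem result {F : Type*} [Field F] [Fintype F] (hodd : Odd (Fintype.card F)) :
    (∀ χ : Matrix.SpecialLinearGroup (Fin 2) F → ℂ, Cfsg.IsIrrCharacter (Matrix.SpecialLinearGroup (Fin 2) F) χ →
      χ 1 = 1 ∨ χ 1 = (Fintype.card F : ℂ) ∨ χ 1 = (Fintype.card F : ℂ) + 1 ∨ χ 1 = (Fintype.card F : ℂ) - 1 ∨
        χ 1 = (((Fintype.card F + 1) / 2 : ℕ) : ℂ) ∨ χ 1 = (((Fintype.card F - 1) / 2 : ℕ) : ℂ)) ∧
    (5 ≤ Fintype.card F →
      Nat.card {χ : Cfsg.IrrCharacter (Matrix.SpecialLinearGroup (Fin 2) F) // (χ : Matrix.SpecialLinearGroup (Fin 2) F → ℂ) 1 = 1} = 1 ∧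
      Nat.card {χ : Cfsg.IrrCharacter (Matrix.SpecialLinearGroup (Fin 2) F) // (χ : Matrix.SpecialLinearGroup (Fin 2) F → ℂ) 1 = (Fintype.card F : ℂ)} = 1 ∧
      Nat.card {χ : Cfsg.IrrCharacter (Matrix.SpecialLinearGroup (Fin 2) F) // (χ : Matrix.SpecialLinearGroup (Fin 2) F → ℂ) 1 = (Fintype.card F : ℂ) + 1} = (Fintype.card F - 3) / 2 ∧
      Nat.card {χ : Cfsg.IrrCharacter (Matrix.SpecialLinearGroup (Fin 2) F) // (χ : Matrix.SpecialLinearGroup (Fin 2) F → ℂ) 1 = (Fintype.card F : ℂ) - 1} = (Fintype.card F - 1) / 2 ∧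
      Nat.card {χ : Cfsg.IrrCharacter (Matrix.SpecialLinearGroup (Fin 2) F) // (χ : Matrix.SpecialLinearGroup (Fin 2) F → ℂ) 1 = (((Fintype.card F + 1) / 2 : ℕ) : ℂ)} = 2 ∧
      Nat.card {χ : Cfsg.IrrCharacter (Matrix.SpecialLinearGroup (Fin 2) F) // (χ : Matrix.SpecialLinearGroup (Fin 2) F → ℂ) 1 = (((Fintype.card F - 1) / 2 : ℕ) : ℂ)} = 2) := by
  classical
  obtain ⟨e, he⟩ := exists_ell F
  have h2 := two_ne_zero_iff_odd.2 hodd
  rw [← Nat.card_eq_fintype_card] at hodd ⊢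
  refine ⟨fun χ hχ => ?_, fun hq => ⟨?_, ?_, ?_, ?_, ?_, ?_⟩⟩
  · rw [cast_half_add hodd, cast_half_sub hodd]
    rcases sl_irr_cases he hχ with rfl | rfl | h1 | h1 | h1 | h1
    · simp
    · simp [stS_one]
    · simp [famPS_deg h1]
    · simp [famCS_deg h1]
    · simp [famHP_deg h1]
    · simp [famHC_deg h1]
  · exact card_irr_single (irrOne _).2 (fun χ => χ 1 = 1) fun χ hχ =>
      ⟨eq_one_of_deg hχ (by omega), by rintro rfl; rfl⟩
  · exact card_irr_single isIrr_stS (fun χ => χ 1 = Nat.card F) fun χ hχ =>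
      ⟨eq_stS_of_deg hχ, by rintro rfl; exact stS_one⟩
  · rw [card_irr_of_iff famPS_irr (fun χ => χ 1 = Nat.card F + 1) fun χ hχ =>
      ⟨mem_famPS_of_deg hχ, famPS_deg⟩]
    have := card_famPS (F := F)
    rw [card_sq_eq_one_odd h2] at this
    omega
  · rw [card_irr_of_iff (famCS_irr (he := he)) (fun χ => χ 1 = Nat.card F - 1) fun χ hχ =>
      ⟨mem_famCS_of_deg hχ he (by omega), famCS_deg⟩]
    have := card_famCS (he := he)
    rw [card_sq_eq_one_odd h2] at this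
    omega
  · rw [card_irr_of_iff famHP_irr (fun χ => χ 1 = (((Nat.card F + 1) / 2 : ℕ) : ℂ)) fun χ hχ => by
      rw [cast_half_add hodd]; exact ⟨mem_famHP_of_deg hχ (by omega), famHP_deg⟩]
    exact card_famHP h2
  · rw [card_irr_of_iff (famHC_irr (he := he)) (fun χ => χ 1 = (((Nat.card F - 1) / 2 : ℕ) : ℂ))
      fun χ hχ => by
        rw [cast_half_sub hodd]; exact ⟨mem_famHC_of_deg hχ he (by omega), famHC_deg⟩]
    exact card_famHC h2

end Cfsg.Agent.S2299
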