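import Cfsg.Statements.S2300
import Cfsg.Agent.H27.SL2c

set_option autoImplicit false
open Cfsg

namespace Cfsg.Agent.S2300

open Cfsg.Agent.H27 Cfsg.Agent.H4 Cfsg.Agent.H5


/-- Over a finite field F with q elements, q even, every irreducible complex character of SL₂ has degree 1, q − 1, q or q + 1; and when q ≥ 4 (so that these four numbers are distinct) there are exactly one irreducible character of degree 1, one of degree q, (q − 2)/2 of degree q + 1 and q/2 of degree q − 1. -/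
theorem result {F : Type*} [Field F] [Fintype F] [CharP F 2] :
    (∀ χ : Matrix.SpecialLinearGroup (Fin 2) F → ℂ, Cfsg.IsIrrCharacter (Matrix.SpecialLinearGroup (Fin 2) F) χ →
      χ 1 = 1 ∨ χ 1 = (Fintype.card F : ℂ) - 1 ∨ χ 1 = (Fintype.card F : ℂ) ∨ χ 1 = (Fintype.card F : ℂ) + 1) ∧
    (4 ≤ Fintype.card F →
      Nat.card {χ : Cfsg.IrrCharacter (Matrix.SpecialLinearGroup (Fin 2) F) // (χ : Matrix.SpecialLinearGroup (Fin 2) F → ℂ) 1 = 1} = 1 ∧
      Nat.card {χ : Cfsg.IrrCharacter (Matrix.SpecialLinearGroup (Fin 2) F) // (χ : Matrix.SpecialLinearGroup (Fin 2) F → ℂ) 1 = (Fintype.card F : ℂ)} = 1 ∧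
      Nat.card {χ : Cfsg.IrrCharacter (Matrix.SpecialLinearGroup (Fin 2) F) // (χ : Matrix.SpecialLinearGroup (Fin 2) F → ℂ) 1 = (Fintype.card F : ℂ) + 1} = (Fintype.card F - 2) / 2 ∧
      Nat.card {χ : Cfsg.IrrCharacter (Matrix.SpecialLinearGroup (Fin 2) F) // (χ : Matrix.SpecialLinearGroup (Fin 2) F → ℂ) 1 = (Fintype.card F : ℂ) - 1} = Fintype.card F / 2) := by
  classical
  obtain ⟨e, he⟩ := exists_ell F
  have h2 : (2 : F) = 0 := two_eq_zero_of_charP
  have hev := even_natCard h2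
  rw [← Nat.card_eq_fintype_card]
  refine ⟨fun χ hχ => ?_, fun hq => ⟨?_, ?_, ?_, ?_⟩⟩
  · rcases sl_irr_cases he hχ with rfl | rfl | h1 | h1 | h1 | h1
    · simp
    · simp [stS_one]
    · simp [famPS_deg h1]
    · simp [famCS_deg h1]
    · exact (two_ne_zero_of_famHP h1 h2).elim
    · exact (two_ne_zero_of_famHC h1 h2).elim
  · exact card_irr_single (irrOne _).2 (fun χ => χ 1 = 1) fun χ hχ =>
      ⟨eq_one_of_deg hχ (by omega), by rintro rfl; rfl⟩
  · exact card_irr_single isIrr_stS (fun χ => χ 1 = Nat.card F) fun χ hχ =>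
      ⟨eq_stS_of_deg hχ, by rintro rfl; exact stS_one⟩
  · rw [card_irr_of_iff famPS_irr (fun χ => χ 1 = Nat.card F + 1) fun χ hχ =>
      ⟨mem_famPS_of_deg hχ, famPS_deg⟩]
    have := card_famPS (F := F)
    rw [card_sq_eq_one_even h2] at this
    omega
  · rw [card_irr_of_iff (famCS_irr (he := he)) (fun χ => χ 1 = Nat.card F - 1) fun χ hχ =>
      ⟨mem_famCS_of_deg hχ he (by omega), famCS_deg⟩]
    have := card_famCS (he := he)
    rw [card_sq_eq_one_even h2] at this
    omega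

end Cfsg.Agent.S2300
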