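import Cfsg.Statements.S3188
import Cfsg.Agent.H11.AbS

set_option autoImplicit false
open Cfsg

namespace Cfsg.Agent.S3188

/-- Let G be a finite group with abelian Sylow 2-subgroups in which the centralizer of every involution is solvable. Then either G is solvable, or G modulo its largest normal subgroup of odd order has a normal subgroup isomorphic to PSL(2, q) with trivial centralizer (so that the quotient embeds in the automorphism group of PSL(2, q)), where q ≡ 3 or 5 mod 8 with q ≥ 5, or q = 2^n with n ≥ 2. -/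
theorem result {G : Type*} [Group G] [Finite G]
    (S : Sylow 2 G) (hS : IsMulCommutative ↥(S : Subgroup G))
    (hC : ∀ t : G, orderOf t = 2 → Group.IsSolvable ↥(Subgroup.centralizer ({t} : Set G))) :
    Group.IsSolvable G ∨
      ∃ (F : Type) (_ : Field F) (_ : Fintype F),
        (((Fintype.card F % 8 = 3 ∨ Fintype.card F % 8 = 5) ∧ 5 ≤ Fintype.card F) ∨
          (∃ n : ℕ, 2 ≤ n ∧ Fintype.card F = 2 ^ n)) ∧
        ∃ N : Subgroup (G ⧸ Cfsg.oddCore G), N.Normal ∧
          Nonempty (↥N ≃* Matrix.ProjectiveSpecialLinearGroup (Fin 2) F) ∧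
          Subgroup.centralizer (N : Set (G ⧸ Cfsg.oddCore G)) = ⊥ := by
  refine or_iff_not_imp_left.2 fun hG => ?_
  have hf := QuotientGroup.mk'_surjective (oddCore G)
  have hk : Odd (Nat.card (QuotientGroup.mk' (oddCore G)).ker) := by
    rw [QuotientGroup.ker_mk']; exact GW.odd_oddCore
  have hQ : ¬ Group.IsSolvable (G ⧸ oddCore G) := fun h =>
    hG (H11.FT.solvable_of_quot (fun _ _ _ h => FT.solvable_of_odd h) h)
  have hS' : IsMulCommutative (S.mapSurjective hf : Subgroup (G ⧸ oddCore G)) :=
    inferInstanceAs (IsMulCommutative ((S : Subgroup G).map _))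
  have hC' : ∀ t : G ⧸ oddCore G, orderOf t = 2 →
      Group.IsSolvable (Subgroup.centralizer ({t} : Set (G ⧸ oddCore G))) := fun t ht => by
    obtain ⟨s, rfl, hs⟩ := H6.exists_involution_lift _ hf (Nat.two_dvd_ne_zero.2 (Nat.odd_iff.1 hk)) ht
    have := H10.map_centralizer_of_surjective hf (A := Subgroup.zpowers s)
      (by rw [Nat.card_zpowers, hs]; exact Nat.coprime_two_left.2 hk) (Or.inl inferInstance)
    rw [MonoidHom.map_zpowers, H10.centralizer_zpowers, H10.centralizer_zpowers] at this
    exact this ▸ H1.isSolvable_map _ (hC s hs)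
  haveI : Nontrivial (G ⧸ oddCore G) := not_subsingleton_iff_nontrivial.1 fun _ => hQ inferInstance
  obtain ⟨N, h1, h2, h3, h4⟩ := H11.exists_simple_normal hC' BS.Bd.oddCore_quot (by
    by_contra h
    have := H11.solvable_normalizer _ hS' hC' (H10.pCore_isPGroup' 2 _) h
    rw [Subgroup.normalizer_eq_top] at this
    exact hQ (solvable_of_surjective (f := (⊤ : Subgroup (G ⧸ oddCore G)).subtype) fun x => ⟨⟨x, trivial⟩, rfl⟩))
  obtain ⟨T, hT⟩ := ((H11.isSylIn_top (S.mapSurjective hf)).inf_of_normalized (N := N) le_top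
    Subgroup.le_normalizer_of_normal).exists_sylow
  obtain ⟨F, _, _, h5, h6⟩ := H11.psl2_of_abelian T ⟨⟨fun a b => Subtype.ext (Subtype.ext
    (Subtype.ext_iff.1 (hS'.1.1 ⟨_, (hT.le a.2).1⟩ ⟨_, (hT.le b.2).1⟩) :))⟩⟩ (fun t ht => by
      haveI := hC' t ((Subgroup.orderOf_coe t).trans ht)
      exact solvable_of_solvable_injective (f := (N.subtype.comp (Subgroup.subtype _)).codRestrict
        (Subgroup.centralizer {(t : G ⧸ oddCore G)}) fun x => H11.mem_cent1.2
          (congrArg Subtype.val (H11.mem_cent1.1 x.2)))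
        fun a b h => Subtype.ext (Subtype.ext (Subtype.ext_iff.1 h :))) h3
  exact ⟨F, _, _, h5, N, h1, h6, h4⟩

end Cfsg.Agent.S3188
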