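import Cfsg.Statements.S5892
import Cfsg.Agent.H12.PMe
import Cfsg.Agent.H18.SpCase

set_option autoImplicit false
open Cfsg

namespace Cfsg.Agent.S5892

/-- Let F be a finite field of odd order q ≥ 5 and characteristic p, and let M be a maximal subgroup of PSL₂(F). Then one of the following holds: |M| = q(q − 1)/2 (the stabiliser of a point of the projective line); q ≥ 13 and M is dihedral of order q − 1; q ∉ {7, 9} and M is dihedral of order q + 1; q = q₀² and M ≅ PGL₂(F₀) with |F₀| = q₀; q = q₀^r for an odd prime r and M ≅ PSL₂(F₀) with |F₀| = q₀; q ≡ ±1 (mod 10) with q = p or q = p², p ≡ ±3 (mod 10), and M ≅ A₅; q = p ≡ ±3 (mod 8), q ≢ ±1 (mod 10), and M ≅ A₄; or q = p ≡ ±1 (mod 8) and M ≅ S₄. -/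
theorem result {F : Type*} [Field F] [Fintype F] (p : ℕ)
    [Fact p.Prime] [CharP F p] (hodd : Odd (Fintype.card F)) (h5 : 5 ≤ Fintype.card F)
    (M : Subgroup (Matrix.ProjectiveSpecialLinearGroup (Fin 2) F)) (hM : IsCoatom M) :
    2 * Nat.card M = Fintype.card F * (Fintype.card F - 1) ∨
    (13 ≤ Fintype.card F ∧ (∃ k : ℕ, 2 * k = Fintype.card F - 1 ∧ Nonempty (M ≃* DihedralGroup k))) ∨
    (Fintype.card F ≠ 7 ∧ Fintype.card F ≠ 9 ∧ (∃ k : ℕ, 2 * k = Fintype.card F + 1 ∧ Nonempty (M ≃* DihedralGroup k))) ∨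
    (∃ (F₀ : Type) (_ : Field F₀) (_ : Fintype F₀), Fintype.card F = Fintype.card F₀ ^ 2 ∧
        Nonempty (M ≃* Matrix.ProjGenLinGroup (Fin 2) F₀)) ∨
    (∃ (F₀ : Type) (_ : Field F₀) (_ : Fintype F₀) (r : ℕ), r.Prime ∧ Odd r ∧ Fintype.card F = Fintype.card F₀ ^ r ∧
        Nonempty (M ≃* Matrix.ProjectiveSpecialLinearGroup (Fin 2) F₀)) ∨
    ((Fintype.card F % 10 = 1 ∨ Fintype.card F % 10 = 9) ∧
        (Fintype.card F = p ∨ (Fintype.card F = p ^ 2 ∧ (p % 10 = 3 ∨ p % 10 = 7))) ∧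
        Nonempty (M ≃* alternatingGroup (Fin 5))) ∨
    (Fintype.card F = p ∧ (p % 8 = 3 ∨ p % 8 = 5) ∧ ¬ (p % 10 = 1 ∨ p % 10 = 9) ∧
        Nonempty (M ≃* alternatingGroup (Fin 4))) ∨
    (Fintype.card F = p ∧ (p % 8 = 1 ∨ p % 8 = 7) ∧ Nonempty (M ≃* Equiv.Perm (Fin 4))) := by
    have hp := (Fact.out : p.Prime)
    have h2 : (2 : F) ≠ 0 := H18.two_ne_zero_iff_odd.mpr hodd
    have e := M.equivMapOfInjective _ Matrix.ProjectiveSpecialLinearGroup.toPGL_injective
    have h := H12.MP.of_psl hM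
    have h0 := H12.odd_card h2
    have hG := H12.card_PSL2 (F := F) rfl
    rw [((H12.gcd_two_cases Fintype.card_pos).resolve_left (by omega)).1] at hG
    have hq : Fintype.card F ^ 2 - 1 = (Fintype.card F - 1) * (Fintype.card F + 1) := by
      simpa [mul_comm] using Nat.sq_sub_sq _ 1
    rcases h.cases p (by omega) with ⟨x, a⟩ | ⟨D, b, s, a1, a2, a⟩ | ⟨E, k, r, a1, a2, a3, a⟩ |
      ⟨a, ⟨⟨f⟩⟩ | ⟨⟨f⟩⟩⟩ | ⟨a1, a2, a3, ⟨f⟩⟩
    · have := H12.card_inf_stabilizer h.le x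
      rw [← a, ← Nat.card_congr e.toEquiv, ← Nat.card_congr (MonoidHom.ofInjective
        Matrix.ProjectiveSpecialLinearGroup.toPGL_injective).toEquiv] at this
      rw [← this, hq, ← mul_assoc, ← mul_assoc] at hG
      exact Or.inl (Nat.eq_of_mul_eq_mul_right (by omega) hG)
    · obtain ⟨s, b1, -, b2, b3⟩ := H12.exists_dih_LL h2 (by omega) a1 a2
      rw [← a] at b2
      have b4 : orderOf (b * b) ≠ 2 ∧ orderOf (b * b) ≠ 4 := ⟨fun c => h.not_dih h2 (by omega) b2 b1
        (Or.inl ⟨c, H12.sq_mem_LL b⟩), fun c => h.not_dih h2 (by omega) b2 b1 (Or.inr c)⟩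
      obtain ⟨u, t, c1, -, c2⟩ := b2.of_map Matrix.ProjectiveSpecialLinearGroup.toPGL_injective
      rw [← c1, orderOf_injective _ Matrix.ProjectiveSpecialLinearGroup.toPGL_injective] at b3 b4
      have := Matrix.ProjectiveSpecialLinearGroup.rank_two_simple (F := F) (by rw [Nat.card_eq_fintype_card]; omega)
      have key : ∀ {G : Type} [Group G] {r : ℕ} (X : Subgroup (Matrix.ProjectiveSpecialLinearGroup (Fin 2) F)) (f : X ≃* G) (b t : G), r.Prime → orderOf u = r →
          ¬ r ^ 2 ∣ Nat.card (Matrix.ProjectiveSpecialLinearGroup (Fin 2) F) → 2 * r < Nat.card G →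
          2 * Nat.card G < 7 * (7 ^ 2 - 1) → 7 ≤ Fintype.card F → b ^ r = 1 ∧ t * b * t⁻¹ = b⁻¹ ∧ t * b ≠ b * t →
          False := fun X f b t d1 d2 d3 d4 d5 d6 ⟨d7, d8, d9⟩ => by
        let φ := X.subtype.comp f.symm.toMonoidHom
        have hφ : Function.Injective φ := X.subtype_injective.comp f.symm.injective
        have := Fact.mk d1
        rw [← Nat.card_congr f.toEquiv] at d4 d5
        exact c2.not_coatom d1 d2 d3 (H12.ne_top_of_card d6 d5) d4 (b := φ b) (t := φ t) (f.symm b).2 (f.symm t).2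
          (by rw [orderOf_injective φ hφ, orderOf_eq_prime d7 (by rintro rfl; simp at d9)])
          (by rw [← map_inv, ← map_mul, ← map_mul, d8, map_inv]) (by rwa [← map_mul, ← map_mul, hφ.ne_iff]) hM
      have b5 : Fintype.card F = 7 → orderOf u ≠ 3 := fun c d => by
        obtain ⟨X, ⟨f⟩⟩ := (S0803.result c).mpr rfl
        exact key X f H12.perm4b (Equiv.swap 0 1) Nat.prime_three d (by rw [c] at hG; omega)
          (by rw [H12.card_perm4]; omega) (by rw [H12.card_perm4]; omega) c.ge (by decide +kernel)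
      have b6 : Fintype.card F = 9 ∨ Fintype.card F = 11 → orderOf u ≠ 5 := fun c d => by
        obtain ⟨X, ⟨f⟩⟩ := (S0804.result (F := F) rfl).mpr (by rcases c with c | c <;> rw [c] <;> norm_num)
        obtain ⟨t, ht⟩ : ∃ t, (H12.alt5a * H12.alt5b) ^ 5 = 1 ∧ t * (H12.alt5a * H12.alt5b) * t⁻¹ =
          (H12.alt5a * H12.alt5b)⁻¹ ∧ t * (H12.alt5a * H12.alt5b) ≠ H12.alt5a * H12.alt5b * t := by decide +kernel
        exact key X f _ t Nat.prime_five d (by rcases c with c | c <;> rw [c] at hG <;> omega)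
          (by rw [H12.card_alt5]; omega) (by rw [H12.card_alt5]; omega) (by omega) ht
      rcases a2 with c | c
      · exact Or.inr (Or.inl ⟨by omega, _, b3.trans c, c2.nonempty_equiv⟩)
      · exact Or.inr (Or.inr (Or.inl ⟨by omega, by omega, _, b3.trans c, c2.nonempty_equiv⟩))
    · obtain ⟨K, _, _, ⟨g⟩⟩ := H12.exists_small_field E
      have b1 : Fintype.card K = Nat.card E := by rw [Nat.card_congr g.toEquiv, Nat.card_eq_fintype_card]
      rcases a1.eq_two_or_odd' with rfl | c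
      · rw [inf_eq_right.mpr (H12.subPGL_le_LL h2 a3 k)] at a
        obtain ⟨f⟩ := H12.nonempty_subPGL_equiv E k
        exact Or.inr (Or.inr (Or.inr (Or.inl ⟨K, _, _, by rw [b1, a3], ⟨e.trans ((a ▸ f).trans (H12.pglCongr _ g))⟩⟩)))
      · rw [H12.LL_inf_subPGL h2 c a3 k] at a
        obtain ⟨f⟩ := H12.nonempty_subPSL_equiv E k
        exact Or.inr (Or.inr (Or.inr (Or.inr (Or.inl ⟨K, _, _, r, a1, c, by rw [b1, a3],
          ⟨e.trans ((a ▸ f).trans (H12.pslCongr _ g))⟩⟩))))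
    · iterate 6 right
      refine Or.inl ⟨a, ?_, a ▸ h.not_alt4 h2 (by omega) f, ⟨e.trans f⟩⟩
      by_contra c
      obtain ⟨x, -, y, -, b1, b2⟩ := H12.KP_alt4 f
      obtain ⟨Y, b3, -, b4⟩ := h.not_perm4_le h2 (by omega) b1 b2 (by omega)
      have := Subgroup.card_le_of_le b3
      rw [b4, Nat.card_congr f.toEquiv, H12.card_alt4] at this; omega
    · iterate 7 right
      refine ⟨a, ?_, ⟨e.trans f⟩⟩
      have := (S0803.result a).mp ⟨M, ⟨e.trans f⟩⟩
      by_contra c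
      have c : p % 16 = 3 ∨ p % 16 = 11 ∨ p % 16 = 5 ∨ p % 16 = 13 := by omega
      rcases c with c | c | c | c <;> simp [Nat.pow_mod, c] at this
    · iterate 5 right
      have b1 : ¬ 5 ∣ p := fun c => a2 ((Nat.prime_dvd_prime_iff_eq Nat.prime_five hp).mp c).symm
      have := (S0804.result (F := F) rfl).mp ⟨M, ⟨e.trans f⟩⟩
      rw [hq, Nat.prime_five.dvd_mul, Nat.prime_five.dvd_mul] at this
      have b2 : ¬ 5 ∣ Fintype.card F := by
        rcases a3 with c | ⟨c, -⟩ <;> rw [c]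
        exacts [b1, mt Nat.prime_five.dvd_of_dvd_pow b1]
      refine Or.inl ⟨by omega, a3.imp_right fun c => ⟨c.1, ?_⟩, ⟨e.trans f⟩⟩
      have b3 := c.2
      rw [show p ^ 2 - 1 = (p + 1) * (p - 1) by simpa using Nat.sq_sub_sq p 1, Nat.prime_five.dvd_mul] at b3
      have := hp.eq_two_or_odd; omega

end Cfsg.Agent.S5892
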