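import Cfsg.Statements.S1565
import Cfsg.Agent.H16.M24f

set_option autoImplicit false
open scoped Pointwise
open Cfsg

namespace Cfsg.Agent.S1565
open H16 MulAction in
theorem base : IsCoatom KO := by
  have e : cset 47 = toSet oct0 := congrArg toSet (by decide +kernel : cw 47 = oct0)
  have := tabCode.isCoatom (a := 47) (S := koG)
    (U := [936422021887496909468487318788787733, 920630037026254927832270849032368727, 688145640410724025682632677212540289])
    (by norm_num) (by rw [e]; exact koG_inK) (inK_top_of_allL (by decide +kernel)) (Q := fun s => s.card = 8)
    (fun i => Nat.beq (pc24 (cw i)) 8) (fun i _ => by rw [card_cset, Nat.beq_eq])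
    (fun g => by rw [e]; exact M24_smul_mem_octads g oct0_mem)
    (fun e' => by
      have := card_KO
      rw [e] at e'
      rw [show KO = ⊤ from e', card_top_M24] at this; omega) (by decide +kernel)
  rwa [e] at this

/-- The stabiliser of an octad is a maximal proper subgroup of the group of the length-24 code. -/
theorem result (o : Finset Cfsg.GolayPt) (ho : o ∈ Cfsg.octads) : IsCoatom (MulAction.stabilizer Cfsg.M24 o) := by
  obtain ⟨k, rfl⟩ := H16.M24_octad H16.oct0_mem ho
  exact H16.isCoatom_conj (H16.conj_mem_stabilizer k (a := _)) base

end Cfsg.Agent.S1565
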