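import Cfsg.Statements.S2284
import Cfsg.Agent.L0.PresA5

set_option autoImplicit false
open Cfsg

namespace Cfsg.Agent.S2284

open Cfsg.Agent.L0


/-- For every n, the symmetric group S_n and the alternating group A_n each have a presentation with 2 generators and at most 8 relations. -/
theorem result (n : ℕ) : (∃ rels : Finset (FreeGroup (Fin 2)), rels.card ≤ 8 ∧ Nonempty (PresentedGroup (↑rels : Set (FreeGroup (Fin 2))) ≃* Equiv.Perm (Fin n))) ∧ (∃ rels : Finset (FreeGroup (Fin 2)), rels.card ≤ 8 ∧ Nonempty (PresentedGroup (↑rels : Set (FreeGroup (Fin 2))) ≃* ↥(alternatingGroup (Fin n)))) := by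
  have key : ∀ {G : Type} [Group G] (a : G), a ^ 2 = 1 → (∀ x, x = 1 ∨ x = a) →
      ∃ rels : Finset (FreeGroup (Fin 2)), rels.card ≤ 8 ∧
        Nonempty (PresentedGroup (↑rels : Set (FreeGroup (Fin 2))) ≃* G) := fun {G} _ a h1 h2 => by
    classical
    refine (Pres.intro (g := ![a, a]) [FreeGroup.of 0 ^ 2, FreeGroup.of 0 * (FreeGroup.of 1)⁻¹,
      if a = 1 then FreeGroup.of 0 else 1] (by simp) ?_ ?_ ?_).final'
    · rw [eq_top_iff]; intro x _
      rcases h2 x with rfl | rfl
      exacts [one_mem _, Subgroup.subset_closure ⟨0, rfl⟩]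
    · simp only [List.mem_cons, List.not_mem_nil, or_false, or_imp, forall_and, forall_eq]
      exact ⟨by simpa using h1, by simp, by split_ifs with e <;> simp [e]⟩
    · intro H _ g π b1 b2 b3
      simp only [List.mem_cons, List.not_mem_nil, or_false, or_imp, forall_and, forall_eq, map_pow, map_mul,
        map_inv, FreeGroup.lift_apply_of, mul_inv_eq_one] at b3
      obtain ⟨r1, r2, r3⟩ := b3
      have : ∀ x : H, x = 1 ∨ x = g 0 := fun x => by
        have hx : x ∈ Subgroup.closure (Set.range g) := b2 ▸ Subgroup.mem_top x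
        induction hx using Subgroup.closure_induction with
        | mem x hx => obtain ⟨i, rfl⟩ := hx; fin_cases i <;> simp [r2]
        | one => exact Or.inl rfl
        | mul x y _ _ u v => rcases u with rfl | rfl <;> rcases v with rfl | rfl <;> simp [← sq, r1]
        | inv x _ u =>
          rcases u with rfl | rfl
          · simp
          · exact Or.inr (inv_eq_of_mul_eq_one_right (by rwa [← sq]))
      rw [injective_iff_map_eq_one]
      intro x hx
      rcases this x with e | rfl
      · exact e
      · rw [b1] at hx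
        simpa [show a = 1 from hx] using r3
  by_cases h : 3 ≤ n
  · exact ⟨(p7 n h).1.2.elim fun _ h => (h.mono (by omega)).final',
      (p7 n h).2.2.elim fun _ h => (h.mono (by omega)).final'⟩
  have h' : n < 3 := by omega
  interval_cases n
  · exact ⟨key 1 (by simp) fun x => Or.inl (Subsingleton.elim _ _), key 1 (by simp) fun x => Or.inl (Subsingleton.elim _ _)⟩
  · exact ⟨key 1 (by simp) fun x => Or.inl (Subsingleton.elim _ _), key 1 (by simp) fun x => Or.inl (Subsingleton.elim _ _)⟩
  · exact ⟨key (Equiv.swap 0 1) (by decide) (by decide), key 1 (by simp) (by decide)⟩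

end Cfsg.Agent.S2284
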