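import Cfsg.Statements.S4441
import Cfsg.Agent.H19.Def1D

set_option autoImplicit false
open Cfsg

namespace Cfsg.Agent.S4441

/-- Let p be an odd prime and G a finite group whose Sylow p-subgroup P has order p; let C = C_G(P), N = N_G(P), e the index of C in N and t = (p − 1)/e; fix a maximal ideal M of the algebraic integers containing p and let B₀ be the principal block. Then B₀ is the disjoint union of a set X of e characters and a set Y of t characters such that: each χ ∈ X has a sign ε_χ with χ(1) ≡ ε_χ (mod p) and χ(x y) = ε_χ for every non-identity x ∈ P and every p-regular y ∈ C; all members of Y agree on the p-regular elements of G; there is one sign ε with θ(1) ≡ ε e (mod p) for every θ ∈ Y; and for every θ ∈ Y and every p-regular g, ε θ(g) = Σ_{χ ∈ X} ε_χ χ(g). -/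
theorem result {G : Type*} [Group G] [Fintype G] (p : ℕ) [Fact p.Prime] (M : Ideal Cfsg.AlgInt) (hM : Cfsg.IsPModular p M) (hodd : p ≠ 2) (P : Sylow p G) (hP : Nat.card P = p) (e : ℕ) (he : (Subgroup.centralizer ((P : Subgroup G) : Set G)).relIndex (Subgroup.normalizer ((P : Subgroup G) : Set G)) = e) : ∃ X Y : Set (Cfsg.IrrCharacter G), Cfsg.principalBlock M G = X ∪ Y ∧ Disjoint X Y ∧ Nat.card X = e ∧ Nat.card Y = (p - 1) / e ∧ ∃ (εX : Cfsg.IrrCharacter G → ℤ) (ε : ℤ), (∀ χ ∈ X, (εX χ = 1 ∨ εX χ = -1) ∧ (Cfsg.charDegree (χ : G → ℂ) : ℤ) ≡ εX χ [ZMOD p] ∧ ∀ x : G, x ∈ (P : Subgroup G) → x ≠ 1 → ∀ y : G, y ∈ Subgroup.centralizer ((P : Subgroup G) : Set G) → ¬ p ∣ orderOf y → (χ : G → ℂ) (x * y) = (εX χ : ℂ)) ∧ (ε = 1 ∨ ε = -1) ∧ (∀ θ ∈ Y, (Cfsg.charDegree (θ : G → ℂ) : ℤ) ≡ ε * (e : ℤ) [ZMOD p]) ∧ (∀ θ ∈ Y, ∀ θ' ∈ Y, ∀ g : G, ¬ p ∣ orderOf g → (θ : G → ℂ) g = (θ' : G → ℂ) g)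 ∧ ∀ θ ∈ Y, ∀ g : G, ¬ p ∣ orderOf g → (ε : ℂ) * (θ : G → ℂ) g = ∑ᶠ χ ∈ X, (εX χ : ℂ) * (χ : G → ℂ) g := by
  classical
  obtain ⟨x, hx, hxP, hn⟩ := H19.exists_gen_of_sylow P hP
  obtain ⟨K, h⟩ := H19.exists_PO hx hn
  have hC : Subgroup.centralizer ((P : Subgroup G) : Set G) = Subgroup.centralizer ({x} : Set G) := by
    rw [← hxP, H6.centralizer_zpowers]
  have hE : Nat.card (H19.EE h.ord) = e := by rw [H19.card_EE, ← he, hC, hxP]
  obtain ⟨ε, μ, X, a, hε, hμ, hμX, hX, -, -, hXa, hμv, hB, -⟩ := h.defect_one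
  refine ⟨X, Set.range μ, ?_, ?_, ?_, ?_, a, ε, fun χ hχ => ⟨(hXa χ hχ).1, (hXa χ hχ).2.1, ?_⟩, hε,
    ?_, ?_, ?_⟩
  · ext χ
    rw [hB M hM]; rfl
  · rw [Set.disjoint_right]
    rintro _ ⟨q, rfl⟩
    exact hμX q
  · rw [← hE, ← hX]; simp
  · rw [Nat.card_range_of_injective hμ, ← H19.card_EE_mul h.ord, ← hE,
      Nat.mul_div_cancel_left _ Nat.card_pos]
  · intro u hu hu1 y hy hy'
    rw [← hxP] at hu
    obtain ⟨i, rfl⟩ := (H19.mem_zpowers_iff_xp hx).mp hu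
    rw [hC] at hy
    exact (hXa χ hχ).2.2 i (by rwa [Ne, ← H19.xp_eq_one_iff hx]) y
      ((h.memK y).mpr ⟨H6.mem_centralizer_singleton.mp hy, hy'⟩)
  · rintro _ ⟨q, rfl⟩
    rw [← hE]; exact (hμv q).1
  · rintro _ ⟨q, rfl⟩ _ ⟨r, rfl⟩ g hg
    have hε0 : (ε : ℂ) ≠ 0 := by rcases hε with rfl | rfl <;> simp
    exact mul_left_cancel₀ hε0 (((hμv q).2.2 g hg).trans ((hμv r).2.2 g hg).symm)
  · rintro _ ⟨q, rfl⟩ g hg
    rw [finsum_mem_coe_finset]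
    exact (hμv q).2.2 g hg

end Cfsg.Agent.S4441
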