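import Cfsg.Statements.S2588
import Cfsg.Agent.H13.Wall2

set_option autoImplicit false
open Cfsg

namespace Cfsg.Agent.S2588

/-- An invertible matrix A over the field with q² elements is conjugate in GL_n(q²) to an element of the general unitary group GU_n(q) (isometries of the Hermitian form Σ u_i v_i^q) if and only if A is similar to the inverse transpose of its entrywise q-th power (A ~ A^(−qT), the image of A under the map sending a matrix to the inverse transpose of its entrywise q-th power — inverse transpose composed with the field automorphism — whose fixed points form GU_n(q)). -/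
theorem result {K : Type*} [Field K] [Fintype K] {q n : ℕ} (hK : Fintype.card K = q ^ 2) (A : GL (Fin n) K) : (∃ B : ↥(Cfsg.GU n K q), IsConj A (B : GL (Fin n) K)) ↔ IsConj (A : Matrix (Fin n) (Fin n) K) (((A : Matrix (Fin n) (Fin n) K).map (fun x : K => x ^ q)).transpose)⁻¹ := by
  have h0 (A : GL (Fin n) K) : A.1.det ≠ 0 := A.det_ne_zero
  refine ⟨?_, fun h => ?_⟩
  · rintro ⟨B, h⟩
    obtain ⟨σ, hσ, -⟩ := H28.exists_frob_two hK
    have h1 : IsConj (H28.uniT _ σ B.1) (H28.uniT _ σ A) :=
      (H28.uniT _ σ).toMonoidHom.map_isConj h.symm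
    rw [(H28.mem_GU_iff_uniT hσ).1 B.2] at h1
    rw [← funext hσ, ← H28.cT, ← H28.coe_uniT_inv, ← Matrix.coe_units_inv, inv_inv]
    exact H28.isConj_GL_iff.1 (h.trans h1)
  · obtain ⟨C, hC, hC'⟩ := H13.exists_nds_of_isConj (σ := H12.frobq hK) (H12.frobq_frobq hK) (h0 A) h
    obtain ⟨B, hB, hB'⟩ := hC.exists_sd hC' (.inl (H12.frobq_ne_id hK))
    obtain ⟨e, he⟩ := hB.exists_equiv_std (H12.frobq_ne_id hK) (H12.skw_ne hK) (H12.frobq_skw hK)
      (Module.finrank_fin_fun K)
    obtain ⟨g, hg⟩ := (H13.rl_GU hK n).exists_sim e (c := 1) (d := 1) (N' := fun _ => 0)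
      (by simpa using he) (by simp) hB' (by simp)
    exact ⟨g, H28.isConj_GL_iff.2 (H28.isConj_iff_sim.2 hg)⟩

end Cfsg.Agent.S2588
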