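import Cfsg.Statements.S2386
import Cfsg.Agent.H13.Wall4
import Cfsg.Agent.S2588

set_option autoImplicit false
open Cfsg

namespace Cfsg.Agent.S2386

open Polynomial H28 H13

theorem card_fix {F : Type*} [Field F] [Fintype F] {q : ℕ} (hF : Fintype.card F = q ^ 2) (m : ℕ) :
    Nat.card {c : Fin (m + 2) → F // c (Fin.last _) = 1 ∧
      (fun i => (-1) ^ (m + 1) * H12.frobq hF (c (Fin.rev i))) = c} = q ^ m := by
  let T : (Fin (m + 2) → F) →ₛₗ[H12.frobq hF] (Fin (m + 2) → F) :=
    ⟨⟨fun c i => (-1) ^ (m + 1) * H12.frobq hF (c i.rev), fun c d => by ext; simp [mul_add]⟩,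
      fun a c => by ext; simp [mul_left_comm]⟩
  have h0 (x : F) : (-1) ^ (m + 1) * ((-1) ^ (m + 1) * x) = x := by
    rw [← mul_assoc, ← mul_pow]; simp
  have hT (c) : T (T c) = c := by ext; simp [T, H12.frobq_frobq, h0]
  have h1 := card_fixed_semilinear (H12.frobq_ne_id hF) (H12.frobq_frobq hF) T hT
  let s (x : F) := Pi.single (Fin.last _) x + T (Pi.single (Fin.last _) x)
  have h2 (x) : T (s x) = s x := by simp [s, hT, add_comm]
  have h3 (x) : s x (Fin.last _) = x := by simp [s, T]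
  rw [Nat.card_congr (show {v // T v = v} ≃ F × {c // c (Fin.last _) = 1 ∧ T c = c} from
    ⟨fun c => (c.1 (Fin.last _), ⟨c - s (c.1 (Fin.last _) - 1), by simp [h3], by simp [h2, c.2]⟩),
      fun x => ⟨x.2 + s (x.1 - 1), by simp [h2, x.2.2]⟩, fun c => by simp,
      fun x => by simp [h3, x.2.2]⟩), Nat.card_prod, Nat.card_fun, Nat.card_eq_fintype_card, hF,
    Nat.card_eq_fintype_card (α := Fin _), Fintype.card_fin, ← pow_mul, mul_comm 2, pow_mul,
    Nat.pow_left_inj two_ne_zero, pow_add, mul_comm] at h1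
  exact Nat.eq_of_mul_eq_mul_right (by have := H12.two_le_of_card_eq_sq hF; positivity) h1

theorem charpoly_dual {F ι : Type*} [Field F] [Fintype ι] [DecidableEq ι] (σ : F →+* F) {n : ℕ}
    (hn : Fintype.card ι = n) {A : Matrix ι ι F} (h : A.det = 1) : ((A.map σ).transpose)⁻¹.charpoly = A.charpoly ↔
      (fun i : Fin (n + 1) => (-1) ^ n * σ (A.charpoly.coeff (Fin.rev i))) =
        fun i : Fin (n + 1) => A.charpoly.coeff i := by
  have h1 : (A.map σ).transpose.det = 1 := by
    rw [Matrix.det_transpose, ← RingHom.mapMatrix_apply, ← RingHom.map_det, h, map_one]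
  subst hn
  rw [ext_iff_natDegree_le (n := Fintype.card ι) (by simp) (by simp), Matrix.charpoly_inv _
    ((Matrix.isUnit_iff_isUnit_det _).2 (by simp [h1])), h1, ← Matrix.reverse_charpoly,
    Matrix.charpoly_transpose, Matrix.charpoly_map, funext_iff, Fin.forall_iff]
  refine forall_congr' fun i => ?_
  rw [← C_1, ← C_neg, ← C_pow, ← C_mul, ← Nat.lt_succ_iff]
  refine forall_congr' fun hi => ?_
  rw [coeff_C_mul]
  simp [coeff_reverse, revAt_le (Nat.le_of_lt_succ hi)]

/-- In the special unitary group `SU_n(q)` (matrices of determinant one over the field with `q²` elements preserving the standard Hermitian form), `q` a power of the prime `p`, the number of conjugacy classes of elements of order prime to `p` is `q^(n-1)`. -/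
theorem result {F : Type*} [Field F] [Fintype F] {q : ℕ} (hF : Fintype.card F = q ^ 2) (p : ℕ) [Fact p.Prime] [CharP F p] (n : ℕ) (hn : 1 ≤ n) :
    Nat.card {c : ConjClasses ↥(Cfsg.SU n F q) // ∃ g : ↥(Cfsg.SU n F q), ConjClasses.mk g = c ∧ (orderOf g).Coprime p} = q ^ (n - 1) := by
  obtain ⟨m, rfl⟩ : ∃ m, n = m + 1 := ⟨n - 1, by omega⟩
  obtain ⟨σ, hσ, -⟩ := exists_frob_two hF
  rw [card_conjClasses_eq' (fun g : SU (m + 1) F q => g.1.1.charpoly) _
    (fun f => (f.Monic ∧ f.natDegree = m + 1) ∧ (fun c : Fin (m + 2) → F =>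
      (fun i => (-1) ^ (m + 1) * H12.frobq hF (c (Fin.rev i))) = c) fun i => f.coeff i)
    (fun g h hg hh => ⟨fun h => ?_, isConj_SU_of_charpoly hF (natCast_ne_zero_of_coprime hg)
      (pow_orderOf_eq_one g) (natCast_ne_zero_of_coprime hh) (pow_orderOf_eq_one h)⟩)
    (fun g _ => ⟨⟨g.1.1.charpoly_monic, by simp⟩, (charpoly_dual _ (by simp) g.1.2).1 ?_⟩)
    fun f ⟨⟨h1, h2⟩, h3⟩ => ?_]
  · exact (card_monic _ _).trans (card_fix hF m)
  · exact (Matrix.charpoly_toLin' _).symm.trans ((sim_of_isConj ((tg _).comp (suGU _ F q))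
      h).charpoly_eq.trans (Matrix.charpoly_toLin' _))
  · rw [show ⇑(H12.frobq hF) = σ from funext fun x => (hσ x).symm]
    exact congrArg _ (Matrix.inv_eq_right_inv ((mem_SU_iff hσ).1 g.2))
  · have h4 : f.coeff 0 = (-1) ^ (m + 1) := by
      simpa [← h2, h1.coeff_natDegree] using (congrFun h3 0).symm
    obtain ⟨g, hg, rfl⟩ := exists_GL_isSS_charpoly (n := Fin (m + 1)) h1 (by simpa using h2)
      (by simp [h4])
    have hd : g.1.det = 1 := by
      rw [det_eq_of_charpoly, h4, Fintype.card_fin, ← mul_pow]; simp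
    have h5 := (coprime_orderOf_iff_isSS (p := p) g).2 hg
    obtain ⟨B, hB⟩ := (S2588.result hF g).2 (isConj_of_charpoly_eq hg
      (isSS_of_pow_eq_one (natCast_ne_zero_of_coprime h5) (by
        rw [Matrix.inv_pow', ← Matrix.transpose_pow, show (fun x : F => x ^ q) = H12.frobq hF from rfl,
          ← Matrix.map_pow, ← Units.val_pow_eq_pow_val, pow_orderOf_eq_one]
        simp)) ((charpoly_dual (H12.frobq hF) (by simp) hd).2 h3).symm)
    have h6 := isConj_iff_sim.1 (isConj_GL_iff.1 hB)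
    obtain ⟨x, rfl⟩ : B ∈ (suGU _ F q).range := by
      rw [range_suGU]
      exact Units.ext (by simpa [hd] using h6.det_eq.symm)
    refine ⟨x, ?_, (Matrix.charpoly_toLin' _).symm.trans
      (h6.charpoly_eq.symm.trans (Matrix.charpoly_toLin' _))⟩
    obtain ⟨c, hc⟩ := hB
    rwa [← orderOf_injective _ (suGU_injective _), ← Subgroup.orderOf_coe, ← hc.orderOf_eq]

end Cfsg.Agent.S2386
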