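import Cfsg.Statements.S2385
import Cfsg.Agent.H13.Wall4
import Cfsg.Agent.S2386
import Cfsg.Agent.S2389
import Cfsg.Agent.S2512

set_option autoImplicit false
open Cfsg

namespace Cfsg.Agent.S2385

open Polynomial H28 H13

theorem card_pal {F : Type*} [Field F] (n : ℕ) :
    Nat.card {c : Fin (2 * n + 1) → F // c (Fin.last _) = 1 ∧
      (fun i => (-1) ^ (2 * n) * RingHom.id F (c (Fin.rev i))) = c} = Nat.card (Fin n → F) := by
  refine Nat.card_congr (Equiv.ofBijective (fun c j => c.1 ⟨j + 1, by omega⟩) ⟨fun c d h => ?_,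
    fun w => ⟨⟨fun i => Fin.cons (α := fun _ => F) 1 w ⟨min i (2 * n - i), by omega⟩, by simp,
      funext fun i => ?_⟩, funext fun j => ?_⟩⟩)
  · have h1 (c : {c : Fin (2 * n + 1) → F // c (Fin.last _) = 1 ∧
      (fun i => (-1) ^ (2 * n) * RingHom.id F (c (Fin.rev i))) = c}) (i : Fin _) : c.1 i.rev = c.1 i := by
      simpa using congrFun c.2.2 i
    have h2 (i : Fin (2 * n + 1)) (hi : i ≤ n) : c.1 i = d.1 i := by
      obtain ⟨_ | i, h'⟩ := i
      · exact (h1 c _).symm.trans (c.2.1.trans (d.2.1.symm.trans (h1 d 0)))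
      · exact congrFun h ⟨i, hi⟩
    ext i
    by_cases hi : (i : ℕ) ≤ n
    · exact h2 i hi
    · rw [← h1, ← h1 d, h2 _ (by simp; omega)]
  · simp only [Even.neg_pow (even_two_mul n), one_pow, one_mul, RingHom.id_apply]
    congr 2
    simp; omega
  · rw [← Fin.cons_succ (α := fun _ => F) 1 w j]
    dsimp only
    congr 1
    ext; simp; omega

/-- In the symplectic group `Sp_{2n}(q)`, `q` a power of the prime `p`, the number of conjugacy classes of elements of order prime to `p` is `q^n`. -/
theorem result {F : Type*} [Field F] [Fintype F] {q : ℕ} (hq : Fintype.card F = q) (p : ℕ) [Fact p.Prime] [CharP F p] (n : ℕ) :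
    Nat.card {c : ConjClasses ↥(Matrix.symplecticGroup (Fin n) F) //
      ∃ g : ↥(Matrix.symplecticGroup (Fin n) F), ConjClasses.mk g = c ∧ (orderOf g).Coprime p} = q ^ n := by
  classical
  rw [card_conjClasses_eq' (fun g : Matrix.symplecticGroup (Fin n) F => g.1.charpoly) _
    (fun f => (f.Monic ∧ f.natDegree = 2 * n) ∧ (fun c : Fin (2 * n + 1) → F =>
      (fun i => (-1) ^ (2 * n) * RingHom.id F (c (Fin.rev i))) = c) fun i => f.coeff i)
    (fun g h hg hh => ⟨fun h => ?_, S2389.result p n g h hg hh⟩)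
    (fun g _ => ⟨⟨g.1.charpoly_monic, by simp [two_mul]⟩, (S2386.charpoly_dual _ (by simp [two_mul])
      (SymplecticGroup.det_eq_one g.2)).1 ?_⟩) fun f ⟨⟨h1, h2⟩, h3⟩ => ?_]
  · exact (card_monic _ _).trans ((card_pal n).trans (by simp [hq]))
  · simpa [tsp, tl] using (sim_of_isConj (tsp _ F) h).charpoly_eq
  · simp only [RingHom.coe_id, Matrix.map_id]
    rw [← Matrix.transpose_nonsing_inv, Matrix.charpoly_transpose,
      SymplecticGroup.inv_eq_symplectic_inv _ g.2, Matrix.charpoly_mul_comm, ← Matrix.mul_assoc]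
    simp [Matrix.J_squared]
  · have h4 : f.coeff 0 = 1 := by simpa [h2 ▸ h1.coeff_natDegree] using (congrFun h3 0).symm
    obtain ⟨g, hg, rfl⟩ := exists_GL_isSS_charpoly (n := Fin (2 * n)) h1 (by simpa using h2)
      (by simp [h4])
    have hd : g.1.det = 1 := by simp [det_eq_of_charpoly, h4]
    have h5 := (coprime_orderOf_iff_isSS (p := p) g).2 hg
    have hk := natCast_ne_zero_of_coprime (F := F) h5
    obtain ⟨C, hC, hC'⟩ := exists_nds_of_isConj (σ := .id F) (fun _ => rfl) g.det_ne_zero
      (isConj_of_charpoly_eq hg (isSS_of_pow_eq_one hk (by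
        rw [Matrix.inv_pow', ← Matrix.transpose_pow, ← Matrix.map_pow, ← Units.val_pow_eq_pow_val,
          pow_orderOf_eq_one]
        simp)) ((S2386.charpoly_dual _ (by simp) hd).2 h3).symm)
    have S := stab_rts hC.sep hC'
    set M := rts (Matrix.toLin' g.1) with hM
    obtain ⟨B, a, hB, ha, h6, h7⟩ := exists_sd_rts (σ := .id F) (fun _ => rfl) (.id _) (fun _ => rfl)
      (M := M.filter (· ^ 2 ≠ 1)) (by
        conv_rhs => rw [← S.pow, Multiset.filter_map]
        exact congrArg _ (Multiset.filter_congr fun x _ => by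
          rw [Function.comp, ← pow_mul, mul_comm, pow_mul, ← one_pow (Fintype.card F)]
          simp [← S.inj.ne_iff (x := x ^ 2)])) (by
        conv_rhs => rw [← S.inv, Multiset.filter_map]
        simp [inv_eq_iff_eq_inv]) hk (fun x hx => by
        simpa using pow_eq_of_mem_rts (Multiset.mem_filter.1 hx).1 (c := 1) (m := orderOf g) (by
          rw [← Matrix.toLin'_pow, ← Units.val_pow_eq_pow_val, pow_orderOf_eq_one]; simp; rfl))
      (.inr fun x hx => (Multiset.mem_filter.1 hx).2)
    obtain ⟨i, j, h8, h9⟩ : ∃ i j, M = M.filter (· ^ 2 ≠ 1) + .replicate j (-1) + .replicate i 1 ∧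
        (j ≠ 0 → (-1 : AlgebraicClosure F) ≠ 1) := by
      refine ⟨M.count 1, if (-1 : AlgebraicClosure F) = 1 then 0 else M.count (-1),
        Multiset.ext' fun x => ?_, by simp +contextual⟩
      simp only [Multiset.count_add, Multiset.count_filter, Multiset.count_replicate, ne_eq, sq_eq_one_iff]
      by_cases h : 1 = x
      · subst h; split_ifs <;> simp_all
      · by_cases h' : -1 = x
        · subst h'; simp [h, Ne.symm h]
        · simp [h, h', Ne.symm h, Ne.symm h']
    obtain ⟨j, rfl⟩ : Even j := by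
      have := prod_rts (Matrix.toLin' g.1)
      rw [← hM, h8, Multiset.prod_add, Multiset.prod_add, ← h7, prod_rts, S2512.det_sp hB ha] at this
      by_contra h
      rw [Nat.not_even_iff_odd] at h
      exact h9 h.pos.ne' (by simpa [h.neg_one_pow, hd] using this)
    obtain ⟨k, hk'⟩ := hB.even_finrank
    have h10 := congrArg Multiset.card h8
    obtain ⟨e, he⟩ := sp_equiv (sd_sumB (sd_sumB hB (H12.sd_spB (l := Fin j)))
      (H12.sd_spB (l := Fin (n - k - j)))) (H12.sd_spB (l := Fin n))
      (by simp [hM, card_rts] at h10 hk' ⊢; omega)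
    obtain ⟨x, hx⟩ := rl_sp.exists_sim e (c := 1) (d := 1) (N' := fun _ => 0) (by simpa using he)
      (by simp) ((ha.prodMap (b := (-1 : F) • 1) fun _ _ => by simp).prodMap (b := 1) fun _ _ => rfl)
      (by simp)
    refine ⟨x, Nat.Coprime.coprime_dvd_left (orderOf_dvd_of_pow_eq_one (rl_sp.inj ?_))
      (h5.mul_left (coprime_card_pow_sub_one (F := F) one_pos)), ?_⟩
    · rw [map_pow, map_one, ← (hx.pow _).eq_one_iff, prodMap_pow, prodMap_pow, pow_mul, h6, _root_.smul_pow,
        pow_mul', pow_one, Nat.card_eq_fintype_card, FiniteField.pow_card_sub_one_eq_one _ (by simp)]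
      simp [LinearMap.prodMap_one]
    · rw [← Matrix.charpoly_toLin', ← Matrix.charpoly_toLin']
      refine charpoly_eq_of_rts (hx.rts_eq.symm.trans ?_)
      rw [rts_prodMap, rts_prodMap, h7, rts_smul_one, rts_one, ← hM]
      conv_rhs => rw [h8]
      congr 2 <;> simp [hM, card_rts] at h10 hk' ⊢
      omega

end Cfsg.Agent.S2385
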