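import Cfsg.Statements.S4691
import Cfsg.Agent.H7.Local3
-- import your own Cfsg.Agent.* helpers here

set_option autoImplicit false
open Cfsg

namespace Cfsg.Agent.S4691

open MonoidAlgebra Cfsg.Agent.H3 Cfsg.Agent.H4 Cfsg.Agent.H7
open Cfsg.Agent.H6 (Res locRing redC redA eB fB intAlg classSum omega chiL)
open scoped Pointwise
set_option linter.style.haveILetI false


/-- Fix a prime p and a maximal ideal M of the algebraic integers containing p. A finite group G has a normal p-complement if and only if its principal p-block is nilpotent. -/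
theorem result {G : Type*} [Group G] [Fintype G] (p : ℕ) [Fact p.Prime] (M : Ideal Cfsg.AlgInt) (hM : Cfsg.IsPModular p M) : Cfsg.HasNormalPComplement p G ↔ Cfsg.IsNilpotentBlock p M (Cfsg.principalBlock M G) := by
  haveI := hM.2.1; haveI := H6.charP_res hM
  have hp : p.Prime := Fact.out
  constructor
  · exact fun h => ⟨H6.isPBlock_principal, fun Q e hQ x hx _ hxp =>
      mem_centralizer_of_normalizer_hasNormalPComplement hQ.1.1 (hasNormalPComplement_subgroup h _)
        hx (hp.coprime_iff_not_dvd.2 hxp).symm⟩
  · refine fun h => hasNormalPComplement_of_forall_isPGroup fun X hX g hg hc =>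
      h.2 X _ ((isBrauerPairOf_principal_iff hM hX H6.isPBlock_principal).2 rfl) g hg ?_
        (hp.coprime_iff_not_dvd.1 hc.symm)
    have hg' := normalizer_le_normalizer_centralizer X hg
    have hb := blk_eb (M := M) (H6.isPBlock_principal (G := Subgroup.centralizer (X : Set G)))
    refine (stabilizesBlock_iff H6.isPBlock_principal).2 ⟨hg',
      (hb.cj_of_mem_normalizer hg').eq_of_aug hb ?_ ?_⟩ <;>
    simp [aug_cj, aug_eb_principal]

end Cfsg.Agent.S4691
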