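import Cfsg.Statements.S4646
import Cfsg.Agent.S4691
import Cfsg.Agent.H8.Height2
import Cfsg.Agent.H6.Princ
-- import your own Cfsg.Agent.* helpers here

set_option autoImplicit false
open Cfsg

namespace Cfsg.Agent.S4646

open Cfsg.Agent.H4 Cfsg.Agent.H6


/-- For a finite group G, a prime p and a maximal ideal M of the algebraic integers containing p: the principal block of G is nilpotent if and only if its p-regular rank is 1 (the trivial Brauer character is its only irreducible Brauer character). -/
theorem result {G : Type*} [Group G] [Finite G] (p : ℕ) [Fact p.Prime] (M : Ideal Cfsg.AlgInt) (hM : Cfsg.IsPModular p M) : Cfsg.IsNilpotentBlock p M (Cfsg.principalBlock M G) ↔ Cfsg.blockRank p (Cfsg.principalBlock M G) = 1 := by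
  classical
  haveI := hM.2.1
  haveI := Fintype.ofFinite G
  have hp : p.Prime := Fact.out
  rw [← S4691.result p M hM]
  have h1 : pRegularPart p (fun _ : G => (1 : ℂ)) ≠ 0 := fun h => by
    have := congrFun h 1
    rw [pRegularPart_of_not_dvd _ (by simpa using hp.one_lt.ne')] at this
    simp at this
  have hmem : pRegularPart p (fun _ : G => (1 : ℂ)) ∈ Submodule.span ℂ
      ((fun χ : IrrCharacter G => pRegularPart p (χ : G → ℂ)) '' principalBlock M G) :=
    Submodule.subset_span ⟨irrOne G, irrOne_mem_principal, rfl⟩
  constructor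
  · intro h
    have hN := (H3.hasNormalPComplement_iff_not_dvd).1 h
    have : Submodule.span ℂ ((fun χ : IrrCharacter G => pRegularPart p (χ : G → ℂ)) ''
        principalBlock M G) = Submodule.span ℂ {pRegularPart p (fun _ : G => (1 : ℂ))} := by
      apply le_antisymm
      · rw [Submodule.span_le]
        rintro _ ⟨χ, hχ, rfl⟩
        have hk := (mem_principal_iff_of_complement hM hN H3.exists_index_pResidual).1 hχ
        refine Submodule.mem_span_singleton.2 ⟨(χ : G → ℂ) 1, ?_⟩
        funext g
        by_cases hg : p ∣ orderOf g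
        · simp [pRegularPart_of_dvd _ hg]
        · simp only [Pi.smul_apply, pRegularPart_of_not_dvd _ hg, smul_eq_mul, mul_one]
          exact (apply_of_mem_charKer (hk (H3.mem_pResidual_of_coprime
            (hp.coprime_iff_not_dvd.2 hg).symm))).symm
      · rw [Submodule.span_le, Set.singleton_subset_iff]
        exact hmem
    rw [blockRank, this, finrank_span_singleton h1]
  · intro h
    rw [blockRank] at h
    have key : ∀ g : G, ¬ p ∣ orderOf g → g ∈ pPrimeCore p G := by
      intro g hg
      rw [← blockKerSub_principal hM, mem_blockKerSub]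
      intro χ hχ
      have hχ' : pRegularPart p (χ : G → ℂ) ∈ Submodule.span ℂ
          ((fun χ : IrrCharacter G => pRegularPart p (χ : G → ℂ)) '' principalBlock M G) :=
        Submodule.subset_span ⟨χ, hχ, rfl⟩
      obtain ⟨c, hc⟩ := (finrank_eq_one_iff_of_nonzero' (⟨_, hmem⟩ : Submodule.span ℂ
          ((fun χ : IrrCharacter G => pRegularPart p (χ : G → ℂ)) '' principalBlock M G))
          (fun h0 => h1 (congrArg Subtype.val h0))).1 h ⟨_, hχ'⟩
      have hc' := congrArg Subtype.val hc
      simp only [SetLike.mk_smul_mk] at hc'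
      have e1 := congrFun hc' g
      have e2 := congrFun hc' 1
      have h11 : ¬ p ∣ orderOf (1 : G) := by simpa using hp.one_lt.ne'
      simp only [Pi.smul_apply, pRegularPart_of_not_dvd _ hg, pRegularPart_of_not_dvd _ h11,
        smul_eq_mul, mul_one] at e1 e2
      rw [← e1, ← e2]
    rw [H3.hasNormalPComplement_iff_mul]
    intro x y hx hy
    have := (pPrimeCore p G).mul_mem (key x (hp.coprime_iff_not_dvd.1 hx.symm))
      (key y (hp.coprime_iff_not_dvd.1 hy.symm))
    exact (hp.coprime_iff_not_dvd.2
      (not_dvd_orderOf_of_mem (H1.not_dvd_card_pPrimeCore p G) this)).symm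

end Cfsg.Agent.S4646
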