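import Cfsg.Statements.S2968
import Cfsg.Agent.H24.Misc2

set_option autoImplicit false
open Cfsg

namespace Cfsg.Agent.S2968

/-- Let G be a finite group, p a prime, P a Sylow p-subgroup of G and x ∈ P an element of p-power order which is isolated in G (the only conjugate of x commuting with x is x itself). Then x lies in the centre of P, and the subgroup generated by x is both strongly closed and weakly closed in P with respect to G. -/
theorem result {G : Type*} [Group G] [Finite G] {p : ℕ} [Fact p.Prime] (P : Sylow p G) (x : G) (hxP : x ∈ (P : Subgroup G)) (hx : ∃ k : ℕ, orderOf x = p ^ k) (hiso : Cfsg.IsIsolated x) : x ∈ (P : Subgroup G) ⊓ Subgroup.centralizer ((P : Subgroup G) : Set G) ∧ Cfsg.IsStronglyClosed (Subgroup.zpowers x) (P : Subgroup G) ∧ Cfsg.IsWeaklyClosed (Subgroup.zpowers x) (P : Subgroup G) := by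
  open Subgroup Cfsg.Agent.H24 in
  open scoped commutatorElement in
  open Cfsg.Agent.H10 (SubnormalIn OqOf) in
  open Cfsg.Agent.H9 (maxEA) in
  have hP := P.isPGroup'
  have h1 : IsStronglyClosed (zpowers x) (P : Subgroup G) := by
    refine ⟨zpowers_le_of_mem hxP, fun y hy g hg => ?_⟩
    obtain ⟨k, rfl⟩ := hy
    have hc := IsIsolated.le_cent hiso hP hxP
    obtain ⟨c, hc1, hc2⟩ := IsIsolated.exists_conj (g := g) (H := centralizer {g * x ^ k * g⁻¹}) hiso
      (isPGroup_zpowers_of_mem hP hxP)
      (mem_centralizer_singleton_iff.mpr (mem_centralizer_singleton_iff.mp (hc hg)).symm)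
      (mem_centralizer_singleton_iff.mpr (by group))
    have h2 : c * g * x ^ k * (c * g)⁻¹ = x ^ k := by
      rw [← conj_zpow, mem_cent_iff_conj.mp hc2]
    have h3 := mem_cent_iff_conj.mp hc1
    have : g * x ^ k * g⁻¹ = x ^ k := by rw [← h3]; exact Eq.trans (by group) h2
    exact ⟨k, this.symm⟩
  refine ⟨⟨hxP, fun y hy => mem_centralizer_singleton_iff.mp (IsIsolated.le_cent hiso hP hxP hy)⟩, h1,
    h1.1, fun g hg => ?_⟩
  rw [map_conj_eq_cj] at hg ⊢
  rw [cj_zpowers] at hg ⊢
  rw [IsIsolated.eq_of_mem hiso hP hxP (hg (mem_zpowers _))]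

end Cfsg.Agent.S2968
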