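import Cfsg.Statements.S0213
import Cfsg.Agent.H11.Count
import Mathlib.Combinatorics.Enumerative.DoubleCounting

set_option autoImplicit false
open Cfsg

namespace Cfsg.Agent.S0213

open Cfsg.Agent.H11



/-- Thompson Order Formula, two-class case: if every involution of the finite group G is conjugate to exactly one of the non-conjugate involutions x₁, x₂, and nᵢ is the number of pairs (u, v) with u conjugate to x₁, v conjugate to x₂ and xᵢ in the cyclic group generated by uv, then |G| = |C(x₂)| n₁ + |C(x₁)| n₂. -/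
theorem result {G : Type*} [Group G] [Finite G] (x₁ x₂ : G) (h₁ : orderOf x₁ = 2) (h₂ : orderOf x₂ = 2) (hnc : ¬ IsConj x₁ x₂) (hall : ∀ t : G, orderOf t = 2 → IsConj x₁ t ∨ IsConj x₂ t) : Nat.card G = Nat.card (Subgroup.centralizer ({x₂} : Set G)) * Nat.card {p : G × G // IsConj x₁ p.1 ∧ IsConj x₂ p.2 ∧ x₁ ∈ Subgroup.zpowers (p.1 * p.2)} + Nat.card (Subgroup.centralizer ({x₁} : Set G)) * Nat.card {p : G × G // IsConj x₁ p.1 ∧ IsConj x₂ p.2 ∧ x₂ ∈ Subgroup.zpowers (p.1 * p.2)} := by
  classical
  haveI := Fintype.ofFinite G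
  let P : Finset (G × G) := Finset.univ.filter fun p => IsConj x₁ p.1 ∧ IsConj x₂ p.2
  let A : Finset G := Finset.univ.filter fun z => IsConj x₁ z
  let B : Finset G := Finset.univ.filter fun z => IsConj x₂ z
  let f : G → ℕ := fun z => (P.filter fun p => z ∈ Subgroup.zpowers (p.1 * p.2)).card
  have hf : ∀ z, f z = Nat.card
      {p : G × G // IsConj x₁ p.1 ∧ IsConj x₂ p.2 ∧ z ∈ Subgroup.zpowers (p.1 * p.2)} := by
    intro z
    rw [natCard_subtype_eq]
    simp only [f, P, Finset.filter_filter, and_assoc]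
  have hfc : ∀ z w, IsConj z w → f z ≤ f w := by
    intro z w hzw
    obtain ⟨c, rfl⟩ := isConj_iff.1 hzw
    refine Finset.card_le_card_of_injOn (fun p => (c * p.1 * c⁻¹, c * p.2 * c⁻¹)) ?_ ?_
    · intro p hp
      simp only [P, Finset.coe_filter, Finset.mem_filter, Finset.mem_univ, true_and,
        Set.mem_setOf_eq] at hp ⊢
      refine ⟨⟨hp.1.1.trans (isConj_conj c _), hp.1.2.trans (isConj_conj c _)⟩, ?_⟩
      rw [show c * p.1 * c⁻¹ * (c * p.2 * c⁻¹) = c * (p.1 * p.2) * c⁻¹ by group, ← cj_zpowers]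
      exact conj_mem_map_conj c hp.2
    · intro p _ q _ h
      simp only [Prod.mk.injEq, mul_left_inj, mul_right_inj] at h
      exact Prod.ext h.1 h.2
  have hfe : ∀ z w, IsConj z w → f w = f z := fun z w h =>
    le_antisymm (hfc _ _ h.symm) (hfc _ _ h)
  have hd : Disjoint A B := by
    rw [Finset.disjoint_filter]
    intro z _ h1 h2; exact hnc (h1.trans h2.symm)
  have hP : P.card = A.card * B.card := by
    rw [← Finset.card_product, ← Finset.filter_product, Finset.univ_product_univ]
  have hcount : ∑ z ∈ A ∪ B, f z = P.card := by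
    have := Finset.sum_card_bipartiteAbove_eq_sum_card_bipartiteBelow (s := A ∪ B) (t := P)
      (fun z p => z ∈ Subgroup.zpowers (p.1 * p.2))
    refine this.trans ?_
    rw [Finset.card_eq_sum_ones P]
    refine Finset.sum_congr rfl fun p hp => ?_
    obtain ⟨hp1, hp2⟩ : IsConj x₁ p.1 ∧ IsConj x₂ p.2 := by simpa only [P, Finset.mem_filter,
      Finset.mem_univ, true_and] using hp
    obtain ⟨z, hz, hz2, -⟩ := exists_invol_commute_of_not_isConj
      (mul_self_of_orderOf_two ((orderOf_eq_of_isConj hp1).symm.trans h₁))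
      (mul_self_of_orderOf_two ((orderOf_eq_of_isConj hp2).symm.trans h₂))
      (fun h => hnc ((hp1.trans h).trans hp2.symm))
    rw [Finset.card_eq_one]
    refine ⟨z, Finset.eq_singleton_iff_unique_mem.2 ⟨?_, fun w hw => ?_⟩⟩
    · rw [Finset.mem_bipartiteBelow]
      refine ⟨?_, hz⟩
      simpa only [A, B, Finset.mem_union, Finset.mem_filter, Finset.mem_univ, true_and]
        using hall z hz2
    · rw [Finset.mem_bipartiteBelow] at hw
      refine invol_unique_zpowers ?_ hz2 hw.2 hz
      have := hw.1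
      simp only [A, B, Finset.mem_union, Finset.mem_filter, Finset.mem_univ, true_and] at this
      rcases this with h | h
      · exact (orderOf_eq_of_isConj h).symm.trans h₁
      · exact (orderOf_eq_of_isConj h).symm.trans h₂
  rw [Finset.sum_union hd, Finset.sum_congr rfl (g := fun _ => f x₁)
    (fun z hz => hfe _ _ (Finset.mem_filter.1 hz).2), Finset.sum_congr (s₁ := B) rfl
    (g := fun _ => f x₂) (fun z hz => hfe _ _ (Finset.mem_filter.1 hz).2), Finset.sum_const,
    Finset.sum_const, hP, smul_eq_mul, smul_eq_mul] at hcount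
  have hA := card_isConj_mul x₁
  have hB := card_isConj_mul x₂
  rw [natCard_subtype_eq] at hA hB
  rw [← hf, ← hf]
  have hpos : 0 < Nat.card G := Nat.card_pos
  apply Nat.eq_of_mul_eq_mul_left hpos
  set c₁ := Nat.card (Subgroup.centralizer ({x₁} : Set G))
  set c₂ := Nat.card (Subgroup.centralizer ({x₂} : Set G))
  calc Nat.card G * Nat.card G = (A.card * c₁) * (B.card * c₂) := by rw [hA, hB]
    _ = (A.card * B.card) * c₁ * c₂ := by ring
    _ = (A.card * c₁) * (c₂ * f x₁) + (B.card * c₂) * (c₁ * f x₂) := by rw [← hcount]; ring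
    _ = _ := by rw [hA, hB]; ring

end Cfsg.Agent.S0213
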