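import Cfsg.Statements.S3277
import Cfsg.Agent.H4.BSW4
import Cfsg.Agent.S0253
import Cfsg.Agent.S0215
import Cfsg.Agent.S3224

set_option autoImplicit false
open Cfsg

namespace Cfsg.Agent.S3277

open Cfsg.Agent.H4


open Subgroup H11 H22 Classical in
/-- a subgroup with many classes and a fused four-group has a small derived group -/
theorem aux_char {G : Type*} [Group G] [Finite G] {M L : Subgroup G} {z y : G} (hz : orderOf z = 2)
    (hy : orderOf y = 2) (hzy : z ≠ y) (hc : z * y = y * z) (hzM : z ∈ M)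
    (h1 : ∃ g ∈ M, g * z * g⁻¹ = y) (h2 : ∃ g ∈ M, g * z * g⁻¹ = z * y)
    (hL : ∀ N : Subgroup G, z ∈ N → M ≤ normalizer (N : Set G) → L ≤ N) (ho : Odd (L.relIndex M))
    (hk : Nat.card M ≤ 4 * Nat.card (ConjClasses M)) : Nat.card (⁅M, M⁆ : Subgroup G) ≤ 6 := by
  have := Fintype.ofFinite G
  obtain ⟨g, hg, h1⟩ := h1
  obtain ⟨g', hg', h2⟩ := h2
  have hyM : y ∈ M := h1 ▸ mul_mem (mul_mem hg hzM) (inv_mem hg)
  have h3 : ∀ χ ∈ Irr M, χ ∉ IrrK M ⁅M, M⁆ → 9 ≤ deg χ ^ 2 := fun χ hχ h3 => by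
    by_contra h4
    have h5 : deg χ ≤ 2 := by nlinarith
    have h6 := Irr.deg_pos hχ
    have hW := isKleinFour_closure hz hy hzy hc
    obtain ⟨j, hj⟩ := (Irr.char hχ).dot_nat_le (K := closure {z, y}) ((closure_le _).2 (by
      rintro _ (rfl | rfl); exacts [hzM, hyM])) (one_isChar _)
    have h7 := ne_one_of_orderOf_two hz
    have h8 := ne_one_of_orderOf_two hy
    have h9 : z * y ≠ 1 := h2 ▸ H15.conj_ne_one h7
    rw [dot_one_right, hW.card_four, show fs (closure {z, y} : Subgroup G) = {1, z, y, z * y} by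
      ext; simp [mem_fs, mem_four_iff (mul_self_of_orderOf_two hz) (mul_self_of_orderOf_two hy) hc],
      Finset.sum_insert (by simp [h7.symm, h8.symm, h9.symm]), Finset.sum_insert (by simp [hzy, h8]),
      Finset.sum_pair (by simp [h7]), ← h2, ← h1, Irr.inv hχ g hg, Irr.inv hχ g' hg',
      ← Irr.deg_eq hχ] at hj
    obtain ⟨c, hc⟩ := VC.exists_int_of_rat (Irr.VC hχ) (g := z) (q := (4 * j - deg χ) / 3)
      (by push_cast at hj ⊢; linear_combination 4 / 3 * hj)
    have h10 := (Irr.char hχ).norm_le_deg z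
    rw [hc] at hj h10
    have h11 : |c| ≤ deg χ := by exact_mod_cast h10
    have h12 : deg χ + 3 * c = 4 * j := by
      exact_mod_cast (by push_cast at hj ⊢; linear_combination 4 * hj : (deg χ : ℂ) + 3 * c = 4 * j)
    have h13 := (Irr.deg_dvd_relIndex_ker hχ (hL _ ((Irr.mem_ker_iff hχ).2 (by
      rw [hc, ← Irr.deg_eq hχ, show c = deg χ by have := abs_le.1 h11; omega]; simp))
      (Irr.inv hχ).le_normalizer_ker))
    have h14 : deg χ = 1 := by have := Nat.odd_iff.1 (ho.of_dvd_nat h13); omega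
    exact h3 (mem_IrrK.2 ⟨hχ, (Irr.lin_iff hχ).1 (by rw [← Irr.deg_eq hχ, h14]; simp)⟩)
  have h4 : ⁅M, M⁆ ≤ M := (commutator_le.2 fun a ha b hb =>
    mul_mem (mul_mem (mul_mem ha hb) (inv_mem ha)) (inv_mem hb))
  have h5 := card_IrrK_of_comm h4 (H1.le_normalizer_commutator le_normalizer le_normalizer) le_rfl
  have h6 := Finset.card_sdiff_add_card_eq_card (IrrK_subset (H := M) (N := ⁅M, M⁆))
  have h7 := sum_Irr_sq M
  rw [← Finset.sum_sdiff (IrrK_subset (H := M) (N := ⁅M, M⁆))] at h7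
  have h8 := Finset.card_nsmul_le_sum _ _ 9 fun χ (hχ : χ ∈ Irr M \ IrrK M ⁅M, M⁆) =>
    h3 χ (Finset.mem_sdiff.1 hχ).1 (Finset.mem_sdiff.1 hχ).2
  have h9 := Finset.card_nsmul_le_sum _ (fun χ => deg χ ^ 2) 1 fun χ (hχ : χ ∈ IrrK M ⁅M, M⁆) =>
    Nat.one_le_pow _ _ (Irr.deg_pos (IrrK_subset hχ))
  rw [card_Irr, card_irr_eq_card_conjClasses] at h6
  have h10 := H1.card_mul_relIndex h4
  have h11 := relIndex_pos ⁅M, M⁆ M
  simp only [smul_eq_mul] at h8 h9
  nlinarith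

open Subgroup H11 in
theorem aux_count {G : Type*} [Group G] [Finite G] {M : Subgroup G} (hM : M.index = 2) {x : G}
    (hx : x * x = 1) (hxM : x ∉ M) (hC : Nat.card (centralizer ({x} : Set G)) = 4) :
    Nat.card M ≤ 4 * Nat.card (ConjClasses M) := by
  have := normal_of_index_eq_two hM
  have h1 : ∀ u : {u // IsConj x u}, u.1 ∉ M ∧ u.1 * u.1 = 1 := fun ⟨u, hu⟩ => by
    obtain ⟨c, rfl⟩ := isConj_iff.1 hu
    exact ⟨fun e => hxM (by simpa [mul_assoc] using this.conj_mem _ e c⁻¹), by rw [conj_mul, hx]; simp⟩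
  have h2 : ∀ g : G, ∃ w, ∀ u v : {u // IsConj x u}, u.1 * v.1 = g → w ∉ M ∧ w * g * w⁻¹ = g⁻¹ :=
    fun g => by
    by_cases h : ∃ u v : {u // IsConj x u}, u.1 * v.1 = g
    · obtain ⟨u, v, rfl⟩ := h
      exact ⟨u, fun _ _ _ => ⟨(h1 u).1, invol_inverts_left (h1 u).2 (h1 v).2⟩⟩
    · exact ⟨1, fun u v e => (h ⟨u, v, e⟩).elim⟩
  choose w hw using h2
  have h0 : ∀ u v : {u // IsConj x u}, u.1 * v.1 * (u.1 * w (u.1 * v.1)) =
      u.1 * w (u.1 * v.1) * (u.1 * v.1) := fun u v => (mul_inv_eq_iff_eq_mul.1 (by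
    calc _ = u.1 * (w (u.1 * v.1) * (u.1 * v.1) * (w (u.1 * v.1))⁻¹) * u.1⁻¹ := by group
      _ = _ := by rw [(hw _ _ _ rfl).2, ← conj_inv, invol_inverts_left (h1 _).2 (h1 _).2, inv_inv])).symm
  have h3 := Nat.card_le_card_of_injective (fun p : {u // IsConj x u} × {u // IsConj x u} =>
    (⟨(⟨p.1 * p.2, (mul_mem_iff_of_index_two hM).2 (iff_of_false (h1 _).1 (h1 _).1)⟩,
      ⟨p.1 * w (p.1 * p.2), (mul_mem_iff_of_index_two hM).2 (iff_of_false (h1 _).1 (hw _ _ _ rfl).1)⟩),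
      Subtype.ext (h0 _ _)⟩ : {p : M × M // Commute p.1 p.2})) fun p q e => by
    have e1 : p.1.1 * p.2.1 = q.1.1 * q.2.1 := congrArg (·.1.1.1) e
    have e2 : p.1.1 * w (p.1.1 * p.2.1) = q.1.1 * w (q.1.1 * q.2.1) := congrArg (·.1.2.1) e
    have := mul_right_cancel (e1 ▸ e2)
    exact Prod.ext (Subtype.ext this) (Subtype.ext (mul_left_cancel (this ▸ e1)))
  have h4 := card_isConj_mul x
  have h5 := M.card_mul_index
  have h6 := Nat.card_pos (α := M)
  rw [card_comm_eq_card_conjClasses_mul_card, Nat.card_prod] at h3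
  rw [hC] at h4
  rw [hM] at h5
  nlinarith



/-- Let G be a finite group containing an involution whose centralizer is elementary abelian of order 4. If G has no normal 2-complement and no normal elementary abelian 2-subgroup of order 2 or 4, then G is isomorphic to the alternating group of degree 5 (that is, to PSL(2, 5)). -/
theorem result {G : Type*} [Group G] [Finite G] (x : G) (hx : orderOf x = 2)
    (hC4 : Nat.card ↥(Subgroup.centralizer ({x} : Set G)) = 4) (hCe : ∀ c ∈ Subgroup.centralizer ({x} : Set G), c ^ 2 = 1)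
    (hnc : ¬ Cfsg.HasNormalPComplement 2 G)
    (hne : ∀ E : Subgroup G, E.Normal → Cfsg.IsElementaryAbelian 2 E → Nat.card ↥E ≠ 2 ∧ Nat.card ↥E ≠ 4) :
    Nonempty (G ≃* ↥(alternatingGroup (Fin 5))) := by
  have hxx := H11.mul_self_of_orderOf_two hx
  have h1 : IsPGroup 2 (Subgroup.centralizer ({x} : Set G)) := IsPGroup.of_card (n := 2) hC4
  obtain ⟨P, hP⟩ := h1.exists_le_sylow
  have hxP : x ∈ (P : Subgroup G) := hP (H11.mem_cent1.2 rfl)
  rcases hP.eq_or_lt with h2 | h2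
  · have := Finite.one_lt_card_iff_nontrivial.1 (hC4.ge.trans_lt' (by norm_num))
    have hK : IsKleinFour (P : Subgroup G) := h2 ▸ ⟨hC4, (Monoid.exponent_eq_prime_iff Nat.prime_two).2
      fun g hg => orderOf_eq_prime (Subtype.ext (hCe g g.2)) hg⟩
    obtain ⟨e⟩ := H11.nonempty_dihedral_two_of_klein hK
    obtain ⟨K, s, h, hK⟩ := exists_bw_of_cent (fun H hH => hnc (by
      have := Subgroup.normal_of_index_eq_two hH
      refine H3.hasNormalPComplement_of_isPGroup_quotient H (IsPGroup.of_card (n := 1) hH) ?_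
      obtain ⟨Q⟩ := (inferInstance : Nonempty (Sylow 2 H))
      refine ⟨Q, H11.exists_complement_of_isCyclic Q ?_⟩
      obtain ⟨k, hk⟩ := IsPGroup.iff_card.1 Q.isPGroup'
      have h3 : 2 ^ (k + 1) ∣ 2 ^ 2 := (P.pow_dvd_card_of_pow_dvd_card (by
        rw [← H.card_mul_index, hH, pow_succ, ← hk]
        exact mul_dvd_mul_right (Subgroup.card_subgroup_dvd_card _) 2)).trans hK.card_four.dvd
      exact isCyclic_of_card_dvd_prime (p := 2) (hk ▸ (pow_dvd_pow 2 (show k ≤ 1 by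
        have := (Nat.pow_dvd_pow_iff_le_right one_lt_two).1 h3; omega))))) P le_rfl e hx h2.symm
    rcases h.classify with ⟨h3, -⟩ | ⟨-, F, _, _, h3, h4, -, ⟨φ⟩⟩
    · exact ((hne _ ((h.of_two hK).2 h3) ⟨h2 ▸ IsKleinFour.isMulCommutative, hCe⟩).2 hC4).elim
    · obtain ⟨ψ⟩ := S0253.result (F := F) (by omega)
      exact ⟨φ.trans ψ⟩
  exfalso
  have h3 := H11.card_lt_of_lt h2
  obtain ⟨n, e, X, Y, h⟩ : ∃ n e X Y, H11.MC (P : Subgroup G) n e 0 X Y := by
    rcases S3224.result P.isPGroup' ⟨x, hxP⟩ (by rwa [Subgroup.orderOf_mk]) (by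
      rw [← hC4, ← H11.card_subgroupOf hP]
      congr 3; ext g; simp [H11.mem_cent1, Subgroup.mem_subgroupOf, Subtype.ext_iff]) with
      ⟨m, ⟨φ⟩⟩ | h4 | h4
    · have h4 := card_of_dih φ
      rcases H11.dihedral_cases P.isPGroup' (by omega) φ with h5 | ⟨n, X, Y, -, h5⟩
      · have := h5.card_four; omega
      · exact ⟨n, _, X, Y, h5⟩
    · obtain ⟨n, X, Y, -, h5⟩ := H11.exists_MC_of_qd h4
      exact ⟨n, _, X, Y, h5⟩
    · omega
  have hz := h.orderOf_z
  have h4 : ¬ IsConj x (X (H11.hh n)) := fun e => by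
    have := Subgroup.card_le_of_le (show (P : Subgroup G) ≤ Subgroup.centralizer {X (H11.hh n)} from
      fun s hs => H11.mem_cent1.2 (h.z_comm hs))
    have := H11.card_cent_of_isConj e
    omega
  obtain ⟨a, rfl | rfl⟩ := (h.mem x).1 hxP
  · exact h4 (h.orderOf_X_two.1 hx ▸ IsConj.refl _)
  by_cases h5 : ∀ g : G, g * X (H11.hh n) * g⁻¹ ∈ P → g * X (H11.hh n) * g⁻¹ = X (H11.hh n)
  · obtain ⟨N, hN, h6, h7⟩ := S0215.result P _ hz (h.X_mem _) h5
    have h8 : ∀ c, ∀ y ∈ N, c * Y a * c⁻¹ * y * (c * Y a * c⁻¹)⁻¹ = y⁻¹ := fun c y hy => by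
      calc _ = c * (Y a * (c⁻¹ * y * c⁻¹⁻¹) * (Y a)⁻¹) * c⁻¹ := by group
        _ = _ := by
          rw [H1.conj_eq_inv_of_fpf (K := N) (by rw [Subgroup.normalizer_eq_top]; trivial) hxx
            (Subgroup.disjoint_of_coprime_natCard (hC4 ▸ (Nat.coprime_two_right.2 h6).pow_right 2)).eq_bot
            (hN.conj_mem y hy c⁻¹)]; group
    have h9 : ∀ y ∈ N, X (H11.hh n) * y = y * X (H11.hh n) := fun y hy => by
      obtain ⟨c, hc⟩ := h.exists_conj_Y a (H11.qq n)
      have h9 := h8 (X c) y hy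
      rw [hc, h.qq2, ← h.YX, ← h8 1 y hy] at h9
      exact mul_inv_eq_iff_eq_mul.1 (mul_right_cancel (b := (Y a)⁻¹) (by simpa [mul_assoc] using h9))
    have h10 : ∀ g, g * X (H11.hh n) = X (H11.hh n) * g := fun g => by
      have h10 := h7 g
      have h11 := h9 _ h10
      have h12 := H11.mul_self_of_orderOf_two hz
      rw [H11.inv_eq_of_orderOf_two hz] at h10 h11
      have h13 := H11.eq_one_of_odd_of_sq (H11.odd_orderOf_of_odd_card h6 h10) (by
        calc _ = X (H11.hh n) * g * X (H11.hh n) * g⁻¹ * X (H11.hh n) * (g * X (H11.hh n) * g⁻¹) := by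
              group
          _ = g * (X (H11.hh n) * X (H11.hh n)) * g⁻¹ := by
              rw [← h11]; simp only [← mul_assoc, h12, one_mul]; simp [mul_assoc, h12]
          _ = 1 := by rw [h12]; group)
      rw [mul_inv_eq_one, mul_assoc] at h13
      rw [← mul_right_inj (X (H11.hh n)), h13, ← mul_assoc, h12, one_mul]
    refine (hne (Subgroup.zpowers (X (H11.hh n))) ⟨fun y ⟨k, hk⟩ g => ⟨k, by
      rw [← hk, (Commute.zpow_right (h10 g) k).eq, mul_inv_cancel_right]⟩⟩ ⟨inferInstance, fun y hy => ?_⟩).1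
      (by rw [Nat.card_zpowers, hz])
    exact orderOf_dvd_iff_pow_eq_one.1 (hz ▸ orderOf_dvd_of_mem_zpowers hy)
  push Not at h5
  obtain ⟨g, h5, h6⟩ := h5
  have h7 := (H11.orderOf_conj g _).trans hz
  obtain ⟨b, h8 | h8⟩ := (h.mem _).1 h5
  · exact h6 (h8.trans (congrArg X (h.orderOf_X_two.1 (h8 ▸ h7))))
  obtain ⟨M, hM, hxM⟩ := (H11.thompson_transfer (H11.index_mod_four_of_relIndex_two P (h.zpowers_le 1)
    h.relIndex_zpowers) hxx).resolve_right fun ⟨c, hc⟩ => by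
    obtain ⟨d, hd⟩ := h.mem_zpowers_X.1 hc
    exact h4 (isConj_iff.2 ⟨c, hd.trans (congrArg X (h.orderOf_X_two.1 (hd ▸ (H11.orderOf_conj c _).trans hx)))⟩)
  have hMn := Subgroup.normal_of_index_eq_two hM
  have h9 : ∀ c, ∃ d ∈ M, d * X (H11.hh n) * d⁻¹ = c * X (H11.hh n) * c⁻¹ := fun c => by
    by_cases hc : c ∈ M
    · exact ⟨c, hc, rfl⟩
    · refine ⟨c * Y a, (Subgroup.mul_mem_iff_of_index_two hM).2 (iff_of_false hc hxM), ?_⟩
      rw [mul_assoc c, h.z_comm (h.Y_mem a)]; group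
  have hzM : X (H11.hh n) ∈ M := by
    rw [← h.qq2, two_mul, ← h.XX]; exact (Subgroup.mul_mem_iff_of_index_two hM).2 Iff.rfl
  have h10 : ∀ N : Subgroup G, X (H11.hh n) ∈ N → M ≤ Subgroup.normalizer (N : Set G) →
      Subgroup.normalClosure {X (H11.hh n)} ≤ N := fun N h10 h11 => (Subgroup.closure_le _).2 fun y hy => by
    obtain ⟨_, rfl, hy⟩ := Group.mem_conjugatesOfSet_iff.1 hy
    obtain ⟨c, rfl⟩ := isConj_iff.1 hy
    obtain ⟨d, hd, e⟩ := h9 c
    exact e ▸ H11.conj_mem_of_mem_normalizer (h11 hd) h10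
  have h11 := h10 M hzM Subgroup.le_normalizer
  have h12 : ∀ c, ∃ d, d * X (H11.hh n) * d⁻¹ = Y (b + 2 * c) := fun c => by
    obtain ⟨d, hd⟩ := h.exists_conj_Y b c
    exact ⟨X d * g, by rw [← hd, ← h8]; group⟩
  have h13 : ∀ c, Y (b + 2 * c) ∈ Subgroup.normalClosure {X (H11.hh n)} := fun c => by
    obtain ⟨d, hd⟩ := h12 c
    rw [← hd]
    exact Subgroup.normalClosure_normal.conj_mem _ (Subgroup.subset_normalClosure (Set.mem_singleton _)) d
  have h14 : Odd ((Subgroup.normalClosure {X (H11.hh n)}).relIndex M) := by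
    have h14 := Subgroup.relIndex_mul_index h11
    have h15 : (Subgroup.normalClosure {X (H11.hh n)}).relIndex P ∣ 2 :=
      (Subgroup.relIndex_dvd_of_le_left _ fun y hy => by
        obtain ⟨c, rfl | rfl⟩ := h.mem_M.1 hy
        · have := h.Y_mul_inv b (-c)
          rw [neg_neg] at this
          exact this ▸ mul_mem (h13 _) (inv_mem (by simpa using h13 0))
        · exact h13 c).trans (h.relIndex_M b).dvd
    have h16 := Subgroup.relIndex_mul_index (le_sup_left (a := Subgroup.normalClosure {X (H11.hh n)})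
      (b := (P : Subgroup G)))
    rw [Subgroup.relIndex_sup_left, ← h14, hM] at h16
    obtain ⟨k, hk⟩ := (Nat.not_even_iff_odd.1 fun e => P.not_dvd_index (e.two_dvd.trans
      (Subgroup.index_dvd_of_le (le_sup_right (a := Subgroup.normalClosure {X (H11.hh n)})))))
    rcases (Nat.dvd_prime Nat.prime_two).1 h15 with h15 | h15 <;> rw [h15, hk] at h16 <;>
      exact Nat.odd_iff.2 (by omega)
  have h15 : X (H11.hh n) * Y b = Y (b + 2 * H11.qq n) := by rw [← h.z_comm (h.Y_mem b), h.YX, h.qq2]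
  obtain ⟨d, hd, h16⟩ := h9 g
  obtain ⟨d', h17⟩ := h12 (H11.qq n)
  obtain ⟨d', hd', h17⟩ := h17 ▸ h9 d'
  rw [h8] at h7 h16
  have h18 := aux_char hz h7 (h.X_ne_Y _ _) (h.z_comm (h.Y_mem b)).symm hzM ⟨d, hd, h16⟩
    ⟨d', hd', h15 ▸ h17⟩ h10 h14 (aux_count hM hxx hxM hC4)
  have h19 : Y b ∈ ⁅M, M⁆ := by
    have := Subgroup.commutator_mem_commutator hzM hd'
    rwa [commutatorElement_def, mul_assoc, mul_assoc, ← mul_assoc d', H11.inv_eq_of_orderOf_two hz, h17,
      ← h15, ← mul_assoc, H11.mul_self_of_orderOf_two hz, one_mul] at this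
  have h20 : X (H11.hh n) ∈ ⁅M, M⁆ := by
    simpa [← h16, mul_assoc] using (inferInstance : (⁅M, M⁆ : Subgroup G).Normal).conj_mem _ h19 d⁻¹
  have hW := H11.isKleinFour_closure hz h7 (h.X_ne_Y _ _) (h.z_comm (h.Y_mem b)).symm
  have h21 : Subgroup.closure {X (H11.hh n), Y b} ≤ ⁅M, M⁆ := (Subgroup.closure_le _).2 (by
    rintro _ (rfl | rfl); exacts [h20, h19])
  have h22 := Subgroup.card_dvd_of_le h21
  have h23 := Nat.card_pos (α := (⁅M, M⁆ : Subgroup G))
  rw [hW.card_four] at h22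
  have h24 := Subgroup.eq_of_le_of_card_ge h21 (by rw [hW.card_four]; omega)
  exact (hne _ (h24 ▸ inferInstance) ⟨IsKleinFour.isMulCommutative, fun y hy =>
    (pow_two y).trans (H11.klein_sq hW hy)⟩).2 hW.card_four

end Cfsg.Agent.S3277
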