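import Cfsg.Statements.S3035
import Cfsg.Agent.GW.Cor2
import Cfsg.Agent.S0253
import Cfsg.Agent.S0254
import Cfsg.Agent.S0255
import Cfsg.Agent.H12.PSL2Dih

set_option autoImplicit false
open Cfsg

namespace Cfsg.Agent.S3035

open Subgroup Cfsg.Agent.GW Cfsg.Agent.H10
open Cfsg.Agent.H11 (IsSylIn hh qq)
open scoped MatrixGroups

theorem card_cent {G H : Type*} [Group G] [Group H] (e : G ≃* H) (x : G) :
    Nat.card (centralizer {x}) = Nat.card (centralizer {e x}) :=
  Nat.card_congr (e.toEquiv.subtypeEquiv fun y => by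
    simp [H11.mem_cent1, ← map_mul])

theorem center_eq : center SL(3, ZMod 2) = ⊥ := eq_bot_iff.2 fun A hA => by
  obtain ⟨r, h1, h2⟩ := Matrix.SpecialLinearGroup.mem_center_iff.1 hA
  obtain rfl : r = 1 := (by decide : ∀ r : ZMod 2, r ^ 3 = 1 → r = 1) r h1
  exact Subtype.ext (h2.symm.trans (map_one _))

/-- Let G be a finite group with an involution z whose centralizer is dihedral of order 8. Then G = C_G(z) O(G) with O(G) the largest normal subgroup of odd order, or G is isomorphic to the symmetric group of degree 4, the symmetric group of degree 5, the group SL₃(2), or the alternating group of degree 6. -/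
theorem result {G : Type*} [Group G] [Finite G] (z : G) (hz : orderOf z = 2)
    (hC : Nonempty (↥(Subgroup.centralizer ({z} : Set G)) ≃* DihedralGroup 4)) :
    Subgroup.centralizer ({z} : Set G) ⊔ Cfsg.oddCore G = ⊤ ∨ Nonempty (G ≃* Equiv.Perm (Fin 4)) ∨ Nonempty (G ≃* Equiv.Perm (Fin 5)) ∨
      Nonempty (G ≃* Matrix.SpecialLinearGroup (Fin 3) (ZMod 2)) ∨ Nonempty (G ≃* ↥(alternatingGroup (Fin 6))) := by
  obtain ⟨eC⟩ := hC
  obtain ⟨X, Y, h⟩ := H11.exists_MC_of_d8 eC
  have hzC : z ∈ centralizer {z} := H11.mem_cent1.2 rfl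
  have hc : ∀ s ∈ centralizer {z}, s * z = z * s := fun s => H11.mem_cent1.1
  obtain rfl : z = X (hh 2) :=
    ((h.central_iff hzC).1 hc).resolve_left (H11.ne_one_of_orderOf_two hz)
  have hS : IsSylIn 2 (centralizer {X (hh 2)}) ⊤ := IsSylIn.of_normalizer_le
    ⟨le_rfl, h.isPGroup, fun _ _ h1 h2 => h2.antisymm h1⟩ le_top fun x _ hx => by
      have := (h.central_iff (H11.conj_mem_of_mem_normalizer hx hzC)).1 fun t ht => by
        have := hc _ (H11.conj_mem_of_mem_normalizer' hx ht)
        calc t * (x * X (hh 2) * x⁻¹) = x * (x⁻¹ * t * x * X (hh 2)) * x⁻¹ := by group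
          _ = _ := by rw [this]; group
      exact H11.mem_cent1.2 (mul_inv_eq_iff_eq_mul.1 (this.resolve_left
        (H11.ne_one_of_orderOf_two ((H11.orderOf_conj _ _).trans hz))))
  obtain ⟨P, hP⟩ := hS.exists_sylow_top
  have hD : CD (⊤ : Subgroup G) := DS.cd ⟨P, 4, by decide, ⟨(MulEquiv.subgroupCongr hP).trans eC⟩⟩
  by_cases hN : Nil2 (⊤ : Subgroup G)
  · have := hN.sup_eq hS
    rw [show Od (⊤ : Subgroup G) = oddCore G from OqOf_top 2, sup_comm] at this
    exact Or.inl this
  right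
  have hO : oddCore G = ⊥ := by
    obtain ⟨a, ha⟩ : ∃ a, IsConj (X (hh 2)) (Y a) := by_contra fun h1 => hN (nil2_iff.2
      (H3.hasNormalPComplement_of_mulEquiv topEquiv.symm
        (H11.MC.dih_hasNormalPComplement (hP ▸ h) fun a h2 => h1 ⟨a, h2⟩)))
    refine le_bot_iff.1 (le_of_klein_gen (h.isKleinFour_four (a := a) (by simp))
      (le_top.trans (normalizer_eq_top _).ge) odd_oddCore fun v hv h1 => ?_)
    have h2 : IsConj (X (hh 2)) v := by
      rcases h.mem_four.1 hv with rfl | rfl | rfl | rfl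
      · exact absurd rfl h1
      · exact IsConj.refl _
      · exact ha
      · exact ha.trans (h.qq2 ▸ h.isConj_Y a (qq 2))
    exact (eq_bot_of_isPGroup_of_coprime ((IsPGroup.of_card ((H11.card_cent_of_isConj h2).symm.trans
      h.card)).to_le inf_le_right) (odd_iff_coprime.1 (odd_of_le inf_le_left odd_oddCore))).le
  have h8 : 8 ∣ Nat.card G := (dvd_of_eq h.card.symm).trans (card_subgroup_dvd_card _)
  have h2 : ¬ IsPGroup 2 G := fun h1 => hN fun x _ hx => by
    obtain ⟨k, hk⟩ := h1 x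
    rw [orderOf_eq_one_iff.1 ((hx.coprime_two_right.pow_right k).eq_one_of_dvd
      (orderOf_dvd_of_pow_eq_one hk))]
    exact one_mem _
  rcases cd_cases hD hO with h1 | ⟨V, h1, _, h3⟩ | ⟨F, _, _, φ, h1, h3, h4, h5⟩ | ⟨⟨e⟩⟩
  · exact absurd h1 h2
  · rcases klein_cases h1 h3 with h4 | ⟨⟨e⟩⟩ | h4
    · exact absurd h4 h2
    · rw [Nat.card_congr e.toEquiv, H12.card_alt4] at h8
      omega
    · exact Or.inl h4
  swap
  · have h3 := a7_card_Uo (hD.of_surjective e.toMonoidHom e.surjective (by simp))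
      ((e.orderOf_eq _).trans hz)
    have h4 := card_dvd_of_le (Uo_le (t := e (X (hh 2))))
    rw [h3, ← card_cent, h.card] at h4
    omega
  right
  obtain ⟨e⟩ := nonempty_comap_Li h4 h5
  set L := (Li F).comap φ
  haveI := psl_simple h3
  obtain ⟨W, -, hW⟩ := (hD.mono le_top : CD L).top.exists_klein (mt (isSolvable_congr
    (topEquiv.trans e)).1 (not_solvable_of_perfect (psl_perfect h3)))
  have hzL : X (hh 2) ∈ L := hD.mem_of_central (H11.isKleinFour_map_subtype hW) (map_subtype_le W)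
    le_top (normalizer_eq_top L).ge hS hzC hc
  obtain ⟨n, hn, hn'⟩ := H12.exists_four_mul_eq h1
  have hz' : orderOf (e ⟨_, hzL⟩) = 2 := (e.orderOf_eq _).trans ((orderOf_mk _ _).trans hz)
  obtain ⟨a, s, h6, h7, -⟩ := H12.centralizer_invol (two_ne_zero_of_odd h1) hz' hn'
  have h9 : Nat.card ↥(L ⊓ centralizer {X (hh 2)}) = 2 * (2 * n) := by
    rw [← h7, ← h6.card, ← card_cent, ← H12.card_subgroupOf_eq]
    congr 3
    ext x
    simp [H11.mem_cent1, mem_subgroupOf, Subtype.ext_iff]
  have h10 := card_dvd_of_le (inf_le_right : L ⊓ centralizer {X (hh 2)} ≤ _)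
  rw [h9, h.card] at h10
  have h11 := Nat.le_of_dvd (by decide) h10
  obtain rfl | rfl : n = 1 ∨ n = 2 := by omega
  · obtain ⟨e₁⟩ := S0253.result (F := F) (by omega)
    have hb := conjNormal_alt_bijective (α := Fin 5) (by simp) (by simp)
    have hi := (MulEquiv.ofBijective _ hb).symm.injective.comp ((MulAut.congr e₁).injective.comp h4)
    set ψ := (MulEquiv.ofBijective _ hb).symm.toMonoidHom.comp
      ((MulAut.congr e₁).toMonoidHom.comp φ)
    have h12 := card_dvd_of_injective ψ hi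
    have h13 := card_subgroup_dvd_card L
    rw [Nat.card_congr (e.trans e₁).toEquiv, H12.card_alt5] at h13
    rw [Nat.card_perm, Nat.card_fin] at h12
    exact Or.inl (H12.nonempty_equiv_perm_of_injective ψ hi (Nat.dvd_antisymm h12
      (Nat.lcm_dvd h8 h13)))
  have h12 : L = ⊤ := eq_top_iff.2 fun g _ => by
    obtain ⟨l, hl⟩ := isConj_iff.1 (H12.psl2_isConj_invol (two_ne_zero_of_odd h1) hz'
      (y := e ⟨_, Normal.conj_mem inferInstance _ hzL g⟩)
      ((e.orderOf_eq _).trans ((orderOf_mk _ _).trans ((H11.orderOf_conj _ _).trans hz))))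
    obtain ⟨l, rfl⟩ := e.surjective l
    rw [← map_inv, ← map_mul, ← map_mul, e.injective.eq_iff, Subtype.ext_iff] at hl
    have h13 : (l : G)⁻¹ * g ∈ centralizer {X (hh 2)} := H11.mem_cent1.2 (by
      calc (l : G)⁻¹ * g * X (hh 2) = (l : G)⁻¹ * (g * X (hh 2) * g⁻¹) * g := by group
        _ = _ := by rw [← show (l : G) * X (hh 2) * (l : G)⁻¹ = g * X (hh 2) * g⁻¹ from hl]; group)
    rw [← eq_of_le_of_card_ge inf_le_right (h.card.trans h9.symm).le] at h13
    simpa using mul_mem l.2 h13.1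
  have e₁ := (topEquiv.symm.trans (MulEquiv.subgroupCongr h12.symm)).trans e
  rcases hn' with hq | hq
  · exact Or.inr (Or.inr ((S0254.result (F := F) (by omega)).map e₁.trans))
  · exact Or.inr (Or.inl ((S0255.result (F := F) (by omega) (ZMod.card 2)).map fun e₂ =>
      (e₁.trans e₂).trans ((QuotientGroup.quotientMulEquivOfEq center_eq).trans
        QuotientGroup.quotientBot)))

end Cfsg.Agent.S3035
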