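import Cfsg.Statements.S3915
import Cfsg.Agent.H10.Comp
import Cfsg.Agent.FT

set_option autoImplicit false
open Cfsg

namespace Cfsg.Agent.S3915

open Subgroup Cfsg.Agent.H10
open scoped commutatorElement

theorem exists_two_elem {G : Type*} [Group G] [Finite G] {K : Subgroup G} (hK : IsQuasisimple K) :
    ∃ x ∈ K, (∃ n, orderOf x = 2 ^ n) ∧ x ∉ centralizer (K : Set G) := by
  obtain ⟨P⟩ : Nonempty (Sylow 2 K) := inferInstance
  have hns : ¬ Group.IsSolvable (K ⧸ center K) := fun h =>
    have : Group.IsSolvable (center K) := Group.isSolvable_of_comm fun a b => Subtype.ext (mem_center_iff.1 b.2 a)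
    QS.not_solvable hK (Group.isSolvable_of_ker_le_range (center K).subtype (QuotientGroup.mk' (center K)) (by simp))
  have h2 := (FT.even_of_not_solvable hns).two_dvd
  have hne := (P.mapSurjective (QuotientGroup.mk'_surjective (center K))).ne_bot_of_dvd_card h2
  by_contra! h
  refine hne ?_
  rw [Sylow.coe_mapSurjective, Subgroup.map_eq_bot_iff, QuotientGroup.ker_mk']
  intro x hx
  obtain ⟨n, hn⟩ := IsPGroup.iff_orderOf.1 P.isPGroup' ⟨x, hx⟩
  have := h x x.2 ⟨n, by rw [orderOf_coe, ← hn]; exact (orderOf_coe (⟨x, hx⟩ : (P : Subgroup K)))⟩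
  exact mem_center_iff.2 fun y => Subtype.ext (this y y.2)

theorem false_of_le {G : Type*} [Group G] [Finite G] (hP : ∀ A B : Subgroup G, IsCyclic ↥A → IsCyclic ↥B → IsPGroup 2 ↥A → Nat.card ↥A = Nat.card ↥B → ∃ g : G, B = A.map (MulAut.conj g).toMonoidHom) {K L : Subgroup G} (hK : CompOf K ⊤) (hL : CompOf L ⊤) (hne : K ≠ L)
    {x y : G} {m n : ℕ} (hx : x ∈ K) (hy : y ∈ L) (hm : orderOf x = 2 ^ m) (hn : orderOf y = 2 ^ n) (hle : n ≤ m)
    (hx' : x ∉ centralizer (K : Set G)) (hy' : y ∉ centralizer (L : Set G)) : False := by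
  have hc := commutator_eq_bot_iff_le_centralizer.1 (hK.commutator_eq_bot hL hne)
  have hc' := commutator_eq_bot_iff_le_centralizer.1 (hL.commutator_eq_bot hK hne.symm)
  have hxy : Commute x y := (hc hx y hy).symm
  have hd : orderOf (x * y) ∣ orderOf x := by
    refine orderOf_dvd_of_pow_eq_one ?_
    rw [hxy.mul_pow, pow_orderOf_eq_one, one_mul, ← orderOf_dvd_iff_pow_eq_one, hm, hn]
    exact pow_dvd_pow _ hle
  have ho : orderOf (x ^ (orderOf x / orderOf (x * y))) = orderOf (x * y) :=
    orderOf_pow_orderOf_div (orderOf_pos x).ne' hd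
  obtain ⟨j, -, hj⟩ := (Nat.dvd_prime_pow Nat.prime_two).1 (hm ▸ hd)
  obtain ⟨g, hg⟩ := hP (zpowers (x ^ (orderOf x / orderOf (x * y)))) (zpowers (x * y)) inferInstance inferInstance
    (IsPGroup.of_card (by rw [Nat.card_zpowers, ho, hj])) (by rw [Nat.card_zpowers, Nat.card_zpowers, ho])
  have hm : x * y ∈ K.map (MulAut.conj g).toMonoidHom :=
    map_mono (zpowers_le.2 (pow_mem hx _)) (hg ▸ mem_zpowers (x * y))
  have hD := hK.conj (g := g) (by simp)
  rcases hD.eq_or hK with h | h
  · rw [h] at hm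
    exact hy' (by simpa using mul_mem (inv_mem (hc hx)) (hc hm))
  · exact hx' (by simpa using mul_mem (commutator_eq_bot_iff_le_centralizer.1 h hm) (inv_mem (hc' hy)))

/-- Let G be a finite group in which, for every prime p, any two cyclic p-subgroups of the same order are conjugate. If the layer E(G), the subgroup generated by the components of G, is non-trivial, then E(G)/Z(E(G)) is a non-abelian simple group. -/
theorem result {G : Type*} [Group G] [Finite G] (hP : ∀ (p : ℕ), p.Prime → ∀ A B : Subgroup G, IsCyclic ↥A → IsCyclic ↥B → IsPGroup p ↥A → Nat.card ↥A = Nat.card ↥B → ∃ g : G, B = A.map (MulAut.conj g).toMonoidHom) (hE : Cfsg.layer G ≠ ⊥) :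
    IsSimpleGroup (↥(Cfsg.layer G) ⧸ Subgroup.center ↥(Cfsg.layer G)) ∧ ¬ IsMulCommutative (↥(Cfsg.layer G) ⧸ Subgroup.center ↥(Cfsg.layer G)) := by
  obtain ⟨K, hK⟩ : ∃ K : Subgroup G, IsComponent K := by
    by_contra! h
    exact hE (layer_eq_bot_iff.2 h)
  have hEK : layer G = K := by
    refine le_antisymm (layer_le_iff.2 fun L hL => ?_) (le_layer hK)
    by_contra h
    have hne : K ≠ L := fun e => h e.ge
    obtain ⟨x, hx, ⟨m, hm⟩, hx'⟩ := exists_two_elem hK.2
    obtain ⟨y, hy, ⟨n, hn⟩, hy'⟩ := exists_two_elem hL.2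
    rcases le_total n m with h | h
    · exact false_of_le (hP 2 Nat.prime_two) (compOf_top.2 hK) (compOf_top.2 hL) hne hx hy hm hn h hx' hy'
    · exact false_of_le (hP 2 Nat.prime_two) (compOf_top.2 hL) (compOf_top.2 hK) hne.symm hy hx hn hm h hy' hx'
  rw [hEK]
  refine ⟨hK.2.2, fun h => QS.not_solvable hK.2 ?_⟩
  have : Group.IsSolvable (K ⧸ center K) := Group.isSolvable_of_comm fun a b => h.is_comm.comm a b
  have : Group.IsSolvable (center K) := Group.isSolvable_of_comm fun a b => Subtype.ext (mem_center_iff.1 b.2 a)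
  exact Group.isSolvable_of_ker_le_range (center K).subtype (QuotientGroup.mk' (center K)) (by simp)

end Cfsg.Agent.S3915
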