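import Cfsg.Statements.S2401
import Cfsg.Agent.H27.StA

set_option autoImplicit false
open Cfsg

namespace Cfsg.Agent.S2401

open H27 in

/-- The Steinberg presentation of `SL_n` over a finite field for `n ≥ 3`: the group generated by symbols `x_ij(t)` (`i ≠ j`, `t` in the field) subject to `x_ij(t) x_ij(u) = x_ij(t + u)` and, for `i ≠ l`, `x_ij(t) x_kl(u) x_ij(t)⁻¹ x_kl(u)⁻¹ = x_il(tu)` if `j = k` and `= 1` if `j ≠ k`, is isomorphic to `SL_n` by an isomorphism sending `x_ij(t)` to the elementary matrix `1 + t E_ij`. -/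
theorem result {K : Type*} [Field K] [Finite K] (n : ℕ) (hn : 3 ≤ n) :
    ∃ e : PresentedGroup
        ({g : FreeGroup ({ij : Fin n × Fin n // ij.1 ≠ ij.2} × K) | ∃ (a : {ij : Fin n × Fin n // ij.1 ≠ ij.2}) (t u : K),
            g = FreeGroup.of (a, t) * FreeGroup.of (a, u) * (FreeGroup.of (a, t + u))⁻¹} ∪
          {g | ∃ (a b : {ij : Fin n × Fin n // ij.1 ≠ ij.2}) (t u : K), a.1.1 ≠ b.1.2 ∧ a.1.2 ≠ b.1.1 ∧
            g = FreeGroup.of (a, t) * FreeGroup.of (b, u) * (FreeGroup.of (a, t))⁻¹ * (FreeGroup.of (b, u))⁻¹} ∪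
          {g | ∃ (a b : {ij : Fin n × Fin n // ij.1 ≠ ij.2}) (h : a.1.1 ≠ b.1.2) (t u : K), a.1.2 = b.1.1 ∧
            g = FreeGroup.of (a, t) * FreeGroup.of (b, u) * (FreeGroup.of (a, t))⁻¹ * (FreeGroup.of (b, u))⁻¹ *
              (FreeGroup.of (⟨(a.1.1, b.1.2), h⟩, t * u))⁻¹}) ≃* Matrix.SpecialLinearGroup (Fin n) K,
      ∀ (a : {ij : Fin n × Fin n // ij.1 ≠ ij.2}) (t : K), ((e (PresentedGroup.of (a, t)) : Matrix (Fin n) (Fin n) K)) = Matrix.transvection a.1.1 a.1.2 t := by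
  classical
  set rels := ({g : FreeGroup ({ij : Fin n × Fin n // ij.1 ≠ ij.2} × K) | ∃ (a : {ij : Fin n × Fin n // ij.1 ≠ ij.2}) (t u : K),
            g = FreeGroup.of (a, t) * FreeGroup.of (a, u) * (FreeGroup.of (a, t + u))⁻¹} ∪
          {g | ∃ (a b : {ij : Fin n × Fin n // ij.1 ≠ ij.2}) (t u : K), a.1.1 ≠ b.1.2 ∧ a.1.2 ≠ b.1.1 ∧
            g = FreeGroup.of (a, t) * FreeGroup.of (b, u) * (FreeGroup.of (a, t))⁻¹ * (FreeGroup.of (b, u))⁻¹} ∪
          {g | ∃ (a b : {ij : Fin n × Fin n // ij.1 ≠ ij.2}) (h : a.1.1 ≠ b.1.2) (t u : K), a.1.2 = b.1.1 ∧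
            g = FreeGroup.of (a, t) * FreeGroup.of (b, u) * (FreeGroup.of (a, t))⁻¹ * (FreeGroup.of (b, u))⁻¹ *
              (FreeGroup.of (⟨(a.1.1, b.1.2), h⟩, t * u))⁻¹}) with hrels
  have hr : ∀ r ∈ rels, PresentedGroup.mk rels r = 1 := fun r h => PresentedGroup.one_of_mem h
  let S : StA n K (PresentedGroup rels) :=
    { x := fun i j t => if h : i ≠ j then PresentedGroup.of (⟨(i, j), h⟩, t) else 1
      add := fun {i j} h s t => by
        have := hr _ (Or.inl (Or.inl ⟨⟨(i, j), h⟩, s, t, rfl⟩))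
        simp only [map_mul, map_inv, mul_inv_eq_one] at this
        simp only [dif_pos h]
        exact this.symm
      c0 := fun {i j k l} h1 h2 h3 h4 s t => by
        have := hr _ (Or.inl (Or.inr ⟨⟨(i, j), h1⟩, ⟨(k, l), h2⟩, s, t, h4, h3, rfl⟩))
        simp only [map_mul, map_inv] at this
        simp only [dif_pos h1, dif_pos h2]
        exact commutatorElement_eq_one_iff_commute.1 this
      c1 := fun {i j k} h1 h2 h3 s t => by
        have := hr _ (Or.inr ⟨⟨(i, j), h1⟩, ⟨(j, k), h2⟩, h3, s, t, rfl, rfl⟩)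
        simp only [map_mul, map_inv, mul_inv_eq_one] at this
        simp only [dif_pos h1, dif_pos h2, dif_pos h3]
        exact this }
  obtain ⟨φ, hφ⟩ := S.exists_hom hn
  have hf : ∀ r ∈ rels, FreeGroup.lift (fun x : {ij : Fin n × Fin n // ij.1 ≠ ij.2} × K =>
      tv x.1.1.1 x.1.1.2 x.2) r = 1 := by
    rintro r ((⟨a, t, u, rfl⟩ | ⟨a, b, t, u, h1, h2, rfl⟩) | ⟨a, b, h, t, u, h1, rfl⟩)
    · simp only [map_mul, map_inv, FreeGroup.lift_apply_of, mul_inv_eq_one]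
      exact ((stdA n K).add a.2 t u).symm
    · simp only [map_mul, map_inv, FreeGroup.lift_apply_of]
      exact commutatorElement_eq_one_iff_commute.2 ((stdA n K).c0 a.2 b.2 h2 h1 t u)
    · simp only [map_mul, map_inv, FreeGroup.lift_apply_of, mul_inv_eq_one]
      rw [← h1]
      exact (stdA n K).c1 a.2 (h1 ▸ b.2) h t u
  let ψ := PresentedGroup.toGroup hf
  have hψ : ∀ a t, ψ (PresentedGroup.of (a, t)) = tv a.1.1 a.1.2 t := fun a t =>
    PresentedGroup.toGroup.of hf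
  refine ⟨MonoidHom.toMulEquiv ψ φ ?_ ?_, fun a t => ?_⟩
  · refine PresentedGroup.ext fun ⟨a, t⟩ => ?_
    rw [MonoidHom.comp_apply, hψ, hφ _ _ _ a.2]
    exact dif_pos a.2
  · refine sl_hom_ext fun i j t h => ?_
    rw [MonoidHom.comp_apply, hφ _ _ _ h]
    simp only [S, dif_pos h, hψ]; rfl
  · rw [MonoidHom.toMulEquiv_apply, hψ, tv_val a.2]; rfl

end Cfsg.Agent.S2401
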