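import Cfsg.Statements.S5185
import Cfsg.Agent.L0.FEss

set_option autoImplicit false
universe u
open Cfsg

namespace Cfsg.Agent.S5185

open Subgroup Cfsg.Agent.H23 Cfsg.Agent.H23.LF


/-- Let F be a saturated fusion system over a finite p-group S and H an essential subgroup of order p². Then H is elementary abelian (isomorphic to C_p × C_p) and its F-automorphism group contains a subgroup isomorphic to SL(2,p). -/
theorem result {Ω : Type u} [Group Ω] {S : Subgroup Ω} [Finite S] (p : ℕ) [Fact p.Prime] (hS : IsPGroup p S)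
    (F : Cfsg.FusionSystem S) (hF : F.IsSaturated p) (H : Subgroup Ω) (hH : F.IsEssential p H) (hcard : Nat.card H = p ^ 2) :
    Cfsg.IsElementaryAbelian p H ∧
      ∃ K : Subgroup ↥(F.autGroup H), Nonempty (↥K ≃* Matrix.SpecialLinearGroup (Fin 2) (ZMod p)) := by
  have hF' : Sat p F := ⟨hS, hF⟩
  haveI := finite_of_le hH.1.1
  obtain ⟨f, h1, h2⟩ := (Sat.ess_nc hF' hH).exists_card (hS.to_le hH.1.1) hcard
  obtain rfl : f = 0 := by omega
  obtain ⟨h3, h4⟩ := L0.ea_of_frattini (hS.to_le hH.1.1) h1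
  have h5 : Cfsg.IsElementaryAbelian p H := ⟨h3, fun a ha => congrArg Subtype.val (h4 ⟨a, ha⟩)⟩
  refine ⟨h5, ?_⟩
  obtain ⟨G, _, θ, K, h⟩ := Sat.exists_em hF' hH
  haveI := h.fin
  obtain ⟨L, hL⟩ := h.ess.nat2 (h.hom.mono h.leN |>.im_eq_range ▸ (by
    rw [MonoidHom.range_eq_map]
    exact H24.isEA_map _ ⟨inferInstance, fun a _ => h4 a⟩)) (by rw [h.card_im h.leN, hcard])
  obtain ⟨ψ, a1, a2⟩ := hL.exists_hom
  obtain ⟨φ, hφ⟩ := h.exists_act
  have e : (φ.comp L.subtype).ker = ψ.ker := by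
    rw [a2]; ext g
    rw [mem_subgroupOf, MonoidHom.mem_ker]
    refine ⟨fun e y hy => ?_, fun e => Subtype.ext (MulEquiv.ext fun x => Subtype.ext ?_)⟩
    · obtain ⟨x, hx, rfl⟩ := (h.mem_im h.leN).1 hy
      have := hφ g ⟨x, hx⟩
      rw [show φ g = 1 from e] at this
      exact eq_mul_inv_iff_mul_eq.1 this
    · refine (h.inj (h.leN (Subtype.prop _)) (h.leN x.2)).1 ((hφ g x).trans ?_)
      rw [← e _ (mem_im_of_mem θ x.2), mul_inv_cancel_right]
  exact ⟨_, ⟨(QuotientGroup.quotientKerEquivRange _).symm.trans ((QuotientGroup.quotientMulEquivOfEq e).trans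
    (QuotientGroup.quotientKerEquivOfSurjective ψ a1))⟩⟩

end Cfsg.Agent.S5185
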