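import Cfsg.Statements.S5186
import Cfsg.Agent.L0.FEss

set_option autoImplicit false
universe u
open Cfsg

namespace Cfsg.Agent.S5186

open Subgroup Cfsg.Agent.H23 Cfsg.Agent.H23.LF


/-- Let F be a saturated fusion system over a finite p-group S and H an essential subgroup of order p³. Then H is elementary abelian, or p is odd and H is extraspecial of exponent p, or p = 2 and H is the quaternion group of order 8. -/
theorem result {Ω : Type u} [Group Ω] {S : Subgroup Ω} [Finite S] (p : ℕ) [Fact p.Prime] (hS : IsPGroup p S)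
    (F : Cfsg.FusionSystem S) (hF : F.IsSaturated p) (H : Subgroup Ω) (hH : F.IsEssential p H) (hcard : Nat.card H = p ^ 3) :
    Cfsg.IsElementaryAbelian p H ∨ (Odd p ∧ Cfsg.IsExtraspecial p ↥H ∧ ∀ x ∈ H, x ^ p = 1) ∨
      (p = 2 ∧ Nonempty (↥H ≃* QuaternionGroup 2)) := by
  haveI := finite_of_le hH.1.1
  rcases (Sat.ess_nc ⟨hS, hF⟩ hH).cube hcard with ⟨a, b⟩ | ⟨a, b, c⟩ | h
  · exact .inl ⟨a, fun x hx => congrArg Subtype.val (b ⟨x, hx⟩)⟩
  · exact .inr (.inl ⟨(Fact.out : p.Prime).odd_of_ne_two a, b, fun x hx => congrArg Subtype.val (c ⟨x, hx⟩)⟩)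
  · exact .inr (.inr h)

end Cfsg.Agent.S5186
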