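import Cfsg.Statements.S3863
import Cfsg.Agent.H25.Real

set_option autoImplicit false
open Cfsg

namespace Cfsg.Agent.S3863

/-- Let x be an element of the finite group G that is conjugate to its inverse. Then some 2-element conjugates x to its inverse; if the conjugacy class of x has odd size then x ^ 2 = 1; and x lies in, and is conjugate to its inverse inside, every normal subgroup of odd index. -/
theorem result {G : Type*} [Group G] [Finite G] (x : G) (hx : IsConj x x⁻¹) : (∃ t : G, (∃ j : ℕ, orderOf t = 2 ^ j) ∧ t * x * t⁻¹ = x⁻¹) ∧ (Odd (Subgroup.centralizer ({x} : Set G)).index → x ^ 2 = 1) ∧ ∀ (N : Subgroup G) [N.Normal], Odd N.index → ∃ hxN : x ∈ N, IsConj (⟨x, hxN⟩ : N) (⟨x, hxN⟩ : N)⁻¹ := by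
  obtain ⟨t, ⟨j, hj⟩, ht⟩ := H25.exists_two_elt_inverting hx
  refine ⟨⟨t, ?_, ht⟩, fun h => ?_, fun N _ hN => ?_⟩
  · obtain ⟨k, -, hk⟩ := (Nat.dvd_prime_pow Nat.prime_two).1 (orderOf_dvd_of_pow_eq_one hj)
    exact ⟨k, hk⟩
  · rw [pow_two]
    exact H25.sq_eq_one_of_real_of_odd_index hx (Nat.two_dvd_ne_zero.2 (Nat.odd_iff.1 h))
  · have hN' := Nat.two_dvd_ne_zero.2 (Nat.odd_iff.1 hN)
    have htN : t ∈ N := H25.mem_of_pow_eq_one_of_not_dvd_index Nat.prime_two hj
      (by rw [Subgroup.normalizer_eq_top]; trivial) hN'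
    have h2 : x ^ 2 ∈ N := by
      have : x ^ 2 = (x * t * x⁻¹) * t⁻¹ := by
        calc x ^ 2 = x * (t * x * t⁻¹)⁻¹ := by rw [ht, inv_inv, pow_two]
          _ = _ := by group
      rw [this]
      exact N.mul_mem (Subgroup.Normal.conj_mem inferInstance t htN x) (N.inv_mem htN)
    have hxN : x ∈ N := H3.mem_of_pow_mem_of_coprime (Nat.coprime_two_left.2 hN) h2
      (N.pow_index_mem x)
    exact ⟨hxN, isConj_iff.2 ⟨⟨t, htN⟩, Subtype.ext ht⟩⟩

end Cfsg.Agent.S3863
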