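import Cfsg.Statements.S0322
import Cfsg.Agent.H15.BN

set_option autoImplicit false
open Cfsg

namespace Cfsg.Agent.S0322

/-- A group with a (B,N)-pair of rank one acts doubly transitively on the left cosets of `B`. -/
theorem result {G : Type*} [Group G] (P : Cfsg.BNPair G) (h : P.rank = 1) : MulAction.IsMultiplyPretransitive G (G ⧸ P.B) 2 := by
  obtain ⟨s, hs⟩ := Nat.card_eq_one_iff_exists.1 h
  have key : ∀ g : G, g ∉ P.B → g ∈ H15.BN.C P (H15.BN.sW P s) := by
    intro g hg
    have h1 : ({s} : Set P.S) = Set.univ := by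
      ext a; simp [hs a]
    have : g ∈ H15.BN.parG P {s} := by rw [h1, H15.BN.parG_univ]; trivial
    exact (H15.BN.mem_parG_singleton.1 this).resolve_left hg
  rw [MulAction.is_two_pretransitive_iff]
  intro a b c d hab hcd
  obtain ⟨x, rfl⟩ := QuotientGroup.mk_surjective a
  obtain ⟨y, rfl⟩ := QuotientGroup.mk_surjective b
  obtain ⟨z, rfl⟩ := QuotientGroup.mk_surjective c
  obtain ⟨w, rfl⟩ := QuotientGroup.mk_surjective d
  rw [Ne, QuotientGroup.eq] at hab hcd
  obtain ⟨b₁, hb₁, b₂, hb₂, e⟩ := H15.BN.exists_of_mem_C (key _ hab) (key _ hcd)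
  refine ⟨z * b₁ * x⁻¹, ?_, ?_⟩
  · rw [MulAction.Quotient.smul_mk, QuotientGroup.eq]
    simpa using inv_mem hb₁
  · rw [MulAction.Quotient.smul_mk, QuotientGroup.eq]
    have : w = z * (b₁ * (x⁻¹ * y) * b₂) := by rw [← e]; simp
    rw [this]
    simpa [mul_assoc] using hb₂

end Cfsg.Agent.S0322
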