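import Cfsg.Statements.S0556
import Mathlib
import Cfsg.Agent.H2.Schmidt
import Cfsg.Agent.H4.Frobenius
import Cfsg.Agent.H1.Frobenius

set_option autoImplicit false
open Cfsg

namespace Cfsg.Agent.S0556

open scoped Pointwise commutatorElement
theorem aux {G : Type*} [Group G] [Finite G] (A : Subgroup G) (hA : IsCoatom A) [IsMulCommutative A]
    (hTI : ∀ g : G, g ∉ A → ∀ x ∈ A, g * x * g⁻¹ ∈ A → x = 1) : derivedSeries G 2 = ⊥ := by
  obtain ⟨K, hKn, hc, -⟩ := H4.frobenius_kernel A hTI
  have hK0 : K ≠ ⊥ := by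
    intro h
    have := hc.sup_eq_top
    rw [h, bot_sup_eq] at this
    exact hA.1 this
  have hfpf : ∀ a ∈ A, a ≠ 1 → K ⊓ Subgroup.centralizer {a} = ⊥ := by
    intro a ha ha1
    rw [eq_bot_iff, ← disjoint_iff.1 hc.disjoint]
    intro k hk
    refine ⟨hk.1, ?_⟩
    by_contra h
    refine ha1 (hTI k h a ha ?_)
    rw [Subgroup.mem_centralizer_singleton_iff.1 hk.2]
    simpa using ha
  obtain ⟨V, hVK, hV0, hV, hn⟩ := H1.exists_invariant_abelian hK0 Subgroup.le_normalizer_of_normal
    (H1.coprime_card_of_fpf Subgroup.le_normalizer_of_normal hfpf)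
    (Or.inl (H1.isSolvable_of_isMulCommutative A))
  have h1 := H2.coatom_sup_eq_top hA (N := V) fun h => hV0 (eq_bot_iff.2
    (disjoint_iff.1 hc.disjoint ▸ le_inf hVK h))
  have h2 := H1.sup_inf_of_le_normalizer hn hVK
  rw [sup_comm, h1, top_inf_eq, inf_comm, disjoint_iff.1 hc.disjoint, sup_bot_eq] at h2
  have h3 : commutator G ≤ K := H2.commutator_le_of_sup_eq_top hc.sup_eq_top
      (Subgroup.commutator_le_left _ _)
      (by rw [Subgroup.commutator_self_eq_bot_iff.2 inferInstance]; exact bot_le)
      (Subgroup.commutator_le_left _ _)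
  rw [derivedSeries_succ, derivedSeries_one]
  exact H10.commutator_eq_bot_mono (Subgroup.commutator_self_eq_bot_iff.2 hV) (h2 ▸ h3) (h2 ▸ h3)

/-- If a finite group has a maximal subgroup that is abelian, then the third term of its derived series is trivial (so the group is solvable of derived length at most three). -/
theorem result {G : Type*} [Group G] [Finite G] (A : Subgroup G) (hA : IsCoatom A) [IsMulCommutative A] : derivedSeries G 3 = ⊥ := by
  by_cases hn : A.Normal
  · obtain ⟨x, -, hx⟩ := SetLike.exists_of_lt hA.1.lt_top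
    have h1 := H2.coatom_sup_eq_top hA (N := Subgroup.zpowers x) (by rwa [Subgroup.zpowers_le])
    have h3 : commutator G ≤ A := by
      rw [H2.commutator_eq_of_sup_eq_top h1]; exact Subgroup.commutator_le_left _ _
    rw [eq_bot_iff]
    refine (derivedSeries_antitone G (by norm_num : 2 ≤ 3)).trans ?_
    rw [derivedSeries_succ, derivedSeries_one, le_bot_iff]
    exact H10.commutator_eq_bot_mono (Subgroup.commutator_self_eq_bot_iff.2 ‹_›) h3 h3
  have hN : Subgroup.normalizer (A : Set G) = A := by
    rcases H2.eq_or_eq_top_of_coatom hA Subgroup.le_normalizer with h | h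
    · exact h
    · exact absurd (H2.normal_of_top_le_normalizer h.ge) hn
  have hZ : Subgroup.center G ≤ A := hN ▸ Subgroup.center_le_normalizer _
  have hs := QuotientGroup.mk'_surjective (Subgroup.center G)
  have key := aux (A.map (QuotientGroup.mk' (Subgroup.center G))) (H2.isCoatom_map_mk' hA hZ)
    (fun g hg x hx hgx => by
      obtain ⟨g, rfl⟩ := hs g
      obtain ⟨x, hx, rfl⟩ := hx
      have hg' : g ∉ A := fun h => hg ⟨g, h, rfl⟩
      have hgx' : g * x * g⁻¹ ∈ A := by
        have : g * x * g⁻¹ ∈ (A.map (QuotientGroup.mk' (Subgroup.center G))).comap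
          (QuotientGroup.mk' (Subgroup.center G)) := hgx
        rwa [H2.comap_map_mk'_eq_sup, sup_eq_left.2 hZ] at this
      rw [QuotientGroup.mk'_apply, QuotientGroup.eq_one_iff]
      have h1 := H2.coatom_sup_eq_top hA (N := MulAut.conj g⁻¹ • A) fun h =>
        hg' (by simpa using hN.le (inv_mem (H2.mem_normalizer_of_conj_smul_le h)))
      rw [← Subgroup.centralizer_univ, ← Subgroup.coe_top, ← h1, H10.centralizer_sup,
        H3.centralizer_conj_smul]
      refine ⟨Subgroup.le_centralizer A hx, H3.mem_conj_smul.2 ?_⟩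
      rw [inv_inv]
      exact Subgroup.le_centralizer A hgx')
  rw [← map_derivedSeries_eq hs, Subgroup.map_eq_bot_iff, QuotientGroup.ker_mk'] at key
  rw [derivedSeries_succ]
  exact H10.commutator_eq_bot_mono (Subgroup.commutator_top_right_eq_bot_iff_le_center.2 key)
    le_rfl le_top

end Cfsg.Agent.S0556
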