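import Cfsg.Statements.S0693
import Mathlib
import Cfsg.Agent.H2.Perm9

set_option autoImplicit false
open Cfsg

namespace Cfsg.Agent.S0693

def L : List H2.Pm.N4 :=
  [(1, 0, 0, 1), (0, 58, 1, 0), (9, 15, 49, 49), (58, 0, 0, 58), (15, 50, 49, 10), (10, 10, 9,
  15), (49, 44, 10, 9), (0, 1, 58, 0), (50, 44, 10, 10), (10, 49, 15, 50), (44, 10, 9, 49), (48,
  20, 46, 45), (49, 50, 49, 44), (44, 9, 10, 49), (49, 49, 50, 44), (10, 15, 49, 50), (20, 11, 45,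
  13), (50, 10, 44, 10), (13, 14, 48, 20), (1, 29, 4, 58), (55, 48, 23, 4), (49, 10, 44, 9), (15,
  49, 50, 10), (11, 39, 13, 14), (10, 9, 10, 15), (14, 46, 20, 11), (29, 58, 58, 55), (48, 4, 4,
  36), (11, 13, 39, 14), (55, 1, 1, 29), (36, 55, 55, 48), (14, 20, 46, 11), (39, 48, 14, 46), (9,
  49, 15, 49), (46, 45, 11, 39), (58, 30, 55, 1), (4, 11, 36, 55), (13, 48, 14, 20), (1, 4, 29,
  58), (55, 23, 48, 4), (20, 45, 11, 13), (35, 32, 31, 25), (38, 31, 30, 54), (28, 35, 34, 32),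
  (45, 13, 39, 48), (30, 1, 1, 4), (11, 55, 55, 23), (48, 46, 20, 45), (4, 58, 58, 30), (23, 4, 4,
  11), (45, 39, 13, 48), (32, 24, 25, 28), (31, 21, 54, 29), (35, 31, 32, 25), (28, 34, 35, 32),
  (29, 5, 38, 31), (25, 27, 28, 35), (54, 28, 29, 38), (46, 11, 45, 39), (58, 55, 30, 1), (4, 36,
  11, 55), (39, 14, 48, 46), (24, 27, 28, 34), (21, 28, 29, 5), (31, 24, 25, 27), (34, 31, 32,
  24), (5, 30, 31, 21), (27, 34, 35, 31), (28, 5, 38, 30), (10, 19, 19, 48), (5, 38, 38, 53), (30,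
  21, 54, 28), (27, 35, 34, 31), (28, 38, 5, 30), (24, 28, 27, 34), (31, 25, 24, 27), (30, 54, 21,
  28), (34, 32, 31, 24), (5, 31, 30, 21), (19, 49, 48, 40), (38, 54, 53, 21), (21, 29, 28, 5),
  (40, 11, 10, 19), (21, 6, 5, 38), (25, 16, 42, 34), (18, 19, 45, 41), (25, 28, 27, 35), (54, 29,
  28, 38), (32, 25, 24, 28), (31, 54, 21, 29), (49, 40, 40, 11), (54, 21, 21, 6), (29, 38, 5, 31),
  (11, 19, 19, 49), (6, 38, 38, 54), (16, 34, 34, 17), (19, 41, 41, 14), (38, 30, 31, 54), (17,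
  25, 25, 16), (14, 18, 18, 19), (40, 10, 11, 19), (21, 5, 6, 38), (19, 48, 49, 40), (38, 53, 54,
  21), (34, 43, 17, 25), (41, 40, 14, 18), (25, 42, 16, 34), (18, 45, 19, 41), (40, 18, 18, 45),
  (56, 52, 52, 3), (42, 34, 34, 43), (48, 40, 40, 10), (53, 21, 21, 5), (43, 25, 25, 42), (45, 41,
  41, 40), (52, 3, 3, 7), (34, 17, 43, 25), (41, 14, 40, 18), (7, 56, 56, 52), (3, 7, 7, 56)]

def W : List (List ℕ) :=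
  [[], [0], [1], [0, 0], [1, 0], [0, 1], [1, 1], [0, 0, 0], [1, 0, 0], [0, 1, 0], [1, 1, 0], [1,
  0, 1], [0, 1, 1], [1, 0, 0, 0], [0, 1, 0, 0], [1, 1, 0, 0], [1, 0, 1, 0], [0, 1, 1, 0], [0, 1,
  0, 1], [1, 1, 0, 1], [1, 0, 1, 1], [0, 1, 0, 0, 0], [1, 1, 0, 0, 0], [1, 0, 1, 0, 0], [0, 1, 1,
  0, 0], [0, 1, 0, 1, 0], [1, 1, 0, 1, 0], [1, 0, 1, 1, 0], [1, 0, 1, 0, 1], [0, 1, 1, 0, 1], [0,
  1, 0, 1, 1], [1, 1, 0, 1, 1], [1, 0, 1, 0, 0, 0], [0, 1, 1, 0, 0, 0], [0, 1, 0, 1, 0, 0], [1, 1,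
  0, 1, 0, 0], [1, 0, 1, 1, 0, 0], [1, 0, 1, 0, 1, 0], [0, 1, 1, 0, 1, 0], [0, 1, 0, 1, 1, 0], [1,
  1, 0, 1, 1, 0], [1, 1, 0, 1, 0, 1], [1, 0, 1, 1, 0, 1], [1, 0, 1, 0, 1, 1], [0, 1, 0, 1, 0, 0,
  0], [1, 1, 0, 1, 0, 0, 0], [1, 0, 1, 1, 0, 0, 0], [1, 0, 1, 0, 1, 0, 0], [0, 1, 1, 0, 1, 0, 0],
  [0, 1, 0, 1, 1, 0, 0], [1, 1, 0, 1, 1, 0, 0], [1, 1, 0, 1, 0, 1, 0], [1, 0, 1, 1, 0, 1, 0], [1,
  0, 1, 0, 1, 1, 0], [0, 1, 1, 0, 1, 0, 1], [0, 1, 0, 1, 1, 0, 1], [1, 1, 0, 1, 1, 0, 1], [1, 1,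
  0, 1, 0, 1, 1], [1, 0, 1, 0, 1, 0, 0, 0], [0, 1, 1, 0, 1, 0, 0, 0], [0, 1, 0, 1, 1, 0, 0, 0],
  [1, 1, 0, 1, 1, 0, 0, 0], [1, 1, 0, 1, 0, 1, 0, 0], [1, 0, 1, 1, 0, 1, 0, 0], [1, 0, 1, 0, 1, 1,
  0, 0], [0, 1, 1, 0, 1, 0, 1, 0], [0, 1, 0, 1, 1, 0, 1, 0], [1, 1, 0, 1, 1, 0, 1, 0], [1, 1, 0,
  1, 0, 1, 1, 0], [1, 0, 1, 1, 0, 1, 0, 1], [1, 0, 1, 0, 1, 1, 0, 1], [0, 1, 1, 0, 1, 0, 1, 1],
  [1, 1, 0, 1, 0, 1, 0, 0, 0], [1, 0, 1, 1, 0, 1, 0, 0, 0], [1, 0, 1, 0, 1, 1, 0, 0, 0], [0, 1, 1,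
  0, 1, 0, 1, 0, 0], [0, 1, 0, 1, 1, 0, 1, 0, 0], [1, 1, 0, 1, 1, 0, 1, 0, 0], [1, 1, 0, 1, 0, 1,
  1, 0, 0], [1, 0, 1, 1, 0, 1, 0, 1, 0], [1, 0, 1, 0, 1, 1, 0, 1, 0], [0, 1, 1, 0, 1, 0, 1, 1, 0],
  [0, 1, 0, 1, 1, 0, 1, 0, 1], [1, 1, 0, 1, 1, 0, 1, 0, 1], [1, 1, 0, 1, 0, 1, 1, 0, 1], [1, 0, 1,
  1, 0, 1, 0, 1, 1], [0, 1, 1, 0, 1, 0, 1, 0, 0, 0], [0, 1, 0, 1, 1, 0, 1, 0, 0, 0], [1, 1, 0, 1,
  1, 0, 1, 0, 0, 0], [1, 1, 0, 1, 0, 1, 1, 0, 0, 0], [1, 0, 1, 1, 0, 1, 0, 1, 0, 0], [1, 0, 1, 0,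
  1, 1, 0, 1, 0, 0], [0, 1, 1, 0, 1, 0, 1, 1, 0, 0], [0, 1, 0, 1, 1, 0, 1, 0, 1, 0], [1, 1, 0, 1,
  1, 0, 1, 0, 1, 0], [1, 1, 0, 1, 0, 1, 1, 0, 1, 0], [1, 0, 1, 1, 0, 1, 0, 1, 1, 0], [1, 0, 1, 0,
  1, 1, 0, 1, 0, 1], [0, 1, 1, 0, 1, 0, 1, 1, 0, 1], [0, 1, 0, 1, 1, 0, 1, 0, 1, 1], [1, 0, 1, 1,
  0, 1, 0, 1, 0, 0, 0], [1, 0, 1, 0, 1, 1, 0, 1, 0, 0, 0], [0, 1, 0, 1, 1, 0, 1, 0, 1, 0, 0], [1,
  1, 0, 1, 1, 0, 1, 0, 1, 0, 0], [1, 1, 0, 1, 0, 1, 1, 0, 1, 0, 0], [1, 0, 1, 1, 0, 1, 0, 1, 1, 0,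
  0], [0, 1, 1, 0, 1, 0, 1, 1, 0, 1, 0], [0, 1, 0, 1, 1, 0, 1, 0, 1, 1, 0], [1, 1, 0, 1, 0, 1, 1,
  0, 1, 0, 1], [1, 0, 1, 1, 0, 1, 0, 1, 1, 0, 1], [1, 0, 1, 0, 1, 1, 0, 1, 0, 1, 1], [0, 1, 0, 1,
  1, 0, 1, 0, 1, 0, 0, 0], [1, 1, 0, 1, 1, 0, 1, 0, 1, 0, 0, 0], [1, 1, 0, 1, 0, 1, 1, 0, 1, 0, 0,
  0], [0, 1, 0, 1, 1, 0, 1, 0, 1, 1, 0, 0], [1, 0, 1, 1, 0, 1, 0, 1, 1, 0, 1, 0], [1, 0, 1, 0, 1,
  1, 0, 1, 0, 1, 1, 0], [0, 1, 1, 0, 1, 0, 1, 1, 0, 1, 0, 1], [0, 1, 0, 1, 1, 0, 1, 0, 1, 1, 0,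
  1], [1, 1, 0, 1, 0, 1, 1, 0, 1, 0, 1, 1]]

theorem hW : H2.Pm.chkW 59 (0, 58, 1, 0) (9, 15, 49, 49) (4, 0, 0, 4) W L = true := by
  decide +kernel
theorem hc1 : H2.Pm.chkCl 59 L (0, 58, 1, 0) = true := by decide +kernel
theorem hc2 : H2.Pm.chkCl 59 L (9, 15, 49, 49) = true := by decide +kernel
theorem htr' : H2.Pm.chkAll2 59 (fun x y => L.any fun m =>
    Nat.beq (m.1 * y % 59) (m.2.2.1 * x % 59)) = true := by decide +kernel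
theorem hst' : (L.all fun m => !(Nat.beq (m.2.2.1 % 59) 0) ||
    (Nat.beq m.2.1 0 && Nat.beq m.1 m.2.2.2)) = true := by decide +kernel
theorem hz' : ((List.range 59).all fun z => Nat.beq z 0 ||
    (List.range 58).any fun k => Nat.beq (55 ^ k % 59) z) = true := by decide +kernel
theorem hone : (1, 0, 0, 1) ∈ L := List.mem_cons_self

theorem htr (x y : ZMod 59) : ∃ m ∈ L, (m.1 : ZMod 59) * y = m.2.2.1 * x := by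
  obtain ⟨m, hm, e⟩ := List.any_eq_true.1 (H2.Pm.of_chkAll2 htr' x y)
  have := (ZMod.natCast_eq_natCast_iff' _ _ 59).2 (Nat.eq_of_beq_eq_true e)
  exact ⟨m, hm, by simpa using this⟩

theorem hst (m : H2.Pm.N4) (hm : m ∈ L) (h : (m.2.2.1 : ZMod 59) = 0) :
    m.2.1 = 0 ∧ m.1 = m.2.2.2 := by
  have := List.all_eq_true.1 hst' m hm
  have f2 : m.2.2.1 % 59 = 0 := by
    simpa using (ZMod.natCast_eq_natCast_iff' m.2.2.1 0 59).1 (by simpa using h)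
  simpa [f2] using this

theorem hz (z : ZMod 59) (h : z ≠ 0) : ∃ k : ℕ, (-4) ^ k = z := by
  have := List.all_eq_true.1 hz' z.val (List.mem_range.2 (ZMod.val_lt z))
  simp only [Bool.or_eq_true, Nat.beq_eq, ZMod.val_eq_zero, h, false_or, List.any_eq_true] at this
  obtain ⟨k, -, e⟩ := this
  refine ⟨k, ?_⟩
  rw [← ZMod.natCast_zmod_val z, ← e, show (-4 : ZMod 59) = (55 : ℕ) by decide +kernel]
  simp

/-- An exceptional sharply doubly transitive group of degree 59^2: the listed matrices generate a subgroup of GL(2,59) of order 3480 acting regularly on the non-zero vectors. -/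
theorem result (A : Matrix.GeneralLinearGroup (Fin 2) (ZMod 59)) (B : Matrix.GeneralLinearGroup (Fin 2) (ZMod 59)) (C : Matrix.GeneralLinearGroup (Fin 2) (ZMod 59)) (hA : (A : Matrix (Fin 2) (Fin 2) (ZMod 59)) = !![0, -1; 1, 0]) (hB : (B : Matrix (Fin 2) (Fin 2) (ZMod 59)) = !![9, 15; -10, -10]) (hC : (C : Matrix (Fin 2) (Fin 2) (ZMod 59)) = !![4, 0; 0, 4]) : Nat.card (Subgroup.closure ({A, B, C} : Set (Matrix.GeneralLinearGroup (Fin 2) (ZMod 59)))) = 3480 ∧ ∀ v w : Fin 2 → ZMod 59, v ≠ 0 → w ≠ 0 → ∃! h : Subgroup.closure ({A, B, C} : Set (Matrix.GeneralLinearGroup (Fin 2) (ZMod 59))), Matrix.mulVec ((h : Matrix.GeneralLinearGroup (Fin 2) (ZMod 59)) : Matrix (Fin 2) (Fin 2) (ZMod 59)) v = w := by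
  haveI : Fact (Nat.Prime 59) := ⟨by norm_num⟩
  have a := H2.Pm.toM4_eq hA
  have b := H2.Pm.toM4_eq hB
  have c := H2.Pm.toM4_eq hC
  have a' : H2.Pm.toM4 A = H2.Pm.castN 59 (0, 58, 1, 0) := a.trans (by decide +kernel)
  have b' : H2.Pm.toM4 B = H2.Pm.castN 59 (9, 15, 49, 49) := b.trans (by decide +kernel)
  have c' : H2.Pm.toM4 C = H2.Pm.castN 59 (4, 0, 0, 4) := c.trans (by decide +kernel)
  have mA : A ∈ Subgroup.closure {A, B, C} := Subgroup.subset_closure (by simp)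
  have mB : B ∈ Subgroup.closure {A, B, C} := Subgroup.subset_closure (by simp)
  have mC : C ∈ Subgroup.closure {A, B, C} := Subgroup.subset_closure (by simp)
  refine H2.Pm.regular_of_checks _ (fun x y h => ?_) fun h hh => ?_
  · obtain ⟨m', hm, e⟩ := htr x y
    obtain ⟨g, hg, e'⟩ := H2.Pm.exists_of_chkW _ mA mB mC a' b' c' hW m' hm
    obtain ⟨m, hm'⟩ : ∃ m, m = H2.Pm.castN 59 m' := ⟨_, rfl⟩
    replace e : m.1 * y = m.2.2.1 * x := hm' ▸ e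
    rw [← hm'] at e'
    have e0 : ¬ (m.1 = 0 ∧ m.2.2.1 = 0) := by
      rintro ⟨h1, h2⟩
      rw [← e'] at h1 h2
      have := g.det_ne_zero
      rw [Matrix.det_fin_two] at this
      simp only [H2.Pm.toM4] at h1 h2
      simp [h1, h2] at this
    obtain ⟨z, hz0, z1, z2⟩ : ∃ z : ZMod 59, z ≠ 0 ∧ z * m.1 = x ∧ z * m.2.2.1 = y := by
      by_cases h1 : m.1 = 0
      · have h2 : m.2.2.1 ≠ 0 := fun h2 => e0 ⟨h1, h2⟩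
        have hx : x = 0 := by
          rw [h1, zero_mul] at e
          exact (mul_eq_zero.1 e.symm).resolve_left h2
        refine ⟨y / m.2.2.1, div_ne_zero (fun hy => h ⟨hx, hy⟩) h2, by rw [h1, hx, mul_zero],
          div_mul_cancel₀ _ h2⟩
      · refine ⟨x / m.1, div_ne_zero (fun hx => h ⟨hx, ?_⟩) h1, div_mul_cancel₀ _ h1, ?_⟩
        · rw [hx, mul_zero] at e
          exact (mul_eq_zero.1 e).resolve_left h1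
        · field_simp
          linear_combination -e
    obtain ⟨k, rfl⟩ := hz z hz0
    have hp : ∀ n : ℕ, H2.Pm.toM4 ((A * A * C) ^ n) = ((-4) ^ n, 0, 0, (-4) ^ n) := by
      intro n
      induction n with
      | zero => simpa using H2.Pm.toM4_one
      | succ n ih =>
        rw [pow_succ, H2.Pm.toM4_mul, ih, H2.Pm.toM4_mul, H2.Pm.toM4_mul, a, c]
        simp [H2.Pm.M4.mul, pow_succ]
    refine ⟨(A * A * C) ^ k * g, Subgroup.mul_mem _ (Subgroup.pow_mem _ (Subgroup.mul_mem _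
      (Subgroup.mul_mem _ mA mA) mC) _) hg, ?_⟩
    rw [H2.Pm.toM4_mul, hp, e']
    simpa [H2.Pm.M4.mul] using ⟨z1, z2⟩
  · have := H2.Pm.mem_of_closed {A, B, C}
      (fun m => ∃ l ∈ L, ∃ z : ZMod 59, m = H2.Pm.M4.mul (z, 0, 0, z) (H2.Pm.castN 59 l))
      ⟨(1, 0, 0, 1), hone, 1, by simp [H2.Pm.M4.mul, H2.Pm.castN]⟩ (by
        rintro s (rfl | rfl | rfl) m ⟨l, hl, z, rfl⟩
        · refine ⟨_, H2.Pm.of_chkCl hc1 l hl, z, ?_⟩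
          rw [H2.Pm.castN_mul, a']
          simp only [H2.Pm.M4.mul, Prod.mk.injEq]; refine ⟨?_, ?_, ?_, ?_⟩ <;> ring
        · refine ⟨_, H2.Pm.of_chkCl hc2 l hl, z, ?_⟩
          rw [H2.Pm.castN_mul, b']
          simp only [H2.Pm.M4.mul, Prod.mk.injEq]; refine ⟨?_, ?_, ?_, ?_⟩ <;> ring
        · rw [c]; refine ⟨l, hl, 4 * z, ?_⟩
          simp only [H2.Pm.M4.mul, Prod.mk.injEq]; refine ⟨?_, ?_, ?_, ?_⟩ <;> ring) h hh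
    obtain ⟨l, hl, z, e⟩ := this
    rw [e]
    simp only [H2.Pm.M4.mul, H2.Pm.castN, zero_mul, add_zero, zero_add]
    intro h1 h2
    have hz0 : z ≠ 0 := fun h => by simp [h] at h1
    obtain ⟨h3, h4⟩ := hst l hl ((mul_eq_zero.1 h2).resolve_left hz0)
    rw [h1, h2, h3, ← h4, h1, Nat.cast_zero, mul_zero]

end Cfsg.Agent.S0693
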