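import Cfsg.Statements.S0730
import Cfsg.Agent.H4.Zass7

set_option autoImplicit false
open Cfsg

namespace Cfsg.Agent.S0730

open Cfsg.Agent.H4


/-- A sharply triply transitive group of degree `p^f + 1`, `p` an odd prime and `f` odd, is isomorphic to the projective general linear group of degree 2 over the field with `p^f` elements (for even `f` there is a second, twisted, group). -/
theorem result {α : Type*} [Fintype α] [DecidableEq α] {p f : ℕ} (hp : p.Prime) (hp2 : p ≠ 2) (hfo : Odd f) (hα : Fintype.card α = p ^ f + 1) (G : Subgroup (Equiv.Perm α)) (h3 : MulAction.IsMultiplyPretransitive G α 3) (hsharp : ∀ x : Fin 3 ↪ α, MulAction.stabilizer G x = ⊥) : ∃ (F : Type) (_ : Field F) (_ : Fintype F), Fintype.card F = p ^ f ∧ Nonempty (G ≃* Matrix.ProjGenLinGroup (Fin 2) F) := by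
  have h0 : 3 ≤ p ^ f := (show 3 ≤ p by have := hp.two_le; omega).trans
    (Nat.le_self_pow hfo.pos.ne' p)
  have hc := exists_third_of_card (α := α) (by omega)
  have h := zt_of_sharp3 G h3 hsharp hc
  obtain ⟨a, b, hab⟩ := Fintype.exists_pair_of_one_lt_card (α := α) (by omega)
  obtain ⟨c, hca, hcb⟩ := hc a b
  have h1 := h.card_St2_of_three h3 hab hca hcb
  have h2 := h.card_K hab
  rw [Nat.card_eq_fintype_card (α := α), hα, add_left_inj] at h2
  have h4 := (hp.odd_of_ne_two hp2).pow (n := f)
  obtain ⟨c, s, h5⟩ := h.exists_S3 hab (by rw [Nat.even_iff, Nat.odd_iff] at *; omega) h1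
  rw [← h2]
  exact h.iso_PGL_of_inverts hab h5.ca h5.cb h1 h5.sa h5.sb (h5.inverts_of_odd hp hfo h2)

end Cfsg.Agent.S0730
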