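import Cfsg.Statements.S0816
import Cfsg.Agent.H13.GamO
import Cfsg.Agent.H28.FieldAut

set_option autoImplicit false
open Cfsg

namespace Cfsg.Agent.S0816

/-- |Aut(PΩ_(2m+1)(q))| = 2 f · |PΩ_(2m+1)(q)| for q = p^f odd and m ≥ 3 (for the form quadFormOdd). -/
theorem result {F : Type*} [Field F] [Fintype F] (p f : ℕ) [Fact p.Prime] (hf : 1 ≤ f) (hF : Fintype.card F = p ^ f) (hodd : Odd p) (m : ℕ) (hm : 3 ≤ m) : Nat.card (MulAut (Cfsg.POmega F (Cfsg.quadFormOdd m F))) = 2 * f * Nat.card (Cfsg.POmega F (Cfsg.quadFormOdd m F)) := by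
  have h2 : (2 : F) ≠ 0 := H13.two_ne_zero_of_odd_card (hF ▸ hodd.pow)
  have hQ := H13.nd_QOdd (m := m) h2
  have h := hQ.card_range_autHom_odd (m := m) (by omega) (by simp; omega)
  rw [hQ.range_autHom (by simp; omega) (by simp; omega), Subgroup.card_top,
    show Nat.card (RingAut F) = f from H28.card_ringAut hF] at h
  rw [← H13.coe_QOdd, ← Nat.card_congr (H13.autEquiv _).toEquiv,
    Nat.card_congr (H13.pomegaEquiv _).toEquiv, h]

end Cfsg.Agent.S0816
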