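import Cfsg.Statements.S0976
import Cfsg.Agent.H19.E3

set_option autoImplicit false
open Cfsg

namespace Cfsg.Agent.S0976

open Cfsg.Agent.H19 Cfsg.Agent.H4 Cfsg.Agent.H6

/-- No finite simple group has order 4032 = 2^6 * 3^2 * 7. -/
theorem result {G : Type*} [Group G] [Finite G] [IsSimpleGroup G] : Nat.card G ≠ 4032 := by
  classical
  intro hn
  have hc : ¬ IsMulCommutative G := not_comm_of_card_not_prime (by rw [hn]; norm_num)
  haveI := Fintype.ofFinite G
  haveI : Fact (Nat.Prime 7) := ⟨by norm_num⟩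
  obtain ⟨x, K, h, B, L, h1, h2, h3⟩ := d1_mem (p := 7) hc (by rw [hn]; norm_num)
    (by rw [hn]; norm_num)
  rw [hn, show d1list 4032 7 = [(1, 2, 288, [8])] by decide +kernel] at h1
  simp only [List.mem_singleton, Prod.mk.injEq] at h1
  obtain ⟨hK, he, -, rfl⟩ := h1
  obtain ⟨J, hJ, h4⟩ := exists_central_invol (G := G) (a := 6) (by norm_num) (by rw [hn]; norm_num)
  obtain ⟨k, -, h5, h6, -, -, -, h7, -⟩ := e2_data hc B hK he h3 hJ
  obtain ⟨c, hc⟩ := h4
  rw [hn, hc] at h7
  norm_num at h6 h7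
  have : k ≤ 3 := by omega
  interval_cases k <;> rcases c with _ | c <;> nlinarith

end Cfsg.Agent.S0976
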