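import Cfsg.Statements.S0977
import Cfsg.Agent.H19.E3

set_option autoImplicit false
open Cfsg

namespace Cfsg.Agent.S0977

open Cfsg.Agent.H19 Cfsg.Agent.H4 Cfsg.Agent.H6

theorem arith {c : ℕ} {a b d e : ℤ} (ha : |a| ≤ 4) (hb : |b| ≤ 4) (hd : |d| ≤ 4) (he : |e| ≤ 1)
    (h1 : 4 ∣ 16 - a) (h2 : 4 ∣ 16 - b) (h3 : 4 ∣ 24 - d) (h4 : 4 ∣ 9 - e)
    (h5 : 1 + a + b - d - e = 0)
    (h6 : (5 * c ^ 2 : ℂ) = 4320 * (1 + a ^ 2 / 16 + b ^ 2 / 16 - d ^ 2 / 24 - e ^ 2 / 9)) :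
    False := by
  have h7 : (c : ℤ) ^ 2 = 864 + 54 * a ^ 2 + 54 * b ^ 2 - 36 * d ^ 2 - 96 * e ^ 2 := by
    have : (c : ℂ) ^ 2 = 864 + 54 * a ^ 2 + 54 * b ^ 2 - 36 * d ^ 2 - 96 * e ^ 2 := by
      linear_combination h6 / 5
    exact_mod_cast this
  rw [abs_le] at ha hb hd he
  obtain rfl : e = 1 := by omega
  have h8 : (c : ℤ) ^ 2 = 768 ∨ (c : ℤ) ^ 2 = 1056 ∨ (c : ℤ) ^ 2 = 2496 := by
    rcases (by omega : a = 0 ∨ a = 4 ∨ a = -4) with rfl | rfl | rfl <;>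
      rcases (by omega : b = 0 ∨ b = 4 ∨ b = -4) with rfl | rfl | rfl <;>
      rcases (by omega : d = 0 ∨ d = 4 ∨ d = -4) with rfl | rfl | rfl <;> omega
  have h9 : c ≤ 50 := by rcases h8 with e | e | e <;> nlinarith
  interval_cases c <;> omega

/-- No finite simple group has order 4320 = 2^5 * 3^3 * 5. -/
theorem result {G : Type*} [Group G] [Finite G] [IsSimpleGroup G] : Nat.card G ≠ 4320 := by
  classical
  intro hn
  have hc : ¬ IsMulCommutative G := not_comm_of_card_not_prime (by rw [hn]; norm_num)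
  haveI := Fintype.ofFinite G
  haveI : Fact (Nat.Prime 5) := ⟨by norm_num⟩
  obtain ⟨x, K, h, B, L, h1, h2, h3⟩ := d1_mem (p := 5) hc (by rw [hn]; norm_num)
    (by rw [hn]; norm_num)
  rw [hn, show d1list 4320 5 = [(1, 4, 216, [16, 16, -24]), (1, 4, 216, [-9, 16, -24]),
    (1, 4, 216, [-9, 16, 16])] by decide +kernel] at h1
  have hKe : Nat.card K = 1 ∧ eN h.ord = 4 := by
    simp only [List.mem_cons, Prod.mk.injEq, List.not_mem_nil, or_false] at h1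
    tauto
  obtain rfl := Subgroup.card_eq_one.mp hKe.1
  obtain ⟨J, hJ, hi⟩ := h.exists_inv (by norm_num) (by rw [hKe.2]; norm_num)
  have hv : ∀ χ : IrrCharacter G, ∃ v : ℤ, (χ : G → ℂ) J = v ∧ |v| ≤ fd 5 x (χ : G → ℂ) ∧
      (χ ≠ irrOne G → 4 ∣ charDegree (χ : G → ℂ) - v) := fun χ => by
    by_cases e : χ = irrOne G
    · exact ⟨1, by simp [e], abs_le_fd h.ord (by norm_num) χ.2.isCharacter hi (by simp [e]),
        fun e' => absurd e e'⟩
    · obtain ⟨k, -, -, h4⟩ := invol_val hc e hJ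
      have : (χ : G → ℂ) J = ((charDegree (χ : G → ℂ) - 4 * k : ℤ) : ℂ) := by rw [h4]; push_cast; rfl
      exact ⟨_, this, abs_le_fd h.ord (by norm_num) χ.2.isCharacter hi this, fun _ => ⟨k, by ring⟩⟩
  choose v hv1 hv2 hv3 using hv
  obtain ⟨l, h4, h5⟩ := exists_list_of_map_eq _ _ _ h3
  have h6 := B.inv_formula (by norm_num) hJ hi
  have h7 := B.rel 1 J (by rw [hJ]; norm_num)
  rw [← Finset.add_sum_erase _ _ B.one_mem, Finset.sum_eq_multiset_sum, ← h4, B.a_one] at h6 h7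
  have h8 : ∀ χ ∈ l, ∀ a : ℤ, B.a χ * charDegree (χ : G → ℂ) = a → (B.a χ = a.sign ∧
      charDegree (χ : G → ℂ) = a.natAbs) ∧ 5 * |v χ| ≤ a.natAbs + 4 * a.sign ∧
      (4 : ℤ) ∣ a.natAbs - v χ := fun χ hχ a ha => by
    obtain ⟨h9, h10⟩ := Finset.mem_erase.mp (show χ ∈ (B.X.erase (irrOne G)).val from h4 ▸ hχ)
    have h11 := B.fd_X h10
    have h12 := hv2 χ
    have h13 := hv3 χ h9
    have h14 := χ.2.charDegree_pos
    rcases B.ha χ h10 with e | e <;> rw [e] at ha h11 ⊢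
    · rw [Int.sign_eq_one_of_pos (by omega)]; omega
    · rw [Int.sign_eq_neg_one_of_neg (by omega)]; omega
  have h9 := B.fd_μ 1
  have h10 := hv2 (B.μ 1)
  have h11 := hv3 _ (B.μ_ne_one 1)
  rw [B.deg_μ] at h11
  rw [hKe.2] at h9
  simp only [irrOne_apply, charDegree_irrOne, hn] at h6 h7
  simp only [hv1] at h6 h7
  simp only [List.mem_cons, Prod.mk.injEq, List.not_mem_nil, or_false] at h1
  rcases h1 with ⟨-, -, -, rfl⟩ | ⟨-, -, -, rfl⟩ | ⟨-, -, -, rfl⟩ <;>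
    simp only [List.map_eq_cons_iff, List.map_eq_nil_iff] at h5 <;>
    obtain ⟨χ₁, _, rfl, e1, χ₂, _, rfl, e2, χ₃, _, rfl, e3, rfl⟩ := h5 <;>
    obtain ⟨⟨a1, d1⟩, b1, c1⟩ := h8 χ₁ (by simp) _ e1 <;>
    obtain ⟨⟨a2, d2⟩, b2, c2⟩ := h8 χ₂ (by simp) _ e2 <;>
    obtain ⟨⟨a3, d3⟩, b3, c3⟩ := h8 χ₃ (by simp) _ e3 <;>
    simp [a1, a2, a3, d1, d2, d3, (by decide : Int.sign (-24) = -1), (by decide : Int.sign (-9) = -1),
      (by decide : Int.sign 16 = 1), -Nat.card_eq_fintype_card] at h6 h7 b1 b2 b3 c1 c2 c3 h2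
  · have e : B.ε = 1 ∧ B.z = 9 := by rcases B.hε with e | e <;> rw [e] at h2 <;> omega
    rw [e.1, e.2] at h6 h9
    rw [e.1] at h7
    rw [e.2] at h11
    exact arith (a := v χ₁) (b := v χ₂) (d := v χ₃) (e := v (B.μ 1)) (by omega) (by omega)
      (by omega) (by omega) c1 c2 c3 h11 (by
        have : ((1 + v χ₁ + v χ₂ - v χ₃ - v (B.μ 1) : ℤ) : ℂ) = 0 := by
          push_cast at h7 ⊢; linear_combination -h7
        exact_mod_cast this) (by push_cast at h6; linear_combination h6)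
  · have e : B.ε = -1 ∧ B.z = 16 := by rcases B.hε with e | e <;> rw [e] at h2 <;> omega
    rw [e.1, e.2] at h6 h9
    rw [e.1] at h7
    rw [e.2] at h11
    exact arith (a := v (B.μ 1)) (b := v χ₂) (d := v χ₃) (e := v χ₁) (by omega) (by omega)
      (by omega) (by omega) h11 c2 c3 c1 (by
        have : ((1 + v (B.μ 1) + v χ₂ - v χ₃ - v χ₁ : ℤ) : ℂ) = 0 := by
          push_cast at h7 ⊢; linear_combination -h7
        exact_mod_cast this) (by push_cast at h6; linear_combination h6)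
  · have e : B.ε = 1 ∧ B.z = 24 := by rcases B.hε with e | e <;> rw [e] at h2 <;> omega
    rw [e.1, e.2] at h6 h9
    rw [e.1] at h7
    rw [e.2] at h11
    exact arith (a := v χ₂) (b := v χ₃) (d := v (B.μ 1)) (e := v χ₁) (by omega) (by omega)
      (by omega) (by omega) c2 c3 h11 c1 (by
        have : ((1 + v χ₂ + v χ₃ - v (B.μ 1) - v χ₁ : ℤ) : ℂ) = 0 := by
          push_cast at h7 ⊢; linear_combination -h7
        exact_mod_cast this) (by push_cast at h6; linear_combination h6)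

end Cfsg.Agent.S0977
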