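import Cfsg.Statements.S0980
import Cfsg.Agent.H19.E3

set_option autoImplicit false
open Cfsg

namespace Cfsg.Agent.S0980

open Cfsg.Agent.H19 Cfsg.Agent.H4 Cfsg.Agent.H6

/-- No finite simple group has order 5760 = 2^7 * 3^2 * 5. -/
theorem result {G : Type*} [Group G] [Finite G] [IsSimpleGroup G] : Nat.card G ≠ 5760 := by
  classical
  intro hn
  have hc : ¬ IsMulCommutative G := not_comm_of_card_not_prime (by rw [hn]; norm_num)
  haveI := Fintype.ofFinite G
  haveI : Fact (Nat.Prime 5) := ⟨by norm_num⟩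
  obtain ⟨x, K, h, B, L, h1, h2, h3⟩ := d1_mem (p := 5) hc (by rw [hn]; norm_num)
    (by rw [hn]; norm_num)
  rw [hn, show d1list 5760 5 = [(1, 2, 576, [-9]), (1, 2, 576, [-4])] by decide +kernel] at h1
  obtain ⟨J, hJ, h4⟩ := exists_central_invol (G := G) (a := 7) (by norm_num) (by rw [hn]; norm_num)
  obtain ⟨c, hc'⟩ := h4
  simp only [List.mem_cons, Prod.mk.injEq, List.not_mem_nil, or_false] at h1
  rcases h1 with ⟨hK, he, -, rfl⟩ | ⟨hK, he, -, rfl⟩ <;>
  · obtain ⟨k, _, h5, h6, h8, h9, rfl, h7, -⟩ := e2_data hc B hK he h3 hJ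
    rw [hn, hc'] at h7
    norm_num at h6 h7 h9
    have : k ≤ 3 := by omega
    interval_cases k <;> rcases c with _ | c <;> nlinarith

end Cfsg.Agent.S0980
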