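import Cfsg.Statements.S0983
import Cfsg.Agent.H19.Two
import Cfsg.Agent.H19.Sieve
import Cfsg.Agent.S0976
import Cfsg.Agent.S0977
import Cfsg.Agent.S0980

set_option autoImplicit false
open Cfsg

namespace Cfsg.Agent.S0983

open Cfsg.Agent.H19

/-- A non-abelian finite simple group of order greater than 3640 and at most 6232 has order 4080, 5616, 6048 or 6072. -/
theorem result {G : Type*} [Group G] [Finite G] [IsSimpleGroup G] (hG : ¬ IsMulCommutative G) (h1 : 3640 < Nat.card G) (h2 : Nat.card G ≤ 6232) : Nat.card G = 4080 ∨ Nat.card G = 5616 ∨ Nat.card G = 6048 ∨ Nat.card G = 6072 := by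
  have h3 : ∀ n ∈ List.range' 3641 2592, isPr n || test n ||
      [4032, 4080, 4320, 5400, 5616, 5760, 6048, 6072].contains n := by decide +kernel
  have h4 := h3 (Nat.card G) (List.mem_range'_1.mpr (by omega))
  simp only [Bool.or_eq_true, List.contains_iff_mem, List.mem_cons, List.not_mem_nil, or_false] at h4
  rcases h4 with (e | e) | e
  · haveI := Fact.mk (prime_of_isPr e)
    haveI : IsCyclic G := isCyclic_of_prime_card (p := Nat.card G) rfl
    exact absurd ⟨⟨IsCyclic.commGroup.mul_comm⟩⟩ hG
  · exact absurd e (not_test hG)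
  have h5 := S0976.result (G := G)
  have h6 := S0977.result (G := G)
  have h7 := S0980.result (G := G)
  have h8 : Nat.card G ≠ 5400 := fun e => by
    obtain ⟨P⟩ : Nonempty (Sylow 2 G) := inferInstance
    have hP : Nat.card (P : Subgroup G) = 8 := by
      rw [P.card_eq_multiplicity, e, show 5400 = 2 ^ 3 * 675 by norm_num,
        Nat.factorization_mul (by norm_num) (by norm_num), Nat.prime_two.factorization_pow,
        Finsupp.add_apply, Finsupp.single_eq_same, Nat.factorization_eq_zero_of_not_dvd (by norm_num)]
      norm_num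
    by_cases h : ∀ a ∈ (P : Subgroup G), a ^ 2 = 1
    · have := (seven_dvd_of_eight hG P hP h).trans (Subgroup.card_subgroup_dvd_card _)
      omega
    · rcases GW_card (conc_of_eight hG P hP (by simpa using h)) with ⟨q, -, -, -, h9⟩ | h9
      · rw [e] at h9
        have : q < 23 := by
          by_contra hq
          have : 23 ^ 2 ≤ q ^ 2 := Nat.pow_le_pow_left (by omega) 2
          have : 23 * (23 ^ 2 - 1) ≤ q * (q ^ 2 - 1) := Nat.mul_le_mul (by omega) (by omega)
          omega
        interval_cases q <;> omega
      · omega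
  omega

end Cfsg.Agent.S0983
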