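import Cfsg.Statements.S1007
import Cfsg.Agent.H6.G168
-- import your own Cfsg.Agent.* helpers here

set_option autoImplicit false
open Cfsg

namespace Cfsg.Agent.S1007

open Cfsg.Agent.H6.G168 Cfsg.Agent.H11 Cfsg.Agent.H12 Subgroup


/-- Let G be a simple group of order 168 and T a Sylow 2-subgroup. Then T contains exactly two subgroups that are Klein four-groups; they are not conjugate in G; and the normalizer of every Klein four-subgroup of G is isomorphic to the symmetric group of degree 4. -/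
theorem result {G : Type*} [Group G] [Finite G] [IsSimpleGroup G] (h : Nat.card G = 168) (T : Sylow 2 G) : Nat.card {U : Subgroup G // U ≤ (T : Subgroup G) ∧ IsKleinFour ↥U} = 2 ∧ (∀ U W : Subgroup G, U ≤ (T : Subgroup G) → W ≤ (T : Subgroup G) → IsKleinFour ↥U → IsKleinFour ↥W → U ≠ W → ∀ g : G, U.map (MulAut.conj g).toMonoidHom ≠ W) ∧ ∀ U : Subgroup G, IsKleinFour ↥U → Nonempty (↥(Subgroup.normalizer (U : Set G)) ≃* Equiv.Perm (Fin 4)) := by
  obtain ⟨y, hy, e⟩ := sylow_two h T
  obtain ⟨V₁, V₂, h1, h2, l1, l2, hn, hU, -⟩ := klein_two h hy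
  rw [e]
  refine ⟨Nat.card_eq_two_iff.2 ⟨⟨V₁, l1, h1⟩, ⟨V₂, l2, h2⟩, fun e => hn 1 ?_, ?_⟩, ?_,
    fun U hU => equiv_perm4 h (card_normalizer_klein h hU)⟩
  · rw [cj_one]; exact (congrArg Subtype.val e).symm
  · rw [Set.eq_univ_iff_forall]
    rintro ⟨U, l, k⟩
    simpa using hU U k l
  · intro U W lU lW kU kW hne g e
    rcases hU U kU lU with rfl | rfl <;> rcases hU W kW lW with rfl | rfl
    · exact hne rfl
    · exact hn g e.symm
    · exact hn g⁻¹ (by rw [← e, cj_inv_cj])
    · exact hne rfl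

end Cfsg.Agent.S1007
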