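import Cfsg.Statements.S1008
import Cfsg.Agent.H6.G168
-- import your own Cfsg.Agent.* helpers here

set_option autoImplicit false
open Cfsg

namespace Cfsg.Agent.S1008

open Cfsg.Agent.H6.G168 Cfsg.Agent.H11 Cfsg.Agent.H12 Subgroup


/-- In a simple group of order 168 every maximal subgroup is either isomorphic to the symmetric group of degree 4 or non-abelian of order 21; the maximal subgroups of order 21 form one conjugacy class and those isomorphic to the symmetric group of degree 4 form exactly two conjugacy classes. -/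
theorem result {G : Type*} [Group G] [Finite G] [IsSimpleGroup G] (h : Nat.card G = 168) : (∀ M : Subgroup G, IsCoatom M → Nonempty (↥M ≃* Equiv.Perm (Fin 4)) ∨ (Nat.card ↥M = 21 ∧ ¬ IsMulCommutative ↥M)) ∧ (∀ M M' : Subgroup G, IsCoatom M → IsCoatom M' → Nat.card ↥M = 21 → Nat.card ↥M' = 21 → ∃ g : G, M' = M.map (MulAut.conj g).toMonoidHom) ∧ ∃ M₁ M₂ : Subgroup G, IsCoatom M₁ ∧ IsCoatom M₂ ∧ Nonempty (↥M₁ ≃* Equiv.Perm (Fin 4)) ∧ Nonempty (↥M₂ ≃* Equiv.Perm (Fin 4)) ∧ (∀ g : G, M₂ ≠ M₁.map (MulAut.conj g).toMonoidHom) ∧ ∀ M : Subgroup G, IsCoatom M → Nonempty (↥M ≃* Equiv.Perm (Fin 4)) → ∃ g : G, M = M₁.map (MulAut.conj g).toMonoidHom ∨ M = M₂.map (MulAut.conj g).toMonoidHom := by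
  haveI : Fact (Nat.Prime 7) := ⟨by norm_num⟩
  refine ⟨fun M hM => ?_, fun M M' _ _ h1 h2 => ?_, ?_⟩
  · rcases card_coatom h hM with h1 | h1
    · refine Or.inr ⟨h1, fun hc => ?_⟩
      obtain ⟨x, hx, ho, -⟩ := eq_normalizer_of_card_21 h h1
      have : M ≤ centralizer {x} := fun g hg => mem_centralizer_singleton_iff.2
        (congrArg Subtype.val (hc.is_comm.comm ⟨g, hg⟩ ⟨x, hx⟩))
      have := card_le_of_le this
      rw [h1, card_cent_prime h (Or.inr rfl) ho] at this
      omega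
    · exact Or.inl (equiv_perm4 h h1)
  · obtain ⟨x, -, hx, rfl⟩ := eq_normalizer_of_card_21 h h1
    obtain ⟨y, -, hy, rfl⟩ := eq_normalizer_of_card_21 h h2
    have key : ∀ z : G, orderOf z = 7 → ∃ Q : Sylow 7 G, zpowers z = Q := fun z hz => by
      obtain ⟨Q, hQ⟩ :=
        (IsPGroup.of_card (p := 7) (n := 1) (G := zpowers z) (by simp [hz])).exists_le_sylow
      exact ⟨Q, eq_of_le_of_card_ge hQ (by
        rw [(card_sylow_of_card (k := 1) (m := 24) Q (by rw [h]; norm_num) (by norm_num)).1]; simp [hz])⟩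
    obtain ⟨P, hP⟩ := key x hx
    obtain ⟨Q, hQ⟩ := key y hy
    obtain ⟨g, rfl⟩ := MulAction.exists_smul_eq G P Q
    exact ⟨g, by rw [hP, hQ]; exact (cj_normalizer g _).symm⟩
  · obtain ⟨y, hy⟩ := exists_prime_orderOf_dvd_card' (G := G) 2 (by rw [h]; norm_num)
    obtain ⟨V₁, V₂, h1, h2, -, -, hn, -, hU⟩ := klein_two h hy
    have key : ∀ V : Subgroup G, IsKleinFour V → IsCoatom (normalizer (V : Set G)) := fun V hV => by
      have := (normalizer (V : Set G)).card_mul_index
      rw [card_normalizer_klein h hV, h] at this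
      exact H2.isCoatom_of_index_prime (by rw [show (normalizer (V : Set G)).index = 7 by omega]; norm_num)
    refine ⟨_, _, key _ h1, key _ h2, equiv_perm4 h (card_normalizer_klein h h1),
      equiv_perm4 h (card_normalizer_klein h h2), fun g e => hn g ?_, fun M _ ⟨f⟩ => ?_⟩
    · exact eq_of_normalizer_eq h h2 (isKleinFour_cj h1 g) (e.trans (cj_normalizer g _))
    · obtain ⟨V, hV, rfl⟩ := eq_normalizer_of_card_24 h (M := M) (by
        rw [Nat.card_congr f.toEquiv, Nat.card_perm]; simp [Nat.factorial])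
      rcases hU V hV with ⟨g, rfl⟩ | ⟨g, rfl⟩
      · exact ⟨g, Or.inl (cj_normalizer g _).symm⟩
      · exact ⟨g, Or.inr (cj_normalizer g _).symm⟩

end Cfsg.Agent.S1008
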