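import Cfsg.Statements.S1147
import Cfsg.Agent.H4.Zass12

set_option autoImplicit false
open Cfsg

namespace Cfsg.Agent.S1147

open Cfsg.Agent.H4


/-- Let a finite simple Zassenhaus group `G` on `Ω` have a normal subgroup `U` of `G_a`, regular on `Ω` minus `a`, which is a non-abelian 2-group. Then `|Ω| = 2^(2n) + 1` with `n` odd, `n > 1`, a two-point stabiliser `G_a ⊓ G_b` is cyclic of order `2^n - 1`, and `U` is isomorphic to the type-A group over a field with `2^n` elements for some field automorphism `φ`. -/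
theorem result {G Ω : Type*} [Group G] [Finite G] [MulAction G Ω] [Finite Ω]
    (hZ : Cfsg.IsZassenhausGroup G Ω) [IsSimpleGroup G] {a b : Ω} (hab : a ≠ b)
    (U : Subgroup G) (hUle : U ≤ MulAction.stabilizer G a)
    (hUn : ∀ h ∈ MulAction.stabilizer G a, ∀ u ∈ U, h * u * h⁻¹ ∈ U)
    (hreg : ∀ c d : Ω, c ≠ a → d ≠ a → ∃! u : U, (u : G) • c = d)
    (hU2 : IsPGroup 2 U) (hUna : ∃ u ∈ U, ∃ v ∈ U, u * v ≠ v * u) :
    ∃ n : ℕ, Odd n ∧ 1 < n ∧ Nat.card Ω = 2 ^ (2 * n) + 1 ∧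
      IsCyclic ↥(MulAction.stabilizer G a ⊓ MulAction.stabilizer G b) ∧
      Nat.card ↥(MulAction.stabilizer G a ⊓ MulAction.stabilizer G b) = 2 ^ n - 1 ∧
      ∃ (F : Type) (_ : Field F) (_ : Fintype F) (φ : F ≃+* F), Fintype.card F = 2 ^ n ∧
        Nonempty (U ≃* Cfsg.suzukiTypeA F (φ : F →+* F)) := by
  have := Fintype.ofFinite G
  have := Fintype.ofFinite Ω
  obtain rfl := hZ.zt.eq_K_of_reg hab hUle hreg
  have hna := not_ab_iff.2 hUna
  obtain ⟨k, hk⟩ := hU2.exists_card_eq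
  have he : Even (Nat.card (hZ.zt.K a)) := by
    rw [hk, Nat.even_pow]
    refine ⟨even_two, ?_⟩
    rintro rfl
    exact hZ.zt.K_ne_bot' hab (hZ.St2_ne_bot hab) (Subgroup.card_eq_one.1 hk)
  have h := hZ.zo hab (hZ.zt.odd_St2_of_odd (by rw [← hZ.zt.card_K hab]; exact he.add_one) hab)
  obtain ⟨F, _, _, _, m, h1, h2, h3, h4, -⟩ := h.iso_Sz' hab hU2 hna
  obtain ⟨-, -, -, κ, -, hS⟩ := h.exists_HS hab hU2
  obtain ⟨φ, l, X, Y, hA⟩ := hS.exists_typeA (h2.trans h3.symm) hna (h.card_sq hab hU2 hna)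
  have := h.comm hab
  refine ⟨2 * m + 1, odd_two_mul_add_one m, by omega, ?_, h.isCyclic_St2 hab,
    Nat.eq_sub_of_add_eq h3, F, _, _, φ, h2, hA.iso⟩
  rw [← h.card_K hab, h4, ← pow_mul, mul_comm]

end Cfsg.Agent.S1147
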