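import Cfsg.Statements.S1159
import Cfsg.Agent.H15.ReeM
import Cfsg.Agent.H15.Ree9

set_option autoImplicit false
open Cfsg

namespace Cfsg.Agent.S1159

/-- In the small Ree group ²G₂(q), q = 3^(2m+1) with m ≥ 1, realised as G¹ inside the Chevalley group G₂ over the field with q elements (θ the 3^m-th power map), with `r = 3^(m+1)`: a natural number is the order of an element of `G¹` iff it divides one of `6`, `9`, `q - 1`, `(q + 1)/2`, `q - r + 1`, `q + r + 1`. -/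
theorem result {K : Type*} [Field K] [Fintype K] {m : ℕ} (hm : 1 ≤ m) (hK : Fintype.card K = 3 ^ (2 * m + 1)) (d : ℕ) :
    (∃ g : ↥(Cfsg.Lie.twistedG2 K (3 ^ m)), orderOf g = d) ↔
      (d ∣ 6 ∨ d ∣ 9 ∨ d ∣ 3 ^ (2 * m + 1) - 1 ∨ d ∣ (3 ^ (2 * m + 1) + 1) / 2 ∨
        d ∣ 3 ^ (2 * m + 1) - 3 ^ (m + 1) + 1 ∨ d ∣ 3 ^ (2 * m + 1) + 3 ^ (m + 1) + 1) := by
  obtain ⟨_, M, -, -, -, h, -⟩ := H15.exists_ree hK
  obtain ⟨g, g', hg, hg', a1, a2, -, -, -, a3⟩ := M.tori hm h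
  constructor
  · rintro ⟨x, rfl⟩
    rcases M.classify x with e | e | ⟨y, e⟩ | ⟨y, e⟩ | e
    · exact Or.inl ((orderOf_dvd_of_pow_eq_one (show x ^ 2 = 1 by rwa [pow_two])).trans (by decide))
    · rcases M.order_of_three_dvd e with e | e | e <;> simp [e]
    · exact Or.inr (Or.inr (Or.inl (h ▸ M.order_of_conj_D e)))
    · exact Or.inr (Or.inr (Or.inr (Or.inl (h ▸ M.order_of_conj_T0 e))))
    · by_cases h1 : x = 1
      · simp [h1]
      refine Or.inr (Or.inr (Or.inr (Or.inr ?_)))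
      rw [← a2, ← a1, or_comm]
      exact (a3 x ⟨h1, e⟩).imp (fun ⟨_, y, hy⟩ => H11.orderOf_conj y x ▸ Subgroup.orderOf_dvd_natCard _ hy)
        fun ⟨_, y, hy⟩ => H11.orderOf_conj y x ▸ Subgroup.orderOf_dvd_natCard _ hy
  have key : ∀ (x : ↥(Cfsg.Lie.twistedG2 K (3 ^ m))) {n}, orderOf x = n → d ∣ n →
      ∃ g : ↥(Cfsg.Lie.twistedG2 K (3 ^ m)), orderOf g = d := fun x n e hd => (H15.exists_pow_prime (e ▸ hd)).elim fun _ h => ⟨_, h⟩
  have key' : ∀ (A : Subgroup ↥(Cfsg.Lie.twistedG2 K (3 ^ m))) {n}, IsCyclic A → Nat.card A = n → d ∣ n →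
      ∃ g : ↥(Cfsg.Lie.twistedG2 K (3 ^ m)), orderOf g = d := fun A n hA e hd => by
    obtain ⟨x, rfl⟩ := (Subgroup.isCyclic_iff_exists_zpowers_eq_top A).1 hA
    exact key x (Nat.card_zpowers x ▸ e) hd
  rintro (e | e | e | e | e | e)
  · exact key _ (M.orderOf_Sh0 (a := 0) (b := 1) (by simp) 0) e
  · exact key _ (M.orderOf_S one_ne_zero 0 0) e
  · exact key' _ M.isCyclic_D (h ▸ M.card_D) e
  · obtain ⟨x, hx⟩ := (Subgroup.isCyclic_iff_exists_zpowers_eq_top _).1 M.torus2.cyc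
    have h8 := M.card_mod_eight
    have h1 : orderOf x = (Nat.card K + 1) / 4 := by rw [← Nat.card_zpowers, hx, M.card_A2]
    refine key (M.h0 * x) ?_ e
    rw [Commute.orderOf_mul_eq_mul_orderOf_of_coprime (M.T0_comm M.h0_mem_T0 (M.torus2.le (hx ▸ Subgroup.mem_zpowers x)))
      (by rw [M.orderOf_h0, h1, Nat.coprime_two_left, Nat.odd_iff]; omega), M.orderOf_h0, h1, ← h]
    omega
  exacts [key' _ hg'.isCyclic a2 e, key' _ hg.isCyclic a1 e]

end Cfsg.Agent.S1159
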