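import Cfsg.Statements.S1237
import Cfsg.Agent.H11.R2

set_option autoImplicit false
open Cfsg Subgroup Cfsg.Agent.H4 Cfsg.Agent.H11

namespace Cfsg.Agent.S1237

/-- Let T be a finite 2-group of 2-rank exactly 2 (it has a Klein four-subgroup but no elementary abelian subgroup of order 8) admitting an automorphism φ such that any two involutions of T are carried to one another by a power of φ. Then T ≅ Z_{2^n} × Z_{2^n} for some n ≥ 1, or T is isomorphic to a Sylow 2-subgroup of PSU(3) over the field with 16 elements. -/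
theorem result {T : Type*} [Group T] [Finite T] (hT : IsPGroup 2 T) (h2 : Cfsg.PRankLE 2 2 T) (h1 : ¬ Cfsg.PRankLE 2 1 T) (φ : MulAut T) (htrans : ∀ s t : T, orderOf s = 2 → orderOf t = 2 → ∃ k : ℕ, (φ ^ k) s = t) {F : Type*} [Field F] [Fintype F] (hF : Fintype.card F = 16) (P : Sylow 2 (Cfsg.PSU 3 F 4)) : (∃ n : ℕ, 1 ≤ n ∧ Nonempty (T ≃* Multiplicative (ZMod (2 ^ n) × ZMod (2 ^ n)))) ∨ Nonempty (T ≃* (P : Subgroup (Cfsg.PSU 3 F 4))) := by
  have hE : Fintype.card F = 4 ^ 2 := hF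
  have hσ := cj_frobq hE (by decide)
  simp only [PRankLE, not_forall, not_le] at h1
  obtain ⟨A, -, hA, hc⟩ := h1
  obtain ⟨z, -, z1, z2, hz⟩ := exists_central_invol (hT.to_subgroup ⊤) fun e => by
    have := card_le_of_le (le_top : A ≤ ⊤)
    omega
  have cen : ∀ x : T, x * x = 1 → x ∈ center T := fun x hx => by
    by_cases x1 : x = 1
    · rw [x1]; exact one_mem _
    obtain ⟨k, rfl⟩ := htrans z x (orderOf_two_of z1 z2) (orderOf_two_of x1 hx)
    exact L0.char_apply _ (mem_center_iff.2 fun g => hz g trivial)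
  have h3 : T3 T := ⟨hT, cen, by
    have e1 := h2 (Om T) ⟨⟨fun a b => Subtype.ext (mem_center_iff.1 b.2.1 a)⟩⟩ fun a ha => (sq a).trans ha.2
    have e2 := card_le_of_le (show A ≤ Om T from fun a ha =>
      ⟨cen a ((sq a).symm.trans (hA a ha)), (sq a).symm.trans (hA a ha)⟩)
    obtain ⟨k, hk⟩ := IsPGroup.iff_card.1 (hT.to_subgroup (Om T))
    have : Nat.card (Om T) ≠ 3 := fun e => by
      rw [hk] at e
      rcases k with - | k <;> omega
    omega⟩
  obtain ⟨u, hu, v, hv, u1, v1, huv⟩ := klein_exists_gens h3.klein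
  obtain ⟨i, hi⟩ := htrans u v (orderOf_two_of u1 hu.2) (orderOf_two_of v1 hv.2)
  obtain ⟨j, hj⟩ := htrans u (u * v) (orderOf_two_of u1 hu.2) (orderOf_two_of
    (fun e => huv (mul_right_cancel (e.trans hv.2.symm))) (mul_mem hu hv).2)
  rcases h3.exists_cyc hu hv u1 v1 huv hi hj with c | c | c <;>
    exact (h3.classify hE hσ c).imp (fun ⟨j, e⟩ => ⟨_, by omega, e⟩) fun ⟨e⟩ => nonempty_UM_PSU hE hσ P e

end Cfsg.Agent.S1237
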