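import Cfsg.Statements.S1249
import Cfsg.Agent.H11.Syl

set_option autoImplicit false
open Cfsg

namespace Cfsg.Agent.S1249

open Cfsg.Agent.H11



/-- Let P and Q be Sylow p-subgroups of the finite group G both containing the subgroup A. If A is strongly closed in P, then A is strongly closed in Q. -/
theorem result {G : Type*} [Group G] [Finite G] {p : ℕ} [Fact p.Prime] (P Q : Sylow p G) (A : Subgroup G) (hAQ : A ≤ Q) (hA : Cfsg.IsStronglyClosed A (P : Subgroup G)) : Cfsg.IsStronglyClosed A (Q : Subgroup G) := by
  obtain ⟨g, -, hg⟩ := (isSylIn_top Q).exists_cj_eq (isSylIn_top P)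
  have h1 : cj g A = A := cj_eq_iff.2 (mem_normalizer_of_forall fun x hx =>
    hA.2 x hx g (hg ▸ conj_mem_map_conj g (hAQ hx)))
  refine ⟨hAQ, fun x hx h hh => ?_⟩
  have h2 := hA.2 x hx (g * h) (by
    have := conj_mem_map_conj g hh
    change _ ∈ cj g _ at this
    rw [hg] at this
    convert this using 1; group)
  rw [← h1, mem_cj] at h2
  convert h2 using 1; group

end Cfsg.Agent.S1249
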