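import Cfsg.Statements.S1250
import Cfsg.Agent.H11.Syl

set_option autoImplicit false
open Cfsg

namespace Cfsg.Agent.S1250

open Cfsg.Agent.H11



/-- Let S be a Sylow p-subgroup of the finite group G, A ≤ S strongly closed in S, and N a normal subgroup. Then the image of A in G ⧸ N is strongly closed in the image of S (which is a Sylow p-subgroup of G ⧸ N). -/
theorem result {G : Type*} [Group G] [Finite G] {p : ℕ} [Fact p.Prime] (S : Sylow p G) (A : Subgroup G) (hA : Cfsg.IsStronglyClosed A (S : Subgroup G)) (N : Subgroup G) [N.Normal] : Cfsg.IsStronglyClosed (A.map (QuotientGroup.mk' N)) ((S : Subgroup G).map (QuotientGroup.mk' N)) := by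
  refine ⟨Subgroup.map_mono hA.1, ?_⟩
  rintro _ ⟨x, hx, rfl⟩ q ⟨s, hs, he⟩
  obtain ⟨g, rfl⟩ := QuotientGroup.mk'_surjective N q
  rw [← map_inv, ← map_mul, ← map_mul] at he ⊢
  have h1 : g * x * g⁻¹ ∈ (S : Subgroup G) ⊔ N := by
    have h2 := QuotientGroup.eq.1 he
    have := Subgroup.mul_mem _ (Subgroup.mem_sup_left (T := N) hs) (Subgroup.mem_sup_right h2)
    simpa using this
  obtain ⟨k, hk⟩ := IsPGroup.iff_orderOf.1 S.isPGroup' ⟨x, hA.1 hx⟩
  rw [Subgroup.orderOf_mk, ← orderOf_conj g] at hk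
  obtain ⟨h, hh, hmem⟩ := (isSylIn_of_sylow_le S le_sup_left).exists_conj_mem hk h1
  obtain ⟨t, ht, n, hn, rfl⟩ := Subgroup.mem_sup_of_normal_right.1 hh
  have h3 := hA.2 x hx (t * n * g) (by convert hmem using 1; group)
  have h4 := hA.2 _ h3 t⁻¹ ((S : Subgroup G).mul_mem ((S : Subgroup G).mul_mem
    ((S : Subgroup G).inv_mem ht) (hA.1 h3)) (by simpa using ht))
  refine ⟨_, h4, ?_⟩
  have h5 : QuotientGroup.mk' N n = 1 := (QuotientGroup.eq_one_iff n).2 hn
  simp only [map_mul, map_inv, h5]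
  group

end Cfsg.Agent.S1250
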