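import Cfsg.Statements.S1294
import Cfsg.Agent.H9.SG4
import Cfsg.Agent.H10.Misc
import Cfsg.Agent.H10.Balance

set_option autoImplicit false
open Cfsg

namespace Cfsg.Agent.S1294

open Subgroup Cfsg.Agent.H10

variable {G : Type*} [Group G] [Finite G] {p : ℕ} [hp : Fact p.Prime]

/-- elements of order `p` whose centralizer has rank at least three -/
abbrev Good (p : ℕ) (a : G) : Prop :=
  orderOf a = p ∧ ¬ Cfsg.PRankLE p 2 ↥(Subgroup.centralizer ({a} : Set G))

omit [Finite G] in
theorem exists_big {H : Subgroup G} (h : ¬ PRankLE p 2 H) :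
    ∃ B : Subgroup G, B ≤ H ∧ IsElementaryAbelian p B ∧ p ^ 2 < Nat.card B := by
  unfold PRankLE at h
  push Not at h
  obtain ⟨A, hA, hAp, hc⟩ := h
  refine ⟨A.map H.subtype, map_subtype_le A, ⟨?_, ?_⟩, ?_⟩
  · haveI := hA
    infer_instance
  · rintro _ ⟨x, hx, rfl⟩
    have := congrArg Subtype.val (hAp x hx)
    simpa using this
  · rwa [card_map_of_injective H.subtype_injective]

theorem cube_le {B : Subgroup G} (hB : IsElementaryAbelian p B) (h : p ^ 2 < Nat.card B) :
    p ^ 3 ≤ Nat.card B := by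
  have hP : IsPGroup p B := fun x => ⟨1, by
    apply Subtype.ext; simpa using hB.2 x x.2⟩
  obtain ⟨n, hn⟩ := IsPGroup.iff_card.1 hP
  rw [hn] at h ⊢
  exact Nat.pow_le_pow_right hp.out.pos ((Nat.pow_lt_pow_iff_right hp.out.one_lt).1 h)

theorem not_rank {B H : Subgroup G} (hB : IsElementaryAbelian p B) (h : p ^ 3 ≤ Nat.card B)
    (hBH : B ≤ H) : ¬ PRankLE p 2 H := by
  intro hr
  have h1 := hr (B.subgroupOf H) (by haveI := hB.1; infer_instance) (fun a ha => by
    apply Subtype.ext; simpa using hB.2 a ha)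
  rw [Nat.card_congr (subgroupOfEquivOfLe hBH).toEquiv] at h1
  have := (Nat.pow_le_pow_iff_right hp.out.one_lt).1 (h.trans h1)
  omega

theorem good_of_mem {B : Subgroup G} (hB : IsElementaryAbelian p B) (h : p ^ 3 ≤ Nat.card B)
    {a : G} (ha : a ∈ B) (h1 : a ≠ 1) : Good p a :=
  ⟨orderOf_eq_prime (hB.2 a ha) h1, not_rank hB h (le_centralizer_singleton_of_ea hB ha)⟩

theorem exists_over {E : Subgroup G} (hE : IsElementaryAbelian p E)
    (h : ¬ PRankLE p 2 (centralizer (E : Set G))) :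
    ∃ A, E ≤ A ∧ IsElementaryAbelian p A ∧ p ^ 3 ≤ Nat.card A := by
  obtain ⟨B, hB, hBe, hc⟩ := exists_big h
  exact ⟨B ⊔ E, le_sup_right, isElementaryAbelian_sup hBe hE hB,
    (cube_le hBe hc).trans (card_le_of_le le_sup_left)⟩

omit [Finite G] hp in
theorem ea_conj {E : Subgroup G} (hE : IsElementaryAbelian p E) (g : G) :
    IsElementaryAbelian p (E.map (MulAut.conj g).toMonoidHom) := by
  refine ⟨by haveI := hE.1; infer_instance, ?_⟩
  rintro _ ⟨x, hx, rfl⟩
  rw [← map_pow, hE.2 x hx, map_one]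

theorem vertex_of {A : Subgroup G} (hA : IsElementaryAbelian p A) (h : p ^ 3 ≤ Nat.card A) :
    IsRankGraphVertex p 2 A :=
  ⟨hA, (Nat.pow_le_pow_right hp.out.pos (by norm_num)).trans h,
    not_rank hA h (by haveI := hA.1; exact le_centralizer A)⟩

/-- Let G be finite with O_{p'}(G) = 1 and p-rank at least 3, whose reduced rank-2 commuting graph for p is connected. Let θ assign to every element a of order p with m_p(C_G(a)) ≥ 3 a solvable subgroup θ a ≤ C_G(a) of order prime to p, so that θ (g a g⁻¹) = g (θ a) g⁻¹ for all g and θ a ∩ C_G(b) ≤ θ b for commuting such a, b. Then θ a = 1 for every such a. -/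
theorem result {G : Type*} [Group G] [Finite G] (p : ℕ) [Fact p.Prime] (hO : Cfsg.pPrimeCore p G = ⊥) (hrk : ¬ Cfsg.PRankLE p 2 G) (hconn : Cfsg.IsRankGraphConnected p 2 G) (θ : G → Subgroup G) (hC : ∀ a : G, (orderOf a = p ∧ ¬ Cfsg.PRankLE p 2 ↥(Subgroup.centralizer ({a} : Set G))) → θ a ≤ Subgroup.centralizer ({a} : Set G) ∧ ¬ p ∣ Nat.card ↥(θ a) ∧ Group.IsSolvable ↥(θ a)) (heq : ∀ a g : G, (orderOf a = p ∧ ¬ Cfsg.PRankLE p 2 ↥(Subgroup.centralizer ({a} : Set G))) → θ (g * a * g⁻¹) = (θ a).map (MulAut.conj g).toMonoidHom) (hbal : ∀ a b : G, (orderOf a = p ∧ ¬ Cfsg.PRankLE p 2 ↥(Subgroup.centralizer ({a} : Set G))) → (orderOf b = p ∧ ¬ Cfsg.PRankLE p 2 ↥(Subgroup.centralizer ({b} : Set G))) → a * b = b * a → θ a ⊓ Subgroup.centralizer {b} ≤ θ b) (a : G) (ha : (orderOf a = p ∧ ¬ Cfsg.PRankLE p 2 ↥(Subgroup.centralizer ({a} : Set G)))) : θ a = ⊥ := by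
  have hmem : ∀ A : Subgroup G, IsElementaryAbelian p A → p ^ 3 ≤ Nat.card A →
      Mem p A θ (signalizerClosure A θ) := by
    intro A hA h3
    have hθ : SF p A θ := by
      refine ⟨hA, fun a ha h1 => (hC a (good_of_mem hA h3 ha h1)).1,
        fun a ha h1 => coprime_of_not_dvd (hC a (good_of_mem hA h3 ha h1)).2.1,
        fun a ha h1 b hb => ?_, fun a ha h1 b hb h2 => hbal a b (good_of_mem hA h3 ha h1)
          (good_of_mem hA h3 hb h2) (mul_comm_of_mem hA.1 ha hb),
        fun a ha h1 => (hC a (good_of_mem hA h3 ha h1)).2.2⟩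
      rw [mem_normalizer_iff_conj_eq, ← heq a b (good_of_mem hA h3 ha h1),
        mul_comm_of_mem hA.1 hb ha, mul_inv_cancel_right]
    exact H9S.mem_closure_of hθ (H9S.sft hθ h3)
  have hW : ∀ A B : Subgroup G, IsElementaryAbelian p A → p ^ 3 ≤ Nat.card A → B ≤ A →
      p ^ 2 ≤ Nat.card B → signalizerClosure B θ = signalizerClosure A θ := fun A B hA h3 hB h2 =>
    le_antisymm (signalizerClosure_le fun _ ha h1 => le_signalizerClosure (hB ha) h1)
      ((hmem A hA h3).le_of_forall hA hB h2 fun _ hb h1 => le_signalizerClosure hb h1)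
  have hedge : ∀ A B : Subgroup G, IsRankGraphVertex p 2 A → IsRankGraphVertex p 2 B →
      (∀ a ∈ A, ∀ b ∈ B, a * b = b * a) → signalizerClosure A θ = signalizerClosure B θ := by
    intro A B hA hB hAB
    have hs : IsElementaryAbelian p (A ⊔ B) :=
      isElementaryAbelian_sup hA.1 hB.1 fun a ha b hb => (hAB a ha b hb).symm
    by_cases h3 : p ^ 2 < Nat.card ↥(A ⊔ B)
    · rw [hW _ A hs (cube_le hs h3) le_sup_left hA.2.1, hW _ B hs (cube_le hs h3) le_sup_right hB.2.1]
    · have e1 : A = A ⊔ B := eq_of_le_of_card_ge le_sup_left ((not_lt.1 h3).trans hA.2.1)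
      have e2 : B = A ⊔ B := eq_of_le_of_card_ge le_sup_right ((not_lt.1 h3).trans hB.2.1)
      rw [e1.trans e2.symm]
  have hall : ∀ A B : Subgroup G, IsRankGraphVertex p 2 A → IsRankGraphVertex p 2 B →
      signalizerClosure A θ = signalizerClosure B θ := by
    intro A B hA hB
    have := hconn A B hA hB
    clear hB
    induction this with
    | refl => rfl
    | tail _ h ih => exact ih.trans (hedge _ _ h.1 h.2.1 h.2.2)
  obtain ⟨A, hA, hAe, h3⟩ := exists_over (isElementaryAbelian_zpowers (ha.1 ▸ pow_orderOf_eq_one a))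
    (by rw [centralizer_zpowers]; exact ha.2)
  have ha1 : a ≠ 1 := fun e => by
    have := ha.1
    rw [e, orderOf_one] at this
    exact (Fact.out : p.Prime).one_lt.ne this
  have hn : (signalizerClosure A θ).Normal := by
    refine ⟨fun x hx g => ?_⟩
    have h3' : p ^ 3 ≤ Nat.card (A.map (MulAut.conj g).toMonoidHom) := by
      rwa [card_map_of_injective (MulAut.conj g).injective]
    rw [← hall _ _ (vertex_of (ea_conj hAe g) h3') (vertex_of hAe h3)]
    have : signalizerClosure A θ ≤ (signalizerClosure (A.map (MulAut.conj g).toMonoidHom) θ).comap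
        (MulAut.conj g).toMonoidHom := signalizerClosure_le fun b hb h1 => by
      rw [← map_le_iff_le_comap, ← heq b g (good_of_mem hAe h3 hb h1)]
      exact le_signalizerClosure (conj_mem_conj g hb) (by simpa using h1)
    exact this hx
  have hle := le_pPrimeCore (p := p) (N := signalizerClosure A θ) (hmem A hAe h3).cop
  rw [hO] at hle
  exact le_bot_iff.1 ((le_signalizerClosure (hA (mem_zpowers a)) ha1).trans hle)

end Cfsg.Agent.S1294
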