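import Cfsg.Statements.S1295
import Cfsg.Agent.S1294
import Cfsg.Agent.H10.Local2

set_option autoImplicit false
open Cfsg

namespace Cfsg.Agent.S1295

open Subgroup Cfsg.Agent.H10

/-- Let G be finite with O_{p'}(G) = 1 and p-rank at least 3, whose reduced rank-2 commuting graph for p is connected. Suppose that for every element a of order p with m_p(C_G(a)) ≥ 3 the p-layer of C_G(a) is trivial and O_{p'}(C_G(a)) is solvable. Then F*(C_G(a)) = O_p(C_G(a)) for every such a. -/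
theorem result {G : Type*} [Group G] [Finite G] (p : ℕ) [Fact p.Prime] (hO : Cfsg.pPrimeCore p G = ⊥) (hrk : ¬ Cfsg.PRankLE p 2 G) (hconn : Cfsg.IsRankGraphConnected p 2 G) (hL : ∀ a : G, (orderOf a = p ∧ ¬ Cfsg.PRankLE p 2 ↥(Subgroup.centralizer ({a} : Set G))) → Cfsg.pLayer p ↥(Subgroup.centralizer ({a} : Set G)) = ⊥ ∧ Group.IsSolvable ↥(Cfsg.centralizerPPrimeCore p a)) (a : G) (ha : (orderOf a = p ∧ ¬ Cfsg.PRankLE p 2 ↥(Subgroup.centralizer ({a} : Set G)))) : Cfsg.generalizedFittingSubgroup ↥(Subgroup.centralizer ({a} : Set G)) = Cfsg.pCore p ↥(Subgroup.centralizer ({a} : Set G)) := by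
  have h := S1294.result p hO hrk hconn (fun a => OqOf p (centralizer {a}))
    (fun a ha => ⟨OqOf_le, not_dvd_of_coprime OqOf_coprime, (hL a ha).2⟩)
    (fun a g _ => by rw [conj_OqOf, conj_centralizer_singleton])
    (fun a b ha hb hab => OqOf_centralizer_inf_le_of_PLayOf (ha.1 ▸ pow_orderOf_eq_one a) hab
      (PLayOf_eq_bot_iff'.2 (hL b hb).1)) a ha
  rw [← XOf_eq_bot_iff_abs, XOf_def, PLayOf_eq_bot_iff'.2 (hL a ha).1]
  simpa using h

end Cfsg.Agent.S1295
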