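import Cfsg.Statements.S1323
import Cfsg.Agent.H14.AltStd

set_option autoImplicit false
open Cfsg

namespace Cfsg.Agent.S1323

/-- For n ≥ 9, the subgroup of the alternating group on Fin n fixing each of the points 0, 1, 2, 3 is a standard subgroup. -/
theorem result (n : ℕ) (h4 : 4 ≤ n) (hn : 9 ≤ n) : Cfsg.IsStandardSubgroup (⨅ i : Fin 4, MulAction.stabilizer ↥(alternatingGroup (Fin n)) (Fin.castLE h4 i : Fin n)) := by
  let T : Finset (Fin n) := Finset.univ.map (Fin.castLEEmb h4)
  have hT : T.card = 4 := by simp [T]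
  have e : (⨅ i : Fin 4, MulAction.stabilizer ↥(alternatingGroup (Fin n)) (Fin.castLE h4 i : Fin n)) =
      H14.AltStd.R Tᶜ := by
    ext g
    simp only [Subgroup.mem_iInf, MulAction.mem_stabilizer_iff, H14.AltStd.mem_R, Finset.mem_compl,
      not_not, T, Finset.mem_map, Finset.mem_univ, true_and]
    exact ⟨fun h x ⟨i, hi⟩ => hi ▸ h i, fun h i => h _ ⟨i, rfl⟩⟩
  rw [e]
  exact H14.AltStd.standard hT (by rw [Finset.card_compl, hT, Fintype.card_fin]; omega)

end Cfsg.Agent.S1323
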