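import Cfsg.Statements.S1628
import Cfsg.Agent.H27.RuE

set_option autoImplicit false
open Cfsg

namespace Cfsg.Agent.S1628

open Cfsg.Agent.H27.Ru

/-- The Conway–Wales lattice as stored is even with no vectors of true norm 2: stored norms are multiples of 8, never equal to 8, and the minimum over nonzero vectors is 16. -/
theorem result : (∀ x ∈ Cfsg.Spor.ruLattice, (8 : ℤ) ∣ Cfsg.Spor.ruNorm x) ∧ (∀ x ∈ Cfsg.Spor.ruLattice, Cfsg.Spor.ruNorm x ≠ 8) ∧ (∀ x ∈ Cfsg.Spor.ruLattice, x ≠ 0 → 16 ≤ Cfsg.Spor.ruNorm x) ∧ ∃ x ∈ Cfsg.Spor.ruLattice, Cfsg.Spor.ruNorm x = 16 := by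
  have h : ∀ x ∈ Cfsg.Spor.ruLattice, x ≠ 0 → 16 ≤ Cfsg.Spor.ruNorm x := fun x hx h0 => by
    rw [norm_eq]
    by_contra c
    rcases short_L hx (by omega) with ⟨y, e⟩ | e
    · rw [e, dt_smul, dt_comm, dt_smul] at c
      have := dt_nonneg y
      exact h0 (by rw [e, dt_eq_zero (v := y) (by omega), smul_zero])
    · omega
  refine ⟨fun x hx => norm_eq x ▸ L_even hx, fun x hx e => ?_, h, vec 1, G0_mem 1 (by decide +kernel), ?_⟩
  · have := h x hx fun z => by rw [z] at e; simp [Cfsg.Spor.ruNorm] at e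
    omega
  · have := dN_eq 1 1
    rw [show dN 1 1 = 1808 by decide +kernel] at this
    rw [norm_eq]; omega

end Cfsg.Agent.S1628
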