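import Cfsg.Statements.S1910
import Cfsg.Agent.H24.Base4

set_option autoImplicit false
open Cfsg

namespace Cfsg.Agent.S1910

open Subgroup Cfsg.Agent.H24
open scoped commutatorElement

variable {G : Type*} [Group G] [Finite G] {Q K T S : Subgroup G}

theorem bot_of_odd (hT : IsPGroup 2 T) (h : T ≤ K) (ho : Odd (Nat.card K)) : T = ⊥ := by
  obtain ⟨k, hk⟩ := IsPGroup.iff_card.1 hT
  exact card_eq_one.1 (hk ▸ Nat.Coprime.eq_one_of_dvd (Nat.Coprime.pow_left k (Nat.coprime_two_left.2 ho))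
    (hk ▸ card_dvd_of_le h))

theorem aux (hK : ∀ g ∉ 𝐍[K], Odd (Nat.card (K ⊓ cj K g : Subgroup G))) (ho : Odd (Nat.card (Q ⊓ K : Subgroup G)))
    (h1 : T ≠ ⊥) (hT : SylIn 2 T (K ⊓ 𝐍[Q])) (hTS : T ≤ S) (hS : SylIn 2 S (Q ⊔ T)) :
    T ⊓ Q = ⊥ ∧ ⁅T, S ⊓ 𝐍[T] ⊓ Q⁆ = ⊥ ∧ T ⊔ S ⊓ 𝐍[T] ⊓ Q = S ⊓ 𝐍[T] ∧ S ⊓ 𝐍[T] ⊓ Q ≤ 𝐍[K] ∧
      (SylIn 2 (S ⊓ 𝐍[T] ⊓ Q) Q ∨ ∃ f : T →* (S ⊓ 𝐍[T] ⊓ Q : Subgroup G), Function.Injective f) := by
  have t1 := hT.1.trans inf_le_left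
  have t2 := hT.1.trans inf_le_right
  have n1 : ∀ g, T ⊓ cj T g ≠ ⊥ → g ∈ 𝐍[K] := fun g h => by
    by_contra c
    exact h (bot_of_odd (hT.2.to_inf_left) (inf_le_inf t1 (cj_mono t1 g)) (hK g c))
  have a1 : T ⊓ Q = ⊥ := bot_of_odd hT.2.to_inf_left (le_inf inf_le_right (inf_le_left.trans t1)) ho
  have a2 : ⁅T, S ⊓ 𝐍[T] ⊓ Q⁆ = ⊥ := eq_bot_iff.2 (le_trans (le_inf (commutator_le_left_of_le_normalizer
    (inf_le_left.trans inf_le_right)) ((commutator_mono le_rfl inf_le_right).trans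
      (commutator_le_right_of_le_normalizer t2))) a1.le)
  have ded : ∀ X, T ≤ X → X ≤ S → T ⊔ X ⊓ Q = X := fun X x1 x2 => by
    rw [inf_comm, ← sup_inf_of_le_normalizer_right t2 x1, inf_eq_right, sup_comm]
    exact x2.trans hS.1
  have a3 := ded (S ⊓ 𝐍[T]) (le_inf hTS le_normalizer) inf_le_left
  have nQ : Q ⊔ T ≤ 𝐍[Q] := sup_le le_normalizer t2
  refine ⟨a1, a2, a3, fun g hg => n1 g (by rwa [cj_eq_of_mem_normalizer hg.1.2, inf_idem]), ?_⟩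
  by_cases e : S ≤ 𝐍[T]
  · rw [inf_eq_left.2 e]
    exact Or.inl (hS.inf_normal le_sup_left nQ)
  right
  obtain ⟨s, hs, hs'⟩ : ∃ s ∈ (S ⊓ 𝐍[(S ⊓ 𝐍[T] : Subgroup G)]) ⊓ Q, s ∉ 𝐍[T] := by
    by_contra! c
    have := lt_inf_normalizer hS.2 (inf_lt_left.2 e)
    refine this.not_ge (le_inf inf_le_left ?_)
    rw [← ded _ ((le_inf hTS le_normalizer).trans this.le) inf_le_left]
    exact sup_le le_normalizer c
  have b1 : T ⊓ cj T s = ⊥ := by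
    by_contra c
    refine hs' (centralizer_le_normalizer _ fun t ht => commutatorElement_eq_one_iff_mul_comm.1 (mem_bot.1
      ((bot_of_odd (T := ⁅T, zpowers s⁆) (hS.2.to_le ((commutator_mono hTS (zpowers_le.2 hs.1.1)).trans
        (commutator_le_left_of_le_normalizer le_normalizer))) (le_inf ?_ ?_) ho).le
          (commutator_mem_commutator ht (mem_zpowers s)))))
    · exact (commutator_mono le_rfl (zpowers_le.2 hs.2)).trans (commutator_le_right_of_le_normalizer t2)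
    · exact (commutator_mono t1 le_rfl).trans (commutator_le_left_of_le_normalizer (zpowers_le.2 (n1 s c)))
  have b2 : cj T s ≤ S ⊓ 𝐍[T] := cj_le_of_mem_normalizer (le_inf hTS le_normalizer) hs.1.2
  haveI : (T.subgroupOf (S ⊓ 𝐍[T])).Normal := normal_subgroupOf_of_le_normalizer inf_le_right
  let π := QuotientGroup.mk' (T.subgroupOf (S ⊓ 𝐍[T]))
  have inj : ∀ (X : Subgroup G) (h : X ≤ S ⊓ 𝐍[T]), T ⊓ X = ⊥ → Function.Injective (π.comp (inclusion h)) :=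
    fun X h c => (injective_iff_map_eq_one _).2 fun x hx =>
      Subtype.ext (mem_bot.1 (c.le ⟨(QuotientGroup.eq_one_iff (inclusion h x)).1 hx, x.2⟩))
  have i1 := inj _ inf_le_left (eq_bot_iff.2 ((inf_le_inf_left T inf_le_right).trans a1.le))
  have i2 : Function.Surjective (π.comp (inclusion (inf_le_left : S ⊓ 𝐍[T] ⊓ Q ≤ _))) := fun y => by
    obtain ⟨⟨y, hy⟩, rfl⟩ := QuotientGroup.mk'_surjective _ y
    obtain ⟨t, ht, r, hr, rfl⟩ := (mem_sup_of_le_normalizer_left (inf_le_left.trans inf_le_right)).1 (a3.ge hy)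
    exact ⟨⟨r, hr⟩, (QuotientGroup.eq_iff_div_mem.2 (by simpa [mem_subgroupOf] using ht)).symm⟩
  exact ⟨(MulEquiv.ofBijective _ ⟨i1, i2⟩).symm.toMonoidHom.comp ((π.comp (inclusion b2)).comp (cjEquiv T s).toMonoidHom),
    (MulEquiv.ofBijective _ ⟨i1, i2⟩).symm.injective.comp ((inj _ b2 b1).comp (cjEquiv T s).injective)⟩


/-- Let Q be a tightly embedded subgroup of a finite group G, g an element outside N_G(Q), T a nontrivial Sylow 2-subgroup of Q^g ∩ N_G(Q), and S a Sylow 2-subgroup of QT containing T. Then T ∩ Q = 1, and N_S(T) is the direct product of T and N_S(T) ∩ Q, with N_S(T) ∩ Q isomorphic to T. -/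
theorem result {G : Type*} [Group G] [Finite G] (Q : Subgroup G) (hQ : Cfsg.IsTightlyEmbedded Q)
    (g : G) (hg : g ∉ Subgroup.normalizer (Q : Set G))
    (T : Subgroup G) (hT1 : T ≠ ⊥) (hT : T ≤ Q.map (MulAut.conj g).toMonoidHom ⊓ Subgroup.normalizer (Q : Set G))
    (hTsyl : IsPGroup 2 T ∧ ¬ 2 ∣ T.relIndex (Q.map (MulAut.conj g).toMonoidHom ⊓ Subgroup.normalizer (Q : Set G)))
    (S : Subgroup G) (hTS : T ≤ S) (hS : S ≤ Q ⊔ T) (hSsyl : IsPGroup 2 S ∧ ¬ 2 ∣ S.relIndex (Q ⊔ T)) :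
    T ⊓ Q = ⊥ ∧
      T ⊓ (S ⊓ Subgroup.normalizer (T : Set G) ⊓ Q) = ⊥ ∧
      ⁅T, S ⊓ Subgroup.normalizer (T : Set G) ⊓ Q⁆ = ⊥ ∧
      T ⊔ (S ⊓ Subgroup.normalizer (T : Set G) ⊓ Q) = S ⊓ Subgroup.normalizer (T : Set G) ∧
      Nonempty (↥(S ⊓ Subgroup.normalizer (T : Set G) ⊓ Q) ≃* T) := by
  rw [map_conj_eq_cj] at hT hTsyl
  have t1 := sylIn_of_not_dvd hT hTsyl.1 hTsyl.2
  have hK : ∀ h ∉ 𝐍[cj Q g], Odd (Nat.card (cj Q g ⊓ cj (cj Q g) h : Subgroup G)) := fun h hh => by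
    have := hQ.2 (g⁻¹ * h * g) (by rwa [← cj_normalizer, mem_cj] at hh)
    rwa [map_conj_eq_cj, ← card_cj _ g, cj_inf, cj_cj, ← mul_assoc, ← mul_assoc, mul_inv_cancel, one_mul, ← cj_cj] at this
  obtain ⟨a1, a2, a3, a4, a5⟩ := aux hK (hQ.2 g hg) hT1 t1 hTS (sylIn_of_not_dvd hS hSsyl.1 hSsyl.2)
  refine ⟨a1, eq_bot_iff.2 ((inf_le_inf_left T inf_le_right).trans a1.le), a2, a3, ?_⟩
  have r2 : IsPGroup 2 (S ⊓ 𝐍[T] ⊓ Q : Subgroup G) := hSsyl.1.to_le (inf_le_left.trans inf_le_left)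
  have rQ : S ⊓ 𝐍[T] ⊓ Q ≤ Q := inf_le_right
  generalize S ⊓ 𝐍[T] ⊓ Q = R at *
  obtain ⟨U, hU⟩ := exists_sylIn 2 Q
  have u1 := hU.cj g
  have c1 : Nat.card R ≤ Nat.card T := by
    by_cases e : R = ⊥
    · rw [e, card_bot]; exact Nat.card_pos
    obtain ⟨R', h1, h2⟩ := exists_sylIn_le r2 (le_inf rQ a4)
    obtain ⟨S', h3, h4⟩ := exists_sylIn_le h1.2 (le_sup_right : R' ≤ cj Q g ⊔ R')
    obtain ⟨-, -, -, b4, b5⟩ := aux (Q := cj Q g) (K := Q) hQ.2 (inf_comm Q _ ▸ hQ.2 g hg)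
      (fun c => e (eq_bot_iff.2 (h2.trans c.le))) h1 h4 h3
    refine (card_le_of_le h2).trans (le_trans ?_
      (t1.card_le (h3.2.to_le (inf_le_left.trans inf_le_left)) (le_inf inf_le_right b4)))
    rcases b5 with b5 | ⟨f, hf⟩
    · rw [b5.card_eq u1, card_cj]
      exact hU.card_le h1.2 (h1.1.trans inf_le_left)
    · exact Nat.card_le_card_of_injective f hf
  rcases a5 with a5 | ⟨f, hf⟩
  · obtain ⟨k, -, hk⟩ := (a5.cj g).exists_cj_eq ((a5.cj g).of_card_le t1.2 (hT.trans inf_le_left) (by rwa [card_cj]))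
    exact ⟨((cjEquiv R g).trans (cjEquiv _ k)).trans (MulEquiv.subgroupCongr hk)⟩
  · exact ⟨(MulEquiv.ofBijective f ((Nat.bijective_iff_injective_and_card f).2
      ⟨hf, le_antisymm (Nat.card_le_card_of_injective f hf) c1⟩)).symm⟩

end Cfsg.Agent.S1910
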