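import Cfsg.Statements.S1911
import Cfsg.Agent.AC.TE
import Cfsg.Agent.SH.S0

set_option autoImplicit false
open Cfsg

namespace Cfsg.Agent.S1911

open Cfsg.Agent.AC Cfsg.Agent.BS.Bd Cfsg.Agent.H20 Cfsg.Agent.H21 Subgroup Cfsg.Agent.SH

/-- Let Q be a tightly embedded subgroup of a finite group G such that Q^g ∩ N_G(Q) has odd order for every g outside N_G(Q), and let K be the normal closure of Q in G. Then Q is normal in G, or K ∩ N_G(Q) is a strongly embedded subgroup of K. -/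
theorem result {G : Type*} [Group G] [Finite G] (Q : Subgroup G) (hQ : Cfsg.IsTightlyEmbedded Q)
    (hodd : ∀ g : G, g ∉ Subgroup.normalizer (Q : Set G) →
      Odd (Nat.card ↥(Q.map (MulAut.conj g).toMonoidHom ⊓ Subgroup.normalizer (Q : Set G)))) :
    Q.Normal ∨
      Cfsg.IsStronglyEmbedded ((Subgroup.normalizer (Q : Set G)).subgroupOf (Subgroup.normalClosure (Q : Set G))) := by
  obtain ⟨z, hz, hi⟩ := exists_iv (Nat.not_odd_iff_even.2 hQ.1)
  have hm := Aq_mk (le_refl N⟦Q⟧)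
  have h : TE (Aq N⟦Q⟧ Q) := by
    refine ⟨fun g a x hx => ?_, fun a x hx => ?_, fun a x hx h1 c hc => ?_, fun a => ?_⟩ <;>
      obtain ⟨a, rfl⟩ := QuotientGroup.mk_surjective a
    · rw [hm] at hx
      rw [MulAction.Quotient.smul_mk, smul_eq_mul, hm, cj_mul]
      exact conj_mem_cj.2 hx
    · rw [hm] at hx
      exact fix_mk.2 (le_norm_self Q (mem_cj.1 hx))
    · obtain ⟨c, rfl⟩ := QuotientGroup.mk_surjective c
      rw [hm] at hx
      refine QuotientGroup.eq.2 (by_contra fun h2 => (h1.conj c⁻¹).not_mem (hodd _ h2) ⟨?_, ?_⟩)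
      · rw [← cj_def, cj_mul]
        exact conj_mem_cj.2 hx
      · simpa using fix_mk.1 hc
    · exact ⟨_, hm a ▸ conj_mem_cj.2 hz, hi.conj a⟩
  have hK : ⨆ c, Aq N⟦Q⟧ Q c = normalClosure Q := by
    refine le_antisymm (iSup_le fun c x hx => ?_) ((closure_le _).2 fun x hx => ?_)
    · obtain ⟨y, hy, rfl⟩ := mem_cj'.1 hx
      exact normalClosure_normal.conj_mem _ (subset_normalClosure hy) _
    · obtain ⟨y, hy, h1⟩ := Group.mem_conjugatesOfSet_iff.1 hx
      obtain ⟨g, rfl⟩ := isConj_iff.1 h1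
      exact le_iSup (Aq N⟦Q⟧ Q) g (hm g ▸ conj_mem_cj.2 hy)
  refine or_iff_not_imp_left.2 fun hn => NT.se (hK ▸ h.nt) (fun h1 => hn ⟨fun x hx g => ?_⟩) hi
    (subset_normalClosure hz) (le_norm_self Q hz)
  refine conj_mem_of_norm (by_contra fun h2 => (hi.conj g).not_mem (hodd g h2) ⟨conj_mem_cj.2 hz, h1 ?_⟩) hx
  exact normalClosure_normal.conj_mem _ (subset_normalClosure hz) g

end Cfsg.Agent.S1911
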