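import Cfsg.Statements.S1913
import Cfsg.Agent.AC.Top

set_option autoImplicit false
open Cfsg

namespace Cfsg.Agent.S1913

open Cfsg.Agent.AC Cfsg.Agent.BS.Bd Cfsg.Agent.H20 Cfsg.Agent.H21 Subgroup

/-- Let z be an involution in the centre of a Sylow 2-subgroup of a finite group G and H a proper subgroup such that z ∈ gHg⁻¹ exactly when g ∈ H, and such that for every involution u commuting with z whose centralizer is not contained in H, the subgroup H ∩ L is strongly embedded in L = ⟨G-conjugates of z commuting with u⟩. Then, with K the normal closure of z in G, H ∩ K is strongly embedded in K. -/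
theorem result {G : Type*} [Group G] [Finite G] (P : Sylow 2 G) (z : G) (hz2 : orderOf z = 2)
    (hzP : z ∈ (Subgroup.center ↥(P : Subgroup G)).map (P : Subgroup G).subtype)
    (H : Subgroup G) (hH : H ≠ ⊤) (hi : ∀ g : G, z ∈ H.map (MulAut.conj g).toMonoidHom ↔ g ∈ H)
    (hii : ∀ u : G, orderOf u = 2 → u * z = z * u → ¬ Subgroup.centralizer ({u} : Set G) ≤ H →
      Cfsg.IsStronglyEmbedded (H.subgroupOf (Subgroup.closure {x : G | IsConj z x ∧ x * u = u * x}))) :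
    Cfsg.IsStronglyEmbedded (H.subgroupOf (Subgroup.normalClosure ({z} : Set G))) := by
  haveI := Fact.mk Nat.prime_two
  have hz := iv_of_ord hz2
  have hPc : (P : Subgroup G) ≤ C₁⟦z⟧ := by
    obtain ⟨y, hy, rfl⟩ := hzP
    exact fun x hx => mem_cent1.2 (congrArg Subtype.val (mem_center_iff.1 hy ⟨x, hx⟩))
  have hzH : z ∈ H := by simpa [← cj_def] using (hi 1).2 (one_mem _)
  have h2 : ∀ g, g * z * g⁻¹ ∈ H → g ∈ H := fun g hg =>
    inv_mem_iff.1 ((hi g⁻¹).1 (by rwa [← cj_def, mem_cj_inv]))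
  have hD : {x : G | ∃ g, g * z * g⁻¹ = x} = {x | IsConj z x} := Set.ext fun _ => isConj_iff.symm
  have key : ∀ u, Iv u → u * z = z * u → ¬ C₁⟦u⟧ ≤ H → ∀ v, Iv v →
      v ∈ closure {x : G | IsConj z x ∧ x * u = u * x} →
      (∀ g ∈ closure {x : G | IsConj z x ∧ x * u = u * x}, g * v * g⁻¹ ∈ H) → False := fun u h1 h3 h4 v h5 h6 h7 => by
    have hS := hii u h1.ord h3 h4
    refine hS.1 ((eq_top_iff' _).2 fun g => H11.SE.mem_of_conj hS (t := ⟨v, h6⟩) ?_
      ((orderOf_coe _).symm.trans h5.ord) (h7 g g.2))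
    simpa [mem_subgroupOf] using h7 1 (one_mem _)
  have h : ZE (G ⧸ H) {x | IsConj z x} := hD ▸ ze_class hz (sylowOf_top P) hPc hzH h2 fun g e hne => by
    by_contra h1
    have h3 := hz.conj g
    have h4 : IsConj z (g * z * g⁻¹) := isConj_iff.2 ⟨g, rfl⟩
    generalize g * z * g⁻¹ = w at e hne h1 h3 h4
    have h5 : Iv (z * w) := ⟨fun e1 => hne (mul_left_cancel (e1.trans hz.2.symm)), by
      rw [mul_assoc, ← mul_assoc w, ← e, mul_assoc, h3.2, mul_one, hz.2]⟩
    have h6 : z * (z * w) = z * w * z := by rw [mul_assoc, ← e]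
    refine key _ h5 h6.symm h1 _ h5 (mul_mem (subset_closure ⟨IsConj.refl z, h6⟩)
      (subset_closure ⟨h4, by rw [← mul_assoc, ← e]⟩)) fun x hx => ?_
    rw [mem_cent1.1 ((closure_le C₁⟦z * w⟧).2 (fun y hy => mem_cent1.2 hy.2) hx), mul_inv_cancel_right]
    exact mul_mem hzH (h2 w (by rwa [← e, mul_inv_cancel_right]))
  have hK : LD {x | IsConj z x} ⊤ = normalClosure {z} := by
    rw [LD, normalClosure]
    congr 1
    ext x
    simp [Group.mem_conjugatesOfSet_iff]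
  have hX : ¬ (⊤ : Subgroup G) ≤ St (pt H) := by rwa [St_pt, top_le_iff]
  have he : EvD {x | IsConj z x} ⊤ (pt H) := ⟨z, trivial, IsConj.refl z, fix_pt.2 hzH⟩
  have hKH : ¬ LD {x | IsConj z x} ⊤ ≤ H := by
    have := h.not_le_LD he hX
    rwa [St_pt] at this
  refine hK ▸ NT.se (h.nt shult he orb_pt hX fun _ v hv h1 h3 => by_contra fun h4 => ?_) hKH hz
    (mem_LD (IsConj.refl z) trivial) hzH
  have hN : ⊤ ≤ N⟦LD {x | IsConj z x} ⊤ ⊓ Ker ⊤ (pt H)⟧ := norm_inf h.LD_norm (Ker_norm _)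
  have hO := norm_piCoreOf {2}ᶜ hN
  obtain ⟨g, -, h5⟩ := Hall.exists_cj_le (sylowOf_top P) (Iv.el2 ⟨h4, h1⟩).isPGroup le_top
  have h6 := mem_cent1.1 (hPc (h5 (conj_mem_cj.2 (mem_zpowers v))))
  have h7 := conj_mem_of_norm (hN (mem_top g)) ⟨hv, trivial, fun b _ => h3 b⟩
  have h8 := Iv.conj ⟨h4, h1⟩ g
  generalize g * v * g⁻¹ = u at h6 h7 h8
  have hKH' : Ker ⊤ (pt H) ≤ H := (Ker_le_St (Orb.refl _ _)).trans St_pt.le
  have h9 : LD {x | IsConj z x} ⊤ ≤ Oc (LD {x | IsConj z x} ⊤ ⊓ Ker ⊤ (pt H)) ⊔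
      closure {x : G | IsConj z x ∧ x * u = u * x} := (closure_le _).2 fun d hd => by
    obtain ⟨x, -, hx⟩ := not_le_St.1 hX
    have hI := h.iso_of_fix hd.1 (hN (mem_top d)) hx (inf_le_right.trans (Ker_le_St (orb_pt _)))
      (inf_le_right.trans (Ker_le_St (orb_pt _)))
    have hd' := h.iv d hd.1
    have h10 : d * (u * d * u⁻¹) ∈ Oc (LD {x | IsConj z x} ⊤ ⊓ Ker ⊤ (pt H)) := by
      obtain ⟨o, ho, c, -, e, rfl⟩ := hI.2 u h7
      convert mul_mem (conj_mem_of_norm hI.oc ho) (inv_mem ho) using 1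
      rw [mul_assoc o c d, e, hd'.inv]; group
    obtain ⟨y, h11, h12, h13, -⟩ := exists_midpt hd' h8 (odd_ord (odd_oddCore _) h10)
    have h14 := zpowers_le.2 h10 h11
    exact (mul_mem_cancel_left (mem_sup_left h14)).1 (mem_sup_right (subset_closure
      ⟨h.mul_mem_of_inv hd.1 (odd_ord (odd_oddCore _) h14) h12, h13⟩))
  obtain ⟨o, ho, l, hl, rfl⟩ := (mem_sup_of_norm' (le_top.trans hO)).1 (h9 h7.1)
  have h10 := ((mul_mem_cancel_left (Oc_le _ ho)).1 h7).2
  obtain ⟨w, h11, h12⟩ := exists_iv_zpowers (g := l) fun h11 => h8.not_mem (odd_oddCore _) (mul_mem ho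
    (mem_of_sq_mem h11 (by
      rw [eq_inv_of_mul_eq_one_right (show o * (l * o * l⁻¹) * (l * l) = 1 by rw [← h8.2]; group)]
      exact inv_mem (mul_mem ho (conj_mem_of_norm (hO (mem_top l)) ho)))))
  refine key _ h8 h6 (fun h13 => hKH (h9.trans (sup_le ((Oc_le _).trans (inf_le_right.trans hKH'))
    (le_trans ((closure_le _).2 fun y hy => mem_cent1.2 hy.2) h13)))) w h12 (zpowers_le.2 hl h11) fun x _ => ?_
  exact hKH' (conj_mem_of_norm (Ker_norm _ (mem_top x)) (zpowers_le.2 h10 h11))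

end Cfsg.Agent.S1913
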