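import Cfsg.Statements.S1915
import Cfsg.Agent.H15T.R1

set_option autoImplicit false
open Cfsg

namespace Cfsg.Agent.S1915

/-- Let A be a semisimple subgroup (A = E(A)) of a finite group and U a Klein four-group normalizing A. If the subgroup of A generated by the normalizers N_A(V) of the nontrivial subgroups V of U has 2-rank exactly 1, then A has 2-rank exactly 1. -/
theorem result {G : Type*} [Group G] [Finite G] (A : Subgroup G) (hA : Cfsg.layer ↥A = ⊤)
    (U : Subgroup G) (hU : IsKleinFour U) (hUA : U ≤ Subgroup.normalizer (A : Set G))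
    (hΓ : Cfsg.PRankLE 2 1 ↥(⨆ V : {V : Subgroup G // V ≤ U ∧ V ≠ ⊥}, A ⊓ Subgroup.normalizer ((V : Subgroup G) : Set G)) ∧
      ¬ Cfsg.PRankLE 2 0 ↥(⨆ V : {V : Subgroup G // V ≤ U ∧ V ≠ ⊥}, A ⊓ Subgroup.normalizer ((V : Subgroup G) : Set G))) :
    Cfsg.PRankLE 2 1 A ∧ ¬ Cfsg.PRankLE 2 0 A := by
  refine ⟨Cfsg.Agent.H15T.r1_iff.2 (Cfsg.Agent.H15T.r1_main hA hU hUA (fun u hu u1 => ?_)
    (Cfsg.Agent.H15T.r1_iff.1 hΓ.1)), fun h => hΓ.2 fun B hB hB2 => ?_⟩
  · refine le_trans ?_ (le_iSup (fun V : {V : Subgroup G // V ≤ U ∧ V ≠ ⊥} =>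
      A ⊓ Subgroup.normalizer ((V : Subgroup G) : Set G)) ⟨Subgroup.zpowers u, Subgroup.zpowers_le.2 hu, by simpa using u1⟩)
    exact inf_le_inf_left _ (Cfsg.Agent.H20.cent1_le_norm_zpowers u)
  · have hle : (⨆ V : {V : Subgroup G // V ≤ U ∧ V ≠ ⊥}, A ⊓ Subgroup.normalizer ((V : Subgroup G) : Set G)) ≤ A :=
      iSup_le fun _ => inf_le_left
    have := h (B.map (Subgroup.inclusion hle)) inferInstance (by
      rintro _ ⟨a, ha, rfl⟩
      rw [← map_pow, hB2 a ha, map_one])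
    rwa [Subgroup.card_map_of_injective (Subgroup.inclusion_injective hle)] at this

end Cfsg.Agent.S1915
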