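import Cfsg.Statements.S1916
import Cfsg.Agent.GW.PMax
import Cfsg.Agent.GW.QG
import Cfsg.Agent.S0219

set_option autoImplicit false
open Cfsg

namespace Cfsg.Agent.S1916

open Subgroup Cfsg.Agent.GW Cfsg.Agent.H10
open scoped MatrixGroups

variable {G A : Type*} [Group G] [Finite G] [Group A] {L : Subgroup G} {a : G}

/-- the automorphism induced by an element of the normalizer -/
def act (e : L ≃* A) : normalizer (L : Set G) →* MulAut A :=
  (MulAut.congr e).toMonoidHom.comp L.normalizerMonoidHom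

theorem conj_aut (f : MulAut A) (x : A) : MulAut.conj (f x) = f * MulAut.conj x * f⁻¹ := by
  ext; simp

theorem act_eq (e : L ≃* A) (ha : a ∈ normalizer (L : Set G)) (x : L) :
    act e ⟨a, ha⟩ (e x) = e x ↔ (x : G) ∈ centralizer {a} := by
  rw [H11.mem_cent1, eq_comm (a := x * a), ← mul_inv_eq_iff_eq_mul]
  simp [act, Subtype.ext_iff]

theorem cyc (e : L ≃* A) (ha : a ∈ normalizer (L : Set G))
    (hC : ∀ R : Sylow 2 ↥(L ⊓ centralizer {a}), IsCyclic R) {T : Subgroup A} (hT : IsPGroup 2 T)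
    (h : ∀ x ∈ T, act e ⟨a, ha⟩ x = x) : IsCyclic T := by
  have hi := L.subtype_injective.comp e.symm.injective
  have h1 : T.map (L.subtype.comp e.symm.toMonoidHom) ≤ L ⊓ centralizer {a} := by
    rintro _ ⟨x, hx, rfl⟩
    obtain ⟨x, rfl⟩ := e.surjective x
    simpa using (act_eq e ha x).1 (h _ hx)
  obtain ⟨R, hR⟩ := ((hT.map _).of_equiv (subgroupOfEquivOfLe h1).symm).exists_le_sylow
  haveI := hC R
  haveI := isCyclic_of_le hR
  exact isCyclic_of_surjective _
    ((subgroupOfEquivOfLe h1).trans (equivMapOfInjective _ _ hi).symm).surjective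

theorem sixteen {σ : Equiv.Perm (Fin 7)} (h : σ ^ 2 = 1) : 2 ^ 4 ∣ Nat.card (centralizer {σ}) := by
  rw [Equiv.Perm.nat_card_centralizer]
  by_cases h1 : σ = 1
  · simp [h1, Nat.factorial]
  have h2 := orderOf_eq_prime h h1
  obtain ⟨k, hk⟩ := Equiv.Perm.cycleType_prime_order (σ := σ) (h2 ▸ Nat.prime_two)
  have h3 := σ.sum_cycleType_le
  rw [hk, h2] at h3 ⊢
  have : k ≤ 2 := by simp at h3; omega
  interval_cases k <;> decide

theorem outer {F : Type} [Field F] [Fintype F] (ho : Odd (Fintype.card F))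
    (h3 : 3 < Fintype.card F) (e : L ≃* PSL(2, F)) (ha : a ∈ normalizer (L : Set G))
    (h2 : orderOf a = 2) (hC : ∀ R : Sylow 2 ↥(L ⊓ centralizer {a}), IsCyclic R) :
    orderOf (act e ⟨a, ha⟩) = 2 ∧ act e ⟨a, ha⟩ ∈ Gam F ∧ act e ⟨a, ha⟩ ∉ Li F := by
  have h0 := two_ne_zero_of_odd ho
  have key : ∀ V ≤ Li F, IsKleinFour V → ¬ ∀ v ∈ V, act e ⟨a, ha⟩ * v = v * act e ⟨a, ha⟩ :=
    fun V hL hV h => by
      have e' := (equivMapOfInjective _ _ conj_injective_psl).trans
        (MulEquiv.subgroupCongr (map_comap_eq_self hL))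
      haveI := cyc e ha hC ((H11.klein_isPGroup hV).of_equiv e'.symm) fun x hx =>
        conj_injective_psl (by rw [conj_aut, h _ hx, mul_inv_cancel_right])
      exact klein_not_cyclic hV (isCyclic_of_surjective _ e'.surjective)
  have kl : ∀ t ∈ Li F, orderOf t = 2 → act e ⟨a, ha⟩ = t ∨ act e ⟨a, ha⟩ = 1 → False :=
    fun t ht ht2 h => by
      obtain ⟨w, hw, hw2, hw3, hw4, -⟩ := exists_klein_cent h0 (Li_le_Gam ht) ht2
      have hV := H11.isKleinFour_closure hw2 ht2
        (fun e => hw3 (by rw [e]; exact self_mem_Tor (Li_le_Gam ht))) hw4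
      refine key _ (closure_pair_le hw ht) hV fun v hv => ?_
      rcases h with h | h <;> rw [h]
      · exact H11.klein_comm hV right_mem_pair hv
      · rw [one_mul, mul_one]
  have h4 : orderOf (act e ⟨a, ha⟩) = 2 := orderOf_eq_prime (by
    rw [← map_pow, show (⟨a, ha⟩ : normalizer (L : Set G)) ^ 2 = 1 from
      Subtype.ext ((pow_two a).trans (H11.mul_self_of_orderOf_two h2)), map_one]) fun h => by
      obtain ⟨x, hx⟩ := H12.exists_invol_psl2 (F := F)
      exact kl _ ⟨x, rfl⟩ ((orderOf_injective _ conj_injective_psl x).trans hx) (Or.inr h)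
  refine ⟨h4, by_contra fun h => ?_, fun h => kl _ h h4 (Or.inl rfl)⟩
  obtain ⟨V, h5, h6, h7⟩ := exists_klein_of_not_mem_Gam h0 h4 h
  exact key V h5 h6 h7

/-- Let L be a non-abelian simple subgroup of a finite group with dihedral Sylow 2-subgroups, and a, b two distinct commuting involutions normalizing L such that C_L(a) and C_L(b) have cyclic Sylow 2-subgroups and L is not contained in the subgroup generated by a, b, C_L(a) and C_L(b). Then ab centralizes L. -/
theorem result {G : Type*} [Group G] [Finite G] (L : Subgroup G) (hL : IsSimpleGroup L) (hLn : ¬ IsMulCommutative L)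
    (hD : ∀ P : Sylow 2 L, ∃ n : ℕ, Nonempty (↥(P : Subgroup L) ≃* DihedralGroup n))
    (a b : G) (ha : orderOf a = 2) (hb : orderOf b = 2) (hab : a ≠ b) (hc : a * b = b * a)
    (haL : a ∈ Subgroup.normalizer (L : Set G)) (hbL : b ∈ Subgroup.normalizer (L : Set G))
    (hCa : ∀ R : Sylow 2 ↥(L ⊓ Subgroup.centralizer ({a} : Set G)), IsCyclic R)
    (hCb : ∀ R : Sylow 2 ↥(L ⊓ Subgroup.centralizer ({b} : Set G)), IsCyclic R)
    (hgen : ¬ L ≤ Subgroup.closure ({a, b} : Set G) ⊔ (L ⊓ Subgroup.centralizer ({a} : Set G)) ⊔ (L ⊓ Subgroup.centralizer ({b} : Set G))) :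
    a * b ∈ Subgroup.centralizer (L : Set G) := by
  have hp := perfect_of_simple hLn
  obtain ⟨m, ⟨eS⟩⟩ := hD default
  have hm : 2 ≤ m := by
    rcases m with _ | _ | m
    · exact absurd (Finite.of_equiv _ eS.toEquiv) (by infer_instance : Infinite _).not_finite
    · have h : Nat.card (default : Sylow 2 L) = 2 := by
        rw [Nat.card_congr eS.toEquiv, DihedralGroup.nat_card]
      obtain ⟨H, hH⟩ := S0219.result (even_iff_two_dvd.2 (h ▸ card_subgroup_dvd_card _)) _
        (isCyclic_of_prime_card (p := 2) h)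
      exact absurd hH (index_ne_two_of_perfect hp H)
    · omega
  rcases gw_simple hLn ⟨_, m, hm, ⟨eS⟩⟩ with ⟨F, _, _, h1, h2, ⟨e⟩⟩ | ⟨⟨e⟩⟩
  swap
  · exfalso
    have hb := conjNormal_alt_bijective (α := Fin 7) (by simp) (by simp)
    obtain ⟨σ, hσ⟩ := hb.2 (act e ⟨a, haL⟩)
    have h1 := sixteen (σ := σ) (hb.1 (by
      rw [map_pow, hσ, ← map_pow, show (⟨a, haL⟩ : normalizer (L : Set G)) ^ 2 = 1 from
        Subtype.ext ((pow_two a).trans (H11.mul_self_of_orderOf_two ha)), map_one, map_one]))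
    have h2 := H11.card_mul_relIndex (inf_le_right : alternatingGroup (Fin 7) ⊓ centralizer {σ} ≤ _)
    have h3 := relIndex_dvd_index_of_normal (alternatingGroup (Fin 7)) (centralizer {σ})
    rw [alternatingGroup.index_eq_two, ← inf_relIndex_right] at h3
    have h4 : 2 ^ 3 ∣ Nat.card ((centralizer {σ}).subgroupOf (alternatingGroup (Fin 7))) := by
      rw [H12.card_subgroupOf_eq]
      exact Nat.dvd_of_mul_dvd_mul_right two_pos ((h2 ▸ h1 :).trans (mul_dvd_mul_left _ h3))
    obtain ⟨T, hT⟩ := Sylow.exists_subgroup_card_pow_prime 2 h4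
    rw [← H11.card_map_subtype] at hT
    obtain ⟨y, -, hy⟩ := exists_orderOf_eq_card (cyc e haL hCa (IsPGroup.of_card hT) fun x hx =>
      hσ ▸ Subtype.ext (mul_inv_eq_iff_eq_mul.2 (H11.mem_cent1.1 (map_subtype_le T hx)).symm))
    rw [hT, ← orderOf_coe] at hy
    exact absurd (hy ▸ orderOf_dvd_of_pow_eq_one (perm7_pow_four (k := 3)
      (hy ▸ pow_orderOf_eq_one _))) (by decide)
  obtain ⟨h3, h4, h5⟩ := outer h1 h2 e haL ha hCa
  obtain ⟨h6, h7, h8⟩ := outer h1 h2 e hbL hb hCb
  set α := act e ⟨a, haL⟩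
  set β := act e ⟨b, hbL⟩
  have h0 := two_ne_zero_of_odd h1
  have hc' : α * β = β * α := by
    rw [← map_mul, ← map_mul]; exact congrArg _ (Subtype.ext hc)
  by_contra hn
  have hne : α ≠ β := fun h => hn fun x hx => by
    have h9 : act e ⟨a * b, mul_mem haL hbL⟩ = 1 := by
      rw [← MulMemClass.mk_mul_mk _ a b haL hbL, map_mul, ← H11.mul_self_of_orderOf_two h6]
      exact congrArg (· * β) h
    exact H11.mem_cent1.1 ((act_eq e (mul_mem haL hbL) ⟨x, hx⟩).1 (by rw [h9, MulAut.one_apply]))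
  have hV := H11.isKleinFour_closure h3 h6 hne hc'
  have six : ∀ t ∈ Gam F, orderOf t = 2 → t ∉ Li F → 6 ≤ Nat.card (Tor t) := fun t ht ht2 h => by
    have := mt (invol_mem_Li_iff h0 ht ht2).2 h
    have := (ss_of_invol h0 ht ht2).card h0
    obtain ⟨k, hk⟩ := h1
    omega
  have half : ∀ t ∈ Gam F, t ∉ Li F →
      Gam F ⊓ centralizer {t} ≤ Li F ⊓ centralizer {t} ⊔ zpowers t := fun t ht h y hy => by
    by_cases h' : y ∈ Li F
    · exact mem_sup_left ⟨h', hy.2⟩
    · have : y * t ∈ Li F ⊓ centralizer {t} :=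
        ⟨mul_mem_Li h0 hy.1 ht h' h, (centralizer {t}).mul_mem hy.2 (H11.mem_cent1.2 rfl)⟩
      simpa using mul_mem (mem_sup_left this) (inv_mem (mem_sup_right (mem_zpowers t)))
  have hn' : ∀ t ∈ closure {α, β}, closure {α, β} ≤
      normalizer ((Li F ⊓ centralizer {t} : Subgroup _) : Set (PA F)) := fun t ht =>
    le_normalizer_inf (le_top.trans (normalizer_eq_top _).ge)
      (le_trans (fun v hv => H11.mem_cent1.2 (H11.klein_comm hV hv ht)) le_normalizer)
  have h9 : Li F ≤ Li F ⊓ centralizer {α} ⊔ Li F ⊓ centralizer {β} := perfect_le_of_le_sup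
    (Subgroup.isPerfect_iff.1 ⟨perfect_of_surj (psl_perfect h2) (liEquiv F).toMonoidHom
      (liEquiv F).surjective⟩) (le_normalizer_sup (hn' _ left_mem_pair) (hn' _ right_mem_pair))
    (isSolvable_of_isPGroup (H11.klein_isPGroup hV)) (Li_le_of_cent h1 h4 h3 (six _ h4 h3 h5)
      (sup_le (sup_le (inf_le_left.trans Li_le_Gam) (inf_le_left.trans Li_le_Gam))
        (closure_pair_le h4 h7))
      ((half _ h4 h5).trans (sup_le_sup le_sup_left (zpowers_le.2 left_mem_pair))) fun h => by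
      have hs := ss_of_invol h0 h7 h6
      obtain ⟨u, hu, hu'⟩ := exists_orderOf_eq_card (hs.isCyclic h0)
      have h10 := six _ h7 h6 h8
      have h11 := ((half _ h7 h8).trans (sup_le_sup le_sup_right (zpowers_le.2 right_mem_pair))).trans
        h ⟨Tor_le_Gam _ hu, Tor_le_cent h7 hs.ne_one hu⟩
      rcases cent_invol h0 h4 h3 (Tor_le_Gam _ hu) (H11.mem_cent1.1 h11) with h12 | ⟨h12, -⟩
      · have hu1 : u ≠ 1 := fun e => by rw [e, orderOf_one] at hu'; omega
        exact hne (invol_eq_of_cyclic (hs.isCyclic h0) (by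
          rw [← Tor_eq h7 hs.ne_one hu hu1, Tor_eq h4 (H11.ne_one_of_orderOf_two h3) h12 hu1]
          exact self_mem_Tor h4) (self_mem_Tor h7) h3 h6)
      · have := Nat.le_of_dvd two_pos (orderOf_dvd_of_pow_eq_one ((pow_two u).trans h12))
        omega)
  refine hgen fun x hx => ?_
  set f := MulAut.conj.comp e.toMonoidHom
  have hf : Function.Injective f := conj_injective_psl.comp e.injective
  have key : ∀ {c : G} (hc : c ∈ normalizer (L : Set G)), Li F ⊓ centralizer {act e ⟨c, hc⟩} ≤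
      ((centralizer {c}).subgroupOf L).map f := by
    rintro c hc _ ⟨⟨y, rfl⟩, hy⟩
    obtain ⟨y, rfl⟩ := e.surjective y
    exact ⟨y, (act_eq e hc y).1 (conj_injective_psl (by
      rw [conj_aut, ← H11.mem_cent1.1 hy, mul_inv_cancel_right])), rfl⟩
  have := (h9.trans (sup_le_sup (key haL) (key hbL))) (⟨e ⟨x, hx⟩, rfl⟩ : f ⟨x, hx⟩ ∈ Li F)
  rw [← Subgroup.map_sup, mem_map_iff_mem hf, ← mem_map_iff_mem (subtype_injective L),
    Subgroup.map_sup, subgroupOf_map_subtype, subgroupOf_map_subtype, inf_comm, inf_comm _ L] at this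
  rw [sup_assoc]
  exact mem_sup_right this

end Cfsg.Agent.S1916
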