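import Cfsg.Statements.S1921
import Cfsg.Agent.H10.Misc

set_option autoImplicit false
open Cfsg

namespace Cfsg.Agent.S1921

/-- Let a be an involution of a finite group H and L a component of H with a L a⁻¹ ≠ L; put M = ⟨L, aLa⁻¹⟩ and let J be the subgroup generated by the elements x · a x a⁻¹ with x ∈ L (the diagonal). Then every element of M outside J·Z(M) generates M together with J. -/
theorem result {H : Type*} [Group H] [Finite H] (a : H) (ha : orderOf a = 2) (L : Subgroup H) (hL : Cfsg.IsComponent L)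
    (hLa : L.map (MulAut.conj a).toMonoidHom ≠ L) (x : H) (hxM : x ∈ L ⊔ L.map (MulAut.conj a).toMonoidHom)
    (hxJ : x ∉ Subgroup.closure {y : H | ∃ l ∈ L, y = l * (a * l * a⁻¹)} ⊔
      ((L ⊔ L.map (MulAut.conj a).toMonoidHom) ⊓ Subgroup.centralizer ((L ⊔ L.map (MulAut.conj a).toMonoidHom : Subgroup H) : Set H))) :
    Subgroup.closure {y : H | ∃ l ∈ L, y = l * (a * l * a⁻¹)} ⊔ Subgroup.zpowers x = L ⊔ L.map (MulAut.conj a).toMonoidHom := by
  open Subgroup Cfsg.Agent.H10 in
  have hL' := compOf_top.2 hL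
  have hcomm : ⁅L, L.map (MulAut.conj a).toMonoidHom⁆ = ⊥ :=
    hL'.commutator_eq_bot (hL'.conj (le_normalizer (mem_top a))) hLa.symm
  set J := closure {y : H | ∃ l ∈ L, y = l * (a * l * a⁻¹)}
  have hJ : ∀ l ∈ L, l * (a * l * a⁻¹) ∈ J := fun l hl => subset_closure ⟨l, hl, rfl⟩
  have hJM : J ≤ L ⊔ L.map (MulAut.conj a).toMonoidHom := (closure_le _).2 (by
    rintro _ ⟨l, hl, rfl⟩
    exact mul_mem (mem_sup_left hl) (mem_sup_right (conj_mem_conj a hl)))
  have hYM := sup_le hJM (zpowers_le.2 hxM)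
  obtain ⟨l, hl, m, hm, rfl⟩ := (mem_sup_conj_iff hcomm).1 hxM
  set Y := J ⊔ zpowers (l * (a * m * a⁻¹))
  have hc1 := commutator_eq_bot_iff_le_centralizer.1 hcomm
  have hc2 := commutator_eq_bot_iff_le_centralizer.1 (commutator_eq_bot_comm hcomm)
  have hML : L ⊔ L.map (MulAut.conj a).toMonoidHom ≤ normalizer (L : Set H) :=
    sup_le le_normalizer (le_normalizer_of_le_centralizer hc2)
  have h1 : L ≤ J ⊔ L.map (MulAut.conj a).toMonoidHom := fun y hy => by
    have := mul_mem (mem_sup_left (T := L.map (MulAut.conj a).toMonoidHom) (hJ y hy))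
      (mem_sup_right (S := J) (inv_mem (conj_mem_conj a hy)))
    rwa [mul_inv_cancel_right] at this
  have h2 : L ≤ normalizer ((Y ⊓ L : Subgroup H) : Set H) :=
    h1.trans (sup_le (le_normalizer_inf (le_normalizer_of_le le_sup_left) (hJM.trans hML))
      (le_normalizer_of_le_centralizer (hc2.trans (centralizer_anti inf_le_right))))
  have h3 : l * m⁻¹ ∈ Y ⊓ L := by
    refine mem_inf.2 ⟨?_, mul_mem hl (inv_mem hm)⟩
    have := mul_mem (mem_sup_right (S := J) (mem_zpowers (l * (a * m * a⁻¹))))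
      (mem_sup_left (inv_mem (hJ m hm)))
    convert this using 1
    group
  rcases QS.normal_cases hL'.qs inf_le_right h2 with h | h
  · exfalso
    apply hxJ
    have : l * (a * m * a⁻¹) = (l * m⁻¹) * (m * (a * m * a⁻¹)) := by group
    rw [this]
    refine mul_mem (mem_sup_right ⟨mem_sup_left h3.2, ?_⟩) (mem_sup_left (hJ m hm))
    rw [centralizer_sup]
    exact ⟨commutator_eq_bot_iff_le_centralizer.1 h h3, hc1 h3.2⟩
  · have hLY : L ≤ Y := inf_eq_right.1 h
    refine le_antisymm hYM (sup_le hLY ?_)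
    rintro _ ⟨y, hy, rfl⟩
    have := mul_mem (inv_mem (hLY hy)) (mem_sup_left (hJ y hy) : _ ∈ Y)
    simpa using this

end Cfsg.Agent.S1921
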