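import Cfsg.Statements.S1922
import Cfsg.Agent.H11.StrEmb
import Cfsg.Agent.H11.Iso
import Cfsg.Agent.H21.Base2

set_option autoImplicit false
open Cfsg

namespace Cfsg.Agent.S1922

open Subgroup Cfsg.Agent.H20 Cfsg.Agent.H21 Cfsg.Agent.H11

/-- Let z be an involution of a finite group G and H a proper subgroup such that z lies in gHg⁻¹ exactly when g ∈ H. Then the following are equivalent: (1) for every conjugate t ≠ z of z commuting with z, the product zt lies in gHg⁻¹ exactly when g ∈ H; (2) z lies in the centre of some Sylow 2-subgroup of G, and for every conjugate t ≠ z of z commuting with z, the centralizer of zt is contained in H. -/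
theorem result {G : Type*} [Group G] [Finite G] (z : G) (hz : orderOf z = 2) (H : Subgroup G) (hH : H ≠ ⊤)
    (h0 : ∀ g : G, z ∈ H.map (MulAut.conj g).toMonoidHom ↔ g ∈ H) :
    (∀ t : G, IsConj z t → t ≠ z → t * z = z * t → ∀ g : G, z * t ∈ H.map (MulAut.conj g).toMonoidHom ↔ g ∈ H) ↔
      ((∃ P : Sylow 2 G, z ∈ (Subgroup.center ↥(P : Subgroup G)).map (P : Subgroup G).subtype) ∧
        ∀ t : G, IsConj z t → t ≠ z → t * z = z * t → Subgroup.centralizer ({z * t} : Set G) ≤ H) := by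
  classical
  haveI : Fact (Nat.Prime 2) := ⟨Nat.prime_two⟩
  simp only [← cj_def, H21.mem_cj] at h0 ⊢
  have hzH : z ∈ H := by simpa using (h0 1).mpr (one_mem H)
  have h1 : ∀ {a : G}, a * z * a⁻¹ ∈ H → a ∈ H := fun {a} h =>
    inv_mem_iff.mp ((h0 a⁻¹).mp (by rwa [inv_inv]))
  have ho : ∀ {d}, IsConj z d → orderOf d = 2 := fun h => (orderOf_eq_of_isConj h).symm.trans hz
  refine ⟨fun h => ⟨?_, fun t h2 h3 h4 c hc => (h t h2 h3 h4 c).mp ?_⟩, fun ⟨⟨P, z', hP, e⟩, h⟩ t h2 h3 h4 g =>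
    ⟨fun hg => ?_, fun hg => ?_⟩⟩
  rotate_left
  · rw [mul_assoc, ← mem_centralizer_singleton_iff.mp hc, inv_mul_cancel_left]
    simpa using (h t h2 h3 h4 1).mpr (one_mem H)
  · have h5 : (P : Subgroup G) ≤ C₁⟦z⟧ := fun x hx => mem_centralizer_singleton_iff.mpr
      (e ▸ congrArg Subtype.val (mem_center_iff.mp hP ⟨x, hx⟩))
    have h6 : C₁⟦z⟧ ≤ H := fun c hc => (h0 c).mp (by
      rwa [mul_assoc, ← mem_centralizer_singleton_iff.mp hc, inv_mul_cancel_left])
    obtain ⟨m, hm, h7⟩ := ((sylowOf_top P).of_le (h5.trans h6) le_top).exists_cj_le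
      (Q := zpowers (g⁻¹ * (z * t) * g)) (IsPGroup.of_card (n := 1) (by
        rw [Nat.card_zpowers, ← orderOf_eq_of_isConj (isConj_iff.mpr ⟨g⁻¹, by rw [inv_inv]⟩)]
        refine orderOf_two_of (fun e => h3 ?_) ?_
        · rw [← inv_eq_of_mul_eq_one_right e, inv_eq_of_mul_eq_one_right (mul_self_of_orderOf_two hz)]
        rw [mul_assoc, ← mul_assoc t, h4, mul_assoc, mul_self_of_orderOf_two (ho h2), mul_one,
          mul_self_of_orderOf_two hz])) (zpowers_le.mpr hg)
    have h8 := mem_centralizer_singleton_iff.mp (h5 (h7 (H21.conj_mem_cj.mpr (mem_zpowers _))))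
    have h9 := h t h2 h3 h4 (x := g * m⁻¹ * z * (g * m⁻¹)⁻¹) (mem_centralizer_singleton_iff.mpr (by
      calc _ = g * m⁻¹ * (z * (m * (g⁻¹ * (z * t) * g) * m⁻¹)) * (g * m⁻¹)⁻¹ := by group
        _ = _ := by rw [← h8]; group))
    simpa using mul_mem (h1 h9) hm
  · exact mul_mem (mul_mem (inv_mem hg) (h t h2 h3 h4 (mem_centralizer_singleton_iff.mpr rfl))) hg
  -- an element of `⟨d, e⟩` of order two is a product of two commuting conjugates of `z`
  have key : ∀ {d e : G}, IsConj z d → IsConj z e → ¬ Odd (orderOf (d * e)) → ∃ w ∈ zpowers (d * e),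
      Commute w d ∧ Commute w e ∧ ∀ a b : G, a⁻¹ * w * a ∈ H → b⁻¹ * w * b ∈ H → a⁻¹ * b ∈ H :=
    fun {d e} hd he hde => by
      have hd2 := mul_self_of_orderOf_two (ho hd)
      have he2 := mul_self_of_orderOf_two (ho he)
      obtain ⟨h2, h3, h4⟩ := half_pow_commute (orderOf_pos _) hd2 he2 (Nat.not_odd_iff_even.mp hde)
      have h5 := (isConj_mul_pow hd2 he2 (orderOf (d * e) / 2)).elim hd.trans he.trans
      refine ⟨_, pow_mem (mem_zpowers _) _, h3, h4, ?_⟩
      generalize (d * e) ^ (orderOf (d * e) / 2) = w at *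
      obtain ⟨c, rfl⟩ := isConj_iff.mp hd
      have h6 := h (c⁻¹ * (c * z * c⁻¹ * w) * c) (h5.trans (isConj_iff.mpr ⟨c⁻¹, by rw [inv_inv]⟩))
        (fun e => (orderOf_two_iff.mp h2).1 (by simpa [mul_assoc, inv_mul_eq_one] using e)) (by
          calc _ = z * c⁻¹ * (w * (c * z * c⁻¹)) * c := by group
            _ = _ := by rw [h3.eq]; group)
      have h7 : ∀ a, a⁻¹ * w * a ∈ H → c⁻¹ * a ∈ H := fun a ha => (h6 _).mp (by
        convert ha using 1
        calc _ = a⁻¹ * ((c * z * c⁻¹) * (c * z * c⁻¹) * w) * a := by group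
          _ = _ := by rw [hd2, one_mul])
      exact fun a b ha hb => by simpa [mul_assoc] using mul_mem (inv_mem (h7 a ha)) (h7 b hb)
  obtain ⟨g, hg⟩ : ∃ g, g ∉ H := by simpa [eq_top_iff'] using hH
  have hc : ∀ {a w : G}, Commute w (a * z * a⁻¹) → a⁻¹ * w * a ∈ H := fun {a w} e => (h0 _).mp (by
    convert hzH using 1
    calc _ = a⁻¹ * w⁻¹ * ((a * z * a⁻¹) * w) * a := by group
      _ = _ := by rw [← e.eq]; group)
  have hodd : ∀ {a b : G}, a⁻¹ * b ∉ H → Odd (orderOf (a * z * a⁻¹ * (b * z * b⁻¹))) := fun {a b} hab => by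
    by_contra h2
    obtain ⟨w, -, h3, h4, h5⟩ := key (isConj_conj a z) (isConj_conj b z) h2
    exact hab (h5 a b (hc h3) (hc h4))
  let E := {f : G // IsConj z f ∧ f * g ∈ H}
  have hE2 : ∀ f : E, f.1 * f.1 = 1 := fun f => mul_self_of_orderOf_two (ho f.2.1)
  have hEi : ∀ f : E, f.1⁻¹ = f.1 := fun f => inv_eq_of_mul_eq_one_right (hE2 f)
  have hE : ∀ f f' : E, (f.1 * f'.1) ^ 2 = 1 → f = f' := fun f f' e => by
    have h2 : Odd (orderOf (f.1 * f'.1)) := by
      by_contra h2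
      obtain ⟨w, h3, -, -, h5⟩ := key f.2.1 f'.2.1 h2
      have h6 : zpowers (f.1 * f'.1) ≤ H ⊓ H20.cj g H := zpowers_le.mpr
        ⟨by simpa [hEi] using mul_mem f.2.2 (inv_mem f'.2.2),
          H21.mem_cj.mpr (by simpa [hEi, mul_assoc] using mul_mem (inv_mem f.2.2) f'.2.2)⟩
      exact hg (by simpa using h5 1 g (by simpa using (h6 h3).1) (H21.mem_cj.mp (h6 h3).2))
    have h3 := orderOf_eq_one_iff.mp (Nat.eq_one_of_dvd_coprimes (Nat.coprime_two_right.mpr h2) dvd_rfl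
      (orderOf_dvd_of_pow_eq_one e))
    exact Subtype.ext ((hEi f).symm.trans (inv_eq_of_mul_eq_one_right h3))
  have hmid : ∀ a ∈ H, ∃ f : E, f.1 * g * z * (f.1 * g)⁻¹ = a * z * a⁻¹ ∧
      f.1 ∈ closure {g * z * g⁻¹, a * z * a⁻¹} := fun a ha => by
    obtain ⟨m, hm⟩ := exists_pow_conj_of_odd (mul_self_of_orderOf_two (ho (isConj_conj g z)))
      (mul_self_of_orderOf_two (ho (isConj_conj a z))) (hodd fun h2 => hg (by
        simpa using mul_mem ha (inv_mem h2)))
    have h2 := (isConj_mul_pow (mul_self_of_orderOf_two (ho (isConj_conj g z))) (mul_self_of_orderOf_two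
      (ho (isConj_conj a z))) m).elim (isConj_conj g z).trans (isConj_conj a z).trans
    have h3 := pow_mul_of_inv (invol_inverts_left (mul_self_of_orderOf_two (ho (isConj_conj g z)))
      (mul_self_of_orderOf_two (ho (isConj_conj a z)))) m
    have h4 : (g * z * g⁻¹ * (a * z * a⁻¹)) ^ m ∈ closure {g * z * g⁻¹, a * z * a⁻¹} :=
      pow_mem (mul_mem (subset_closure (by simp)) (subset_closure (by simp))) m
    generalize (g * z * g⁻¹ * (a * z * a⁻¹)) ^ m = y at *
    have h5 : y * (g * z * g⁻¹) * g * z * (y * (g * z * g⁻¹) * g)⁻¹ = a * z * a⁻¹ := by rw [← hm]; group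
    exact ⟨⟨y * (g * z * g⁻¹), h2.trans (isConj_iff.mpr ⟨y, by group⟩),
      h1 (h5 ▸ mul_mem (mul_mem ha hzH) (inv_mem ha))⟩, h5, mul_mem h4 (subset_closure (by simp))⟩
  have hinj : ∀ f f' : E, f.1 * g * z * (f.1 * g)⁻¹ = f'.1 * g * z * (f'.1 * g)⁻¹ → f = f' := by
    suffices h2 : ∀ f f' : E, f'.1 * g * z * (f'.1 * g)⁻¹ = f.1 * g * z * (f.1 * g)⁻¹ →
        f'.1 ∈ closure {g * z * g⁻¹, f.1 * g * z * (f.1 * g)⁻¹} → f = f' from fun f f' e => by
      obtain ⟨f0, h3, h4⟩ := hmid _ f.2.2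
      exact (h2 f f0 h3 h4).trans (h2 f' f0 (h3.trans e) (e ▸ h4)).symm
    intro f f' e h2
    have h3 : Commute (f'.1 * f.1) (g * z * g⁻¹) := by
      calc _ = f'.1 * (f.1 * g * z * (f.1 * g)⁻¹) * f.1 := by group
        _ = f'.1 * f'.1 * (g * z * g⁻¹) * (f'.1⁻¹ * f.1) := by rw [← e]; group
        _ = _ := by rw [hE2, one_mul, hEi]
    have h4 : Commute (f'.1 * f.1) (f.1 * g * z * (f.1 * g)⁻¹) := by
      have := h3.inv_left.map (MulAut.conj f.1)
      simp only [MulAut.conj_apply, mul_inv_rev, hEi] at this ⊢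
      convert this using 1
      · rw [← mul_assoc, hE2, one_mul]
      · group
    have h5 := (closure_le (C₁⟦f'.1 * f.1⟧)).mpr (by
      rintro _ (rfl | rfl)
      exacts [mem_centralizer_singleton_iff.mpr h3.symm, mem_centralizer_singleton_iff.mpr h4.symm]) h2
    refine (hE f' f ?_).symm
    rw [pow_two, ← mul_assoc, ← mem_centralizer_singleton_iff.mp h5, ← mul_assoc, hE2, one_mul, hE2]
  have hfix : ∀ {α : Type u_1} [Finite α] (σ : α → α) (a : α), (∀ x, σ (σ x) = x) → (∀ x, σ x = x ↔ x = a) →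
      ¬ 2 ∣ Nat.card α := fun {α} _ σ a h2 h3 h4 => by
    haveI := Fintype.ofFinite α
    have := Equiv.Perm.card_fixedPoints_modEq (f := σ) (p := 2) (n := 1) (funext h2)
    rw [← Nat.card_eq_fintype_card, (Fintype.card_eq_one_iff (α := Function.fixedPoints σ)).mpr ⟨⟨a, (h3 a).mpr rfl⟩,
      fun x => Subtype.ext ((h3 _).mp x.2)⟩] at this
    exact absurd ((this.dvd_iff dvd_rfl).mp h4) (by decide)
  obtain ⟨f0, -⟩ := hmid 1 (one_mem H)
  have h2 := hfix (α := E) (fun f => ⟨f0.1 * f.1 * f0.1⁻¹, f.2.1.trans (isConj_conj _ _), by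
      simpa [hEi, mul_assoc] using mul_mem (mul_mem f0.2.2 (inv_mem f.2.2)) f0.2.2⟩) f0 (fun f => Subtype.ext (by
      simp only [hEi, ← mul_assoc, hE2, one_mul]; rw [mul_assoc, hE2, mul_one]))
    fun f => ⟨fun e => (hE f0 f (by
      rw [pow_two, ← mul_assoc, ← hE2 f]
      exact congrArg (· * f.1) (by simpa [hEi] using congrArg Subtype.val e))).symm, fun e => Subtype.ext (by simp [e])⟩
  have h3 := hfix (α := G ⧸ H) (z • ·) (1 : G) (fun x => by rw [← mul_smul, mul_self_of_orderOf_two hz, one_smul])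
    fun x => by
      induction x using QuotientGroup.induction_on with | H x =>
      rw [MulAction.Quotient.smul_mk, eq_comm, QuotientGroup.eq, QuotientGroup.eq, smul_eq_mul, ← mul_assoc, h0,
        mul_one, inv_mem_iff]
  have h4 : Nat.card E = (C₁⟦z⟧).relIndex H := Nat.card_eq_of_bijective
    (fun f => ((⟨f.1 * g, f.2.2⟩ : H) : H ⧸ (C₁⟦z⟧).subgroupOf H)) ⟨fun f f' e => hinj f f' (by
      have := mem_centralizer_singleton_iff.mp (show (f.1 * g)⁻¹ * (f'.1 * g) ∈ C₁⟦z⟧ from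
        mem_subgroupOf.mp (QuotientGroup.eq.mp e))
      calc _ = f.1 * g * (z * ((f.1 * g)⁻¹ * (f'.1 * g))) * (f'.1 * g)⁻¹ := by group
        _ = _ := by rw [← this]; group), fun x => by
      induction x using QuotientGroup.induction_on with | H x =>
      obtain ⟨f, e, -⟩ := hmid x x.2
      refine ⟨f, QuotientGroup.eq.mpr (mem_subgroupOf.mpr (show (f.1 * g)⁻¹ * x ∈ C₁⟦z⟧ from
        mem_centralizer_singleton_iff.mpr ?_))⟩
      calc _ = (f.1 * g)⁻¹ * ((x : G) * z * (x : G)⁻¹) * x := by group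
        _ = _ := by rw [← e]; group⟩
  obtain ⟨T, hT, h5⟩ := exists_sylowOf_ge (p := 2) (P := zpowers z) (H := C₁⟦z⟧)
    (IsPGroup.of_card (n := 1) (by rw [Nat.card_zpowers, hz, pow_one])) (zpowers_le.mpr (mem_centralizer_singleton_iff.mpr rfl))
  obtain ⟨P, rfl⟩ := ((hT.sylow_trans_not_dvd (fun c hc => (h0 c).mp (by
    rwa [mul_assoc, ← mem_centralizer_singleton_iff.mp hc, inv_mul_cancel_left])) (h4 ▸ h2)).sylow_trans_not_dvd
      le_top (by rwa [relIndex_top_right])).exists_sylow_top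
  exact ⟨P, ⟨z, h5 (mem_zpowers z)⟩, mem_center_iff.mpr fun x => Subtype.ext
    (mem_centralizer_singleton_iff.mp (hT.le x.2)), rfl⟩

end Cfsg.Agent.S1922
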