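import Cfsg.Statements.S1930
import Cfsg.Agent.H25.QB4
import Cfsg.Agent.S1265

set_option autoImplicit false
open Cfsg

namespace Cfsg.Agent.S1930

open Subgroup Cfsg.Agent.H20 Cfsg.Agent.H21 Cfsg.Agent.H25.QB

/-- Inside a finite group let G be a nontrivial subgroup and R an r-subgroup (r a prime) normalizing G, with the order of G prime to r. Let p > 3 be a prime with F*(G) = O_p(G), and let P be the intersection of all R-invariant Sylow p-subgroups of G. Then P has a nontrivial characteristic subgroup that is normalized by G. -/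
theorem result {X : Type*} [Group X] [Finite X] (G R : Subgroup X) (r : ℕ) [Fact r.Prime] (hR : IsPGroup r ↥R) (hcop : (Nat.card ↥G).Coprime r) (hnorm : R ≤ Subgroup.normalizer (G : Set X)) (hG : G ≠ ⊥) (p : ℕ) [Fact p.Prime] (hp : 3 < p) (hF : Cfsg.generalizedFittingSubgroup ↥G = Cfsg.pCore p ↥G) (P : Subgroup X) (hP : P = ⨅ S : {S : Sylow p ↥G // ∀ a ∈ R, ((S : Subgroup ↥G).map G.subtype).map (MulAut.conj a).toMonoidHom = (S : Subgroup ↥G).map G.subtype}, ((S : Sylow p ↥G) : Subgroup ↥G).map G.subtype) : ∃ C : Subgroup ↥P, C.Characteristic ∧ C ≠ ⊥ ∧ G ≤ Subgroup.normalizer ((C.map P.subtype : Subgroup X) : Set X) := by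
  have hc : (♯G).Coprime (♯R) := (coprime_of_isPGroup hR hcop).symm
  have hs : SolOr R G := Or.inl (sol_of_pgroup hR)
  have mP : ∀ x, x ∈ P ↔ ∀ S, SylowOf p S G → R ≤ N⟦S⟧ → x ∈ S := fun x => by
    rw [hP, mem_iInf]
    constructor
    · intro h S h1 h2
      obtain ⟨S, rfl⟩ := h1.exists_sylow
      exact h ⟨S, fun a ha => cj_eq_of_mem_norm (h2 ha)⟩
    · exact fun h S => h _ (sylowOf_map_subtype S.1) fun a ha => mem_norm_iff_cj.2 (S.2 a ha)
  obtain ⟨S, s1, s2⟩ := exists_inv_sylow p hnorm hc hs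
  have hPS : P ≤ S := fun x hx => (mP x).1 hx S s1 s2
  have hPp : IsPGroup p P := s1.isPGroup.to_le hPS
  have nP : ∀ y ∈ N⟦G⟧, y ∈ N⟦R⟧ → y ∈ N⟦P⟧ := fun y h1 h2 => mem_norm_of_forall fun x hx =>
    (mP _).2 fun S h3 h4 => by
      have := (mP x).1 hx (cj y⁻¹ S) (h3.cj_of_mem_norm (inv_mem h1)) (by
        have := norm_cj y⁻¹ h4
        rwa [cj_eq_of_mem_norm (inv_mem h2)] at this)
      rwa [mem_cj, inv_inv] at this
  have hT : piCoreOf {p} G ≤ P := fun x hx => (mP x).2 fun S h1 _ =>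
    h1.pgroup_le_of_norm (isPGroup_piCoreOf p G) (piCoreOf_le _ _)
      (Or.inr (norm_piCoreOf _ (norm_of_le h1.le))) hx
  have hC : G ⊓ C⟦piCoreOf {p} G⟧ ≤ piCoreOf {p} G := fun x hx => by
    rw [← map_pCore, ← hF] at hx ⊢
    exact ⟨⟨x, hx.1⟩, S1265.result fun y hy => Subtype.ext (hx.2 y ⟨y, hy, rfl⟩), rfl⟩
  have hP1 : P ≠ ⊥ := fun e => hG (by
    have e1 : piCoreOf {p} G = ⊥ := le_bot_iff.1 (hT.trans e.le)
    rw [e1, cent_bot, inf_top_eq] at hC
    exact le_bot_iff.1 hC)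
  have := (nontrivial_iff_ne_bot P).2 hP1
  refine ⟨kInfLower P, characteristic_iff_map_eq.2 fun φ => L0.isCharPFunctor_kInfLower.2 _ _ hPp φ,
    L0.isCharPFunctor_kInfLower.1 _ hPp this, le_normalizer.trans (kinf_norm hp hnorm hc hs (hPS.trans s1.le) hPp
      (fun y hy => nP y (hnorm hy) (le_normalizer hy))
      (fun y hy => nP y (le_normalizer hy.1) (cent_le_norm R hy.2)) hT hC)⟩

end Cfsg.Agent.S1930
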