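import Cfsg.Statements.S1936
import Cfsg.Agent.S3188
import Cfsg.Agent.H12.PSL2Dih
import Cfsg.Agent.H2.Basic
import Cfsg.Agent.H4.Burnside
import Cfsg.Agent.H21.Base2
import Cfsg.Agent.H1.Cores
import Cfsg.Agent.FT

set_option autoImplicit false
open Cfsg

namespace Cfsg.Agent.S1936

open Subgroup Cfsg.Agent.H20 Cfsg.Agent.H21

universe u

def Ab (p : ℕ) (G : Type*) [Group G] : Prop := ∀ H : Subgroup G, (Nat.card H).Coprime p → IsMulCommutative H

theorem Ab.sub {p : ℕ} {G G' : Type*} [Group G] [Group G'] (h : Ab p G) {f : G' →* G} (hf : Function.Injective f) :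
    Ab p G' := fun H hH =>
  have := h (H.map f) (by rwa [card_map_of_injective hf])
  ⟨⟨fun a b => (H.equivMapOfInjective f hf).injective (by rw [map_mul, map_mul, mul_comm'])⟩⟩

theorem Ab.quot {p q : ℕ} [Fact p.Prime] [Fact q.Prime] {G : Type*} [Group G] [Finite G] (h : Ab p G) {M : Subgroup G}
    [M.Normal] (hM : IsPGroup q M) : Ab p (G ⧸ M) := fun H hH => by
  have h1 : M ≤ H.comap (QuotientGroup.mk' M) := (QuotientGroup.ker_mk' M).ge.trans (ker_le_comap _ _)
  have h2 : M.relIndex (H.comap (QuotientGroup.mk' M)) = Nat.card H := by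
    have := relIndex_ker (H.comap (QuotientGroup.mk' M)) (QuotientGroup.mk' M)
    rwa [QuotientGroup.ker_mk', map_comap_eq_self_of_surjective (QuotientGroup.mk'_surjective M)] at this
  suffices h3 : ∃ E : Subgroup G, (Nat.card E).Coprime p ∧ E.map (QuotientGroup.mk' M) = H by
    obtain ⟨E, h3, rfl⟩ := h3
    have := h E h3
    infer_instance
  by_cases e : q = p
  · obtain ⟨E, hE⟩ := exists_compl_of_coprime ⟨h1, le_normalizer_of_normal⟩ (h2 ▸ coprime_of_isPGroup hM (e ▸ hH))
    refine ⟨E, by rwa [← hE.relIndex_left, h2], ?_⟩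
    rw [← map_comap_eq_self_of_surjective (QuotientGroup.mk'_surjective M) H, ← hE.sup_eq, Subgroup.map_sup,
      QuotientGroup.map_mk'_self, bot_sup_eq]
  · exact ⟨_, by
      rw [← card_mul_relIndex h1, h2]
      exact (coprime_of_isPGroup hM ((Nat.coprime_primes Fact.out Fact.out).mpr (Ne.symm e))).mul_left hH,
      map_comap_eq_self_of_surjective (QuotientGroup.mk'_surjective M) H⟩

theorem Ab.solv {p : ℕ} [hp : Fact p.Prime] (h5 : 5 ≤ p) (G : Type u) [Group G] [Finite G] :
    Ab p G → Group.IsSolvable G := by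
  refine H2.card_induction (P := fun G _ _ => Ab p G → Group.IsSolvable G) (fun G _ _ ih h => ?_) G
  by_contra hG
  have h1 : ∀ H : Subgroup G, H ≠ ⊤ → Group.IsSolvable H := fun H hH =>
    ih H (card_lt (lt_top_iff_ne_top.mpr hH) |>.trans_eq card_top) (h.sub H.subtype_injective)
  have h2 : ∀ N : Subgroup G, N.Normal → Group.IsSolvable N → N = ⊥ := fun N hN hs => by
    by_contra h0
    obtain ⟨M, hM, h3⟩ := H2.exists_isMinNormal_le hN h0
    have := Group.isSolvable_of_isSolvable_injective (inclusion_injective h3)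
    obtain ⟨-, q, hq, h4⟩ := hM.exists_isPGroup this
    haveI := Fact.mk hq
    haveI := hM.normal
    have := ih (G ⧸ M) (by
      rw [← M.card_mul_index]
      exact lt_mul_left (Nat.pos_of_ne_zero index_ne_zero_of_finite) (one_lt_card_iff_ne_bot M |>.mpr hM.ne_bot))
      (h.quot h4)
    exact hG (Group.isSolvable_of_ker_le_range M.subtype (QuotientGroup.mk' M) (by simp))
  haveI : Fact (Nat.Prime 2) := ⟨Nat.prime_two⟩
  obtain ⟨S⟩ : Nonempty (Sylow 2 G) := inferInstance
  obtain ⟨F, _, _, hF, N, -, ⟨e⟩, -⟩ := (S3188.result S (h S (coprime_of_isPGroup S.isPGroup'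
    ((Nat.coprime_primes hp.out Nat.prime_two).mpr (by omega)))) fun t ht => h1 _ fun e => by
      have h3 : t ∈ center G := mem_center_iff.mpr fun g => mem_centralizer_singleton_iff.mp (e.ge (mem_top g))
      rw [h2 (center G) inferInstance (Group.isSolvable_of_comm mul_comm'), mem_bot] at h3
      simp [h3] at ht).resolve_left hG
  have h3 : oddCore G = ⊥ := h2 _ inferInstance (FT.solvable_of_odd
    (Nat.coprime_two_right.mp (H1.coprime_card_pPrimeCore 2 G)))
  have h4 : Ab p (Matrix.ProjectiveSpecialLinearGroup (Fin 2) F) :=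
    ((h.sub (f := ((QuotientGroup.quotientMulEquivOfEq h3).trans QuotientGroup.quotientBot).toMonoidHom)
      (MulEquiv.injective _)).sub N.subtype_injective).sub (f := e.symm.toMonoidHom) e.symm.injective
  have h6 : ∀ n, n = Fintype.card F - 1 ∨ n = Fintype.card F + 1 → ¬ p ∣ n →
      3 ≤ n / Nat.gcd 2 (Fintype.card F - 1) → False := fun n hn h6 h7 => by
    obtain ⟨H, a, s, hH, ha⟩ := H12.exists_dihedralPair hn (h7.trans (Nat.div_le_self _ _))
    have := h4 H (by
      rw [hH.card, ha]
      exact ((Nat.coprime_primes Nat.prime_two hp.out).mpr (by omega)).mul_left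
        ((hp.out.coprime_iff_not_dvd.mpr fun e => h6 (e.trans (Nat.div_dvd_of_dvd (by
          rcases hn with rfl | rfl
          · exact Nat.gcd_dvd_right _ _
          · rw [show Fintype.card F + 1 = Fintype.card F - 1 + 2 by have := Fintype.card_pos (α := F); omega]
            exact dvd_add (Nat.gcd_dvd_right _ _) (Nat.gcd_dvd_left _ _))))).symm))
    have h8 : s * a = a * s := congrArg Subtype.val (mul_comm' (⟨s, hH.right_mem⟩ : H) ⟨a, hH.left_mem⟩)
    have h9 := hH.2.2.1
    rw [h8, mul_inv_cancel_right, eq_inv_iff_mul_eq_one, ← sq] at h9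
    have := Nat.le_of_dvd two_pos (orderOf_dvd_of_pow_eq_one h9)
    omega
  have h7 : (Nat.gcd 2 (Fintype.card F - 1) = 2 ∧ 5 ≤ Fintype.card F ∧ Fintype.card F % 2 = 1) ∨
      (Nat.gcd 2 (Fintype.card F - 1) = 1 ∧ 4 ≤ Fintype.card F) := by
    rcases hF with h | ⟨n, hn, e⟩
    · exact .inl ⟨Nat.gcd_eq_left (by omega), h.2, by omega⟩
    · obtain ⟨m, rfl⟩ := Nat.exists_eq_add_of_le hn
      have := Nat.two_pow_pos m
      rw [pow_add] at e
      exact .inr ⟨Nat.prime_two.coprime_iff_not_dvd.mpr (by omega), by omega⟩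
  by_cases h8 : p ∣ Fintype.card F + 1
  · refine h6 _ (.inl rfl) (fun e => ?_) ?_
    · have := Nat.le_of_dvd two_pos ((Nat.dvd_add_right e).mp (by
        rwa [show Fintype.card F - 1 + 2 = Fintype.card F + 1 by omega]))
      omega
    · rcases h7 with ⟨e, h7⟩ | ⟨e, h7⟩ <;> rw [e]
      · have : Fintype.card F ≠ 5 := fun e => by
          rw [e] at h8
          have := Nat.le_of_dvd (by omega) h8
          have := hp.out
          clear hp ih
          interval_cases p <;> simp_all (config := {decide := true})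
        omega
      · omega
  · exact h6 _ (.inr rfl) h8 (by rcases h7 with ⟨e, h7⟩ | ⟨e, h7⟩ <;> rw [e] <;> omega)

/-- Let p be a prime and G a finite group in which every subgroup of order prime to p is abelian of exponent dividing p − 1. Then G is solvable. -/
theorem result {G : Type*} [Group G] [Finite G] (p : ℕ) [Fact p.Prime] (h : ∀ H : Subgroup G, (Nat.card ↥H).Coprime p → IsMulCommutative ↥H ∧ ∀ x ∈ H, x ^ (p - 1) = 1) : Group.IsSolvable G := by
  have hp : p.Prime := Fact.out
  by_cases h5 : 5 ≤ p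
  · exact Ab.solv h5 G fun H hH => (h H hH).1
  refine H4.isSolvable_of_forall_prime_dvd hp Nat.prime_two fun r hr hd => or_iff_not_imp_left.mpr fun e => ?_
  haveI := Fact.mk hr
  obtain ⟨x, hx⟩ := exists_prime_orderOf_dvd_card' r hd
  have h1 := hx ▸ orderOf_dvd_of_pow_eq_one ((h (zpowers x) (by
    rw [Nat.card_zpowers, hx]; exact (Nat.coprime_primes hr hp).mpr e)).2 x (mem_zpowers x))
  have := hp.two_le
  have := hr.two_le
  have := Nat.le_of_dvd (by omega) h1
  have : p ≠ 4 := fun e => absurd (e ▸ hp) (by decide)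
  omega

end Cfsg.Agent.S1936
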