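import Cfsg.Statements.S1999
import Cfsg.Agent.H4.SF9

set_option autoImplicit false
open Cfsg

namespace Cfsg.Agent.S1999

open Cfsg.Agent.H4

open Subgroup Cfsg.Agent.H4S Cfsg.Agent.L0

theorem im (X : Type*) [Group X] : ((fun W => inducedFunctor (G := X) W) '' {H23.LF.zF, jF 2}) =
    {fun P : Subgroup X => P ⊓ centralizer (P : Set X), fun P => thompsonSubgroupOf 2 P} := by
  rw [Set.image_pair]
  congr 1
  · exact funext fun _ => H23.LF.ind_zF
  · exact congrArg _ (funext fun _ => ind_jF 2 _)


/-- Let G be a finite group. The symmetric group of degree 4 is not involved in G if and only if, in every section K/R of G, the pair of conjugacy functors {Z, J_e} controls strong fusion (for the prime 2): here Z(P) is the centre and J_e(P) the subgroup generated by the elementary abelian subgroups of P of largest order, and control by the pair means that 2-fusion of tuples inside a Sylow 2-subgroup T of the section is generated, staying inside T, by conjugation inside N(Z(T)) and N(J_e(T)). -/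
theorem result {G : Type*} [Group G] [Finite G] : ¬ Cfsg.Involves (Equiv.Perm (Fin 4)) G ↔ ∀ (K R : Subgroup G) [hR : (R.subgroupOf K).Normal], Cfsg.FamilyControlsStrongFusionIn 2 ({fun P : Subgroup (↥K ⧸ R.subgroupOf K) => P ⊓ Subgroup.centralizer ((P : Subgroup (↥K ⧸ R.subgroupOf K)) : Set (↥K ⧸ R.subgroupOf K)), fun P : Subgroup (↥K ⧸ R.subgroupOf K) => Cfsg.thompsonSubgroupOf 2 P} : Set (Subgroup (↥K ⧸ R.subgroupOf K) → Subgroup (↥K ⧸ R.subgroupOf K))) ⊤ := by
  constructor
  · intro h K R _
    rw [← im]
    exact fam_zj fun e => h (H9.involves_trans e (Sec.kr K R).involves)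
  · rintro h ⟨K, R, _, ⟨e⟩⟩
    obtain ⟨f⟩ := S2761.result
    refine not_fam_qd (e.trans f.symm) (𝓦 := {H23.LF.zF, jF 2}) ?_ (by rw [im]; exact h K R)
    rintro _ (rfl | rfl)
    exacts [H23.LF.isCharPFunctor_zF, isCharPFunctor_jF dvd_rfl]

end Cfsg.Agent.S1999
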