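import Cfsg.Statements.S2000
import Cfsg.Agent.H4.SF9

set_option autoImplicit false
universe u
open Cfsg

namespace Cfsg.Agent.S2000

open Cfsg.Agent.H4

open Subgroup Cfsg.Agent.H4S Cfsg.Agent.L0


/-- Let p be a prime and G a finite group. Then Qd(p) (the natural semidirect product of an elementary abelian group of order p² by SL₂(p)) is not involved in G if and only if there is a set 𝓦 of isomorphism-invariant p-group functors (each nontrivial on nontrivial finite p-groups and carried onto W(R) by every isomorphism from a finite p-group Q onto R, hence with characteristic values on finite p-groups) whose induced conjugacy functors control strong fusion in every section of G. -/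
theorem result {G : Type u} [Group G] [Finite G] {p : ℕ} [Fact p.Prime] : ¬ Cfsg.Involves ↥(Cfsg.qd p) G ↔ ∃ 𝓦 : Set (∀ (Q : Type u) [Group Q], Subgroup Q), (∀ W ∈ 𝓦, Cfsg.IsCharPFunctor.{u} p W) ∧ ∀ (K R : Subgroup G) [hR : (R.subgroupOf K).Normal], Cfsg.FamilyControlsStrongFusionIn p ((fun W => Cfsg.inducedFunctor (G := (↥K ⧸ R.subgroupOf K)) W) '' 𝓦) ⊤ := by
  constructor
  · intro h
    by_cases hp : p = 2
    · subst hp
      obtain ⟨f⟩ := S2761.result
      refine ⟨{H23.LF.zF, jF 2}, ?_, fun K R _ => fam_zj fun e => h (H9.involves_trans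
        (Sec.of_equiv f.symm).involves (H9.involves_trans e (Sec.kr K R).involves))⟩
      rintro _ (rfl | rfl)
      exacts [H23.LF.isCharPFunctor_zF, isCharPFunctor_jF dvd_rfl]
    · have hW : ∀ W ∈ ({zjF 0} : Set (∀ (Q : Type u) [Group Q], Subgroup Q)), IsCharPFunctor p W := by
        simpa using isCharPFunctor_zjF (dvd_zero p)
      refine ⟨_, hW, fun K R _ => (famSF_char_iff hW).2 fun T hT => ?_⟩
      rw [charSys_singleton, ind_zjF]
      exact zj_sf hp (dvd_zero p)
        (fun Y _ hY => pStable_sec_of_qdFree hp h (hY.trans (Sec.kr K R))) hT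
  · rintro ⟨𝓦, h1, h2⟩ ⟨K, R, _, ⟨e⟩⟩
    exact not_fam_qd e h1 (h2 K R)

end Cfsg.Agent.S2000
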