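import Cfsg.Statements.S2149
import Cfsg.Agent.H21.U35
import Cfsg.Agent.H26.A8Sub
import Cfsg.Agent.H26.AutP
import Cfsg.Agent.S2366
import Cfsg.Agent.S0283
import Cfsg.Agent.H12.Transport

set_option autoImplicit false
open Cfsg

namespace Cfsg.Agent.S2149

open MulAction Subgroup H16 LL
open scoped Pointwise

theorem sylN {G : Type*} [Group G] [Finite G] (Q : Subgroup G) (hQ : Nat.card Q = 7)
    (h : ¬ 49 ∣ Nat.card G) : ∃ m, m % 7 = 1 ∧ m * Nat.card (normalizer (Q : Set G)) = Nat.card G := by
  have := Fact.mk (show Nat.Prime 7 by norm_num)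
  have h1 := (Nat.Prime.dvd_iff_one_le_factorization (p := 7) (by norm_num) Nat.card_pos.ne').1
    (hQ ▸ card_subgroup_dvd_card Q)
  have h2 := mt (Nat.Prime.pow_dvd_iff_le_factorization (p := 7) (k := 2) (by norm_num)
    (Nat.card_pos (α := G)).ne').2 h
  have hP : Nat.card Q = 7 ^ (Nat.card G).factorization 7 := by
    rw [hQ, show (Nat.card G).factorization 7 = 1 by omega]; rfl
  exact ⟨_, card_sylow_modEq_one 7 G, by
    rw [(Sylow.ofCard Q hP).card_eq_index_normalizer]; exact index_mul_card _⟩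

theorem norm7 {G : Type*} [Group G] [Finite G] (hc : Nat.card G = 126000)
    (hs : ∀ (g : G) (r : ℕ), r.Prime → orderOf g ≠ 7 * r) (Q : Subgroup G)
    (hQ : Nat.card Q = 7) : Nat.card (normalizer (Q : Set G)) ∣ 21 := by
  have := Fact.mk (show Nat.Prime 7 by norm_num)
  have : IsCyclic Q := isCyclic_of_prime_card hQ
  obtain ⟨x, hx⟩ := exists_prime_orderOf_dvd_card' (G := Q) 7 hQ.symm.dvd
  rw [← Subgroup.orderOf_coe] at hx
  obtain ⟨k, hk⟩ : ∃ k, Nat.card (centralizer (Q : Set G)) = 7 ^ k :=
    ⟨_, Nat.eq_prime_pow_of_unique_prime_dvd Nat.card_pos.ne' fun {r} hr hd => by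
      by_contra hne
      have := Fact.mk hr
      obtain ⟨y, hy⟩ := exists_prime_orderOf_dvd_card' r hd
      rw [← Subgroup.orderOf_coe] at hy
      refine hs (x * y) r hr ?_
      rw [Commute.orderOf_mul_eq_mul_orderOf_of_coprime (y.2 x x.2)
        (by rw [hx, hy]; exact (Nat.coprime_primes (by norm_num) hr).2 (Ne.symm hne)), hx, hy]⟩
  have h1 : Nat.card (centralizer (Q : Set G)) ∣ 7 := by
    have := card_subgroup_dvd_card (centralizer (Q : Set G))
    rw [hk, hc] at this
    exact hk ▸ (Nat.Coprime.pow_left k (show Nat.Coprime 7 18000 by norm_num)).dvd_of_dvd_mul_left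
      (this : _ ∣ 18000 * 7)
  have h2 := card_mul_index Q.normalizerMonoidHom.ker
  have h3 : Q.normalizerMonoidHom.ker.index ∣ 6 := by
    rw [index_ker]
    have := card_subgroup_dvd_card Q.normalizerMonoidHom.range
    rwa [IsCyclic.card_mulAut, hQ] at this
  have h4 : Nat.card Q.normalizerMonoidHom.ker ∣ 7 := by
    rw [normalizerMonoidHom_ker, Nat.card_congr
      (subgroupOfEquivOfLe (centralizer_le_normalizer _)).toEquiv]
    exact h1
  have h5 : Nat.card (normalizer (Q : Set G)) ∣ 7 * 6 := h2 ▸ Nat.mul_dvd_mul h4 h3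
  obtain ⟨m, h6, h7⟩ := sylN Q hQ (by rw [hc]; norm_num)
  rw [hc] at h7
  generalize Nat.card (normalizer (Q : Set G)) = d at *
  have := Nat.le_of_dvd (by norm_num) h5
  interval_cases d <;> omega

theorem abs {G X : Type*} [Group G] [Finite G] [IsSimpleGroup G] [MulAction G X] [Finite X]
    (hc : Nat.card G = 126000) (hX : Nat.card X = 126)
    (hs : ∀ (g : G) (r : ℕ), r.Prime → orderOf g ≠ 7 * r) [IsPretransitive G X]
    (hfix : ∀ g : G, orderOf g = 5 → ∀ x y : X, g • x = x → g • y = y → x = y)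
    (H : Subgroup G) (hH : H ≠ ⊤) : 50 ≤ H.index := by
  by_contra! hn
  have := Fact.mk (show Nat.Prime 7 by norm_num)
  have := Fact.mk Nat.prime_five
  have e := H.index_mul_card
  rw [hc] at e
  have h15 : 15 ≤ H.index := by
    by_contra! h
    obtain ⟨f, hf⟩ := S0991.result (fun h => by
      let : CommGroup G := { ‹Group G› with mul_comm := h.is_comm.comm }
      have := (IsSimpleGroup.prime_card (α := G)); rw [hc] at this; norm_num at this) H hH
    have h1 := card_dvd_of_injective ((alternatingGroup _).subtype.comp f)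
      ((subtype_injective _).comp hf)
    rw [Nat.card_perm, Nat.card_fin, hc] at h1
    exact absurd (h1.trans (Nat.factorial_dvd_factorial (n := 14) (by omega))) (by decide)
  have key : H.index ∣ 1000 := by
    by_cases h25 : 5 ^ 2 ∣ Nat.card H
    · obtain ⟨Q, hQ⟩ := Sylow.exists_subgroup_card_pow_prime 5 h25
      have hp := IsPGroup.of_card hQ
      obtain ⟨w, hw⟩ := hp.nonempty_fixed_point_of_prime_not_dvd_card X (by rw [hX]; norm_num)
      let S : SubMulAction Q X :=
        { carrier := orbit H w \ {w}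
          smul_mem' := fun g y hy => ⟨mem_orbit_of_mem_orbit (g : H) hy.1, fun h => hy.2
            (smul_left_cancel g (h.trans (hw g).symm))⟩ }
      have h1 := H26.card_dvd_of_free (G := Q) (X := S) fun y g h => by
        by_contra hg
        obtain ⟨k, hk⟩ := hp.exists_orderOf_eq_pow g
        have h5 : 5 ∣ orderOf g := hk ▸ dvd_pow_self 5 (by
          rintro rfl; exact hg (orderOf_eq_one_iff.1 hk))
        refine y.2.2 (hfix (g ^ (orderOf g / 5) : Q) ?_ _ _ ?_ (hw _))
        · rw [Subgroup.orderOf_coe, Subgroup.orderOf_coe]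
          exact orderOf_pow_orderOf_div (orderOf_pos g).ne' h5
        · exact congrArg Subtype.val ((stabilizer Q y).pow_mem h _)
      have h2 : Nat.card S + 1 = (orbit H w).ncard :=
        Set.ncard_diff_singleton_add_one (mem_orbit_self w)
      have h3 := card_eq_orbit_mul H w
      have h4 : (orbit H w).ncard ≤ 126 := hX ▸ Set.ncard_le_card _
      have h6 := card_dvd_of_le (inf_le_right : H ⊓ stabilizer G w ≤ _)
      have h7 := (stabilizer G w).index_mul_card
      rw [index_stabilizer_of_transitive, hX, hc] at h7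
      rw [show Nat.card (stabilizer G w) = 1000 by omega] at h6
      have h8 := Nat.le_of_dvd (by norm_num) h6
      rw [hQ] at h1
      rw [h3] at e
      generalize Nat.card (H ⊓ stabilizer G w : Subgroup G) = s at e h8
      have h9 : (orbit H w).ncard ∣ 126000 := ⟨H.index * s, by rw [← e]; ring⟩
      obtain ⟨k, hk⟩ := h1
      rw [← h2, hk] at e h4 h9
      have : k ≤ 5 := by omega
      interval_cases k
      · nlinarith
      all_goals first | omega | exact ⟨s, by nlinarith⟩
    · have h1 : 5 ^ 2 ∣ H.index := by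
        have h3 : 5 ^ (1 + 1 + 1) ∣ H.index * Nat.card H := by rw [e]; norm_num
        by_contra h2
        have : ¬ 5 ∣ Nat.card H ∨ ¬ 5 ∣ H.index ∨ (5 ∣ Nat.card H ∧ 5 ∣ H.index) := by tauto
        rcases this with h | h | ⟨⟨a, ha⟩, ⟨b, hb⟩⟩
        · exact h2 ((pow_dvd_pow 5 (by norm_num)).trans ((Nat.Coprime.pow_left _
            ((Nat.Prime.coprime_iff_not_dvd Nat.prime_five).2 h)).dvd_of_dvd_mul_right h3))
        · exact h25 ((pow_dvd_pow 5 (by norm_num)).trans ((Nat.Coprime.pow_left _
            ((Nat.Prime.coprime_iff_not_dvd Nat.prime_five).2 h)).dvd_of_dvd_mul_left h3))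
        · rw [ha, hb, show 5 * b * (5 * a) = 25 * (a * b) by ring] at h3
          rcases (Nat.prime_five.dvd_mul).1 (show 5 ∣ a * b by omega) with h | h <;> omega
      rw [show H.index = 25 by omega]; norm_num
  have h1 : Nat.card H = 6300 ∨ Nat.card H = 5040 ∨ Nat.card H = 3150 := by
    generalize H.index = n at *
    interval_cases n <;> omega
  obtain ⟨Q, hQ⟩ := Sylow.exists_subgroup_card_pow_prime 7 (n := 1) (G := H) (by omega)
  obtain ⟨m, h2, h3⟩ := sylN Q hQ (by omega)
  have h4 := (card_dvd_of_le (le_normalizer_map (H := Q) H.subtype)).trans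
    (norm7 hc hs _ ((card_map_of_injective H.subtype_injective).trans hQ))
  rw [card_map_of_injective H.subtype_injective] at h4
  generalize Nat.card (normalizer (Q : Set H)) = d at *
  have := Nat.le_of_dvd (by norm_num) h4
  interval_cases d <;> omega

theorem orb126 : orbit KU35 (ptU35 0) = ptSet ptU35 126 (orbF (get 7) 126 gU35 0) :=
  packU35.1.orbit_eq (fun _ _ _ _ h => h) (by norm_num) (by decide +kernel) (by decide +kernel)

theorem ncard126 : (orbit KU35 (ptU35 0)).ncard = 126 := by
  rw [orb126, ncard_ptSet injU35, ← pcN_eq_of_lt (by decide +kernel)]; decide +kernel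

theorem two : TwoTrans KU35 (ptU35 0) :=
  twoTrans_of_orbF injU35 (F := get 7) (S := sU35.tail) (b := 1) (by norm_num) (by norm_num)
    (fun p hp => (packU35.2.1.1 p (List.mem_of_mem_tail hp)).stab (by norm_num)
      (by revert p; decide +kernel)) orb126.le (by decide +kernel) (by decide +kernel)

theorem gen3 : Gen pt3 276 9 KU35 ((mU35.zip pU35).map Prod.snd) :=
  ⟨repsU35.inK inMU35, fun K' hK' h => packU35.1.2 K' hK'
    (inK_obj objU35 (PQ := pU35.zip gU35) h (by decide +kernel))⟩

theorem ncard50 : (orbit KU35 (pt3 0)).ncard = 50 := by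
  rw [gen3.orbit_eq (fun _ _ _ _ h => h) (by norm_num) (by decide +kernel) (by decide +kernel),
    ncard_ptSet inj3, ← pcN_eq_of_lt (by decide +kernel)]; decide +kernel

theorem fix5 {G Ω : Type*} [Group G] [MulAction G Ω] {K : Subgroup G} (hc : Nat.card K = 126000)
    {a : Ω} (ho : (orbit K a).ncard = 126) (h2 : TwoTrans K a) (g : K) (hg : orderOf g = 5)
    (x y : orbit K a) (hx : g • x = x) (hy : g • y = y) : x = y := by
  by_contra hne
  obtain ⟨_, u, rfl⟩ := x
  obtain ⟨_, v, rfl⟩ := y
  have hx' : g • u • a = u • a := congrArg Subtype.val hx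
  have hy' : g • v • a = v • a := congrArg Subtype.val hy
  have hb : (u⁻¹ * v) • a ≠ a := fun h => hne (Subtype.ext (by
    rw [mul_smul, inv_smul_eq_iff] at h; exact h.symm))
  have h1 := card_eq_orbit_mul K a
  have h3 := card_eq_orbit_mul (K ⊓ stabilizer G a) ((u⁻¹ * v) • a)
  have h4 : orbit (K ⊓ stabilizer G a : Subgroup G) ((u⁻¹ * v) • a) = orbit K a \ {a} := by
    ext z
    constructor
    · rintro ⟨m, rfl⟩
      exact ⟨⟨⟨m, m.2.1⟩ * (u⁻¹ * v), mul_smul _ _ _⟩, fun h => hb
        (smul_left_cancel (m : G) (h.trans m.2.2.symm))⟩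
    · rintro ⟨⟨z, rfl⟩, hz⟩
      obtain ⟨m, hm, e⟩ := h2 _ (u⁻¹ * v).2 _ z.2 hb hz
      exact ⟨⟨m, hm⟩, e⟩
  rw [h4, Set.ncard_diff_singleton_of_mem (mem_orbit_self a), ho] at h3
  rw [ho, hc] at h1
  have h5 : ((u⁻¹ * g * u : K) : G) ∈ K ⊓ stabilizer G a ⊓ stabilizer G ((u⁻¹ * v) • a) := by
    refine ⟨⟨(u⁻¹ * g * u).2, ?_⟩, ?_⟩
    · show (u⁻¹ * g * u) • a = a
      rw [mul_smul, mul_smul, hx', inv_smul_smul]
    · show (u⁻¹ * g * u) • (u⁻¹ * v) • a = _
      rw [mul_smul, mul_smul, mul_smul, smul_inv_smul, hy']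
  have h6 := orderOf_dvd_natCard (⟨_, h5⟩ : (K ⊓ stabilizer G a ⊓ stabilizer G ((u⁻¹ * v) • a) :
    Subgroup G))
  rw [orderOf_mk, Subgroup.orderOf_coe, show u⁻¹ * g * u = MulAut.conj u⁻¹ g by simp,
    MulEquiv.orderOf_eq, hg] at h6
  omega

/-- Minimal index of a proper subgroup of PSU₃(5), realised over the field with 25 elements: every proper subgroup has index at least 50, and that index is attained. -/
theorem result {F : Type*} [Field F] [Fintype F] (hF : Fintype.card F = 25) : (∀ H : Subgroup (Cfsg.PSU 3 F 5), H ≠ ⊤ → 50 ≤ H.index) ∧ (∃ H : Subgroup (Cfsg.PSU 3 F 5), H.index = 50) := by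
  obtain ⟨σ⟩ := H12.nonempty_ringEquiv_of_natCard_eq (F := FQ 5 2) (K := F)
    (by rw [Nat.card_eq_fintype_card, Nat.card_eq_fintype_card, hF, card_FQ 5 2]; rfl)
  let e : KU35 ≃* PSU 3 F 5 := equivU35.some.trans (H12.psuCongr 3 5 σ)
  have hi : ∀ H : Subgroup (PSU 3 F 5), (H.comap e.toMonoidHom).index = H.index :=
    fun H => index_comap_of_surjective H e.surjective
  have : Finite KU35 := Nat.finite_of_card_ne_zero (by rw [card_KU35]; norm_num)
  have : IsSimpleGroup (PSU 3 F 5) := S0283.result (q := 5) hF 3 le_rfl (by norm_num)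
  have : IsSimpleGroup KU35 := e.isSimpleGroup
  have : CharP F 5 := charP_of_card_eq_prime_pow (f := 2) hF
  refine ⟨fun H hH => ?_, (stabilizer KU35 (pt3 0)).map e.toMonoidHom, ?_⟩
  · have : Finite (orbit KU35 (ptU35 0)) := Set.finite_of_ncard_ne_zero (by rw [ncard126]; norm_num)
    rw [← hi]
    refine abs (X := orbit KU35 (ptU35 0)) card_KU35 ncard126 (fun g r hr h => ?_)
      (fix5 card_KU35 ncard126 two) _ fun h => hH ?_
    · have h1 := (S2366.result 5 (by norm_num) 5 hF).le ⟨e g, e.orderOf_eq g⟩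
      have h2 := hr.two_le
      rw [h] at h1
      rcases h1 with ((h1 | h1) | h1) | h1 <;> have := Nat.le_of_dvd (by norm_num) h1 <;>
        norm_num at this <;> omega
    · rw [← map_comap_eq_self_of_surjective (f := e.toMonoidHom) e.surjective H, h,
        map_top_of_surjective _ e.surjective]
  · rw [← hi, comap_map_eq_self_of_injective (f := e.toMonoidHom) e.injective, index_stabilizer, ncard50]

end Cfsg.Agent.S2149
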