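import Cfsg.Statements.S2174
import Cfsg.Agent.H14.Inv2

set_option autoImplicit false
open Cfsg

namespace Cfsg.Agent.S2174

/-- Conjugacy classes of involutions in the Chevalley group of type F₄ over a finite field F of characteristic two (the matrix group generated by the root elements x_r(t)). In this problem's root numbering for type F₄ (the Chevalley data module; fundamental roots p₁, p₂ short and p₃, p₄ long; roots indexed by their coefficient vectors in increasing order) let r = 47 be the highest root (2,4,3,2), s = 44 the highest short root (2,3,2,1), and α = 39 = (1,2,2,1), β = 45 = (2,4,2,1), an orthogonal short/long pair; consider the four elements x_r(1), x_s(1), x_r(1)x_s(1), x_α(1)x_β(1). Then: each invertible matrix equal to one of these four products lies in the group and has order 2; every element of order 2 of the group is conjugate in the group to one of them; and no two of them are conjugate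 in the group (so, the four matrices being distinct, the group has exactly four conjugacy classes of involutions). -/
theorem result {F : Type*} [Field F] [Fintype F] [CharP F 2] :
    (∀ y : GL Cfsg.Lie.chevF4.Idx F, ((y : GL Cfsg.Lie.chevF4.Idx F) : Matrix Cfsg.Lie.chevF4.Idx Cfsg.Lie.chevF4.Idx F) ∈ [Cfsg.Lie.chevF4.x F 47 1, Cfsg.Lie.chevF4.x F 44 1, Cfsg.Lie.chevF4.x F 47 1 * Cfsg.Lie.chevF4.x F 44 1, Cfsg.Lie.chevF4.x F 39 1 * Cfsg.Lie.chevF4.x F 45 1] → y ∈ Cfsg.Lie.chevF4.group F ∧ orderOf y = 2) ∧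
    (∀ g ∈ Cfsg.Lie.chevF4.group F, orderOf g = 2 → ∃ y ∈ Cfsg.Lie.chevF4.group F, ((y : GL Cfsg.Lie.chevF4.Idx F) : Matrix Cfsg.Lie.chevF4.Idx Cfsg.Lie.chevF4.Idx F) ∈ [Cfsg.Lie.chevF4.x F 47 1, Cfsg.Lie.chevF4.x F 44 1, Cfsg.Lie.chevF4.x F 47 1 * Cfsg.Lie.chevF4.x F 44 1, Cfsg.Lie.chevF4.x F 39 1 * Cfsg.Lie.chevF4.x F 45 1] ∧ ∃ h ∈ Cfsg.Lie.chevF4.group F, h * g * h⁻¹ = y) ∧
    (∀ y₁ ∈ Cfsg.Lie.chevF4.group F, ∀ y₂ ∈ Cfsg.Lie.chevF4.group F, ((y₁ : GL Cfsg.Lie.chevF4.Idx F) : Matrix Cfsg.Lie.chevF4.Idx Cfsg.Lie.chevF4.Idx F) ∈ [Cfsg.Lie.chevF4.x F 47 1, Cfsg.Lie.chevF4.x F 44 1, Cfsg.Lie.chevF4.x F 47 1 * Cfsg.Lie.chevF4.x F 44 1, Cfsg.Lie.chevF4.x F 39 1 * Cfsg.Lie.chevF4.x F 45 1] → ((y₂ : GL Cfsg.Lie.chevF4.Idx F) : Matrix Cfsg.Lie.chevF4.Idx Cfsg.Lie.chevF4.Idx F) ∈ [Cfsg.Lie.chevF4.x F 47 1, Cfsg.Lie.chevF4.x F 44 1, Cfsg.Lie.chevF4.x F 47 1 * Cfsg.Lie.chevF4.x F 44 1, Cfsg.Lie.chevF4.x F 39 1 * Cfsg.Lie.chevF4.x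 F 45 1] →
      (∃ h ∈ Cfsg.Lie.chevF4.group F, h * y₁ * h⁻¹ = y₂) → ((y₁ : GL Cfsg.Lie.chevF4.Idx F) : Matrix Cfsg.Lie.chevF4.Idx Cfsg.Lie.chevF4.Idx F) = ((y₂ : GL Cfsg.Lie.chevF4.Idx F) : Matrix Cfsg.Lie.chevF4.Idx Cfsg.Lie.chevF4.Idx F)) := by
  have h := H14.not_isConj_gw (F := F) H14.goodF4 H14.bridgeF4 (θ := 47) (s := 44) (k := 47) (by decide +kernel)
  exact H14.invol_stmt H14.goodF4 (H14.invol_classes (F := F) H14.goodF4 H14.bridgeF4 (by decide) (H14.hcom_of_chk _ H14.bridgeF4 (by decide +kernel))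
    [([47], 16), ([44], 16), ([47, 44], 21), ([39, 45], 24)]
    [([25, 30, 41, 47], [34, 13, 34, 22, 9], [25, 30, 29, 44]), ([27, 28, 41, 47], [26, 21, 26, 42, 5, 42], [25, 30, 29, 44]),
      ([33, 25, 37, 47], [29, 18, 29, 36, 11, 36], [25, 30, 29, 44]), ([27, 24, 32, 44], [24, 23, 24, 25, 22, 25], [25, 30, 29, 44]),
      ([25, 30, 29, 44], [22, 20], [27, 28, 29, 44]), ([27, 28, 29, 44], [42, 5, 42, 42, 25, 4], [30, 29, 44]),
      ([30, 41, 47], [33, 14, 33, 17, 11], [30, 29, 44]), ([28, 41, 47], [34, 13, 34], [25, 37, 47]),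
      ([33, 37, 47], [29, 18, 29, 36, 11, 36], [30, 29, 44]), ([25, 37, 47], [34, 13, 34, 25, 22, 25, 24, 23, 24], [24, 32, 44]),
      ([27, 32, 44], [26, 21, 26], [30, 29, 44]), ([24, 32, 44], [23, 19], [28, 29, 44]),
      ([30, 29, 44], [26, 21, 26, 36, 14, 6], [32, 44]), ([28, 29, 44], [41, 6, 41, 41, 24, 5], [32, 44]), ([41, 47], [18], [47, 44]),
      ([37, 47], [26, 21, 26], [39, 45]), ([32, 44], [34, 13, 34], [39, 45]), ([29, 44], [6], [47, 44]), ([47], [], [47]),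
      ([44], [], [44]), ([], [], [])]
    (by decide +kernel) (by decide +kernel) (by decide +kernel) (by simp [h, isConj_comm.not.1 h, -isConj_iff])) (by simp [mul_assoc])

end Cfsg.Agent.S2174
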