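import Cfsg.Statements.S2176
import Cfsg.Agent.H14.Inv2

set_option autoImplicit false
open Cfsg

namespace Cfsg.Agent.S2176

/-- Conjugacy classes of involutions in the Chevalley group of type E₈ over a finite field F of characteristic two (the matrix group generated by the root elements x_r(t)). In this problem's root numbering for type E₈ (the Chevalley data module; fundamental roots numbered so that p₁–p₃–p₄–p₅–p₆–p₇–p₈ is the long chain of the diagram and p₂ is joined to p₄; roots indexed by their coefficient vectors in increasing order) let r = 239 be the highest root (2,3,4,6,5,4,3,2), α = 232 = (2,2,4,5,4,3,2,1), β = 233 = (2,3,3,5,4,3,2,1), γ = 228 = (2,2,3,4,3,2,2,1), δ = 222 = (1,2,3,4,3,3,2,1), ε = 218 = (1,2,2,4,4,3,2,1), φ = 226 = (2,2,3,4,3,2,1,0), ψ = 220 = (1,2,3,4,3,2,1,1), θ = 213 = (1,2,2,3,3,3,2,1), ω = 216 = (1,2,2,4,3,2,2,1) (the roots within each of {α, β}, {γ, δ, ε}, {φ, ψ, θ, ω} pairwise orthogonal);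 consider x_r(1), x_α(1)x_β(1), x_γ(1)x_δ(1)x_ε(1) and x_φ(1)x_ψ(1)x_θ(1)x_ω(1). Then: each invertible matrix equal to one of these four products lies in the group and has order 2; every element of order 2 of the group is conjugate in the group to one of them; and no two of them are conjugate in the group (so, the four matrices being distinct, the group has exactly four conjugacy classes of involutions). -/
theorem result {F : Type*} [Field F] [Fintype F] [CharP F 2] :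
    (∀ y : GL Cfsg.Lie.chevE8.Idx F, ((y : GL Cfsg.Lie.chevE8.Idx F) : Matrix Cfsg.Lie.chevE8.Idx Cfsg.Lie.chevE8.Idx F) ∈ [Cfsg.Lie.chevE8.x F 239 1, Cfsg.Lie.chevE8.x F 232 1 * Cfsg.Lie.chevE8.x F 233 1, Cfsg.Lie.chevE8.x F 228 1 * Cfsg.Lie.chevE8.x F 222 1 * Cfsg.Lie.chevE8.x F 218 1, Cfsg.Lie.chevE8.x F 226 1 * Cfsg.Lie.chevE8.x F 220 1 * Cfsg.Lie.chevE8.x F 213 1 * Cfsg.Lie.chevE8.x F 216 1] → y ∈ Cfsg.Lie.chevE8.group F ∧ orderOf y = 2) ∧
    (∀ g ∈ Cfsg.Lie.chevE8.group F, orderOf g = 2 → ∃ y ∈ Cfsg.Lie.chevE8.group F, ((y : GL Cfsg.Lie.chevE8.Idx F) : Matrix Cfsg.Lie.chevE8.Idx Cfsg.Lie.chevE8.Idx F) ∈ [Cfsg.Lie.chevE8.x F 239 1, Cfsg.Lie.chevE8.x F 232 1 * Cfsg.Lie.chevE8.x F 233 1, Cfsg.Lie.chevE8.x F 228 1 * Cfsg.Lie.chevE8.x F 222 1 * Cfsg.Lie.chevE8.x F 218 1, Cfsg.Lie.chevE8.x F 226 1 * Cfsg.Lie.chevE8.x F 220 1 * Cfsg.Lie.chevE8.x F 213 1 * Cfsg.Lie.chevE8.x F 216 1] ∧ ∃ h ∈ Cfsg.Lie.chevE8.group F,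 h * g * h⁻¹ = y) ∧
    (∀ y₁ ∈ Cfsg.Lie.chevE8.group F, ∀ y₂ ∈ Cfsg.Lie.chevE8.group F, ((y₁ : GL Cfsg.Lie.chevE8.Idx F) : Matrix Cfsg.Lie.chevE8.Idx Cfsg.Lie.chevE8.Idx F) ∈ [Cfsg.Lie.chevE8.x F 239 1, Cfsg.Lie.chevE8.x F 232 1 * Cfsg.Lie.chevE8.x F 233 1, Cfsg.Lie.chevE8.x F 228 1 * Cfsg.Lie.chevE8.x F 222 1 * Cfsg.Lie.chevE8.x F 218 1, Cfsg.Lie.chevE8.x F 226 1 * Cfsg.Lie.chevE8.x F 220 1 * Cfsg.Lie.chevE8.x F 213 1 * Cfsg.Lie.chevE8.x F 216 1] → ((y₂ : GL Cfsg.Lie.chevE8.Idx F) : Matrix Cfsg.Lie.chevE8.Idx Cfsg.Lie.chevE8.Idx F) ∈ [Cfsg.Lie.chevE8.x F 239 1, Cfsg.Lie.chevE8.x F 232 1 * Cfsg.Lie.chevE8.x F 233 1, Cfsg.Lie.chevE8.x F 228 1 * Cfsg.Lie.chevE8.x F 222 1 * Cfsg.Lie.chevE8.x F 218 1, Cfsg.Lie.chevE8.x F 226 1 * Cfsg.Lie.chevE8.x F 220 1 * Cfsg.Lie.chevE8.x F 213 1 * Cfsg.Lie.chevE8.x F 216 1] →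
      (∃ h ∈ Cfsg.Lie.chevE8.group F, h * y₁ * h⁻¹ = y₂) → ((y₁ : GL Cfsg.Lie.chevE8.Idx F) : Matrix Cfsg.Lie.chevE8.Idx Cfsg.Lie.chevE8.Idx F) = ((y₂ : GL Cfsg.Lie.chevE8.Idx F) : Matrix Cfsg.Lie.chevE8.Idx Cfsg.Lie.chevE8.Idx F)) := by
  exact H14.invol_stmt H14.goodE8 (H14.invol_classes (F := F) H14.goodE8 H14.bridgeE8 (by decide) (fun _ _ h => (H14.goodE8.rgD F).commute_sl (H14.slE8 _) h.ge)
    [([239], 58), ([232, 233], 92), ([228, 222, 218], 110), ([226, 220, 213, 216], 120)]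
    [([141, 135, 126, 152, 121, 159, 226, 239], [35, 141, 152, 226, 35, 141, 152, 226], [141, 135, 126, 152, 159, 226, 239]),
      ([141, 135, 126, 152, 159, 226, 239], [32, 141, 159, 226, 32, 141, 159, 226], [141, 135, 152, 159, 226, 239]),
      ([141, 135, 152, 121, 159, 226, 239], [35, 141, 152, 226, 35, 141, 152, 226], [141, 135, 152, 159, 226, 239]),
      ([141, 126, 152, 121, 159, 226, 239], [35, 141, 152, 226, 35, 141, 152, 226], [141, 126, 152, 159, 226, 239]),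
      ([135, 126, 152, 121, 159, 226, 239], [19, 135, 152, 239, 19, 135, 152, 239], [135, 126, 152, 159, 226, 239]),
      ([141, 135, 152, 159, 226, 239], [6, 141, 226, 239, 6, 141, 226, 239], [141, 152, 159, 226, 239]),
      ([141, 126, 152, 159, 226, 239], [32, 141, 159, 226, 32, 141, 159, 226], [141, 152, 159, 226, 239]),
      ([135, 126, 152, 159, 226, 239], [17, 135, 159, 239, 17, 135, 159, 239], [135, 152, 159, 226, 239]),
      ([141, 152, 121, 159, 226, 239], [35, 141, 152, 226, 35, 141, 152, 226], [141, 152, 159, 226, 239]),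
      ([135, 152, 121, 159, 226, 239], [19, 135, 152, 239, 19, 135, 152, 239], [135, 152, 159, 226, 239]),
      ([126, 152, 121, 159, 226, 239], [83, 126, 152, 159, 83, 126, 152, 159], [126, 152, 159, 226, 239]),
      ([141, 152, 159, 226, 239], [15, 152, 159, 239, 15, 152, 159, 239], [152, 159, 226, 239]),
      ([135, 152, 159, 226, 239], [25, 152, 159, 226, 25, 152, 159, 226], [152, 159, 226, 239]),
      ([126, 152, 159, 226, 239], [4, 152, 226, 239, 4, 152, 226, 239], [152, 159, 226, 239]),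
      ([152, 121, 159, 226, 239], [2, 159, 226, 239, 2, 159, 226, 239], [152, 159, 226, 239]),
      ([152, 159, 226, 239], [133, 106, 133, 173, 66, 173], [226, 220, 213, 216]),
      ([121, 159, 226, 239], [2, 159, 226, 239, 2, 159, 226, 239], [159, 226, 239]),
      ([159, 226, 239], [122, 117, 122, 180, 59, 180], [228, 222, 218]), ([226, 239], [140, 99, 140], [232, 233]), ([239], [], [239]),
      ([], [], [])]
    (by decide +kernel) (by decide +kernel) (by decide +kernel) (by simp)) (by simp [mul_assoc])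

end Cfsg.Agent.S2176
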