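import Cfsg.Statements.S2212
import Cfsg.Agent.L0.PG4

set_option autoImplicit false
open Cfsg

namespace Cfsg.Agent.S2212

open Subgroup Cfsg.Agent.L0.PG


/-- Characterization of the three-dimensional projective unitary groups over finite fields of characteristic two by the centralizer of an involution. Let q = 2^n > 2 and let PGU₃(q) be the quotient of the full unitary group of a non-degenerate Hermitian form in three variables over the field with q² elements by its centre. Let G be a finite group of even order in which all involutions are conjugate, the centralizer of an involution is isomorphic to the centralizer of an involution in PGU₃(q), and a Sylow 2-subgroup is not normal. Then G ≅ PGU₃(q). -/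
theorem result {G : Type*} [Group G] [Finite G] {F : Type*} [Field F] [Fintype F] [CharP F 2] (q : ℕ) (hq : 2 < q) (hF : Fintype.card F = q ^ 2)
    (heven : Even (Nat.card G)) (hconj : ∀ s t : G, orderOf s = 2 → orderOf t = 2 → IsConj s t)
    (hC : ∀ (x : G) (y : (↥(Cfsg.GU 3 F q) ⧸ Subgroup.center ↥(Cfsg.GU 3 F q))), orderOf x = 2 → orderOf y = 2 →
      Nonempty (↥(Subgroup.centralizer ({x} : Set G)) ≃* ↥(Subgroup.centralizer ({y} : Set (↥(Cfsg.GU 3 F q) ⧸ Subgroup.center ↥(Cfsg.GU 3 F q))))))
    (hS : ∀ P : Sylow 2 G, ¬ (P : Subgroup G).Normal) :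
    Nonempty (G ≃* (↥(Cfsg.GU 3 F q) ⧸ Subgroup.center ↥(Cfsg.GU 3 F q))) := by
  obtain ⟨δ, y, x0, hδ, hinn, hy, hy2, hcs, hsq⟩ := pack hF hq
  have hG : ∀ x : G, orderOf x = 2 → CS q (centralizer ({x} : Set G)) := fun x hx =>
    hcs.of_equiv (hC x y hx hy2).some.symm
  obtain ⟨L, hL, hi, ⟨e⟩, hcj⟩ := exists_L hG hq heven hS hF
  have ci := conj_inj hF (H11.cj_frobq hF (even_q hF)) hq
  have hx0 : orderOf x0 = 2 := by
    rw [← orderOf_injective _ ci, ← hy, orderOf_injective _ hδ, hy2]
  let x : L := e.symm x0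
  have hx : orderOf x = 2 := by rw [← hx0]; exact e.symm.orderOf_eq x0
  have hx' : orderOf (x : G) = 2 := by rw [orderOf_coe, hx]
  let ψ : G →* MulAut (Cfsg.PSU 3 F q) := (MulAut.congr e).toMonoidHom.comp MulAut.conjNormal
  have hψ : ∀ (g : G) (l : L), ψ g (e l) = e (MulAut.conjNormal g l) := fun g l => by simp [ψ]
  have hψL : ∀ l : L, ψ l = MulAut.conj (e l) := fun l => by
    ext p
    obtain ⟨m, rfl⟩ := e.surjective p
    rw [hψ, MulAut.conj_apply, ← map_inv, ← map_mul, ← map_mul]
    rfl
  have hinj : Function.Injective ψ := by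
    rw [← MonoidHom.ker_eq_bot_iff]
    refine odd_normal hG hx' _ (hi.of_dvd_nat ?_)
    have hd : Function.Injective ((QuotientGroup.mk' L).comp ψ.ker.subtype) := by
      rw [injective_iff_map_eq_one]
      intro a ha
      have h1 : (a : G) ∈ L := (QuotientGroup.eq_one_iff _).1 ha
      have h2 : MulAut.conj (e ⟨a, h1⟩) = MulAut.conj 1 := by rw [← hψL, map_one]; exact a.2
      have h3 := congrArg Subtype.val (e.map_eq_one_iff.1 (ci h2))
      exact Subtype.ext h3
    exact card_dvd_of_injective _ hd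
  have hr : ∀ g, ψ g ∈ δ.range := fun g => by
    obtain ⟨l, hl⟩ := isConj_iff.1 (hcj (MulAut.conjNormal g x) x (by rw [MulEquiv.orderOf_eq, hx]) hx)
    have hc : (l * g : G) ∈ centralizer ({(x : G)} : Set G) := by
      rw [mem_centralizer_singleton_iff, ← mul_inv_eq_iff_eq_mul]
      have := congrArg Subtype.val hl
      simp only [Subgroup.coe_mul, MulAut.conjNormal_apply, Subgroup.coe_inv] at this
      conv_rhs => rw [← this]
      group
    have h1 := hsq (ψ (l * g)) fun u hu hux => by
      obtain ⟨m, rfl⟩ := e.surjective u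
      rw [hψ]
      congr 1
      have h2 : m * x = x * m := e.injective (by simpa [x] using hux)
      have h3 : m * m = 1 := e.injective (by simpa using hu)
      have h4 := mem_centralizer_singleton_iff.1
        (cent_le hG hx' (congrArg Subtype.val h3) (congrArg Subtype.val h2) hc)
      exact Subtype.ext (by rw [MulAut.conjNormal_apply, h4, mul_inv_cancel_right])
    have h2 : ψ (l * g) ^ L.index ∈ δ.range := by
      rw [← map_pow, show (l * g : G) ^ L.index = (⟨_, L.pow_index_mem (l * g)⟩ : L) from rfl, hψL]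
      exact hinn _
    obtain ⟨k, hk⟩ := hi
    rw [hk, pow_succ, pow_mul, pow_two, mul_mem_cancel_left (pow_mem h1 k), map_mul, hψL,
      mul_mem_cancel_left (hinn _)] at h2
    exact h2
  let φ : G →* AA F q := (MonoidHom.ofInjective hδ).symm.toMonoidHom.comp (ψ.codRestrict _ hr)
  have hφ : ∀ g, δ (φ g) = ψ g := fun g =>
    congrArg Subtype.val ((MonoidHom.ofInjective hδ).apply_symm_apply ⟨ψ g, hr g⟩)
  have hφi : Function.Injective φ := fun a b h => hinj (by rw [← hφ, h, hφ])
  have hφx : φ x = y := hδ (by rw [hφ, hψL, hy, e.apply_symm_apply])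
  let κ : centralizer ({(x : G)} : Set G) → centralizer ({y} : Set (AA F q)) := fun g =>
    ⟨φ g, mem_centralizer_singleton_iff.2 (by
      rw [← hφx, ← map_mul, ← map_mul, mem_centralizer_singleton_iff.1 g.2])⟩
  have hκ : Function.Surjective κ := by
    have : Finite (AA F q) := inferInstance
    exact ((Nat.bijective_iff_injective_and_card κ).2 ⟨fun a b h => Subtype.ext (hφi (congrArg Subtype.val h)),
      Nat.card_congr (hC x y hx' hy2).some.toEquiv⟩).2
  refine ⟨MulEquiv.ofBijective φ ⟨hφi, fun a => ?_⟩⟩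
  obtain ⟨l, hl⟩ := isConj_iff.1 (hcj (e.symm (δ a x0)) x
    (by rw [MulEquiv.orderOf_eq, MulEquiv.orderOf_eq, hx0]) hx)
  have h1 : δ (φ l * a) x0 = x0 := by
    rw [map_mul, hφ, hψL, MulAut.mul_apply, MulAut.conj_apply]
    simpa [x] using congrArg e hl
  have h2 : φ l * a ∈ centralizer ({y} : Set (AA F q)) := by
    rw [mem_centralizer_singleton_iff, ← hδ.eq_iff, map_mul δ _ y, map_mul δ y, hy, ← mul_inv_eq_iff_eq_mul]
    ext p
    conv_rhs => rw [← h1]
    simp only [MulAut.mul_apply, MulAut.conj_apply, map_mul _ _ (x0⁻¹), map_mul _ x0, map_inv,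
      MulAut.apply_inv_self]
  obtain ⟨g, hg⟩ := hκ ⟨_, h2⟩
  exact ⟨(l : G)⁻¹ * g, by rw [map_mul, map_inv, inv_mul_eq_iff_eq_mul]; exact congrArg Subtype.val hg⟩

end Cfsg.Agent.S2212
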