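import Cfsg.Statements.S2219
import Cfsg.Agent.L0.Ni6

set_option autoImplicit false
open Cfsg

namespace Cfsg.Agent.S2219

open Cfsg.Agent.L0.Ni


/-- Let G be a non-abelian finite simple group of order 9·2ᵃ·qᵇ for a prime q other than 2 and 3, having at least three conjugacy classes of nonidentity 3-elements (elements of order 3 or 9). Then G is isomorphic to PSL(2,8) or to PSL(2,17). -/
theorem result {G : Type*} [Group G] [Finite G] [IsSimpleGroup G] (hG : ¬ IsMulCommutative G)
    (q a b : ℕ) (hq : q.Prime) (hq2 : q ≠ 2) (hq3 : q ≠ 3) (hcard : Nat.card G = 9 * 2 ^ a * q ^ b)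
    (h3 : 3 ≤ Nat.card {C : ConjClasses G // ∃ g ∈ C.carrier, g ≠ 1 ∧ orderOf g ∣ 9}) :
    (∃ (F : Type) (_ : Field F) (_ : Fintype F), Fintype.card F = 8 ∧
        Nonempty (G ≃* Matrix.ProjectiveSpecialLinearGroup (Fin 2) F)) ∨
      Nonempty (G ≃* Matrix.ProjectiveSpecialLinearGroup (Fin 2) (ZMod 17)) := by
  have := Fintype.ofFinite G
  let P : Sylow 3 G := default
  have hP : Nat.card P = 9 := card_sylow (k := 2) (m := 2 ^ a * q ^ b) (by rw [hcard]; ring) (fun e =>
    ((Nat.Prime.dvd_mul Nat.prime_three).1 e).elim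
      (fun e => absurd (Nat.prime_three.dvd_of_dvd_pow e) (by norm_num))
      fun e => hq3 ((Nat.prime_dvd_prime_iff_eq Nat.prime_three hq).1 (Nat.prime_three.dvd_of_dvd_pow e)).symm) P
  obtain ⟨k, hk⟩ := exists_st hP h3
  exact hk.main hG hq hq2 hq3 hcard

end Cfsg.Agent.S2219
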