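import Cfsg.Statements.S2228
import Cfsg.Agent.J3T.M
import Cfsg.Agent.J3X.A
import Cfsg.Agent.J3X.B

set_option autoImplicit false
open Cfsg

namespace Cfsg.Agent.S2228

/-- Let G be a finite simple group in which all involutions are conjugate and the centralizer of an involution has a normal extraspecial subgroup of order 32 complemented by a subgroup isomorphic to the alternating group of degree 5 (a group of J₃-type). Then a Sylow 19-subgroup of G is self-centralizing with normalizer-quotient cyclic of order 9, and a Sylow 17-subgroup is self-centralizing with normalizer-quotient cyclic of order 8. -/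
theorem result {G : Type*} [Group G] [Finite G] [IsSimpleGroup G]
    (hone : ∀ x y : G, orderOf x = 2 → orderOf y = 2 → IsConj x y)
    (t : G) (ht : orderOf t = 2) (E A : Subgroup ↥(Subgroup.centralizer ({t} : Set G))) [E.Normal]
    (hE : Cfsg.IsExtraspecial 2 ↥E) (hE32 : Nat.card ↥E = 32) (hEA : E.IsComplement' A)
    (eA : ↥A ≃* ↥(alternatingGroup (Fin 5))) :
    (∀ X : Sylow 19 G, Subgroup.centralizer ((X : Subgroup G) : Set G) = X ∧
        ∃ h : ((X : Subgroup G).subgroupOf (Subgroup.normalizer ((X : Subgroup G) : Set G))).Normal,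
          IsCyclic (↥(Subgroup.normalizer ((X : Subgroup G) : Set G)) ⧸ (X : Subgroup G).subgroupOf _) ∧
          Nat.card (↥(Subgroup.normalizer ((X : Subgroup G) : Set G)) ⧸ (X : Subgroup G).subgroupOf _) = 9) ∧
    (∀ Y : Sylow 17 G, Subgroup.centralizer ((Y : Subgroup G) : Set G) = Y ∧
        ∃ h : ((Y : Subgroup G).subgroupOf (Subgroup.normalizer ((Y : Subgroup G) : Set G))).Normal,
          IsCyclic (↥(Subgroup.normalizer ((Y : Subgroup G) : Set G)) ⧸ (Y : Subgroup G).subgroupOf _) ∧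
          Nat.card (↥(Subgroup.normalizer ((Y : Subgroup G) : Set G)) ⧸ (Y : Subgroup G).subgroupOf _) = 8) := by
  have e := hEA.symm.QuotientMulEquiv.trans eA
  have h2c := J3X.h2c ht E hE32 hE e
  obtain ⟨f⟩ := J3T.main ht hE hE32 h2c e hone
  obtain ⟨Q, π, h, -, ker⟩ := J2T.jw_of ht hE hE32 h2c e
  refine J3X.syl ((Nat.card_congr f.toEquiv).symm.trans (H16.J3.card J3T.Mod.hh))
    (fun x hx => (J2T.card_Ce_conj (hone _ _ ht hx)).trans h.ch) (fun x hx => ?_) ?_
  · obtain ⟨g, hg⟩ := isConj_iff.1 (hone (x ^ 8) t (by rw [orderOf_pow, hx]; rfl) ht)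
    have a1 : orderOf (g * x * g⁻¹) = 16 := (J2T.orderOf_conj' g x).trans hx
    rw [← conj_pow] at hg
    generalize g * x * g⁻¹ = y at a1 hg
    have a2 : y ∈ J2T.Ce t := J2T.mem_Ce.2 (hg ▸ Commute.self_pow y 8)
    have a3 := h.sq_of_mem_z (h.sq _ ((ker (⟨y, a2⟩ * ⟨y, a2⟩)).1 (by
      rw [map_mul]
      refine (by decide +kernel : ∀ a : JR.A5, a ^ 16 = 1 → a * a = 1) _ ?_
      rw [← map_pow, ← π.map_one]
      exact congrArg π (Subtype.ext (a1 ▸ pow_orderOf_eq_one y)))))
    exact h.ne_one (by rw [← hg, ← a3]; simp only [pow_succ, pow_zero, one_mul, Subgroup.coe_mul, mul_assoc])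
  · obtain ⟨a, ha, r⟩ := (H16.J3.habc J3T.Mod.hh).head
    refine ⟨f ⟨a, ha⟩, ?_, f.surjective.forall.2 fun g e => ?_⟩
    · rw [MulEquiv.orderOf_eq, Subgroup.orderOf_mk]
      exact H16.Mdl.orderOf_prime (H16.J3.hv _) H16.J3.hpt r (by norm_num) (by decide +kernel)
    · rw [← map_mul, ← map_mul, f.apply_eq_iff_eq] at e
      obtain ⟨i, hi⟩ := H16.J3.selfc _ a r g g.2 (congrArg Subtype.val e)
      exact ⟨i, (map_zpow f _ i).symm.trans (congrArg f (Subtype.ext hi))⟩

end Cfsg.Agent.S2228
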