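import Cfsg.Statements.S2271
-- import your own Cfsg.Agent.* helpers here

set_option autoImplicit false
open Cfsg

namespace Cfsg.Agent.S2271

open Equiv

theorem abs4 (a b P : Fin 4 → Fin 4 → ℤ) (F0 : ℤ)
    (h : ∀ τ : Perm (Fin 4), Perm.sign τ = 1 →
      ∑ i, ∑ j, a i j * b (τ i) (τ j) + ∑ i, P i (τ i) = F0)
    (hA0 : 1 ≤ a 0 1 + a 1 0 + a 2 3 + a 3 2) (hA1 : a 0 2 + a 2 0 + a 1 3 + a 3 1 = 0)
    (hB0 : 1 ≤ b 0 1 + b 1 0 + b 2 3 + b 3 2)
    (hB1 : b 0 2 + b 2 0 + b 1 3 + b 3 1 = 0 ∨ b 0 3 + b 3 0 + b 1 2 + b 2 1 = 0) : False := by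
  have key : ∀ p q r s : Fin 4, ∀ τ : Perm (Fin 4), Perm.sign τ = 1 → τ 0 = p → τ 1 = q →
      τ 2 = r → τ 3 = s →
      a 0 0 * b p p + a 0 1 * b p q + a 0 2 * b p r + a 0 3 * b p s +
      (a 1 0 * b q p + a 1 1 * b q q + a 1 2 * b q r + a 1 3 * b q s) +
      (a 2 0 * b r p + a 2 1 * b r q + a 2 2 * b r r + a 2 3 * b r s) +
      (a 3 0 * b s p + a 3 1 * b s q + a 3 2 * b s r + a 3 3 * b s s) +
      (P 0 p + P 1 q + P 2 r + P 3 s) = F0 := by
    intro p q r s τ hτ h0 h1 h2 h3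
    have := h τ hτ
    simp only [Fin.sum_univ_four, h0, h1, h2, h3] at this
    exact this
  have e1 := key 0 1 2 3 1 (by decide) (by decide) (by decide) (by decide) (by decide)
  have e2 := key 1 0 3 2 (swap 0 1 * swap 2 3) (by decide) (by decide) (by decide) (by decide) (by decide)
  have e3 := key 2 3 0 1 (swap 0 2 * swap 1 3) (by decide) (by decide) (by decide) (by decide) (by decide)
  have e4 := key 3 2 1 0 (swap 0 3 * swap 1 2) (by decide) (by decide) (by decide) (by decide) (by decide)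
  have f1 := key 0 2 3 1 (swap 1 2 * swap 2 3) (by decide) (by decide) (by decide) (by decide) (by decide)
  have f2 := key 1 3 2 0 (swap 0 1 * swap 2 3 * (swap 1 2 * swap 2 3)) (by decide) (by decide) (by decide) (by decide) (by decide)
  have f3 := key 2 0 1 3 (swap 0 2 * swap 1 3 * (swap 1 2 * swap 2 3)) (by decide) (by decide) (by decide) (by decide) (by decide)
  have f4 := key 3 1 0 2 (swap 0 3 * swap 1 2 * (swap 1 2 * swap 2 3)) (by decide) (by decide) (by decide) (by decide) (by decide)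
  have g1 := key 0 3 1 2 (swap 2 3 * swap 1 2) (by decide) (by decide) (by decide) (by decide) (by decide)
  have g2 := key 1 2 0 3 (swap 0 1 * swap 2 3 * (swap 2 3 * swap 1 2)) (by decide) (by decide) (by decide) (by decide) (by decide)
  have g3 := key 2 1 3 0 (swap 0 2 * swap 1 3 * (swap 2 3 * swap 1 2)) (by decide) (by decide) (by decide) (by decide) (by decide)
  have g4 := key 3 0 2 1 (swap 0 3 * swap 1 2 * (swap 2 3 * swap 1 2)) (by decide) (by decide) (by decide) (by decide) (by decide)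
  set A0 := a 0 1 + a 1 0 + a 2 3 + a 3 2 with hA0'
  set A1 := a 0 2 + a 2 0 + a 1 3 + a 3 1 with hA1'
  set A2 := a 0 3 + a 3 0 + a 1 2 + a 2 1 with hA2'
  set B0 := b 0 1 + b 1 0 + b 2 3 + b 3 2 with hB0'
  set B1 := b 0 2 + b 2 0 + b 1 3 + b 3 1 with hB1'
  set B2 := b 0 3 + b 3 0 + b 1 2 + b 2 1 with hB2'
  have r1 : A0 * B0 + A1 * B1 + A2 * B2 = A0 * B1 + A1 * B2 + A2 * B0 := by
    rw [hA0', hA1', hA2', hB0', hB1', hB2']
    linear_combination e1 + e2 + e3 + e4 - f1 - f2 - f3 - f4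
  have r2 : A0 * B0 + A1 * B1 + A2 * B2 = A0 * B2 + A1 * B0 + A2 * B1 := by
    rw [hA0', hA1', hA2', hB0', hB1', hB2']
    linear_combination e1 + e2 + e3 + e4 - g1 - g2 - g3 - g4
  clear_value A0 A1 A2 B0 B1 B2
  clear e1 e2 e3 e4 f1 f2 f3 f4 g1 g2 g3 g4 key h
  subst hA1
  have hpos : 0 < A0 * A0 - A0 * A2 + A2 * A2 := by nlinarith [sq_nonneg (A0 - 2 * A2)]
  have z1 : (A0 * A0 - A0 * A2 + A2 * A2) * (B0 - B1) = 0 := by
    linear_combination (A0 - A2) * r1 + A2 * r2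
  have z2 : (A0 * A0 - A0 * A2 + A2 * A2) * (B0 - B2) = 0 := by
    linear_combination (-A2) * r1 + A0 * r2
  have y1 : B0 - B1 = 0 := (mul_eq_zero.1 z1).resolve_left hpos.ne'
  have y2 : B0 - B2 = 0 := (mul_eq_zero.1 z2).resolve_left hpos.ne'
  omega

theorem pick {n : ℕ} (hn : 5 ≤ n) (a : Perm (Fin n)) (ha : a ≠ 1) :
    ∃ e : Fin 4 → Fin n, Function.Injective e ∧ a (e 0) = e 1 ∧ a (e 2) ≠ e 0 ∧
      a (e 0) ≠ e 2 ∧ a (e 1) ≠ e 3 ∧ a (e 3) ≠ e 1 := by
  obtain ⟨x, hx⟩ : ∃ x, a x ≠ x := by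
    by_contra h
    push Not at h
    exact ha (Equiv.ext h)
  obtain ⟨z, -, hz⟩ := Finset.exists_mem_notMem_of_card_lt_card
    (s := ({x, a x, a⁻¹ x} : Finset (Fin n))) (t := Finset.univ)
    (lt_of_le_of_lt Finset.card_le_three (by simp; omega))
  obtain ⟨t, -, ht⟩ := Finset.exists_mem_notMem_of_card_lt_card
    (s := ({x, a x, z, a (a x)} : Finset (Fin n))) (t := Finset.univ)
    (lt_of_le_of_lt Finset.card_le_four (by simp; omega))
  simp only [Finset.mem_insert, Finset.mem_singleton, not_or] at hz ht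
  refine ⟨![x, a x, z, t], ?_, rfl, ?_, ?_, ?_, ?_⟩
  · intro i j hij
    fin_cases i <;> fin_cases j <;> simp at hij ⊢ <;> first
      | exact absurd hij.symm hx | exact absurd hij hx
      | exact absurd hij.symm hz.1 | exact absurd hij hz.1
      | exact absurd hij.symm hz.2.1 | exact absurd hij hz.2.1
      | exact absurd hij.symm ht.1 | exact absurd hij ht.1
      | exact absurd hij.symm ht.2.1 | exact absurd hij ht.2.1
      | exact absurd hij.symm ht.2.2.1 | exact absurd hij ht.2.2.1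
  · intro h
    apply hz.2.2
    change a z = x at h
    rw [← h]; simp
  · intro h
    exact hz.2.1 (show a x = z from h).symm
  · intro h
    exact ht.2.2.2 (show a (a x) = t from h).symm
  · intro h
    exact ht.1 (a.injective (show a t = a x from h))

theorem count {n : ℕ} (a b φ : Perm (Fin n)) :
    (Nat.card (Function.fixedPoints ⇑(φ * a * φ⁻¹ * b)) : ℤ) =
      ∑ u, ∑ v, (if a v = u then 1 else 0) * (if b (φ u) = φ v then 1 else 0) := by
  rw [Nat.card_eq_fintype_card, Fintype.card_subtype, Finset.card_filter]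
  push_cast
  rw [← Equiv.sum_comp φ]
  refine Finset.sum_congr rfl fun u _ => ?_
  rw [Finset.sum_eq_single (φ⁻¹ (b (φ u)))]
  · simp only [Function.mem_fixedPoints_iff, Perm.coe_mul, Function.comp_apply]
    by_cases h : a (φ⁻¹ (b (φ u))) = u
    · simp [h]
    · rw [if_neg h, if_neg (fun h' => h (φ.injective h'))]; simp
  · intro v _ hv
    rw [if_neg (show ¬ b (φ u) = φ v from fun h => hv (by rw [h]; simp))]; simp
  · simp

theorem split4 {n : ℕ} (e : Fin 4 ↪ Fin n) (f : Fin n → ℤ) :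
    ∑ u, f u = ∑ i, f (e i) + ∑ u ∈ (Finset.univ.map e)ᶜ, f u := by
  rw [← Finset.sum_add_sum_compl (Finset.univ.map e), Finset.sum_map]

theorem main {n : ℕ} (e : Fin 4 ↪ Fin n) (α β : Fin n → Fin n → ℤ) (τ : Perm (Fin 4)) :
    ∑ u, ∑ v, α u v * β (τ.viaFintypeEmbedding e u) (τ.viaFintypeEmbedding e v) =
      ∑ i, ∑ j, α (e i) (e j) * β (e (τ i)) (e (τ j)) +
        ∑ i, (∑ v ∈ (Finset.univ.map e)ᶜ, α (e i) v * β (e (τ i)) v +
          ∑ u ∈ (Finset.univ.map e)ᶜ, α u (e i) * β u (e (τ i))) +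
        ∑ u ∈ (Finset.univ.map e)ᶜ, ∑ v ∈ (Finset.univ.map e)ᶜ, α u v * β u v := by
  have h1 : ∀ i, τ.viaFintypeEmbedding e (e i) = e (τ i) := fun i =>
    Perm.viaFintypeEmbedding_apply_image τ e i
  have h2 : ∀ u ∈ (Finset.univ.map e)ᶜ, τ.viaFintypeEmbedding e u = u := by
    intro u hu
    refine Perm.viaFintypeEmbedding_apply_notMem_range τ e ?_
    rintro ⟨i, rfl⟩
    simp at hu
  rw [split4 e]
  have e1 : ∀ i, ∑ v, α (e i) v * β (τ.viaFintypeEmbedding e (e i)) (τ.viaFintypeEmbedding e v) =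
      ∑ j, α (e i) (e j) * β (e (τ i)) (e (τ j)) +
        ∑ v ∈ (Finset.univ.map e)ᶜ, α (e i) v * β (e (τ i)) v := by
    intro i
    rw [split4 e]
    simp only [h1]
    congr 1
    exact Finset.sum_congr rfl fun v hv => by rw [h2 v hv]
  have e2 : ∀ u ∈ (Finset.univ.map e)ᶜ,
      ∑ v, α u v * β (τ.viaFintypeEmbedding e u) (τ.viaFintypeEmbedding e v) =
      ∑ j, α u (e j) * β u (e (τ j)) + ∑ v ∈ (Finset.univ.map e)ᶜ, α u v * β u v := by
    intro u hu
    rw [split4 e, h2 u hu]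
    simp only [h1]
    congr 1
    exact Finset.sum_congr rfl fun v hv => by rw [h2 v hv]
  rw [Finset.sum_congr rfl fun i _ => e1 i, Finset.sum_congr rfl e2]
  simp only [Finset.sum_add_distrib]
  rw [Finset.sum_comm (s := (Finset.univ.map e)ᶜ) (t := Finset.univ)]
  ring


/-- Let n ≥ 5 and let a, b be non-identity permutations in the symmetric group S_n. Then the number of fixed points is not constant on the set of products a′b′ with a′ conjugate to a and b′ conjugate to b under the alternating group: there are even permutations g₁, h₁, g₂, h₂ such that (g₁ a g₁⁻¹)(h₁ b h₁⁻¹) and (g₂ a g₂⁻¹)(h₂ b h₂⁻¹) have different numbers of fixed points. -/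
theorem result (n : ℕ) (hn : 5 ≤ n) (a b : Equiv.Perm (Fin n)) (ha : a ≠ 1) (hb : b ≠ 1) :
    ∃ g₁ h₁ g₂ h₂ : Equiv.Perm (Fin n), g₁ ∈ alternatingGroup (Fin n) ∧ h₁ ∈ alternatingGroup (Fin n) ∧ g₂ ∈ alternatingGroup (Fin n) ∧ h₂ ∈ alternatingGroup (Fin n) ∧
      Nat.card (Function.fixedPoints ⇑(g₁ * a * g₁⁻¹ * (h₁ * b * h₁⁻¹))) ≠
        Nat.card (Function.fixedPoints ⇑(g₂ * a * g₂⁻¹ * (h₂ * b * h₂⁻¹))) := by
  classical
  by_contra hcon
  push Not at hcon
  obtain ⟨e, he, a1, a2, a3, a4, a5⟩ := pick hn a ha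
  obtain ⟨e', he', b1, b2, b3, b4, b5⟩ := pick hn b hb
  obtain ⟨g0, hg0⟩ := Perm.exists_extending_pair e' e he' he
  have ne01 : e 0 ≠ e 1 := fun h => absurd (he h) (by decide)
  have ne20 : e 2 ≠ e 0 := fun h => absurd (he h) (by decide)
  have ne21 : e 2 ≠ e 1 := fun h => absurd (he h) (by decide)
  have ne30 : e 3 ≠ e 0 := fun h => absurd (he h) (by decide)
  have ne31 : e 3 ≠ e 1 := fun h => absurd (he h) (by decide)
  have fin : ∀ g : Perm (Fin n), Perm.sign g = 1 →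
      ((g * b * g⁻¹) (e 0) = e 1 ∨ (g * b * g⁻¹) (e 1) = e 0) →
      (((g * b * g⁻¹) (e 0) ≠ e 2 ∧ (g * b * g⁻¹) (e 2) ≠ e 0 ∧ (g * b * g⁻¹) (e 1) ≠ e 3 ∧
        (g * b * g⁻¹) (e 3) ≠ e 1) ∨
       ((g * b * g⁻¹) (e 0) ≠ e 3 ∧ (g * b * g⁻¹) (e 3) ≠ e 0 ∧ (g * b * g⁻¹) (e 1) ≠ e 2 ∧
        (g * b * g⁻¹) (e 2) ≠ e 1)) → False := by
    intro g hg c1 c2
    set b' := g * b * g⁻¹ with hb'
    let E : Fin 4 ↪ Fin n := ⟨e, he⟩
    let α : Fin n → Fin n → ℤ := fun u v => if a v = u then 1 else 0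
    let β : Fin n → Fin n → ℤ := fun u v => if b' u = v then 1 else 0
    refine abs4 (fun i j => α (e i) (e j)) (fun i j => β (e i) (e j))
      (fun i k => ∑ v ∈ (Finset.univ.map E)ᶜ, α (e i) v * β (e k) v +
          ∑ u ∈ (Finset.univ.map E)ᶜ, α u (e i) * β u (e k))
      ((Nat.card (Function.fixedPoints ⇑(1 * a * 1⁻¹ * b')) : ℤ) -
        ∑ u ∈ (Finset.univ.map E)ᶜ, ∑ v ∈ (Finset.univ.map E)ᶜ, α u v * β u v) ?_ ?_ ?_ ?_ ?_
    · intro τ hτ
      have h1 := main E α β τ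
      have h2 := count a b' (τ.viaFintypeEmbedding E)
      have h3 := hcon (τ.viaFintypeEmbedding E) g 1 g
        (by rw [Perm.mem_alternatingGroup, Perm.viaFintypeEmbedding_sign, hτ])
        (Perm.mem_alternatingGroup.2 hg) (one_mem _) (Perm.mem_alternatingGroup.2 hg)
      rw [← hb'] at h3
      rw [← h3, h2, eq_sub_iff_add_eq]
      exact h1.symm
    · simp only [α, a1, if_true]
      split_ifs <;> omega
    · simp only [α, if_neg a2, if_neg a3, if_neg a4, if_neg a5]; rfl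
    · rcases c1 with c1 | c1
      · simp only [β, c1, if_true]
        split_ifs <;> omega
      · simp only [β, c1, if_true]
        split_ifs <;> omega
    · rcases c2 with ⟨d1, d2, d3, d4⟩ | ⟨d1, d2, d3, d4⟩
      · left
        simp only [β, if_neg d1, if_neg d2, if_neg d3, if_neg d4]; rfl
      · right
        simp only [β, if_neg d1, if_neg d2, if_neg d3, if_neg d4]; rfl
  have tr : ∀ (g : Perm (Fin n)) (u v u' v' : Fin n), g u' = u → g v' = v →
      ((g * b * g⁻¹) u = v ↔ b u' = v') := by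
    intro g u v u' v' h1 h2
    rw [← h1, ← h2]
    simp
  rcases Int.units_eq_one_or (Perm.sign g0) with hs | hs
  · refine fin g0 hs (Or.inl ((tr g0 _ _ _ _ (hg0 0) (hg0 1)).2 b1)) (Or.inl ⟨?_, ?_, ?_, ?_⟩)
    · exact fun h => b3 ((tr g0 _ _ _ _ (hg0 0) (hg0 2)).1 h)
    · exact fun h => b2 ((tr g0 _ _ _ _ (hg0 2) (hg0 0)).1 h)
    · exact fun h => b4 ((tr g0 _ _ _ _ (hg0 1) (hg0 3)).1 h)
    · exact fun h => b5 ((tr g0 _ _ _ _ (hg0 3) (hg0 1)).1 h)
  · set g := swap (e 0) (e 1) * g0 with hg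
    have k0 : g (e' 0) = e 1 := by simp [hg, hg0]
    have k1 : g (e' 1) = e 0 := by simp [hg, hg0]
    have k2 : g (e' 2) = e 2 := by
      simp only [hg, Perm.coe_mul, Function.comp_apply, hg0]
      exact swap_apply_of_ne_of_ne ne20 ne21
    have k3 : g (e' 3) = e 3 := by
      simp only [hg, Perm.coe_mul, Function.comp_apply, hg0]
      exact swap_apply_of_ne_of_ne ne30 ne31
    refine fin g (by rw [hg, Perm.sign_mul, Perm.sign_swap ne01, hs]; simp)
      (Or.inr ((tr g _ _ _ _ k0 k1).2 b1)) (Or.inr ⟨?_, ?_, ?_, ?_⟩)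
    · exact fun h => b4 ((tr g _ _ _ _ k1 k3).1 h)
    · exact fun h => b5 ((tr g _ _ _ _ k3 k1).1 h)
    · exact fun h => b3 ((tr g _ _ _ _ k0 k2).1 h)
    · exact fun h => b2 ((tr g _ _ _ _ k2 k0).1 h)

end Cfsg.Agent.S2271
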