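import Cfsg.Agent.H17.Fp3
import Cfsg.Statements.S2276
-- import your own Cfsg.Agent.* helpers here

set_option autoImplicit false
open Cfsg

namespace Cfsg.Agent.S2276

/-- Let n ≥ 5, p ≥ 3 a prime, and u, w non-identity elements of p-power order in the alternating group A_n. Then there is g ∈ A_n such that u·(g w g⁻¹) does not have p-power order and ⟨u, g w g⁻¹⟩ is not solvable. -/
theorem result (n : ℕ) (hn : 5 ≤ n) (p : ℕ) (hp : p.Prime) (hp3 : 3 ≤ p) (u w : alternatingGroup (Fin n)) (hu : u ≠ 1) (hw : w ≠ 1)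
    (hu' : ∃ k : ℕ, orderOf u = p ^ k) (hw' : ∃ k : ℕ, orderOf w = p ^ k) :
    ∃ g : alternatingGroup (Fin n), (¬ ∃ k : ℕ, orderOf (u * (g * w * g⁻¹)) = p ^ k) ∧
      ¬ Group.IsSolvable ↥(Subgroup.closure ({u, g * w * g⁻¹} : Set (alternatingGroup (Fin n)))) := by
  
  obtain ⟨a, ha⟩ := hu'
  obtain ⟨b, hb⟩ := hw'
  obtain ⟨a, rfl⟩ : ∃ c, a = c + 1 := Nat.exists_eq_succ_of_ne_zero (by
    rintro rfl; exact hu (orderOf_eq_one_iff.1 (by simpa using ha)))
  obtain ⟨b, rfl⟩ : ∃ c, b = c + 1 := Nat.exists_eq_succ_of_ne_zero (by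
    rintro rfl; exact hw (orderOf_eq_one_iff.1 (by simpa using hb)))
  obtain ⟨g, hg, ⟨x, l, hl, h1, h2⟩, h3⟩ := H17.Fp.main n hn p hp hp3 (u : Equiv.Perm (Fin n)) w a b
    (by rw [Subgroup.orderOf_coe, ha]) (by rw [Subgroup.orderOf_coe, hb]) 1
  refine ⟨⟨g, Equiv.Perm.mem_alternatingGroup.2 hg⟩, ?_, fun hs => h3 ?_⟩
  · rintro ⟨k, hk⟩
    refine h2 (H17.Fp.fix_of (c := k) _ ?_ hl x h1)
    have := pow_orderOf_eq_one (u * (⟨g, Equiv.Perm.mem_alternatingGroup.2 hg⟩ * w *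
      (⟨g, Equiv.Perm.mem_alternatingGroup.2 hg⟩ : alternatingGroup (Fin n))⁻¹))
    rw [hk] at this
    have h4 := congrArg (alternatingGroup (Fin n)).subtype this
    rw [map_pow, map_one, map_mul, map_mul, map_mul, map_inv] at h4
    exact h4
  · have h4 := H17.Fp.tr_surj (alternatingGroup (Fin n)).subtype _ _ hs
    rw [map_mul, map_mul, map_inv] at h4
    exact h4


end Cfsg.Agent.S2276
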