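import Cfsg.Statements.S2277
import Cfsg.Agent.H21.Base5
import Cfsg.Agent.H3.PGroup1

set_option autoImplicit false
open Cfsg

namespace Cfsg.Agent.S2277

open Subgroup Cfsg.Agent.H20 Cfsg.Agent.H21
open scoped commutatorElement

theorem quo_closure {G : Type*} [Group G] {M : Subgroup G} {s : Set G} (h : closure s ≤ N⟦M⟧) :
    closure (cos M '' s) = quo (closure s) M := by
  apply le_antisymm
  · rw [closure_le]
    rintro _ ⟨x, hx, rfl⟩
    exact cos_mem_quo (subset_closure hx)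
  · rw [quo_le_iff h, closure_le]
    intro x hx
    exact mem_cospre.mpr ⟨h (subset_closure hx), subset_closure ⟨x, hx, rfl⟩⟩

theorem fact {G : Type*} [Group G] [Finite G] {p : ℕ} [Fact p.Prime] {P N : Subgroup G}
    (hP : IsPGroup p P) (hN : (♯N).Coprime p) (hn : P ≤ N⟦N⟧) {c d : G} (hc : c ∈ P) (hd : d ∈ P)
    (h : ∀ x ∈ N, IsPGroup p ↥(closure ({x * c * x⁻¹, d} : Set G))) :
    ♯N ≤ ♯(N ⊓ C₁⟦d⟧) * ♯(N ⊓ C₁⟦c⟧) := by
  have hbot : P ⊓ N = ⊥ := inf_eq_bot_coprime (coprime_of_isPGroup hP hN)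
  have key : ∀ w ∈ N, ∀ a ∈ P, w * a * w⁻¹ ∈ P → w * a = a * w := by
    intro w hw a ha h1
    have : w * a * w⁻¹ * a⁻¹ ∈ P ⊓ N := mem_inf.mpr ⟨mul_mem h1 (inv_mem ha), by
      have := mul_mem hw (conj_mem_of_norm (hn ha) (inv_mem hw))
      simpa [mul_assoc] using this⟩
    rw [hbot, mem_bot] at this
    calc w * a = w * a * w⁻¹ * a⁻¹ * (a * w) := by group
      _ = _ := by rw [this, one_mul]
  have hs : Function.Surjective (fun t : ↥(N ⊓ C₁⟦d⟧) × ↥(N ⊓ C₁⟦c⟧) =>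
      (⟨t.1 * t.2, mul_mem t.1.2.1 t.2.2.1⟩ : N)) := by
    rintro ⟨x, hx⟩
    have hle : closure ({x * c * x⁻¹, d} : Set G) ≤ N ⊔ P := by
      rw [closure_le]
      rintro y (rfl | rfl)
      · exact mul_mem (mul_mem (mem_sup_left hx) (mem_sup_right hc)) (inv_mem (mem_sup_left hx))
      · exact mem_sup_right hd
    obtain ⟨n, hnN, h1⟩ := exists_le_cj_of_coprime (hle.trans (sup_le (le_norm_self _) hn)) hn
      (coprime_of_isPGroup (h x hx) hN) (Or.inl (sol_of_pgroup (h x hx))) hle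
    have h2 := mem_cj.mp (h1 (subset_closure (Or.inl rfl)))
    have h3 := mem_cj.mp (h1 (subset_closure (Or.inr rfl)))
    have h4 := key n⁻¹ (inv_mem hnN) d hd (by simpa using h3)
    have h5 := key (n⁻¹ * x) (mul_mem (inv_mem hnN) hx) c hc (by simpa [mul_assoc] using h2)
    refine ⟨(⟨n, mem_inf.mpr ⟨hnN, ?_⟩⟩, ⟨n⁻¹ * x, mem_inf.mpr ⟨mul_mem (inv_mem hnN) hx,
      mem_cent1.mpr h5⟩⟩), Subtype.ext (by simp)⟩
    simpa using inv_mem (mem_cent1.mpr h4)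
  have := Nat.card_le_card_of_surjective _ hs
  rwa [Nat.card_prod] at this

theorem bound {G : Type*} [Group G] [Finite G] {p : ℕ} [hp : Fact p.Prime] (hp3 : 3 ≤ p)
    {P N : Subgroup G} (hP : IsPGroup p P) (h1 : P ≠ ⊥) (hn : P ≤ N⟦N⟧) (hN : IsMulCommutative N)
    (hz : ∀ z ∈ P ⊓ C⟦P⟧, z ≠ 1 → N ⊓ C₁⟦z⟧ = ⊥) {C : Set G} (hC : closure C = P) :
    ∃ c ∈ C, ♯(N ⊓ C₁⟦c⟧) ^ 3 ≤ ♯N := by
  by_cases hab : P ≤ C⟦P⟧
  · obtain ⟨c, hc, hc1⟩ : ∃ c ∈ C, c ≠ 1 := by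
      by_contra h
      push Not at h
      exact h1 (hC ▸ (closure_eq_bot_iff).mpr h)
    have hcP : c ∈ P := hC ▸ subset_closure hc
    refine ⟨c, hc, ?_⟩
    rw [hz c (mem_inf.mpr ⟨hcP, hab hcP⟩) hc1, card_bot, one_pow]
    exact card_pos N
  obtain ⟨e, -, he, -, he2⟩ := H3.exists_central_mod hP (N := center P) (M := ⊤) (fun h => hab (by
    rw [le_cent_iff]
    intro a ha b hb
    exact congrArg Subtype.val (mem_center_iff.mp (h (mem_top (⟨b, hb⟩ : P))) ⟨a, ha⟩)))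
  obtain ⟨c, hc, hce⟩ : ∃ c ∈ C, c * e ≠ e * c := by
    by_contra h
    push Not at h
    apply he
    have : P ≤ C₁⟦(e : G)⟧ := by
      exact hC.ge.trans ((closure_le _).mpr fun c hc => mem_cent1.mpr (h c hc))
    rw [mem_center_iff]
    exact fun g => Subtype.ext (mem_cent1.mp (this g.2))
  have hcP : c ∈ P := hC ▸ subset_closure hc
  refine ⟨c, hc, ?_⟩
  obtain ⟨z, hzd⟩ : ∃ z, z = (e : G) * c * (e : G)⁻¹ * c⁻¹ := ⟨_, rfl⟩
  have hzZ : z ∈ P ⊓ C⟦P⟧ := by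
    rw [← map_center]
    refine ⟨_, inv_mem (he2 ⟨c, hcP⟩), ?_⟩
    simp [hzd, commutatorElement_def, mul_assoc]
  have hz1 : z ≠ 1 := fun h => hce (by
    calc c * e = ((e : G) * c * (e : G)⁻¹ * c⁻¹)⁻¹ * (e * c) := by group
      _ = _ := by rw [← hzd, h]; simp)
  have hz2 : z * z ≠ 1 := fun h => by
    obtain ⟨k, hk⟩ := hP ⟨z, hzZ.1⟩
    have a1 : orderOf z ∣ p ^ k := orderOf_dvd_of_pow_eq_one (congrArg Subtype.val hk)
    have a2 : orderOf z ∣ 2 := orderOf_dvd_of_pow_eq_one (by rwa [sq])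
    have a3 : Nat.Coprime (p ^ k) 2 := Nat.Coprime.pow_left k
      ((Nat.coprime_primes hp.out Nat.prime_two).mpr (by omega))
    exact hz1 (orderOf_eq_one_iff.mp (Nat.eq_one_of_dvd_coprimes a3 a1 a2))
  have hzc : z * c = c * z := (mem_cent.mp hzZ.2 c hcP).symm
  have hze : z * e = e * z := (mem_cent.mp hzZ.2 e e.2).symm
  have e1 : (e : G) * c * (e : G)⁻¹ = z * c := by rw [hzd]; group
  have e2 : (e : G) * (z * c) * (e : G)⁻¹ = z * (z * c) := by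
    rw [← mul_assoc, ← hze, mul_assoc z, mul_assoc z, e1]
  have c1 : ♯(N ⊓ C₁⟦z * c⟧) = ♯(N ⊓ C₁⟦c⟧) := by
    rw [← e1, ← cj_cent1, ← card_cj (e : G) (N ⊓ C₁⟦c⟧), cj_inf, cj_eq_of_mem_norm (hn e.2)]
  have c2 : ♯(N ⊓ C₁⟦z * (z * c)⟧) = ♯(N ⊓ C₁⟦c⟧) := by
    rw [← c1, ← e2, ← cj_cent1, ← card_cj (e : G) (N ⊓ C₁⟦z * c⟧), cj_inf, cj_eq_of_mem_norm (hn e.2)]
  have fz : ∀ w ∈ P ⊓ C⟦P⟧, w ≠ 1 → ∀ u ∈ N, u * w = w * u → u = 1 := fun w hw hw1 u hu h => by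
    have : u ∈ N ⊓ C₁⟦w⟧ := mem_inf.mpr ⟨hu, mem_cent1.mpr h⟩
    rwa [hz w hw hw1, mem_bot] at this
  have dis : ∀ a : G, ∀ u ∈ N, u * a = a * u → u * (z * a) = z * a * u → u = 1 := by
    intro a u hu h h'
    refine fz z hzZ hz1 u hu ?_
    rw [mul_assoc, ← h, ← mul_assoc, ← mul_assoc] at h'
    exact mul_right_cancel h'
  have d1 : (N ⊓ C₁⟦c⟧) ⊓ (N ⊓ C₁⟦z * c⟧) = ⊥ := by
    rw [eq_bot_iff]
    rintro u ⟨⟨hu, h⟩, -, h'⟩
    exact dis c u hu (mem_cent1.mp h) (mem_cent1.mp h')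
  have nn : ∀ {A B : Subgroup G}, A ≤ N → B ≤ N → A ≤ N⟦B⟧ := fun hA hB => le_norm_of_comm hN hA hB
  have zinv : ∀ a : G, z * a = a * z → ∀ u ∈ N ⊓ C₁⟦a⟧, z⁻¹ * u * z ∈ N ⊓ C₁⟦a⟧ := by
    intro a ha u hu
    refine mem_inf.mpr ⟨conj_mem_of_norm' (hn hzZ.1) hu.1, ?_⟩
    have hz' : z ∈ C₁⟦a⟧ := mem_cent1.mpr ha
    exact mul_mem (mul_mem (inv_mem hz') hu.2) hz'
  have d2 : ((N ⊓ C₁⟦c⟧) ⊔ (N ⊓ C₁⟦z * c⟧)) ⊓ (N ⊓ C₁⟦z * (z * c)⟧) = ⊥ := by
    rw [eq_bot_iff]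
    rintro u ⟨hu, -, h'⟩
    obtain ⟨a, ha, b, hb, rfl⟩ := (mem_sup_of_norm (nn inf_le_left inf_le_left)).mp hu
    have ha' := mem_cent1.mp ha.2
    have hb' := mem_cent1.mp hb.2
    have h'' := mem_cent1.mp h'
    have hzz : z * (z * c) = z * c * z := by rw [mul_assoc, hzc]
    have k1 := zinv c hzc _ (zinv c hzc a ha)
    have k2 := zinv _ hzz b hb
    have k3 := zinv _ hzz _ k2
    have k4 : (z⁻¹ * (z⁻¹ * a * z) * z)⁻¹ * a =
        z⁻¹ * (z⁻¹ * b * z) * z * (z⁻¹ * b * z)⁻¹ := by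
      have f1 : z⁻¹ * b * z = c * b * c⁻¹ := by
        calc z⁻¹ * b * z = z⁻¹ * (b * (z * c)) * c⁻¹ := by group
          _ = _ := by rw [hb']; group
      have f2 : z⁻¹ * (z⁻¹ * (a * b) * z) * z = c * (a * b) * c⁻¹ := by
        calc _ = z⁻¹ * z⁻¹ * (a * b * (z * (z * c))) * c⁻¹ := by group
          _ = _ := by rw [h'']; group
      have f3 : c * (a * b) * c⁻¹ = a * (z⁻¹ * b * z) := by
        rw [f1, ← mul_assoc c, ← ha']; group
      calc _ = (z⁻¹ * (z⁻¹ * a * z) * z)⁻¹ * (a * (z⁻¹ * b * z)) * (z⁻¹ * b * z)⁻¹ := by group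
        _ = _ := by rw [← f3, ← f2]; group
    have k5 : (z⁻¹ * (z⁻¹ * a * z) * z)⁻¹ * a ∈ (N ⊓ C₁⟦c⟧) ⊓ (N ⊓ C₁⟦z * c⟧) :=
      mem_inf.mpr ⟨mul_mem (inv_mem k1) ha, k4 ▸ mul_mem k3 (inv_mem k2)⟩
    rw [d1, mem_bot, inv_mul_eq_one] at k5
    have ha1 : a = 1 := fz (z * z) (mul_mem hzZ hzZ) hz2 a ha.1 (by
      calc a * (z * z) = z * z * (z⁻¹ * (z⁻¹ * a * z) * z) := by group
        _ = _ := by rw [k5])
    rw [ha1, one_mul] at h'' ⊢
    exact dis _ b hb.1 hb' h''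
  have t1 := card_sup_of_disjoint (Or.inl (nn inf_le_left inf_le_left)) d1
  have t2 := card_sup_of_disjoint (Or.inl (nn (sup_le inf_le_left inf_le_left) inf_le_left)) d2
  have t3 := card_le (sup_le (sup_le inf_le_left inf_le_left) inf_le_left :
    ((N ⊓ C₁⟦c⟧) ⊔ (N ⊓ C₁⟦z * c⟧)) ⊔ (N ⊓ C₁⟦z * (z * c)⟧) ≤ N)
  rw [t2, t1, c1, c2] at t3
  calc _ = _ := by ring
    _ ≤ _ := t3

universe u

theorem main {p : ℕ} [hp : Fact p.Prime] (hp3 : 3 ≤ p) (n : ℕ) :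
    ∀ {G : Type u} [Group G] [Finite G] {P N : Subgroup G} {C D : Set G}, ♯P + ♯N ≤ n →
      IsPGroup p P → (♯N).Coprime p → P ≤ N⟦N⟧ → closure C = P → closure D = P →
      (∀ x ∈ N, ∀ c ∈ C, ∀ d ∈ D, IsPGroup p ↥(closure ({x * c * x⁻¹, d} : Set G))) →
      P ≤ C⟦N⟧ := by
  induction n with
  | zero => intro G _ _ P N C D h; have := card_pos P; omega
  | succ n ih =>
    intro G _ _ P N C D hn hP hN hPN hC hD h
    have hcop : (♯N).Coprime (♯P) := (coprime_of_isPGroup hP hN).symm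
    have hsub : ∀ M < N, P ≤ N⟦M⟧ → P ≤ C⟦M⟧ := fun M hM hPM =>
      ih (by have := card_lt hM; omega) hP (coprime_of_le_left hN hM.le) hPM hC hD
        fun x hx => h x (hM.le hx)
    have hquo : ∀ M : Subgroup G, P ≤ N⟦M⟧ → N ≤ N⟦M⟧ → (M ⊓ P ≠ ⊥ ∨ M ⊓ N ≠ ⊥) → ⁅P, N⁆ ≤ M := by
      intro M h1 h2 h3
      rw [← quo_le_cent_iff h1 h2]
      refine ih (C := cos M '' C) (D := cos M '' D) ?_ (quo_isPGroup hP M) (coprime_quo hN M)
        (quo_norm M hPN) (by rw [quo_closure (hC ▸ h1), hC]) (by rw [quo_closure (hD ▸ h1), hD]) ?_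
      · have a1 := Nat.le_of_dvd (card_pos P) (card_quo_dvd P M)
        have a2 := Nat.le_of_dvd (card_pos N) (card_quo_dvd N M)
        rcases h3 with h3 | h3
        · have := card_quo_lt' h1 h3; omega
        · have := card_quo_lt' h2 h3; omega
      · rintro _ hx0 _ ⟨c, hc, rfl⟩ _ ⟨d, hd, rfl⟩
        obtain ⟨x, hx, hx', rfl⟩ := mem_quo.mp hx0
        have hc' : c ∈ N⟦M⟧ := h1 (hC ▸ subset_closure hc)
        have hd' : d ∈ N⟦M⟧ := h1 (hD ▸ subset_closure hd)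
        have := quo_isPGroup (h x hx c hc d hd) M
        rw [← quo_closure, Set.image_pair, cos_conj hx' hc'] at this
        · exact this
        · rw [closure_le]
          rintro y (rfl | rfl)
          exacts [mul_mem (mul_mem hx' hc') (inv_mem hx'), hd']
    by_cases h1 : ∃ M < N, M ≠ ⊥ ∧ P ≤ N⟦M⟧ ∧ N ≤ N⟦M⟧
    · obtain ⟨M, hM, hM1, h2, h3⟩ := h1
      refine coprime_cent_of_stable (coprime_of_le_left hcop hM.le) ?_ (hsub M hM h2)
      rw [commutator_comm]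
      exact hquo M h2 h3 (Or.inr (by rwa [inf_eq_left.mpr hM.le]))
    by_cases h2 : ∀ q : ℕ, q.Prime → ¬ IsPGroup q N
    · refine cent_symm (le_of_forall_sylow fun q hq hd => ?_)
      haveI : Fact q.Prime := ⟨hq⟩
      obtain ⟨Q, hQ, hQn⟩ := exists_inv_sylow q hPN hcop (Or.inl (sol_of_pgroup hP))
      exact ⟨Q, hQ, cent_symm (hsub Q (lt_of_le_of_ne (Hall.le hQ)
        fun e => h2 q hq (e ▸ Hall.isPGroup hQ)) hQn)⟩
    push Not at h1 h2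
    obtain ⟨q, hq, hNq⟩ := h2
    haveI : Fact q.Prime := ⟨hq⟩
    by_cases hN1 : N = ⊥
    · rw [hN1, cent_bot]; exact le_top
    have hab : IsMulCommutative N := by
      rw [comm_iff_le_cent, ← inf_eq_left]
      by_contra hne
      exact h1 _ (lt_of_le_of_ne inf_le_left hne) (center_ne_bot_of_nil hNq.isNilpotent hN1)
        (norm_inf_cent hPN hPN) (norm_inf_cent (le_norm_self _) (le_norm_self _))
    by_cases hK : P ⊓ C⟦N⟧ = ⊥
    swap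
    · have a1 := hquo (P ⊓ C⟦N⟧) (norm_inf_cent (le_norm_self _) hPN)
        (norm_of_cent (cent_symm inf_le_right)) (Or.inl (by rwa [inf_eq_left.mpr inf_le_left]))
      rw [← commg_eq_bot, eq_bot_iff, ← inf_eq_bot_coprime hcop.symm]
      exact le_inf (a1.trans inf_le_left) (commg_le_right hPN)
    by_cases hP1 : P = ⊥
    · rw [hP1]; exact bot_le
    exfalso
    have hz : ∀ z ∈ P ⊓ C⟦P⟧, z ≠ 1 → N ⊓ C₁⟦z⟧ = ⊥ := by
      intro z hz hz1
      by_contra hne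
      refine h1 _ (lt_of_le_of_ne inf_le_left fun e => hz1 ?_) hne
        (norm_inf hPN (norm_cent1 (le_cent1_iff.mpr hz.2))) (le_norm_of_comm hab le_rfl inf_le_left)
      have : z ∈ P ⊓ C⟦N⟧ := mem_inf.mpr ⟨hz.1, le_cent1_iff.mp (e ▸ inf_le_right)⟩
      rwa [hK, mem_bot] at this
    obtain ⟨c, hc, b1⟩ := bound hp3 hP hP1 hPN hab hz hC
    obtain ⟨d, hd, b2⟩ := bound hp3 hP hP1 hPN hab hz hD
    have b3 := fact hP hN hPN (hC ▸ subset_closure hc) (hD ▸ subset_closure hd)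
      fun x hx => h x hx c hc d hd
    have b4 := one_lt_card hN1
    have b5 : ♯N ^ 3 ≤ ♯N * ♯N :=
      (Nat.pow_le_pow_left b3 3).trans (by rw [mul_pow]; exact Nat.mul_le_mul b2 b1)
    nlinarith

/-- Let p ≥ 3 be prime and G a finite group with a Sylow p-subgroup P and a normal p-complement N (N normal, of order prime to p, with NP = G). Suppose P is generated by a subset C and also by a subset D, and that ⟨x c x⁻¹, d⟩ is a p-group for all x ∈ N, c ∈ C, d ∈ D. Then P centralizes N, so that G = N × P. -/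
theorem result {G : Type*} [Group G] [Finite G] (p : ℕ) [Fact p.Prime] (hp3 : 3 ≤ p) (P : Sylow p G)
    (N : Subgroup G) [N.Normal] (hN : (Nat.card N).Coprime p) (hNP : N ⊔ (P : Subgroup G) = ⊤)
    (C D : Set G) (hC : Subgroup.closure C = (P : Subgroup G)) (hD : Subgroup.closure D = (P : Subgroup G))
    (h : ∀ x ∈ N, ∀ c ∈ C, ∀ d ∈ D, IsPGroup p ↥(Subgroup.closure ({x * c * x⁻¹, d} : Set G))) :
    ⁅(P : Subgroup G), N⁆ = ⊥ := by
  exact commg_eq_bot.mpr (main hp3 _ le_rfl P.isPGroup' hN (by rw [normalizer_eq_top]; exact le_top)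
    hC hD h)

end Cfsg.Agent.S2277
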