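import Cfsg.Statements.S2283
import Cfsg.Agent.H18.RgB
-- import your own Cfsg.Agent.* helpers here

set_option autoImplicit false
open Cfsg

namespace Cfsg.Agent.S2283

open Cfsg.Agent.H18 Cfsg.Agent.H18.Rg Cfsg.Agent.H12 Matrix

/-- Let F be a field with q² elements, q ≥ 3, and SU_3(q) the special unitary group of the standard Hermitian form. Then SU_3(q) is generated by two conjugate regular unipotent elements: there are u ∈ SU_3(q) with u − 1 nilpotent and (u − 1)² ≠ 0, and g ∈ SU_3(q), such that u and g u g⁻¹ generate SU_3(q). -/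
theorem result {F : Type*} [Field F] [Fintype F] (q : ℕ) (hq : 3 ≤ q) (hF : Fintype.card F = q ^ 2) :
    ∃ u g : ↥(Cfsg.SU 3 F q), (IsNilpotent (((u : Matrix.SpecialLinearGroup (Fin 3) F) : Matrix (Fin 3) (Fin 3) F) - 1) ∧ (((u : Matrix.SpecialLinearGroup (Fin 3) F) : Matrix (Fin 3) (Fin 3) F) - 1) ^ (3 - 1) ≠ 0) ∧
      Subgroup.closure ({u, g * u * g⁻¹} : Set ↥(Cfsg.SU 3 F q)) = ⊤ := by
  obtain ⟨P, hP⟩ := (hform_JJ (frobq_frobq hF)).exists_orthonormal (frobq_ne_id hF)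
  have h1 : ∀ x y, frm (frobq hF) (JJ F) (P.1 *ᵥ x) (P.1 *ᵥ y) = hermForm 3 F q x y := fun x y => by
    rw [(hform_JJ (frobq_frobq hF)).eq_grm, hP, frm, one_mulVec]; rfl
  let ψ : SU 3 F q →* GL (Fin 3) F := (MulAut.conj P).toMonoidHom.comp
    (Matrix.SpecialLinearGroup.toGL.comp (SU 3 F q).subtype)
  have h2 : ∀ s, (ψ s).1 = cj P s.1.1 := fun _ => rfl
  have hi : Function.Injective ψ := fun a b e => Subtype.ext (Subtype.ext ((cj P).injective
    (by rw [← h2, ← h2, e])))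
  have hd : ∀ (Q : GL (Fin 3) F) (X : Matrix (Fin 3) (Fin 3) F), (cj Q X).det = X.det :=
    fun Q X => by rw [cj_apply, det_mul, det_mul, mul_right_comm, ← det_mul, Units.mul_inv]; simp
  have h3 : ∀ s, ψ s ∈ SJ (frobq hF) := fun s => ⟨by rw [h2, hd, s.1.2], fun x y => by
    rw [← mulVec_inv_mulVec P x, ← mulVec_inv_mulVec P y, h2, cj_mulVec, cj_mulVec, h1, h1]
    exact s.2 _ _⟩
  have h4 : ∀ g ∈ SJ (frobq hF), ∃ s, ψ s = g := fun g hg =>
    ⟨⟨⟨cj P⁻¹ g.1, by rw [hd, hg.1]⟩, fun x y => by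
      change hermForm 3 F q (cj P⁻¹ g.1 *ᵥ x) (cj P⁻¹ g.1 *ᵥ y) = _
      rw [← h1, ← h1, ← cj_mulVec, ← cj_mulVec, cj_cj_inv, hg.2]⟩,
      Units.ext ((h2 _).trans (cj_cj_inv _ _))⟩
  obtain ⟨β, g, hu, hg, h⟩ := out_all hF hq
  obtain ⟨u, hu'⟩ := h4 _ hu
  obtain ⟨g, rfl⟩ := h4 _ hg
  have h5 : cj P (u.1.1 - 1) = !![0, 1, β; 0, 0, -1; 0, 0, 0] := by
    rw [map_sub, map_one, ← h2, hu']
    ext i j; fin_cases i <;> fin_cases j <;> simp [uu]
  refine ⟨u, g, ⟨⟨3, (cj P).injective ?_⟩, fun e => ?_⟩, eq_top_iff.2 fun s _ => ?_⟩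
  · rw [map_pow, h5, map_zero]
    ext i j; fin_cases i <;> fin_cases j <;>
      simp [pow_succ, Matrix.mul_apply, Fin.sum_univ_three]
  · have := congrArg (cj P) e
    rw [map_pow, h5, map_zero] at this
    simpa [pow_succ, Matrix.mul_apply, Fin.sum_univ_three] using congrFun (congrFun this 0) 2
  · rw [← Subgroup.mem_map_iff_mem hi, MonoidHom.map_closure, Set.image_pair, map_mul, map_mul,
      map_inv, hu']
    exact h (h3 s)

end Cfsg.Agent.S2283
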