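import Cfsg.Statements.S2374
import Cfsg.Agent.H14.Tor3

set_option autoImplicit false
open Cfsg

namespace Cfsg.Agent.S2374

/-- The group E₇(q) (the simple Chevalley group of type E₇) contains a cyclic subgroup of order (q⁴ − q² + 1)(q³ + 1)/gcd(2, q − 1) which is its own centralizer. -/
theorem result {F : Type*} [Field F] [Fintype F] (q : ℕ) (hF : Fintype.card F = q) :
    ∃ H : Subgroup ↥(Cfsg.Lie.chevE7.group F), IsCyclic ↥H ∧ Nat.card ↥H = (q ^ 4 - q ^ 2 + 1) * (q ^ 3 + 1) / Nat.gcd 2 (q - 1) ∧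
      Subgroup.centralizer (H : Set ↥(Cfsg.Lie.chevE7.group F)) = H := by
  subst hF
  obtain ⟨n, hn⟩ := Nat.exists_eq_add_of_lt (Fintype.one_lt_card (α := F))
  obtain ⟨H, h1, h2, h3⟩ := H14.exists_cyclic_torus' H14.goodE7 H14.stE7 H14.bridgeE7
    (fun _ _ => H14.torX_injective_E7) (H14.car_eqE7 _) ([0, 2, 6, 5, 3, 1, 4, 3, 5, 4, 5] : List (Fin 7))
    [[0, 0, 0, 0, 0, 0, 1], [0, 0, 0, 0, 0, 1, -1], [-1, -1, 0, 1, 0, 0, 0], [0, 0, -1, 1, 0, 0, -1], [-1, 0, 0, 0, 1, -1, 0],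
      [0, 1, -1, 0, 0, 0, 0], [0, 0, 0, -1, 1, 0, 0], [0, 0, 0, 0, -1, 1, 0]]
    [[1, 0, -1, 1, 0, -1, 0], [1, 1, -1, 0, 1, 0, -1], [1, 1, -1, 0, 1, -1, -1], [2, 1, -1, 1, 1, -1, -1],
      [2, 1, -1, 1, 1, -1, 0], [1, 1, 0, 0, 0, 0, 0], [1, 0, 0, 0, 0, 0, 0]] [1, 0, -1, 1, 1, -1, 0, 1] [4]
    (by decide +kernel) (by decide +kernel) (by decide +kernel) F
    (M := (Fintype.card F ^ 4 - Fintype.card F ^ 2 + 1) * (Fintype.card F ^ 3 + 1)) (d := 7) rfl (by positivity) (by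
      rw [Nat.cast_mul, Nat.cast_add, Nat.cast_sub (by rw [hn]; ring_nf; omega)]
      simp [H14.evP, Finset.sum_range_succ]; ring)
    fun n => by simp [H14.evP, Finset.sum_range_succ]; rw [← sub_pos]; ring_nf; positivity
  rw [H14.card_center_St H14.goodE7 H14.stE7 H14.torX_injective_E7 (H14.centerE7 _), pow_one, Nat.card_eq_fintype_card] at h2
  exact ⟨H, h1, by rw [← h2, Nat.mul_div_cancel_left _ (by positivity)], h3⟩

end Cfsg.Agent.S2374
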