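import Cfsg.Statements.S2405
import Cfsg.Agent.H6.TwoC
import Cfsg.Agent.S2414
import Cfsg.Agent.S1082
import Cfsg.Agent.H14.All
-- import your own Cfsg.Agent.* helpers here

set_option autoImplicit false
open Cfsg

namespace Cfsg.Agent.S2405

open Cfsg.Lie Cfsg.Agent.H14 Cfsg.Agent.H6.Two


/-- Each Chevalley group of type G₂, B₂, D₄, F₄, E₆, E₇ or E₈ over a finite field is generated by two of its elements (types B₂ and G₂ over the field with two elements, where the group is not simple, excepted). -/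
theorem result {F : Type*} [Field F] [Finite F] (D : Cfsg.Lie.ChevalleyDatum) (hD : D ∈ [Cfsg.Lie.chevG2, Cfsg.Lie.chevB2, Cfsg.Lie.chevD4, Cfsg.Lie.chevF4, Cfsg.Lie.chevE6, Cfsg.Lie.chevE7, Cfsg.Lie.chevE8])
    (hF : D ∈ [Cfsg.Lie.chevB2, Cfsg.Lie.chevG2] → ∃ x : F, x ≠ 0 ∧ x ≠ 1) :
    ∃ a b : ↥(D.group F), Subgroup.closure ({a, b} : Set ↥(D.group F)) = ⊤ := by
  have o1 : ∀ z : ℤ, decide (z ∣ 1) → (z : F) ≠ 0 := fun z hz =>
    ((isUnit_of_dvd_one (of_decide_eq_true hz)).map (Int.castRingHom F)).ne_zero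
  have op : ∀ p : ℤ, (p : F) ≠ 0 → ∀ z : ℤ, decide (z ∣ p) → (z : F) ≠ 0 := fun p h z hz e => by
    obtain ⟨k, rfl⟩ := of_decide_eq_true hz
    exact h (by rw [Int.cast_mul, e, zero_mul])
  obtain ⟨G⟩ := exists_good hD
  simp only [List.mem_cons, List.not_mem_nil, or_false] at hD hF
  rcases hD with rfl | rfl | rfl | rfl | rfl | rfl | rfl
  · by_cases h : (3 : F) = 0
    · exact gen_L G (hF (.inr rfl)) [0, 1] [1, 6] 0 2 1 [(5, 5, 0), (10, 10, 0), (11, 11, 0), (6, 6, 0)]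
        [(2, 2, 0), (3, 3, 0), (7, 7, 0), (9, 9, 0), (8, 8, 0)] (fun ζ hζ => spn3 h hζ (by decide +kernel)) (by decide +kernel)
    · exact gen_G G (op 3 (by simpa using h)) [0, 1] 2 5 1 [(3, 3, 0), (7, 7, 0), (9, 9, 0), (8, 8, 0), (4, 4, 0), (2, 4, 0), (1, 1, 0), (0, 0, 0), (5, 5, 0), (10, 10, 0), (11, 11, 0)] (by decide +kernel)
  · exact gen_L G (hF (.inl rfl)) [0, 1] [3] 0 1 1 [(3, 3, 0), (7, 7, 0)] [(1, 1, 0), (5, 5, 0), (6, 6, 0)]
      (fun ζ hζ => spn12 hζ (by decide +kernel)) (by decide +kernel)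
  · exact Gen2.equiv (have := Fintype.ofFinite F; S2414.result (F := F) 4 le_rfl) (S1082.result (F := F)).some.symm
  · by_cases h : (2 : F) = 0
    · exact gen_T G h [0, 1, 2, 3] 0 14 10 1 30 0 [(15, 15, 0), (21, 21, 0), (41, 41, 0), (45, 45, 0), (46, 46, 0), (47, 47, 0), (32, 32, 0), (26, 26, 0), (6, 6, 0), (2, 2, 0), (1,
      1, 0), (0, 32, 0), (5, 5, 0), (17, 17, 0), (4, 4, 0), (16, 16, 0), (22, 22, 0), (23, 23, 0), (42, 42, 0), (30, 30, 0), (43, 43,
      0), (31, 31, 0), (25, 25, 0)] [(14, 14, 0), (20, 20, 0), (12, 12, 0), (9, 9, 0), (19, 19, 0), (11, 11, 0), (33, 33, 0)] (14, 1, 1, 1) (by decide +kernel)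
    · exact gen_G G (op 2 (by simpa using h)) [0, 1, 2, 3] 3 15 1 [(7, 7, 0), (8, 8, 0), (18, 18, 0), (34, 34, 0), (37, 37, 0), (44, 44, 0), (40, 40, 0), (39, 39, 0), (29, 29, 0), (13, 13, 0),
      (10, 10, 0), (3, 29, 0), (6, 6, 0), (2, 2, 0), (1, 1, 0), (0, 0, 0), (15, 15, 0), (21, 21, 0), (41, 41, 0), (45, 45, 0), (46, 46,
      0), (47, 47, 0), (32, 32, 0), (26, 41, 0), (43, 43, 0), (31, 31, 0), (25, 25, 0), (24, 24, 0), (5, 5, 0), (17, 17, 0), (4, 4, 0),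
      (16, 16, 0), (22, 22, 0), (23, 23, 0), (42, 42, 0), (30, 10, 0), (14, 14, 0), (20, 20, 0), (12, 12, 0), (9, 9, 0), (19, 19, 0),
      (11, 11, 0), (33, 33, 0)] (by decide +kernel)
  · exact gen_G G o1 [0, 1, 2, 3, 4, 5] 2 6 1 [(17, 17, 0), (31, 31, 0), (33, 33, 0), (62, 62, 0), (68, 68, 0), (53, 53, 0), (66, 66, 0), (45, 45, 0), (14, 14, 0), (21, 21, 0),
      (7, 7, 0), (2, 45, 0), (9, 9, 0), (3, 3, 0), (18, 18, 0), (5, 5, 0), (26, 26, 0), (57, 57, 0), (50, 50, 0), (64, 64, 0), (69, 69,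
      0), (54, 54, 0), (40, 40, 0), (38, 50, 0), (52, 52, 0), (39, 39, 0), (37, 37, 0), (36, 36, 0), (8, 8, 0), (28, 28, 0), (23, 23,
      0), (11, 11, 0), (56, 56, 0), (42, 42, 0), (47, 47, 0), (59, 11, 0), (35, 35, 0), (63, 63, 0), (43, 43, 0), (48, 48, 0), (60, 60,
      0), (15, 15, 0), (29, 29, 0), (24, 24, 0), (12, 12, 0), (19, 19, 0), (32, 32, 0), (34, 59, 0), (58, 58, 0), (51, 51, 0), (65, 65,
      0), (44, 44, 0), (49, 49, 0), (25, 25, 0), (13, 13, 0), (20, 20, 0), (6, 6, 0), (27, 27, 0), (22, 22, 0)] (by decide +kernel)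
  · exact gen_G G o1 [0, 1, 2, 3, 4, 5, 6] 3 8 1 [(8, 8, 0), (34, 34, 0), (54, 54, 0), (57, 57, 0), (100, 100, 0), (110, 110, 0), (120, 120, 0), (115, 115, 0), (122, 122, 0),
      (117, 117, 0), (91, 91, 0), (71, 71, 0), (68, 68, 0), (25, 25, 0), (15, 15, 0), (5, 5, 0), (10, 10, 0), (3, 68, 0), (6, 6, 0), (0,
      0, 0), (1, 1, 0), (2, 2, 0), (7, 7, 0), (33, 33, 0), (53, 53, 0), (99, 99, 0), (109, 109, 0), (119, 119, 0), (125, 125, 0), (124,
      124, 0), (123, 123, 0), (118, 118, 0), (92, 92, 0), (72, 72, 0), (26, 26, 0), (16, 125, 0), (108, 108, 0), (77, 77, 0), (31, 31,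
      0), (42, 42, 0), (22, 22, 0), (13, 13, 0), (4, 4, 0), (9, 9, 0), (35, 35, 0), (17, 17, 0), (48, 48, 0), (94, 94, 0), (83, 83, 0),
      (103, 103, 0), (112, 112, 0), (121, 121, 0), (116, 116, 0), (90, 33, 0), (60, 60, 0), (101, 101, 0), (111, 111, 0), (87, 87, 0),
      (106, 106, 0), (114, 114, 0), (89, 89, 0), (70, 70, 0), (67, 67, 0), (65, 65, 0), (24, 24, 0), (14, 14, 0), (38, 38, 0), (19, 19,
      0), (11, 11, 0), (36, 36, 0), (55, 55, 0), (58, 42, 0), (40, 40, 0), (20, 20, 0), (50, 50, 0), (44, 44, 0), (27, 27, 0), (93, 93,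
      0), (73, 73, 0), (79, 79, 0), (96, 96, 0), (85, 85, 0), (105, 105, 0), (75, 75, 0), (81, 81, 0), (98, 98, 0), (32, 32, 0), (52,
      52, 0), (46, 46, 0), (29, 115, 0), (88, 88, 0), (107, 107, 0), (76, 76, 0), (82, 82, 0), (47, 47, 0), (30, 30, 0), (41, 41, 0),
      (21, 21, 0), (12, 12, 0), (37, 37, 0), (18, 18, 0), (49, 49, 0), (43, 43, 0), (78, 78, 0), (95, 95, 0), (84, 84, 0), (104, 104,
      0), (113, 29, 0), (86, 86, 0), (69, 69, 0), (66, 66, 0), (64, 64, 0), (63, 63, 0), (23, 23, 0), (51, 51, 0), (45, 45, 0), (28, 28,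
      0), (39, 39, 0), (56, 56, 0), (59, 59, 0), (61, 61, 0)] (by decide +kernel)
  · exact gen_G G o1 [0, 1, 2, 3, 4, 5, 6, 7] 0 13 4 [(78, 78, 0), (105, 105, 0), (169, 169, 0), (184, 184, 0), (204, 204, 0), (226, 226, 0), (234, 234, 0), (235, 235, 0), (236, 236,
      0), (237, 237, 0), (238, 238, 0), (239, 239, 0), (224, 224, 0), (218, 218, 0), (203, 203, 0), (161, 161, 0), (134, 134, 0), (70,
      70, 0), (55, 55, 0), (35, 35, 0), (13, 13, 0), (5, 5, 0), (4, 4, 0), (3, 3, 0), (2, 2, 0), (1, 1, 0), (0, 0, 0), (15, 15, 0), (21,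
      21, 0), (36, 55, 0), (7, 7, 0), (14, 14, 0), (8, 8, 0), (16, 16, 0), (22, 22, 0), (37, 37, 0), (79, 79, 0), (106, 106, 0), (110,
      110, 0), (170, 170, 0), (185, 185, 0), (205, 205, 0), (227, 227, 0), (219, 219, 0), (233, 233, 0), (232, 232, 0), (225, 225, 0),
      (231, 231, 0), (223, 223, 0), (217, 217, 0), (202, 202, 0), (160, 160, 0), (133, 133, 0), (129, 129, 0), (69, 69, 0), (54, 54, 0),
      (34, 34, 0), (12, 12, 0), (20, 20, 0), (6, 231, 0), (98, 98, 0), (75, 75, 0), (91, 91, 0), (64, 64, 0), (50, 50, 0), (31, 31, 0),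
      (44, 44, 0), (28, 28, 0), (42, 42, 0), (27, 27, 0), (41, 41, 0), (82, 82, 0), (57, 57, 0), (100, 100, 0), (93, 93, 0), (141, 141,
      0), (164, 164, 0), (148, 148, 0), (175, 175, 0), (189, 189, 0), (208, 208, 0), (195, 195, 0), (211, 211, 0), (197, 197, 0), (212,
      212, 0), (198, 198, 0), (157, 157, 0), (182, 182, 0), (139, 139, 0), (146, 195, 0), (216, 216, 0), (201, 201, 0), (159, 159, 0),
      (183, 183, 0), (140, 140, 0), (76, 76, 0), (92, 92, 0), (65, 65, 0), (51, 51, 0), (32, 32, 0), (11, 11, 0), (19, 19, 0), (25, 25,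
      0), (9, 9, 0), (17, 17, 0), (23, 23, 0), (38, 38, 0), (80, 80, 0), (56, 56, 0), (99, 99, 0), (163, 163, 0), (147, 147, 0), (174,
      174, 0), (188, 188, 0), (207, 207, 0), (228, 228, 0), (220, 220, 0), (214, 214, 0), (230, 230, 0), (222, 80, 0), (187, 187, 0),
      (152, 152, 0), (178, 178, 0), (191, 191, 0), (209, 209, 0), (196, 196, 0), (156, 156, 0), (181, 181, 0), (193, 193, 0), (155, 155,
      0), (131, 131, 0), (127, 127, 0), (124, 124, 0), (122, 122, 0), (67, 67, 0), (52, 52, 0), (87, 87, 0), (61, 61, 0), (48, 48, 0),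
      (30, 30, 0), (43, 43, 0), (83, 83, 0), (58, 58, 0), (46, 46, 0), (84, 84, 0), (108, 108, 0), (112, 112, 0), (115, 115, 0), (117,
      117, 0), (172, 58, 0), (107, 107, 0), (111, 111, 0), (114, 114, 0), (171, 171, 0), (186, 186, 0), (206, 206, 0), (194, 194, 0),
      (210, 210, 0), (229, 229, 0), (221, 221, 0), (215, 215, 0), (200, 200, 0), (213, 213, 0), (199, 199, 0), (158, 158, 0), (132, 132,
      0), (128, 128, 0), (125, 125, 0), (68, 68, 0), (53, 53, 0), (33, 33, 0), (45, 45, 0), (29, 29, 0), (10, 10, 0), (18, 18, 0), (24,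
      24, 0), (39, 39, 0), (26, 26, 0), (40, 40, 0), (81, 131, 0), (88, 88, 0), (109, 109, 0), (113, 113, 0), (116, 116, 0), (118, 118,
      0), (119, 119, 0), (173, 173, 0), (136, 136, 0), (143, 143, 0), (166, 166, 0), (150, 150, 0), (177, 177, 0), (137, 137, 0), (144,
      144, 0), (167, 167, 0), (151, 151, 0), (130, 130, 0), (126, 126, 0), (123, 123, 0), (121, 121, 0), (120, 120, 0), (66, 66, 0),
      (103, 103, 0), (96, 96, 0), (73, 73, 0), (89, 89, 0), (62, 62, 0), (102, 102, 0), (95, 95, 0), (72, 96, 0), (60, 60, 0), (47, 47,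
      0), (85, 85, 0), (59, 59, 0), (101, 101, 0), (94, 94, 0), (71, 71, 0), (162, 162, 0), (135, 135, 0), (142, 142, 0), (165, 165, 0),
      (149, 149, 0), (176, 176, 0), (190, 190, 0), (153, 153, 0), (179, 179, 0), (192, 192, 0), (154, 154, 0), (180, 180, 0), (138, 138,
      0), (145, 145, 0), (168, 168, 0), (77, 77, 0)] (by decide +kernel)

end Cfsg.Agent.S2405
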