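import Cfsg.Statements.S2468
import Cfsg.Agent.H13.PG

set_option autoImplicit false
open Cfsg

namespace Cfsg.Agent.S2468

open H13 H28 H12

/-- Adjacency of two odd primes in the prime graph of PSL(n,q): let F be a finite field of characteristic p with q elements, n ≥ 2 with PSL(n,F) simple, and let r ≠ s be odd primes different from p dividing the order of PSL(n,F). Let k and l be the multiplicative orders of q modulo r and modulo s, and suppose 2 ≤ k ≤ l. Then PSL(n,F) has NO element of order r·s if and only if k + l > n and k does not divide l. -/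
theorem result {F : Type*} [Field F] [Fintype F] (p : ℕ) [Fact p.Prime] [CharP F p] (n : ℕ) (hn : 2 ≤ n) (hsmall : n = 2 → 4 ≤ Fintype.card F)
    (r s : ℕ) (hr : r.Prime) (hs : s.Prime) (hr2 : r ≠ 2) (hs2 : s ≠ 2) (hrp : r ≠ p) (hsp : s ≠ p) (hrs : r ≠ s)
    (hrG : r ∣ Nat.card (Matrix.ProjectiveSpecialLinearGroup (Fin n) F)) (hsG : s ∣ Nat.card (Matrix.ProjectiveSpecialLinearGroup (Fin n) F))
    (k l : ℕ) (hk : k = orderOf ((Fintype.card F : ℕ) : ZMod r)) (hl : l = orderOf ((Fintype.card F : ℕ) : ZMod s))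
    (h2k : 2 ≤ k) (hkl : k ≤ l) :
    (r * s ∉ Set.range (orderOf : Matrix.ProjectiveSpecialLinearGroup (Fin n) F → ℕ)) ↔ (n < k + l ∧ ¬ k ∣ l) := by
  have hc := (Nat.coprime_primes hr hs).2 hrs
  have hq := Fintype.card_pos (α := F)
  have h1 : ∀ r : ℕ, r.Prime → 2 ≤ orderOf (Fintype.card F : ZMod r) → r.Coprime (Fintype.card F - 1) :=
    fun r hr h => hr.coprime_iff_not_dvd.2 fun h' => by
      have := Nat.le_of_dvd one_pos ((dvd_pow_sub_iff (d := 1) hq).1 (by simpa using h'))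
      omega
  have hr1 := h1 r hr (hk ▸ h2k)
  have hs1 := h1 s hs (by omega)
  rw [mem_range_orderOf, ← not_iff_not, not_not, not_and_or, not_not, not_lt]
  constructor
  · rintro ⟨y, hy⟩
    obtain ⟨x, h5, h6, h7, h8⟩ := psl_lift y
    rcases lin_crit2 (p := p) (h5 ▸ one_ne_zero) h6 h7 hr hrp hs hsp
      (dv_of_lift h8 ((dvd_mul_right _ _).trans hy)) (dv_of_lift h8 ((dvd_mul_left _ _).trans hy)) with
      ⟨D, h9, h10, h11, h12⟩ | ⟨D, D', h9, h9', h10, h11, h12⟩ <;>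
      rw [int_dvd_pow_sub_iff, ← hk] at h11 <;> rw [int_dvd_pow_sub_iff, ← hl] at h12 <;>
      simp only [Module.finrank_fin_fun] at h10
    · obtain ⟨t, rfl⟩ := h12
      rcases Nat.lt_or_ge t 2 with h | h
      · obtain rfl : t = 1 := by
          rcases t with _ | _ | t <;> simp_all
        exact Or.inr (by simpa using h11)
      · left; nlinarith
    · have := Nat.le_of_dvd h9 h11
      have := Nat.le_of_dvd h9' h12
      omega
  rintro (h | h)
  · obtain ⟨V, _, _, _, t, h2, h3, h4⟩ := lin_tor (F := F) (d := k) (by omega)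
      ((dvd_pow_sub_iff hq).2 (hk ▸ dvd_rfl)) hr1
    obtain ⟨W, _, _, _, u, h5, h6, h7⟩ := lin_tor (F := F) (d := l) (by omega)
      ((dvd_pow_sub_iff hq).2 (hl ▸ dvd_rfl)) hs1
    obtain ⟨y, c, h8, h9⟩ := psl_sum (n := n) (by omega) h3 h6
    exact ⟨y, hc.mul_dvd_of_dvd_of_dvd (h4 _ _ h8) (h7 _ _ h9)⟩
  · have := Fact.mk hs
    obtain ⟨y, hy⟩ := exists_prime_orderOf_dvd_card' s hsG
    obtain ⟨x, h5, h6, h7, h8⟩ := psl_lift y
    obtain ⟨D, h9, h10, h11⟩ := lin_crit1 (p := p) (h5 ▸ one_ne_zero) h6 h7 hs hsp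
      (dv_of_lift h8 (hy ▸ dvd_rfl))
    rw [int_dvd_pow_sub_iff, ← hl] at h11
    have := Nat.le_of_dvd h9 h11
    simp only [Module.finrank_fin_fun] at h10
    obtain ⟨V, _, _, _, t, h2, h3, h4⟩ := lin_tor (F := F) (d := l) (by omega)
      (hc.mul_dvd_of_dvd_of_dvd ((dvd_pow_sub_iff hq).2 (hk ▸ h)) ((dvd_pow_sub_iff hq).2 (hl ▸ dvd_rfl)))
      (hr1.mul_left hs1)
    obtain ⟨y, c, h8, -⟩ := psl_sum (n := n) (W := Fin 0 → F) (b := 1) (by simp; omega) h3 (by simp)
    exact ⟨y, h4 _ _ h8⟩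

end Cfsg.Agent.S2468
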