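import Cfsg.Statements.S2469
import Cfsg.Agent.H13.PG

set_option autoImplicit false
open Cfsg

namespace Cfsg.Agent.S2469

open H13 H28 H12

theorem eta_dvd {k e d : ℕ} (h : (Odd k ∧ e = k) ∨ (Even k ∧ 2 * e = k)) : k ∣ 2 * d ↔ e ∣ d := by
  rcases h with ⟨h, rfl⟩ | ⟨-, rfl⟩
  · exact (Nat.coprime_two_right.2 h).dvd_mul_left
  · exact Nat.mul_dvd_mul_iff_left two_pos

theorem pm_eta {q r e d N : ℕ} (hq : 0 < q) (hr : r.Prime) (hr2 : r ≠ 2)
    (h : (Odd (orderOf (q : ZMod r)) ∧ e = orderOf (q : ZMod r)) ∨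
      (Even (orderOf (q : ZMod r)) ∧ 2 * e = orderOf (q : ZMod r))) (hN : Pm q d N) (h1 : r ∣ N) :
    e ∣ d := (eta_dvd h).1 ((dvd_pow_sub_iff hq).1 (h1.trans hN.dvd))

/-- Adjacency of two odd primes in the prime graph of PSp(2n,q): let F be a finite field of characteristic p with q elements, n ≥ 2 with PSp(2n,F) simple, and let r ≠ s be odd primes different from p dividing the order of PSp(2n,F). Let k, l be the multiplicative orders of q modulo r and s, put η(m) = m for odd m and η(m) = m/2 for even m, and suppose η(k) ≤ η(l). Then PSp(2n,F) has NO element of order r·s if and only if η(k) + η(l) > n and l/k is not an odd integer. -/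
theorem result {F : Type*} [Field F] [Fintype F] (p : ℕ) [Fact p.Prime] [CharP F p] (n : ℕ) (hn : 2 ≤ n) (hsmall : n = 2 → 3 ≤ Fintype.card F)
    (r s : ℕ) (hr : r.Prime) (hs : s.Prime) (hr2 : r ≠ 2) (hs2 : s ≠ 2) (hrp : r ≠ p) (hsp : s ≠ p) (hrs : r ≠ s)
    (hrG : r ∣ Nat.card (Cfsg.PSp n F)) (hsG : s ∣ Nat.card (Cfsg.PSp n F))
    (k l ηk ηl : ℕ) (hk : k = orderOf ((Fintype.card F : ℕ) : ZMod r)) (hl : l = orderOf ((Fintype.card F : ℕ) : ZMod s))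
    (hηk : (Odd k ∧ ηk = k) ∨ (Even k ∧ 2 * ηk = k)) (hηl : (Odd l ∧ ηl = l) ∨ (Even l ∧ 2 * ηl = l)) (hkl : ηk ≤ ηl) :
    (r * s ∉ Set.range (orderOf : Cfsg.PSp n F → ℕ)) ↔ (n < ηk + ηl ∧ ¬ ∃ t : ℕ, Odd t ∧ l = k * t) := by
  have hc := (Nat.coprime_primes hr hs).2 hrs
  have hq := Fintype.card_pos (α := F)
  obtain ⟨a, -, ha⟩ := FiniteField.card F p
  have hk0 : 0 < k := hk ▸ orderOf_card_pos hr hrp
  have hl0 : 0 < l := hl ▸ orderOf_card_pos hs hsp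
  subst hk hl
  have h1 : Module.finrank F (Fin n ⊕ Fin n → F) = 2 * n := by simp; ring
  have sq : ∀ {V : Type} [AddCommGroup V] [Module F V] {t : Module.End F V} {N k s : ℕ} {c : F}, s.Prime →
      s ≠ 2 → s ∣ N → Dv N t → c * c = 1 → t ^ k = c • 1 → s ∣ k := fun hs hs2 h h' hc hk =>
    ((Nat.coprime_primes hs Nat.prime_two).2 hs2).dvd_of_dvd_mul_left (h.trans
      (h' _ (by rw [mul_comm, pow_mul, hk, smul_pow, pow_two, hc]; simp)))
  rw [mem_range_orderOf, ← not_iff_not, not_not, not_and_or, not_not, not_lt]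
  constructor
  · rintro ⟨y, hy⟩
    obtain ⟨b, hS, hb, -⟩ := psp_lift (by omega) y
    have hb' : ∀ s, s ∣ orderOf y → Dv s b := fun s h k hk => h.trans (hb k 1 (by simpa using hk))
    rcases crit2 hS hr hr2 hrp hs hs2 hsp hrs (hb' _ ((dvd_mul_right _ _).trans hy))
      (hb' _ ((dvd_mul_left _ _).trans hy)) with ⟨d, N, hN, h3, h4⟩ | ⟨d, N, d', N', hN, hN', h3, h4, h5⟩
    · have h5 := (dvd_mul_right _ _).trans h3
      have h6 := (dvd_mul_left _ _).trans h3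
      obtain ⟨t, rfl⟩ := pm_eta hq hs hs2 hηl hN h6
      have h7 := hN.1
      rcases Nat.lt_or_ge t 2 with h | h
      swap
      · left; nlinarith
      obtain rfl : t = 1 := by
        rcases t with _ | _ | t <;> simp_all
      right
      rw [mul_one] at *
      rcases Pm.dvd_iff hN hr hr2 hq with ⟨h8, h9⟩ | ⟨h8, h9⟩ <;>
        rcases Pm.dvd_iff hN hs hs2 hq with ⟨h10, h11⟩ | ⟨h10, h11⟩ <;> try omega
      · obtain ⟨t, ht⟩ := h9.1 h5
        have := Nat.le_of_dvd h7 (h11.1 h6)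
        rcases hηl with ⟨h12, h13⟩ | h12
        · exact ⟨t, Nat.Odd.of_mul_right (ht ▸ h13 ▸ h12), h13 ▸ ht⟩
        · omega
      · obtain ⟨⟨t, ht⟩, h12⟩ := h9.1 h5
        rcases hηl with ⟨-, h13⟩ | ⟨-, h13⟩
        · exact absurd (h13 ▸ dvd_rfl) (h11.1 h6).2
        · refine ⟨t, Nat.not_even_iff_odd.1 ?_, h13 ▸ ht⟩
          rintro ⟨t, rfl⟩
          exact h12 ⟨t, by rw [mul_add] at ht; omega⟩
    · have := Nat.le_of_dvd hN.1 (pm_eta hq hr hr2 hηk hN h3)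
      have := Nat.le_of_dvd hN'.1 (pm_eta hq hs hs2 hηl hN' h4)
      omega
  rintro (h | ⟨t, ht, h⟩)
  · obtain ⟨N, hN, h3⟩ := exists_pm (d := ηk) hq (by omega) hr
      ((dvd_pow_sub_iff hq).2 ((eta_dvd hηk).2 dvd_rfl))
    obtain ⟨N', hN', h4⟩ := exists_pm (d := ηl) hq (by omega) hs
      ((dvd_pow_sub_iff hq).2 ((eta_dvd hηl).2 dvd_rfl))
    obtain ⟨V, _, _, _, B, hB, hV, t, h6, h7, -⟩ := tor' ha hN
    obtain ⟨V', _, _, _, B', hB', hV', t', h6', h7', -⟩ := tor' ha hN'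
    obtain ⟨y, c, h8, h9, h10, -⟩ := sp_sum hB hB' hV hV' h (by omega) h6 h6'
    exact ⟨y, hc.mul_dvd_of_dvd_of_dvd (sq hr hr2 h3 h7 h8 h9) (sq hs hs2 h4 h7' h8 h10)⟩
  · have := Fact.mk hs
    obtain ⟨y, hy⟩ := exists_prime_orderOf_dvd_card' s hsG
    obtain ⟨b, hS, hb, -⟩ := psp_lift (by omega) y
    obtain ⟨d, N, hN, h3, h4⟩ := crit1 (p := p) hS hs hs2 hsp
      fun k hk => hy ▸ hb k 1 (by simpa using hk)
    have h5 := Nat.le_of_dvd hN.1 (pm_eta hq hs hs2 hηl hN h3)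
    obtain ⟨N, hN, h6, h7⟩ : ∃ N, Pm (Fintype.card F) ηl N ∧ r ∣ N ∧ s ∣ N := by
      rcases hηl with ⟨-, h6⟩ | ⟨h6, h7⟩
      · exact ⟨_, ⟨by omega, Or.inl (Nat.sub_add_cancel (Nat.one_le_pow _ _ hq))⟩,
          (dvd_pow_sub_iff hq).2 ⟨t, h6 ▸ h⟩, (dvd_pow_sub_iff hq).2 (h6 ▸ dvd_rfl)⟩
      · refine ⟨_, ⟨by omega, Or.inr rfl⟩, (dvd_pow_add_iff hr hr2).2 ⟨⟨t, h7 ▸ h⟩, ?_⟩,
          (dvd_pow_add_iff hs hs2).2 ⟨h7 ▸ dvd_rfl, fun h => ?_⟩⟩
        · rintro ⟨u, hu⟩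
          rw [hu, h, mul_left_comm] at h7
          exact Nat.not_even_iff_odd.2 ht ⟨u, by rw [← Nat.eq_of_mul_eq_mul_left hk0 h7]; ring⟩
        · have := Nat.le_of_dvd (by omega) h
          omega
    obtain ⟨V, _, _, _, B, hB, hV, t, h8, h9, -⟩ := tor' ha hN
    obtain ⟨y, c, h10, h11, -⟩ := sp_sum hB (sd_spB (l := Fin 0)) (d' := 0) hV (by simp)
      (by omega : ηl + 0 ≤ n) (by omega) h8 (b := 1) fun _ _ => rfl
    exact ⟨y, hc.mul_dvd_of_dvd_of_dvd (sq hr hr2 h6 h9 h10 h11) (sq hs hs2 h7 h9 h10 h11)⟩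

end Cfsg.Agent.S2469
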