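import Cfsg.Statements.S2470
import Cfsg.Agent.H13.PG
import Cfsg.Agent.S2476

set_option autoImplicit false
open Cfsg

namespace Cfsg.Agent.S2470

open H13 H28 H12 Polynomial

/-- Adjacency of an odd prime and the characteristic in the prime graph of PSL(n,q): let F be a finite field of characteristic p with q elements, n ≥ 2 with PSL(n,F) simple, and let r ≠ p be an odd prime dividing the order of PSL(n,F), with k the multiplicative order of q modulo r. Then PSL(n,F) has NO element of order r·p if and only if either k > n − 2, or n = 3, r = 3 and 3 divides q − 1 exactly once. -/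
theorem result {F : Type*} [Field F] [Fintype F] (p : ℕ) [Fact p.Prime] [CharP F p] (n : ℕ) (hn : 2 ≤ n) (hsmall : n = 2 → 4 ≤ Fintype.card F)
    (r : ℕ) (hr : r.Prime) (hr2 : r ≠ 2) (hrp : r ≠ p) (hrG : r ∣ Nat.card (Matrix.ProjectiveSpecialLinearGroup (Fin n) F))
    (k : ℕ) (hk : k = orderOf ((Fintype.card F : ℕ) : ZMod r)) :
    (r * p ∉ Set.range (orderOf : Matrix.ProjectiveSpecialLinearGroup (Fin n) F → ℕ)) ↔
      (n - 2 < k ∨ (n = 3 ∧ r = 3 ∧ 3 ∣ Fintype.card F - 1 ∧ ¬ 9 ∣ Fintype.card F - 1)) := by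
  classical
  have hp : p.Prime := Fact.out
  have hc := (Nat.coprime_primes hr hp).2 hrp
  have hq := Fintype.card_pos (α := F)
  have hk0 : 0 < k := hk ▸ orderOf_card_pos hr hrp
  have hu : ∀ K (c : F), cyc ((X - 1 : F[X]) ^ 2) ^ K = c • 1 → c = 1 ∧ p ∣ K := fun K c h =>
    ⟨(cyc_unip_pow (p := p) two_pos K c h).1, (dvd_pow_self p (Nat.clog_pos hp.one_lt one_lt_two).ne').trans
      (cyc_unip_pow (p := p) two_pos K c h).2⟩
  have h1 : r ∣ Fintype.card F - 1 ↔ k = 1 := by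
    rw [hk, ← Nat.dvd_one, ← dvd_pow_sub_iff hq, pow_one]
  rcases Nat.lt_or_ge k 2 with h2 | h2
  swap
  · rw [or_iff_left fun h => by have := h1.1 (h.2.1 ▸ h.2.2.1); omega, mem_range_orderOf,
      ← not_iff_not, not_not, not_lt]
    constructor
    · rintro ⟨y, hy⟩
      obtain ⟨x, h5, h6, h7, h8⟩ := psl_lift y
      obtain ⟨D, h9, h10, h11⟩ := lin_crit3 (p := p) (h5 ▸ one_ne_zero) h6 h7 hr hrp
        (dv_of_lift h8 ((dvd_mul_right _ _).trans hy)) (dv_of_lift h8 ((dvd_mul_left _ _).trans hy))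
      rw [int_dvd_pow_sub_iff, ← hk] at h11
      have := Nat.le_of_dvd h9 h11
      simp only [Module.finrank_fin_fun] at h10
      omega
    · intro h
      obtain ⟨V, _, _, _, t, h2, h3, h4⟩ := lin_tor (F := F) (d := k) (by omega)
        ((dvd_pow_sub_iff hq).2 (hk ▸ dvd_rfl)) (hr.coprime_iff_not_dvd.2 fun h => by
          have := h1.1 h; omega)
      obtain ⟨y, c, h8, h9⟩ := psl_sum (n := n) (W := Tr F 2) (by rw [finrank_Tr]; omega) h3
        (det_cyc_unip 2)
      exact ⟨y, hc.mul_dvd_of_dvd_of_dvd (h4 _ _ h8) (hu _ _ h9).2⟩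
  have h3 := h1.2 (by omega)
  obtain rfl | rfl | h4 : n = 2 ∨ n = 3 ∨ 4 ≤ n := by omega
  · refine iff_of_true ?_ (Or.inl (by omega))
    rintro ⟨y, hy⟩
    obtain ⟨x, h5, h6, h7, h8⟩ := psl_lift y
    obtain ⟨z, hz, h9⟩ := (dv_of_lift h8 (hy ▸ dvd_mul_left _ _) : Dv p x).exists_ed (h5 ▸ one_ne_zero)
    obtain ⟨β, h10, -⟩ := exists_root' z
    have h11 := h9.trans (le_count_rts hz h10)
    have h12 : ∀ γ ∈ rts x, β = γ := by
      rw [← Multiset.count_eq_card]
      refine (Multiset.count_le_card _ _).antisymm ?_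
      rw [card_rts]; simpa using h11
    obtain ⟨c, h13⟩ := exists_pow_eq_smul (p := p) (k := 1) (m := 1) (fun w hw => by
      have := (Nat.le_mul_of_pos_right _ w.natDegree_f_pos).trans (mul_le_finrank_of_mem_ed hw)
      simp at this
      simpa using this.trans hp.two_le) (mem_rts_of hz h10) fun γ hγ => by rw [h12 γ hγ]
    have h14 := (h8 _).2 ⟨c, h13⟩
    rw [hy, one_mul, pow_one] at h14
    exact hr.one_lt.ne' (Nat.dvd_one.1 (Nat.dvd_of_mul_dvd_mul_right hp.pos (by simpa using h14)))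
  · rw [S2476.result p, or_iff_right (by omega)]
    obtain ⟨a, -, ha⟩ := FiniteField.card F p
    have hpq : p ∣ Fintype.card F := ha ▸ dvd_pow_self p a.ne_zero
    have h5 : ∀ {m d : ℕ}, d ∣ m → r * p ∣ m / d → p ∣ m := fun h h' =>
      ((dvd_mul_left _ _).trans h').trans (Nat.div_dvd_of_dvd h)
    have h6 : ¬ p ∣ Fintype.card F - 1 := fun h =>
      hp.one_lt.ne' (Nat.dvd_one.1 ((Nat.dvd_sub_iff_right hq hpq).1 h))
    obtain ⟨q, hq'⟩ : ∃ q, Fintype.card F = q + 1 := ⟨_, (Nat.sub_add_cancel hq).symm⟩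
    simp only [hq', Nat.add_sub_cancel, Set.mem_setOf_eq] at *
    have h7 : r * p ∣ p * q / Nat.gcd 3 q ↔ ¬ (r = 3 ∧ 3 ∣ q ∧ ¬ 9 ∣ q) := by
      rw [Nat.mul_div_assoc _ (Nat.gcd_dvd_right _ _), mul_comm, Nat.mul_dvd_mul_iff_left hp.pos,
        Nat.dvd_div_iff_mul_dvd (Nat.gcd_dvd_right _ _)]
      by_cases h8 : 3 ∣ q
      · rw [Nat.gcd_eq_left h8]
        by_cases h9 : r = 3
        · simp [h9, h8]
        · simpa [h9] using ((Nat.coprime_primes Nat.prime_three hr).2 (Ne.symm h9)).mul_dvd_of_dvd_of_dvd h8 h3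
      · rw [(Nat.prime_three.coprime_iff_not_dvd.2 h8).gcd_eq_one]
        simp [h8, h3]
    rw [h7, true_and, or_iff_right, or_iff_right, or_iff_right, or_iff_left, not_not]
    · rintro ⟨rfl, h⟩
      have := Nat.le_of_dvd (by norm_num) h
      have := hr.two_le
      omega
    · exact fun h => h6 ((dvd_mul_left _ _).trans h)
    · intro h
      have := h5 (by
        rw [show (q + 1) ^ 2 = q * (q + 2) + 1 by ring]
        exact (Nat.gcd_dvd_right _ _).mul_right _) h
      exact hp.one_lt.ne' (Nat.dvd_one.1 ((Nat.dvd_sub_iff_right (Nat.one_le_pow _ _ hq)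
        (dvd_pow hpq two_ne_zero)).1 this))
    · intro h
      have := h5 (by
        rw [show (q + 1) ^ 2 + (q + 1) + 1 = q * (q + 3) + 3 by ring]
        exact dvd_add ((Nat.gcd_dvd_right _ _).mul_right _) (Nat.gcd_dvd_left _ _)) h
      exact hp.one_lt.ne' (Nat.dvd_one.1 ((Nat.dvd_add_right (dvd_add (dvd_pow hpq two_ne_zero) hpq)).1 this))
  · refine iff_of_false (not_not.2 ?_) (by omega)
    rw [mem_range_orderOf]
    obtain ⟨ζ, h0, hζ⟩ := exists_orderOf_field (E := F) (m := r) (by simpa using h3)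
    obtain ⟨y, c, h8, h9⟩ := psl_sum (n := n) (V := F × F) (W := Tr F 2)
      (a := (ζ • (1 : Module.End F F)).prodMap (ζ⁻¹ • (1 : Module.End F F)))
      (by rw [finrank_Tr]; simpa) (by simp [LinearMap.det_prodMap, h0]) (det_cyc_unip 2)
    obtain ⟨rfl, h10⟩ := hu _ _ h9
    rw [prodMap_pow] at h8
    have h11 := (prodMap_eq_smul h8).1
    rw [_root_.smul_pow, one_pow] at h11
    exact ⟨y, hc.mul_dvd_of_dvd_of_dvd (hζ ▸ orderOf_dvd_of_pow_eq_one
      (smul_left_injective F one_ne_zero h11)) h10⟩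

end Cfsg.Agent.S2470
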