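import Cfsg.Statements.S2472
import Cfsg.Agent.S2469

set_option autoImplicit false
open Cfsg

namespace Cfsg.Agent.S2472

open H13 H28 H12 S2469

/-- Adjacency of a prime and the characteristic in the prime graph of PSp(2n,q): let F be a finite field of characteristic p with q elements, n ≥ 2 with PSp(2n,F) simple, and let r ≠ p be an odd prime dividing the order of PSp(2n,F), with k the multiplicative order of q modulo r and η(k) = k for odd k, k/2 for even k. Then PSp(2n,F) has NO element of order r·p if and only if η(k) > n − 1. -/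
theorem result {F : Type*} [Field F] [Fintype F] (p : ℕ) [Fact p.Prime] [CharP F p] (n : ℕ) (hn : 2 ≤ n) (hsmall : n = 2 → 3 ≤ Fintype.card F)
    (r : ℕ) (hr : r.Prime) (hr2 : r ≠ 2) (hrp : r ≠ p) (hrG : r ∣ Nat.card (Cfsg.PSp n F))
    (k ηk : ℕ) (hk : k = orderOf ((Fintype.card F : ℕ) : ZMod r)) (hηk : (Odd k ∧ ηk = k) ∨ (Even k ∧ 2 * ηk = k)) :
    (r * p ∉ Set.range (orderOf : Cfsg.PSp n F → ℕ)) ↔ n - 1 < ηk := by
  classical
  have hp : p.Prime := Fact.out
  have hc := (Nat.coprime_primes hr hp).2 hrp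
  have hq := Fintype.card_pos (α := F)
  obtain ⟨a, -, ha⟩ := FiniteField.card F p
  have hk0 : 0 < k := hk ▸ orderOf_card_pos hr hrp
  subst hk
  have h1 : Module.finrank F (Fin n ⊕ Fin n → F) = 2 * n := by simp; ring
  rw [mem_range_orderOf, ← not_iff_not, not_not, not_lt]
  constructor
  · rintro ⟨y, hy⟩
    obtain ⟨b, hS, hb, -⟩ := psp_lift (by omega) y
    have hb' : ∀ s, s ∣ orderOf y → Dv s b := fun s h k hk => h.trans (hb k 1 (by simpa using hk))
    obtain ⟨d, N, hN, h3, h4⟩ := crit3 hS hr hr2 hrp (hb' _ ((dvd_mul_right _ _).trans hy))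
      (hb' _ ((dvd_mul_left _ _).trans hy)) (e := 2) (by omega)
      fun y hy hk β h _ => hk.trans (le_count_rts hy h)
    have := Nat.le_of_dvd hN.1 (pm_eta hq hr hr2 hηk hN h3)
    rcases h4 with h4 | ⟨d', N', h4, -, h5⟩
    · omega
    · have := h4.1
      omega
  intro h
  obtain ⟨N, hN, h3⟩ := exists_pm (d := ηk) hq (by omega) hr
    ((dvd_pow_sub_iff hq).2 ((eta_dvd hηk).2 dvd_rfl))
  obtain ⟨V, _, _, _, B, hB, hV, t, h6, h7, -⟩ := tor' ha hN
  let u : Module.End F (Fin 1 ⊕ Fin 1 → F) :=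
    1 + (LinearMap.single F _ (.inl 0)).comp (LinearMap.proj (.inr 0))
  have hu : ∀ j : ℕ, ∀ v, (u ^ j) v = v + Pi.single (.inl 0) (j * v (.inr 0)) := fun j => by
    induction j with
    | zero => simp
    | succ j ih =>
      intro v
      rw [pow_succ', Module.End.mul_apply, ih]
      simp [u, add_mul, Pi.single_add, add_assoc]
  obtain ⟨y, c, h8, h10, h11, -⟩ := sp_sum hB (sd_spB (l := Fin 1)) (d' := 1) (n := n) hV (by simp)
    (by omega) (by omega) h6 (b := u) fun x y => by simp [u, spB_apply']; ring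
  have h12 := LinearMap.congr_fun h11 (Pi.single (.inr 0) 1)
  rw [hu] at h12
  have h13 := congrFun h12 (.inl 0)
  have h14 := congrFun h12 (.inr 0)
  simp at h13 h14
  subst h14
  exact ⟨y, hc.mul_dvd_of_dvd_of_dvd (h3.trans (h7 _ (by simpa using h10)))
    ((CharP.cast_eq_zero_iff F p _).1 h13)⟩

end Cfsg.Agent.S2472
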