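import Cfsg.Statements.S2474
import Cfsg.Agent.H28.Spec6

set_option autoImplicit false
open Cfsg

namespace Cfsg.Agent.S2474

open H28 H12 H13 Module QuadraticMap

variable {F : Type*} [Field F] [Fintype F] {p a n : ℕ} [hp : Fact p.Prime] [CharP F p]

lemma iffO {G : Type*} [Group G] [Finite G] {m : ℕ} :
    m ∈ Set.range (orderOf : G → ℕ) ↔ ∃ g : G, m ∣ orderOf g :=
  ⟨fun ⟨g, h⟩ => ⟨g, h ▸ dvd_rfl⟩, fun ⟨_, h⟩ => H19.exists_orderOf_of_dvd h⟩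

lemma stabO (h2 : (2 : F) ≠ 0) (g : Om (QOdd n F)) : Stab (Fintype.card F) (rts (eo _ g.1)) :=
  stab_eo (nd_QOdd h2) _

lemma dvO {g : Om (QOdd n F)} {s : ℕ} (h : s ∣ orderOf g) : Dv s (eo _ g.1) :=
  dv_eo (by rwa [Subgroup.orderOf_coe])

lemma odd_dvd {s N k : ℕ} (hs : s.Prime) (h2 : s ≠ 2) (h : s ∣ N) (h' : N ∣ 2 * k) : s ∣ k :=
  ((Nat.coprime_primes hs Nat.prime_two).2 h2).dvd_of_dvd_mul_left (h.trans h')

lemma caseD (hq : Fintype.card F = p ^ a) (h2 : (2 : F) ≠ 0) (hn : 0 < n) {r s : ℕ} (hr : r.Prime)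
    (hs : s.Prime) (hrs : r ≠ s) (hr2 : r ≠ 2) (hrp : r ≠ p) (hs2 : s ≠ 2) (hsp : s ≠ p) :
    (∃ g : Om (QOdd n F), r * s ∣ orderOf g) ↔ ∃ y : PSp n F, r * s ∣ orderOf y := by
  have hc := (Nat.coprime_primes hr hs).2 hrs
  have h0 : finrank F (Unit ⊕ (Fin n ⊕ Fin n) → F) = 2 * n + 1 := by simp; ring
  have h1 : finrank F (Fin n ⊕ Fin n → F) = 2 * n := by simp; ring
  have sq : ∀ {V : Type} [AddCommGroup V] [Module F V] {t : End F V} {N k s : ℕ} {c : F}, s.Prime →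
      s ≠ 2 → s ∣ N → Dv N t → c * c = 1 → t ^ k = c • 1 → s ∣ k := fun hs hs2 h h' hc hk =>
    odd_dvd hs hs2 h (h' _ (by rw [mul_comm, pow_mul, hk, smul_pow, pow_two, hc]; simp))
  constructor
  · rintro ⟨g, hg⟩
    rcases crit2 (stabO h2 g) hr hr2 hrp hs hs2 hsp hrs (dvO ((dvd_mul_right _ _).trans hg))
      (dvO ((dvd_mul_left _ _).trans hg)) with ⟨d, N, hN, h3, h4⟩ | ⟨d, N, d', N', hN, hN', h3, h4, h5⟩
    · obtain ⟨V, _, _, _, B, hB, hV, t, h6, h7, -⟩ := tor' hq hN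
      obtain ⟨y, c, h8, h9, -⟩ := sp_sum hB (sd_spB (l := Fin 0)) (d' := 0) hV (by simp)
        (by omega : d + 0 ≤ n) hn h6 (b := 1) fun _ _ => rfl
      exact ⟨y, hc.mul_dvd_of_dvd_of_dvd (sq hr hr2 ((dvd_mul_right _ _).trans h3) h7 h8 h9)
        (sq hs hs2 ((dvd_mul_left _ _).trans h3) h7 h8 h9)⟩
    · obtain ⟨V, _, _, _, B, hB, hV, t, h6, h7, -⟩ := tor' hq hN
      obtain ⟨V', _, _, _, B', hB', hV', t', h6', h7', -⟩ := tor' hq hN'
      obtain ⟨y, c, h8, h9, h10, -⟩ := sp_sum hB hB' hV hV' (by omega) hn h6 h6'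
      exact ⟨y, hc.mul_dvd_of_dvd_of_dvd (sq hr hr2 h3 h7 h8 h9) (sq hs hs2 h4 h7' h8 h10)⟩
  rintro ⟨y, hy⟩
  obtain ⟨b, hS, hb, -⟩ := psp_lift hn y
  have hb' : ∀ s, s ∣ orderOf y → Dv s b := fun s h k hk => h.trans (hb k 1 (by simpa using hk))
  rcases crit2 hS hr hr2 hrp hs hs2 hsp hrs (hb' _ ((dvd_mul_right _ _).trans hy))
    (hb' _ ((dvd_mul_left _ _).trans hy)) with ⟨d, N, hN, h3, h4⟩ | ⟨d, N, d', N', hN, hN', h3, h4, h5⟩
  · obtain ⟨m, rfl⟩ : ∃ m, n = d + m := ⟨n - d, by omega⟩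
    obtain ⟨x, k, h6, h7⟩ := om_step h2 hN (1 : Om (QOdd m F))
    exact ⟨x, h7 ▸ (hc.mul_dvd_of_dvd_of_dvd (odd_dvd hr hr2 ((dvd_mul_right _ _).trans h3) h6)
      (odd_dvd hs hs2 ((dvd_mul_left _ _).trans h3) h6)).trans (Nat.dvd_lcm_left _ _)⟩
  · obtain ⟨m, rfl⟩ : ∃ m, n = d + (d' + m) := ⟨n - d - d', by omega⟩
    obtain ⟨x', k', h6', h7'⟩ := om_step h2 hN' (1 : Om (QOdd m F))
    obtain ⟨x, k, h6, h7⟩ := om_step h2 hN x'
    exact ⟨x, h7 ▸ hc.mul_dvd_of_dvd_of_dvd ((odd_dvd hr hr2 h3 h6).trans (Nat.dvd_lcm_left _ _))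
      (h7' ▸ (odd_dvd hs hs2 h4 h6').trans ((Nat.dvd_lcm_left _ _).trans (Nat.dvd_lcm_right _ _)))⟩

lemma caseC (hq : Fintype.card F = p ^ a) (h2 : (2 : F) ≠ 0) (hn : 0 < n) {s : ℕ}
    (hs : s.Prime) (hs2 : s ≠ 2) (hsp : s ≠ p) :
    (∃ g : Om (QOdd n F), p * s ∣ orderOf g) ↔ ∃ y : PSp n F, p * s ∣ orderOf y := by
  classical
  have hc := (Nat.coprime_primes hp.out hs).2 hsp.symm
  have h0 : finrank F (Unit ⊕ (Fin n ⊕ Fin n) → F) = 2 * n + 1 := by simp; ring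
  have h1 : finrank F (Fin n ⊕ Fin n → F) = 2 * n := by simp; ring
  constructor
  · rintro ⟨g, hg⟩
    obtain ⟨d, N, hN, h3, h4⟩ := crit3 (stabO h2 g) hs hs2 hsp (dvO ((dvd_mul_left _ _).trans hg))
      (dvO ((dvd_mul_right _ _).trans hg)) (e := 2) (by omega)
      fun y hy hk β h _ => hk.trans (le_count_rts hy h)
    obtain ⟨V, _, _, _, B, hB, hV, t, h6, h7, -⟩ := tor' hq hN
    obtain ⟨B', hB', u, h8, h9⟩ := exists_sp_unip (p := p) h2
    obtain ⟨y, c, -, h10, h11, -⟩ := sp_sum hB hB' (d' := 1) hV (finrank_Tr 2) (by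
      rcases h4 with h4 | ⟨d', N', h4, -, h5⟩
      · omega
      · have := h4.1
        omega) hn h6 h8
    obtain ⟨rfl, h12⟩ := h9 _ _ h11
    exact ⟨y, hc.mul_dvd_of_dvd_of_dvd h12 (h3.trans (h7 _ (by simpa using h10)))⟩
  rintro ⟨y, hy⟩
  obtain ⟨b, hS, hb, -⟩ := psp_lift hn y
  have hb' : ∀ s, s ∣ orderOf y → Dv s b := fun s h k hk => h.trans (hb k 1 (by simpa using hk))
  obtain ⟨d, N, hN, h3, h4⟩ := crit3 hS hs hs2 hsp (hb' _ ((dvd_mul_left _ _).trans hy))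
    (hb' _ ((dvd_mul_right _ _).trans hy)) (e := 2) (by omega)
    fun y hy hk β h _ => hk.trans (le_count_rts hy h)
  obtain ⟨m, rfl⟩ : ∃ m, n = d + (m + 1) := ⟨n - d - 1, by
    rcases h4 with h4 | ⟨d', N', h4, -, h5⟩
    · omega
    · have := h4.1
      omega⟩
  have hodd := odd_card_of_two_ne_zero h2
  obtain ⟨z, hz⟩ := exists_Om_prime h2 m.succ_pos hp.out (by
    rw [mul_comm]
    refine Nat.mul_dvd_mul (hq ▸ dvd_pow_self _ ?_) (Nat.Odd.sub_odd hodd.pow odd_one).two_dvd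
    rintro rfl
    exact Fintype.one_lt_card.ne' hq)
  obtain ⟨x, k, h6, h7⟩ := om_step h2 hN z
  exact ⟨x, h7 ▸ hc.mul_dvd_of_dvd_of_dvd (hz ▸ Nat.dvd_lcm_right _ _)
    ((odd_dvd hs hs2 h3 h6).trans (Nat.dvd_lcm_left _ _))⟩

lemma neg_part {V W : Type*} [AddCommGroup V] [Module F V] [AddCommGroup W] [Module F W]
    [Nontrivial V] [Nontrivial W] (h2 : (2 : F) ≠ 0) {t : End F V} {k s : ℕ} {c : F} (ht : t ^ s = 1)
    (hs : s ∣ k) (h : t ^ k = c • 1) (h' : ((-1 : F) • 1 : End F W) ^ k = c • 1) : 2 ∣ k := by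
  obtain ⟨k, rfl⟩ := hs
  rw [pow_mul, ht, one_pow] at h
  obtain rfl : 1 = c := smul_left_injective F one_ne_zero ((one_smul F _).trans h)
  rw [smul_pow, one_pow] at h'
  exact ((neg_one_pow_eq_one_iff_even fun h => h2 (by linear_combination -h)).1
    (smul_left_injective F one_ne_zero h')).two_dvd

lemma caseB (hq : Fintype.card F = p ^ a) (h2 : (2 : F) ≠ 0) (hp2 : p ≠ 2) (hn : 0 < n) {s : ℕ}
    (hs : s.Prime) (hs2 : s ≠ 2) (hsp : s ≠ p) :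
    (2 * s ∈ Set.range (orderOf : Om (QOdd n F) → ℕ)) ↔ 2 * s ∈ Set.range (orderOf : PSp n F → ℕ) := by
  have hc := (Nat.coprime_primes Nat.prime_two hs).2 hs2.symm
  have h0 : finrank F (Unit ⊕ (Fin n ⊕ Fin n) → F) = 2 * n + 1 := by simp; ring
  have h1 : finrank F (Fin n ⊕ Fin n → F) = 2 * n := by simp; ring
  have hodd := odd_card_of_two_ne_zero h2
  have h4s : ∀ {N}, s ∣ N → 4 ∣ N → 2 * (2 * s) ∣ N := fun h h' => by
    simpa [← mul_assoc] using (hc.pow_left 2).mul_dvd_of_dvd_of_dvd h' h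
  constructor
  · rintro ⟨g, hg⟩
    rw [← Subgroup.orderOf_coe] at hg
    obtain ⟨W, k, hk, hW, hW', h3, h4, h5, g₁, g₂, h6⟩ := split_inv (nd_QOdd h2) h2 (j := s)
      (pow_mem g.2 _) (pow_ne_one_of_lt_orderOf hs.ne_zero (by have := hs.pos; omega))
      (by rw [← pow_mul, mul_comm, ← hg, pow_orderOf_eq_one])
    obtain ⟨d, N, hN, h7, h8⟩ : ∃ d N, Pm (Fintype.card F) d N ∧ s ∣ N ∧ (d < n ∨ d = n ∧ 4 ∣ N) := by
      rcases hs.dvd_lcm.1 ((Dvd.intro_left _ hg.symm).trans h6) with h | h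
      · by_cases hi : ∀ i, 0 < i → i < k → ¬ s ∣ Fintype.card F ^ (2 * i) - 1
        · obtain ⟨N, hN, h7, h8⟩ := type_of_negOne hW h2 hk h3 h5 hs hs2 (fun h => hsp
            ((Nat.prime_dvd_prime_iff_eq hs hp.out).1 (hs.dvd_of_dvd_pow (hq ▸ h)))) h hi
          exact ⟨k, N, hN, h8, by omega⟩
        push Not at hi
        obtain ⟨i, h7, h8, h9⟩ := hi
        obtain ⟨N, hN, h10⟩ := exists_pm Fintype.card_pos h7 hs h9
        exact ⟨i, N, hN, h10, by omega⟩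
      obtain ⟨d, N, hN, h7, h8⟩ := crit1 (stab_eo hW' g₂) hs hs2 hsp
        (dv_eo h)
      exact ⟨d, N, hN, h7, by omega⟩
    obtain ⟨V, _, _, _, B, hB, hV, t, h9, h10, h11⟩ := tor' hq hN
    rw [iffO]
    rcases h8 with h8 | ⟨rfl, h8⟩
    · have hd := hN.1
      have : Nontrivial V := nontrivial_of_finrank_pos (R := F) (by omega)
      have := Module.finite_of_finite F (M := V)
      have : Finite (End F V) := Finite.of_injective _ DFunLike.coe_injective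
      have ht : IsOfFinOrder t := ((LinearMap.isUnit_iff_isUnit_det t).2
        (by simp [S2512.det_sp hB h9])).isOfFinOrder
      obtain ⟨j, hj⟩ := h7.trans (h10 _ (pow_orderOf_eq_one t))
      obtain ⟨y, c, h12, h13, h14, -⟩ := sp_sum hB (sd_spB (l := Fin 1)) (d' := 1) hV (by simp)
        h8 hn (h9.pow j) (b := (-1 : F) • 1) fun _ _ => by simp
      have h15 : s ∣ orderOf y := odd_dvd hs hs2 dvd_rfl (Nat.dvd_of_mul_dvd_mul_left
        (Nat.pos_of_mul_pos_left (hj ▸ ht.orderOf_pos)) (by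
          rw [mul_comm j s, ← hj, orderOf_dvd_iff_pow_eq_one, pow_mul, mul_comm 2, pow_mul, h13,
            smul_pow, pow_two, h12]; simp))
      exact ⟨y, hc.mul_dvd_of_dvd_of_dvd (neg_part h2 (by
        rw [← pow_mul, mul_comm, ← hj, pow_orderOf_eq_one]) h15 h13 h14) h15⟩
    obtain ⟨y, c, h12, h13, -⟩ := sp_sum hB (sd_spB (l := Fin 0)) (d' := 0) hV (by simp)
      le_rfl hn h9 (b := 1) fun _ _ => rfl
    exact ⟨y, Nat.dvd_of_mul_dvd_mul_left two_pos ((h4s h7 h8).trans (h10 _ (by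
      rw [mul_comm, pow_mul, h13, smul_pow, pow_two, h12]; simp)))⟩
  rintro ⟨y, hy⟩
  obtain ⟨b, hS, hb, hb'⟩ := psp_lift hn y
  obtain ⟨d, N, hN, h3, h4⟩ := crit4 hS hodd hp2 hs hs2 hsp (hy ▸ hb) (by rwa [hy, ← mul_assoc] at hb')
  rw [iffO]
  rcases h4 with h4 | ⟨h4, h5⟩
  · obtain ⟨m, rfl⟩ : ∃ m, n = d + (m + 1) := ⟨n - d - 1, by omega⟩
    obtain ⟨z, hz⟩ := exists_Om_prime h2 m.succ_pos Nat.prime_two (by
      obtain ⟨e, he⟩ := hodd
      rw [he, show (2 * e + 1) ^ 2 = 2 * 2 * (e * e + e) + 1 by ring]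
      exact (dvd_mul_right _ _).mul_left _)
    obtain ⟨x, k, h6, h7⟩ := om_step h2 hN z
    exact ⟨x, h7 ▸ hc.mul_dvd_of_dvd_of_dvd (hz ▸ Nat.dvd_lcm_right _ _)
      ((odd_dvd hs hs2 h3 h6).trans (Nat.dvd_lcm_left _ _))⟩
  obtain rfl : n = d + 0 := by omega
  obtain ⟨x, k, h6, h7⟩ := om_step h2 hN (1 : Om (QOdd 0 F))
  exact ⟨x, h7 ▸ (Nat.dvd_of_mul_dvd_mul_left two_pos ((h4s h3 h5).trans h6)).trans
    (Nat.dvd_lcm_left _ _)⟩

lemma caseA (hq : Fintype.card F = p ^ a) (h2 : (2 : F) ≠ 0) (hp2 : p ≠ 2) (hn : 3 ≤ n) :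
    (∃ g : Om (QOdd n F), 2 * p ∣ orderOf g) ∧ ∃ y : PSp n F, 2 * p ∣ orderOf y := by
  have hc := (Nat.coprime_primes Nat.prime_two hp.out).2 hp2.symm
  have hodd := odd_card_of_two_ne_zero h2
  constructor
  · obtain ⟨m, rfl⟩ : ∃ m, n = 2 + (m + 1) := ⟨n - 3, by omega⟩
    obtain ⟨z, hz⟩ := exists_Om_prime h2 m.succ_pos hp.out (by
      rw [mul_comm]
      refine Nat.mul_dvd_mul (hq ▸ dvd_pow_self _ ?_) (Nat.Odd.sub_odd hodd.pow odd_one).two_dvd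
      rintro rfl
      exact Fintype.one_lt_card.ne' hq)
    obtain ⟨e, he⟩ := hodd
    obtain ⟨x, k, h6, h7⟩ := om_step h2 (d := 2) (N := 2 * (2 * (e * e + e)))
      ⟨two_pos, Or.inl (by rw [he]; ring)⟩ z
    exact ⟨x, h7 ▸ hc.mul_dvd_of_dvd_of_dvd (((dvd_mul_right _ _).trans
      (Nat.dvd_of_mul_dvd_mul_left two_pos h6)).trans (Nat.dvd_lcm_left _ _))
      (hz ▸ Nat.dvd_lcm_right _ _)⟩
  obtain ⟨B, hB, u, h8, h9⟩ := exists_sp_unip (p := p) h2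
  obtain ⟨y, c, -, h13, h14, h15⟩ := sp_sum hB (sd_spB (l := Fin 1)) (d := 1) (d' := 1) (n := n)
    (finrank_Tr 2) (by simp) (by omega) (by omega) h8 (b := (-1 : F) • 1) fun _ _ => by simp
  obtain ⟨rfl, h16⟩ := h9 _ _ h13
  exact ⟨y, hc.mul_dvd_of_dvd_of_dvd (neg_part (V := F) h2 (s := 1) (t := 1) rfl (one_dvd _)
    (by simp) h14) h16⟩

/-- For q odd and n ≥ 3 the simple groups PΩ(2n+1,q) and PSp(2n,q) (which have the same order but different sets of element orders) have the same prime graph: for all distinct primes r, s, one of them has an element of order r·s if and only if the other does. -/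
theorem result {F : Type*} [Field F] [Fintype F] (hodd : Odd (Fintype.card F)) (n : ℕ) (hn : 3 ≤ n) (r s : ℕ) (hr : r.Prime) (hs : s.Prime) (hrs : r ≠ s) :
    (r * s ∈ Set.range (orderOf : Cfsg.POmega F (Cfsg.quadFormOdd n F) → ℕ)) ↔ (r * s ∈ Set.range (orderOf : Cfsg.PSp n F → ℕ)) := by
  obtain ⟨p, _⟩ := CharP.exists F
  obtain ⟨a, hp, hq⟩ := FiniteField.card F p
  have := Fact.mk hp
  have h2 := two_ne_zero_of_odd_card hodd
  have hp2 : p ≠ 2 := by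
    rintro rfl
    exact h2 (CharP.cast_eq_zero F 2)
  rw [range_pomega' h2 (by omega)]
  wlog h : r = 2 ∨ s ≠ 2 ∧ s ≠ p generalizing r s
  · rw [mul_comm]
    exact this s r hs hr hrs.symm (by omega)
  by_cases hr2 : r = 2
  · subst hr2
    by_cases hsp : s = p
    · subst hsp
      rw [iffO, iffO]
      exact iff_of_true (caseA hq h2 hp2 hn).1 (caseA hq h2 hp2 hn).2
    exact caseB hq h2 hp2 (by omega) hs hrs.symm hsp
  obtain ⟨hs2, hsp⟩ := h.resolve_left hr2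
  rw [iffO, iffO]
  by_cases hrp : r = p
  · subst hrp
    exact caseC hq h2 (by omega) hs hs2 hsp
  exact caseD hq h2 (by omega) hr hs hrs hr2 hrp hs2 hsp

end Cfsg.Agent.S2474
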