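import Cfsg.Statements.S2477
import Cfsg.Agent.H28.AltOrders

set_option autoImplicit false
open Cfsg

namespace Cfsg.Agent.S2477

open Cfsg.Agent.H28

def T : List (ℕ × ℕ × ℕ) := [(0, 1, 0), (2, 2, 1), (3, 3, 0), (4, 2, 0), (4, 4, 1), (5, 5, 0), (5, 6, 1), (6, 2, 1), (6, 3, 0), (6, 4, 0), (6, 6, 1), (7, 6, 0), (7, 7, 0), (7, 10, 1), (7, 12, 1), (8, 2, 0), (8, 4, 0), (8, 4, 1), (8, 6, 0), (8, 6, 1), (8, 8, 1), (8, 15, 0), (9, 3, 0), (9, 6, 1), (9, 9, 0), (9, 10, 0), (9, 12, 0), (9, 14, 1), (9, 20, 1), (10, 2, 1), (10, 4, 0), (10, 4, 1), (10, 5, 0), (10, 6, 0), (10, 6, 1), (10, 8, 0), (10, 10, 1), (10, 12, 0), (10, 12, 1), (10, 21, 0), (10, 30, 1)]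

lemma closed : ∀ t ∈ T, ∀ a ∈ List.range 11, 2 ≤ a → a + t.1 ≤ 10 →
    (a + t.1, Nat.lcm a t.2.1, (t.2.2 + a + 1) % 2) ∈ T := by decide +kernel

lemma final : ∀ t ∈ T, t.2.2 = 0 → t.2.1 ∈ [1, 2, 3, 4, 5, 6, 7, 8, 9, 10, 12, 15, 21] := by
  decide +kernel

lemma mem_T (M : Multiset ℕ) (h1 : M.sum ≤ 10) (h2 : ∀ a ∈ M, 2 ≤ a) :
    (M.sum, M.lcm, (M.sum + M.card) % 2) ∈ T := by
  induction M using Multiset.induction_on with
  | empty => decide
  | cons a M ih =>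
    rw [Multiset.sum_cons] at h1
    have h := ih (by omega) (fun b hb => h2 b (by simp [hb]))
    have := closed _ h a (by simp; omega) (h2 a (by simp)) h1
    rw [Multiset.sum_cons, Multiset.lcm_cons, Multiset.card_cons]
    have e : (a + M.sum + (M.card + 1)) % 2 = ((M.sum + M.card) % 2 + a + 1) % 2 := by omega
    rw [e]
    exact this

/-- The set of element orders of the alternating group of degree 10 is {1, 2, 3, 4, 5, 6, 7, 8, 9, 10, 12, 15, 21}. -/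
theorem result : Set.range (orderOf : alternatingGroup (Fin 10) → ℕ) = {1, 2, 3, 4, 5, 6, 7, 8, 9, 10, 12, 15, 21} := by
  ext m
  rw [mem_range_orderOf_alt_iff]
  constructor
  · rintro ⟨M, h1, h2, h3, rfl⟩
    have := final _ (mem_T M h1 h2) (Nat.even_iff.1 h3)
    simpa using this
  · intro h
    simp only [Set.mem_insert_iff, Set.mem_singleton_iff] at h
    rcases h with rfl | rfl | rfl | rfl | rfl | rfl | rfl | rfl | rfl | rfl | rfl | rfl | rfl
    · exact ⟨0, by decide⟩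
    · exact ⟨{2, 2}, by decide⟩
    · exact ⟨{3}, by decide⟩
    · exact ⟨{4, 2}, by decide⟩
    · exact ⟨{5}, by decide⟩
    · exact ⟨{3, 2, 2}, by decide⟩
    · exact ⟨{7}, by decide⟩
    · exact ⟨{8, 2}, by decide⟩
    · exact ⟨{9}, by decide⟩
    · exact ⟨{5, 2, 2}, by decide⟩
    · exact ⟨{4, 3, 2}, by decide⟩
    · exact ⟨{5, 3}, by decide⟩
    · exact ⟨{7, 3}, by decide⟩

end Cfsg.Agent.S2477
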