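import Cfsg.Statements.S2490
import Cfsg.Agent.H19.O7920
import Cfsg.Agent.H19.CI

set_option autoImplicit false
open Cfsg

namespace Cfsg.Agent.S2490
open H19 Subgroup

/-- Let G be a finite group of order 7920 = 2⁴·3²·5·11 (the order of the smallest Mathieu group) and suppose its prime graph (vertices the prime divisors of the order, distinct p, q joined when there is an element of order pq) is disconnected: the prime divisors split into two non-empty parts with no element of order pq for p in one part and q in the other. Then G is simple. -/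
theorem result {G : Type*} [Group G] [Finite G] (hord : Nat.card G = 7920)
    (hdisc : (∃ A : Set ℕ, (∃ a ∈ A, a.Prime ∧ a ∣ Nat.card G) ∧ (∃ b ∉ A, b.Prime ∧ b ∣ Nat.card G) ∧
      ∀ a ∈ A, ∀ b ∉ A, a.Prime → b.Prime → a ∣ Nat.card G → b ∣ Nat.card G → ¬ ∃ g : G, orderOf g = a * b)) :
    IsSimpleGroup G := by
  by_contra hs
  haveI : Fact (Nat.Prime 11) := ⟨by norm_num⟩
  haveI : Fact (Nat.Prime 5) := ⟨by norm_num⟩
  haveI : Fact (Nat.Prime 3) := ⟨by norm_num⟩
  obtain ⟨x, y, hx, hy, hc⟩ : ∃ x y : G, orderOf x = 11 ∧ orderOf y = 3 ∧ Commute x y := by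
    by_contra! h
    exact hs (simple_of_no33 _ G hord dvd_rfl (by norm_num) h).1
  obtain ⟨A, ⟨a, ha, a1, a2⟩, ⟨b, hb, b1, b2⟩, h⟩ := hdisc
  have adj : ∀ {p q : ℕ} {u v : G}, p.Prime → q.Prime → p ≠ q → orderOf u = p → orderOf v = q →
      Commute u v → (p ∈ A ↔ q ∈ A) := fun {p q u v} hp hq hpq hu hv huv => by
    have h1 := huv.orderOf_mul_eq_mul_orderOf_of_coprime
      (by rw [hu, hv]; exact (Nat.coprime_primes hp hq).mpr hpq)
    rw [hu, hv] at h1
    refine ⟨fun f => by_contra fun g => h p f q g hp hq (hu ▸ orderOf_dvd_natCard u)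
      (hv ▸ orderOf_dvd_natCard v) ⟨_, h1⟩, fun f => by_contra fun g => h q f p g hq hp
      (hv ▸ orderOf_dvd_natCard v) (hu ▸ orderOf_dvd_natCard u) ⟨_, h1.trans (mul_comm _ _)⟩⟩
  have hn : ¬ 11 ^ 2 ∣ Nat.card G := by omega
  have hCN : centralizer {x} ≤ NN x := fun g hg =>
    mem_normalizer_of_commute hx (mem_centralizer_singleton_iff.mp hg).symm
  have h1 : cc x * eN hx = Nat.card (NN x) := by
    rw [eN, card_EE, cc, ← relIndex_bot_left, ← relIndex_bot_left, relIndex_mul_relIndex _ _ _ bot_le hCN]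
  have h2 : Nat.card (NN x) * sN x = 7920 := hord ▸ card_mul_index _
  have h3 : 3 ∣ cc x := hy ▸ orderOf_dvd_cc hc.symm
  have h4 := (by decide +kernel : ∀ d ∈ dv 7920, d % 11 = 1 → d = 1 ∨ d = 12 ∨ d = 45 ∨ d = 144) _
    (mem_dv (by norm_num) (Dvd.intro_left _ h2))
    (by rw [sN_eq_card hx hn]; exact card_sylow_modEq_one 11 G)
  have h5 := (by decide : ∀ d ∈ dv 10, d = 1 ∨ d = 2 ∨ d = 5 ∨ d = 10) _
    (mem_dv (by norm_num) (Dvd.intro _ (eN_mul hx)))
  have h6 : 2 ∣ cc x ∧ 5 ∣ Nat.card (NN x) := by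
    rcases h4 with e | e | e | e <;> rcases h5 with f | f | f | f <;> rw [e] at h2 <;>
      rw [f] at h1 <;> omega
  have h311 := adj (by norm_num) (by norm_num) (by norm_num) hx hy hc
  obtain ⟨t, ht, tc⟩ := exists_of_dvd_cc Nat.prime_two h6.1
  have h211 := adj (by norm_num) (by norm_num) (by norm_num) ht hx tc
  have h511 : 5 ∈ A ↔ 11 ∈ A := by
    by_cases h7 : 5 ∣ cc x
    · obtain ⟨t, ht, tc⟩ := exists_of_dvd_cc (by norm_num) h7
      exact adj (by norm_num) (by norm_num) (by norm_num) ht hx tc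
    obtain ⟨w, hw⟩ := exists_prime_orderOf_dvd_card' 5 h6.2
    obtain ⟨K, hK⟩ := exists_PO hx hn
    have h8 := hK.card_centralizer
    have h9 := hord ▸ card_subgroup_dvd_card K
    obtain ⟨z, -, hz, zc⟩ := exists_commute_of_sylow (q := 3) ((orderOf_coe w).trans hw) (K := K)
      (mem_normalizer_fintype fun k hk => hK.conj_mem w.2 hk) (by unfold cc at h7; omega)
      (by unfold cc at h3; omega) (fun f => by have := f.trans h9; omega) (by norm_num) (by norm_num)
    exact (adj (by norm_num) (by norm_num) (by norm_num) ((orderOf_coe w).trans hw) hz zc).trans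
      h311.symm
  have key : ∀ p : ℕ, p.Prime → p ∣ Nat.card G → (p ∈ A ↔ 11 ∈ A) := fun p hp hd => by
    rcases (by decide +kernel : ∀ d ∈ dv 7920, d = 2 ∨ d = 3 ∨ d = 5 ∨ d = 11 ∨ d = 1 ∨
      ∃ p ∈ [2, 3, 5, 11], p ∣ d ∧ p ≠ 1 ∧ p ≠ d) _ (mem_dv (by norm_num) (hord ▸ hd)) with
      rfl | rfl | rfl | rfl | e | ⟨q, -, e⟩
    exacts [h211, h311.symm, h511, Iff.rfl, absurd e hp.ne_one,
      (hp.eq_one_or_self_of_dvd q e.1).elim (absurd · e.2.1) (absurd · e.2.2)]
  exact hb ((key b b1 b2).mpr ((key a a1 a2).mp ha))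

end Cfsg.Agent.S2490
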