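import Cfsg.Statements.S2495
import Cfsg.Agent.H13.HalfT

set_option autoImplicit false
open Cfsg

namespace Cfsg.Agent.S2495

open H28 H12 H13 Module in

/-- Let q be an odd prime power, n ≥ 4 even, and L = PSL(n,q). Then L has an element of order q^(n/2) + 1 if and only if the 2-part of n exceeds the 2-part of q − 1. -/
theorem result {F : Type*} [Field F] [Fintype F] {q : ℕ} (hF : Fintype.card F = q) (hodd : Odd q)
    {n : ℕ} (hn : 4 ≤ n) (heven : Even n) :
    (∃ g : Matrix.ProjectiveSpecialLinearGroup (Fin n) F, orderOf g = q ^ (n / 2) + 1) ↔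
      padicValNat 2 (q - 1) < padicValNat 2 n := by
  obtain ⟨p, _⟩ := CharP.exists F
  have hp := Fact.mk (CharP.char_is_prime F p)
  obtain ⟨k, rfl⟩ := heven
  rw [← two_mul] at hn ⊢
  rw [Nat.mul_div_cancel_left _ two_pos]
  subst hF
  have hq := Fintype.one_lt_card (α := F)
  set z : ℤ := (Fintype.card F : ℤ) with hzz
  have hz : (z - 1).natAbs = Fintype.card F - 1 := by omega
  have hm : (z ^ k + 1).natAbs = Fintype.card F ^ k + 1 := by
    rw [hzz]; exact_mod_cast rfl
  have hpq : p ∣ Fintype.card F := by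
    obtain ⟨a, -, h⟩ := FiniteField.card F p
    exact h ▸ dvd_pow_self p a.ne_zero
  constructor
  · rintro ⟨y, hy⟩
    obtain ⟨a, h1, h2, h3, h4⟩ := psl_lift y
    obtain ⟨r, hr, h5, h6⟩ := H2.zsigmondy hq (n := 2 * k) (by omega)
      (fun h => by rw [h.1] at hodd; exact absurd hodd (by decide)) (fun h => by omega)
    have h7 : r ∣ Fintype.card F ^ k + 1 := by
      rw [mul_comm, pow_mul, show (Fintype.card F ^ k) ^ 2 - 1 = (Fintype.card F ^ k + 1) * (Fintype.card F ^ k - 1) by
        simpa using Nat.pow_two_sub_pow_two (Fintype.card F ^ k) 1] at h5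
      exact (hr.dvd_mul.1 h5).resolve_right (h6 k (by omega) (by omega))
    have h8 : (Fintype.card F ^ k + 1).Coprime p := by
      refine ((Nat.Prime.coprime_iff_not_dvd hp.out).2 fun h => hp.out.not_dvd_one ?_).symm
      exact (Nat.dvd_add_right (hpq.trans (dvd_pow_self _ (by omega)))).1 h
    refine half_nec hz (by omega) (by omega) (by positivity) fun A hA => ?_
    rw [hm]
    refine cox_dvd (p := p) h1 h2 h3 (hy ▸ h4) hr ?_ h7 (fun D h9 h10 h11 => ?_) h8 (by simpa using hA)
    · rintro rfl
      exact hr.one_lt.ne' (h8.symm.eq_one_of_dvd h7)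
    · refine h6 D h9 (by simpa using h10) ?_
      rw [dvd_pow_sub_iff (by omega), ← int_dvd_pow_sub_iff]
      exact h11
  · intro h
    have h1 := half_suff hz (by omega) (k := k) (by omega) h
    rw [hm] at h1
    refine mem_range_orderOf.2 ?_
    set μ := (∑ j ∈ Finset.range (2 * k), z ^ j).natAbs
    have hμ : μ * (Fintype.card F - 1) = Fintype.card F ^ (2 * k) - 1 := by
      rw [← hz, natAbs_geom]
      have := Nat.one_le_pow (2 * k) _ (by omega : 0 < Fintype.card F)
      zify [this]
      rw [abs_of_nonneg (by simpa using (Int.ofNat_le.2 this))]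
    have : NeZero (2 * k) := ⟨by omega⟩
    obtain ⟨t, -, ht⟩ := exists_orderOf_field (E := FiniteField.Extension F p (2 * k)) (m := μ)
      (by rw [FiniteField.natCard_extension, Nat.card_eq_fintype_card, ← hμ]; simp)
    have h2 : LinearMap.det (Algebra.lmul F _ t : End F _) = 1 := by
      refine norm_eq_one_of ?_
      rw [FiniteField.natCard_extension, Nat.card_eq_fintype_card, ← hμ,
        Nat.mul_div_cancel _ (by omega), ← ht, pow_orderOf_eq_one]
    obtain ⟨Ψ, hΨ, -⟩ := exists_PR_SL (σ := RingHom.id F) (B := 0) (by simp)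
      (FiniteField.finrank_extension F p (2 * k))
    obtain ⟨g, hg⟩ := exists_en (σ := RingHom.id F) (B := 0) (fun _ _ => rfl) h2
    obtain ⟨c, hc⟩ := (hΨ.orderOf_dvd_iff g _).1 dvd_rfl
    have h3 : c ≠ 0 := fun h => by
      have := congrArg LinearMap.det hc
      simp [h, det_en] at this
    refine ⟨Ψ g, h1.trans (div_gcd_dvd_of (Nat.pos_of_mul_pos_right (by
      rw [hμ]; have := Nat.one_lt_pow (NeZero.ne (2 * k)) hq; omega)) ?_)⟩
    rw [← ht, orderOf_dvd_iff_pow_eq_one]
    refine (lmul_pow_eq_smul.1 (?_ : _ = (1 : F) • _)).trans (map_one _)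
    rw [← hg, pow_mul, hc, smul_pow, FiniteField.pow_card_sub_one_eq_one c h3]
    simp

end Cfsg.Agent.S2495
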