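import Cfsg.Statements.S2496
import Cfsg.Agent.H13.HalfT
import Cfsg.Agent.S2511

set_option autoImplicit false
open Cfsg

namespace Cfsg.Agent.S2496

open H28 H12 H13 Module in

/-- Let q be an odd prime power, n ≥ 4 even, and U = PSU(n,q) (realised over the field with q² elements). Then U has an element of order q^(n/2) + (−1)^(n/2) — that is, q^(n/2) + 1 when n/2 is even and q^(n/2) − 1 when n/2 is odd — if and only if the 2-part of n exceeds the 2-part of q + 1. -/
theorem result {F : Type*} [Field F] [Fintype F] {q : ℕ} (hF : Fintype.card F = q ^ 2) (hodd : Odd q)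
    {n : ℕ} (hn : 4 ≤ n) (heven : Even n) :
    (∃ g : Cfsg.PSU n F q, orderOf g = if Even (n / 2) then q ^ (n / 2) + 1 else q ^ (n / 2) - 1) ↔
      padicValNat 2 (q + 1) < padicValNat 2 n := by
  obtain ⟨p, a, hp, _, hq⟩ := exists_pow_of_card_eq_sq hF
  have := Fact.mk hp
  have hq2 := two_le_of_card_eq_sq hF
  obtain ⟨k, rfl⟩ := heven
  rw [← two_mul] at hn ⊢
  rw [Nat.mul_div_cancel_left _ two_pos]
  have hz : ((-q : ℤ) - 1).natAbs = q + 1 := by omega
  have hk1 := Nat.one_lt_pow (n := k) (by omega) hq2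
  have hm : ((-q : ℤ) ^ k + 1).natAbs = if Even k then q ^ k + 1 else q ^ k - 1 := by
    split_ifs with h
    · rw [h.neg_pow]; exact_mod_cast rfl
    · rw [(Nat.not_even_iff_odd.1 h).neg_pow, ← Nat.cast_pow]; omega
  have hpq : p ∣ q := by
    rw [hq]
    refine dvd_pow_self p ?_
    rintro rfl
    rw [pow_zero] at hq
    omega
  rw [← hm]
  constructor
  · rintro ⟨y, hy⟩
    obtain ⟨a, h1, h2, h3, h4⟩ := psu_lift hF (by omega) y
    obtain ⟨r, hr, h7, h6⟩ : ∃ r : ℕ, r.Prime ∧ r ∣ ((-q : ℤ) ^ k + 1).natAbs ∧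
        ∀ D, 0 < D → D < 2 * k → ¬ (r : ℤ) ∣ (-q) ^ D - 1 := by
      have key : ∀ {r D : ℕ}, (r : ℤ) ∣ (-q) ^ D - 1 → orderOf (q : ZMod r) ∣ 2 * D := fun {r D} h => by
        rw [← int_dvd_pow_sub_iff, mul_comm, pow_mul, show ((q : ℤ) ^ D) ^ 2 = ((-q) ^ D) ^ 2 by
          rw [← pow_mul, ← pow_mul, Even.neg_pow (by simp)]]
        exact h.trans (by simpa using sub_dvd_pow_sub_pow ((-q : ℤ) ^ D) 1 2)
      have ord : ∀ {r n : ℕ}, 0 < n → r ∣ q ^ n - 1 → (∀ j, 0 < j → j < n → ¬ r ∣ q ^ j - 1) →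
          orderOf (q : ZMod r) = n := fun {r n} h0 h1 h2 => by
        rw [dvd_pow_sub_iff (by omega)] at h1
        by_contra h3
        exact h2 _ (Nat.pos_of_dvd_of_pos h1 h0) (lt_of_le_of_ne (Nat.le_of_dvd h0 h1) h3)
          ((dvd_pow_sub_iff (by omega)).2 dvd_rfl)
      have hne : q ≠ 2 := fun h => by rw [h] at hodd; exact absurd hodd (by decide)
      rw [hm]
      split_ifs with h
      · obtain ⟨r, hr, h5, h6⟩ := H2.zsigmondy hq2 (n := 2 * k) (by omega) (fun h => hne h.1)
          (fun h => by omega)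
        have h8 := ord (by omega) h5 h6
        refine ⟨r, hr, ?_, fun D h9 h10 h11 => ?_⟩
        · rw [mul_comm, pow_mul, show (q ^ k) ^ 2 - 1 = (q ^ k + 1) * (q ^ k - 1) by
            simpa using Nat.pow_two_sub_pow_two (q ^ k) 1] at h5
          exact (hr.dvd_mul.1 h5).resolve_right (h6 k (by omega) (by omega))
        · have h12 := key h11
          rw [h8, Nat.mul_dvd_mul_iff_left two_pos] at h12
          obtain ⟨c, rfl⟩ := h12
          obtain rfl : c = 1 := by
            rcases c with _ | _ | c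
            · omega
            · rfl
            · nlinarith
          rw [mul_one, h.neg_pow, int_dvd_pow_sub_iff, h8] at h11
          have := Nat.le_of_dvd (by omega) h11
          omega
      · have hk := Nat.not_even_iff_odd.1 h
        obtain ⟨r, hr, h5, h6⟩ := H2.zsigmondy hq2 (n := k) (by omega) (fun h => hne h.1)
          (fun h' => h (h'.1 ▸ even_two))
        have h8 := ord (by omega) h5 h6
        refine ⟨r, hr, h5, fun D h9 h10 h11 => ?_⟩
        have h12 := key h11
        rw [h8] at h12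
        obtain ⟨c, rfl⟩ := (Nat.Coprime.dvd_of_dvd_mul_left (by simpa using hk) h12 : k ∣ D)
        obtain rfl : c = 1 := by
          rcases c with _ | _ | c
          · omega
          · rfl
          · nlinarith
        rw [mul_one, hk.neg_pow] at h11
        have h13 := (int_dvd_pow_sub_iff.2 (h8 ▸ dvd_rfl : orderOf (q : ZMod r) ∣ k)).add h11
        have h14 : r ∣ 2 := by
          rw [show (q : ℤ) ^ k - 1 + (-q ^ k - 1) = -2 by ring, dvd_neg] at h13
          exact_mod_cast h13
        obtain rfl := (Nat.prime_dvd_prime_iff_eq hr Nat.prime_two).1 h14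
        refine h6 1 one_pos (by omega) ?_
        obtain ⟨s, rfl⟩ := hodd
        simp
    have h8 : ((-q : ℤ) ^ k + 1).natAbs.Coprime p := by
      refine ((Nat.Prime.coprime_iff_not_dvd hp).2 fun h => hp.not_dvd_one ?_).symm
      have h7 : (p : ℤ) ∣ (-q : ℤ) ^ k := (dvd_neg.2 (Int.natCast_dvd_natCast.2 hpq)).trans
        (dvd_pow_self _ (by omega))
      exact_mod_cast (dvd_add_right h7).1 (Int.natCast_dvd.2 h)
    refine half_nec hz (by omega) (by omega) (fun h => ?_) fun A hA => ?_
    · rw [h] at hm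
      split_ifs at hm <;> simp at hm
      omega
    refine cox_dvd (p := p) h1 h2 h3 (hy ▸ h4) hr ?_ h7 (by simpa using h6) h8 (by simpa using hA)
    rintro rfl
    exact hr.one_lt.ne' (h8.symm.eq_one_of_dvd h7)
  · intro h
    have h1 := half_suff hz (by omega) (k := k) (by omega) h
    refine mem_range_orderOf.2 ?_
    set μ := (∑ j ∈ Finset.range (2 * k), (-q : ℤ) ^ j).natAbs
    have hμ : μ * (q + 1) = ((-q : ℤ) ^ (2 * k) - 1).natAbs := by rw [← hz, natAbs_geom]
    obtain ⟨V, _, _, _, B, hB, hV, t, h1', h2, h3⟩ := S2511.tor hq hF (by omega) hμ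
    obtain ⟨e⟩ := hB.nonempty_SUG_equiv_SU hF hV
    obtain ⟨Ψ, hΨ, -⟩ := exists_PR_of_equiv hB (by omega) e
    obtain ⟨g, rfl⟩ := exists_en h1' h2
    obtain ⟨c, hc⟩ := (hΨ.orderOf_dvd_iff g _).1 dvd_rfl
    have : Nontrivial V := nontrivial_of_finrank_pos (R := F) (by omega)
    have h4 := mul_eq_one_of_pres hB (hc ▸ h1'.pow _)
    refine ⟨Ψ g, h1.trans (div_gcd_dvd_of (Nat.pos_of_mul_pos_right (a := μ) (b := q + 1) ?_) (h3 _ ?_))⟩
    · rw [hμ, Int.natAbs_pos, sub_ne_zero]
      intro h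
      have := congrArg Int.natAbs h
      simp at this
      omega
    · rw [pow_mul, hc, smul_pow, pow_succ, ← frobq_apply hF, h4]; simp

end Cfsg.Agent.S2496
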