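import Cfsg.Statements.S2515
import Cfsg.Agent.H12.DicksonPSL
import Cfsg.Agent.H13.PG

set_option autoImplicit false
open Cfsg

namespace Cfsg.Agent.S2515

open Matrix MatrixGroups Module

variable {F : Type} [Field F] [CharP F 3]

local instance : Fact (Nat.Prime 3) := ⟨Nat.prime_three⟩

/-- the twisted tensor square -/
noncomputable def rho : Fˣ × SL(2, F) →* End F (Matrix (Fin 2) (Fin 2) F) where
  toFun a := (a.1 : F) • (LinearMap.mulLeft F a.2.1 * LinearMap.mulRight F (a.2.1.map (frobenius F 3))ᵀ)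
  map_one' := by ext1 X; simp
  map_mul' a b := by
    ext1 X
    simp [Matrix.map_mul, mul_assoc, smul_smul, mul_comm]

theorem rho_apply (e : Fˣ) (g : SL(2, F)) (X : Matrix (Fin 2) (Fin 2) F) :
    rho (e, g) X = (e : F) • (g.1 * (X * (g.1.map (frobenius F 3))ᵀ)) := rfl

variable (F) in
theorem three : (3 : F) = 0 := CharP.cast_eq_zero F 3

theorem rho_neg (e : Fˣ) (g : SL(2, F)) : rho (e, -g) = rho (e, g) := by
  ext1 X; simp [rho_apply, Matrix.map_neg]

theorem rho_ker {e : Fˣ} {g : SL(2, F)} (h : rho (e, g) = 1) : e = 1 ∧ g ^ 2 = 1 := by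
  have k : ∀ i j k l, (e : F) * (g.1 k i * g.1 l j ^ 3) = if k = i ∧ l = j then 1 else 0 := fun i j k l => by
    have := congrFun (congrFun (LinearMap.congr_fun h (single i j 1)) k) l
    simpa [rho_apply, mul_apply, single, frobenius_def, ite_and, eq_comm (a := i), eq_comm (a := j)] using this
  have h1 := k 0 0 0 0
  have h2 := k 0 0 1 0
  have h3 := k 1 1 1 1
  have h4 := k 1 1 0 1
  have h5 := k 0 1 0 1
  have h6 := g.2
  rw [det_fin_two] at h6
  simp at h1 h2 h3 h4 h5
  have h7 : g.1 1 0 = 0 := h2.resolve_right fun h => by simp [h] at h1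
  have h8 : g.1 0 1 = 0 := h4.resolve_right fun h => by simp [h] at h3
  rw [h7, mul_zero, sub_zero] at h6
  have h9 : (e : F) * g.1 1 1 ^ 2 = 1 := by linear_combination h5 - e * g.1 1 1 ^ 2 * h6
  have h10 : g.1 1 1 ^ 2 = 1 := by linear_combination h3 - g.1 1 1 ^ 2 * h9
  refine ⟨Units.ext (by simpa [h10] using h9), Subtype.ext ?_⟩
  ext i j
  fin_cases i <;> fin_cases j <;> simp [sq, mul_apply, h7, h8]
  · linear_combination (1 + g.1 0 0 * g.1 1 1) * h6 - g.1 0 0 ^ 2 * h10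
  · linear_combination h10

theorem rho_fix {e : Fˣ} (he : e ^ 2 = 1) {g : SL(2, F)} {X : Matrix (Fin 2) (Fin 2) F}
    (h : rho (e, g) X = X) (hX : X ≠ 0) : g.1.trace = 0 ∨ g.1.trace ^ 2 = e := by
  have he' : (e : F) * e = 1 := by simpa [sq] using congrArg Units.val he
  let k : SL(2, F) := (SpecialLinearGroup.map (frobenius F 3) g).transpose
  have hk : k.1.trace = g.1.trace ^ 3 := by
    simp [k, SpecialLinearGroup.transpose, trace_fin_two, frobenius_def, add_pow_char]
  have h1 : (e : F) • (g.1 * (X * k.1)) = X := h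
  have h2 : g⁻¹.1 * g.1 = 1 := congrArg Subtype.val (inv_mul_cancel g)
  have h3 : g⁻¹.1 * X = (e : F) • (X * k.1) := by
    nth_rw 1 [← h1]
    rw [mul_smul_comm, ← mul_assoc, h2, one_mul]
  have h4 : g⁻¹.1 * (g⁻¹.1 * X) = X * (k.1 * k.1) := by
    rw [h3, mul_smul_comm, ← mul_assoc, h3, smul_mul_assoc, smul_smul, he', one_smul, mul_assoc]
  rw [← mul_assoc, H12.sl2_mul_self, H12.sl2_mul_self, H12.sl2_trace_inv, hk, sub_mul, mul_sub,
    smul_mul_assoc, h3, one_mul, mul_one, sub_left_inj, mul_smul_comm, smul_smul, ← sub_eq_zero,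
    ← sub_smul, smul_eq_zero] at h4
  rcases h4 with h4 | h4
  · rw [or_iff_not_imp_left]
    exact fun h0 => mul_left_cancel₀ h0 (by linear_combination -h4)
  · exact absurd (by rw [← h1, h4]; simp) hX

variable (F) in
/-- the affine group -/
def Aff : Subgroup (Equiv.Perm (Matrix (Fin 2) (Fin 2) F)) where
  carrier := {π | ∃ e g v, e ^ 2 = 1 ∧ ∀ X, π X = rho (e, g) X + v}
  one_mem' := ⟨1, 1, 0, by simp, fun X => by simp [rho_apply]⟩
  mul_mem' := fun ⟨e, g, v, h1, h2⟩ ⟨e', g', v', h3, h4⟩ => ⟨e * e', g * g', rho (e, g) v' + v,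
    by rw [mul_pow, h1, h3, mul_one], fun X => by
      rw [Equiv.Perm.mul_apply, h2, h4, map_add, ← Prod.mk_mul_mk, map_mul, add_assoc]; rfl⟩
  inv_mem' := fun ⟨e, g, v, h1, h2⟩ => ⟨e⁻¹, g⁻¹, -rho (e⁻¹, g⁻¹) v, by simpa using h1, fun X => by
    have : ∀ Y, rho (e, g) (rho (e⁻¹, g⁻¹) Y) = Y := fun Y => by
      rw [← End.mul_apply, ← map_mul]; simp [← Prod.one_eq_mk]
    rw [Equiv.Perm.inv_eq_iff_eq, h2]
    simp [this]⟩

/-- an element of the affine group -/
noncomputable def el (e : Fˣ) (he : e ^ 2 = 1) (g : SL(2, F)) (v : Matrix (Fin 2) (Fin 2) F) : Aff F :=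
  ⟨(LinearMap.GeneralLinearGroup.generalLinearEquiv _ _ (rho.toHomUnits (e, g))).toEquiv.trans
    (Equiv.addRight v), e, g, v, he, fun _ => rfl⟩

omit [CharP F 3] in
theorem pow_apply {π : Equiv.Perm (Matrix (Fin 2) (Fin 2) F)} {A : End F (Matrix (Fin 2) (Fin 2) F)}
    {v} (h : ∀ X, π X = A X + v) (k : ℕ) (X) : (π ^ k) X = (A ^ k) X + (π ^ k) 0 := by
  induction k with
  | zero => simp
  | succ k ih => rw [pow_succ', pow_succ', Equiv.Perm.mul_apply, Equiv.Perm.mul_apply, ih, h, h]; simp [add_assoc]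

theorem pow_three {π : Equiv.Perm (Matrix (Fin 2) (Fin 2) F)} {A : End F (Matrix (Fin 2) (Fin 2) F)}
    {v} (h : ∀ X, π X = A X + v) {k : ℕ} (hk : A ^ k = 1) : π ^ (k * 3) = 1 := by
  ext1 X
  have := pow_apply h k
  rw [hk] at this
  generalize (π ^ k) 0 = w at this
  rw [pow_mul, pow_three', Equiv.Perm.mul_apply, Equiv.Perm.mul_apply, this, this, this]
  ext i j
  simp only [End.one_apply, Matrix.add_apply, Equiv.Perm.one_apply]
  linear_combination w i j * three F

omit [CharP F 3] in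
theorem pow_fix [Finite F] {π : Equiv.Perm (Matrix (Fin 2) (Fin 2) F)}
    {A : End F (Matrix (Fin 2) (Fin 2) F)} {v} (h : ∀ X, π X = A X + v) {k : ℕ} (hk : A ^ k = 1)
    (hA : ∀ X, A X = X → X = 0) : π ^ k = 1 := by
  obtain ⟨Y, hY⟩ := Finite.surjective_of_injective (f := (1 - A : End F _))
    ((injective_iff_map_eq_zero _).2 fun X e => hA X (sub_eq_zero.1 e).symm) v
  have h1 : π Y = Y := by rw [h, ← hY]; simp
  have h2 := pow_apply h k
  have h3 := h2 Y
  rw [Equiv.Perm.pow_apply_eq_self_of_apply_eq_self h1, hk, End.one_apply, left_eq_add] at h3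
  ext1 X
  rw [h2, h3, hk]; simp

theorem el_pow {e : Fˣ} {he : e ^ 2 = 1} {g : SL(2, F)} {k : ℕ} (h : el e he g 0 ^ k = 1) :
    e ^ k = 1 ∧ (g ^ k) ^ 2 = 1 := by
  refine rho_ker ?_
  have h1 : (el e he g 0).1 ^ k = 1 := congrArg Subtype.val h
  ext1 X
  have := pow_apply (π := (el e he g 0).1) (A := rho (e, g)) (v := 0) (fun _ => rfl) k X
  rw [h1, ← map_pow] at this
  simpa using this.symm

theorem bound [Fintype F] (hq : Fintype.card F % 4 = 3) (π : Aff F) : π ^ 6 = 1 ∨ π ^ 9 = 1 ∨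
    π ^ (Fintype.card F - 1) = 1 ∨ π ^ ((Fintype.card F + 1) / 2) = 1 := by
  obtain ⟨π, e, g, v, he, h⟩ := π
  simp only [Subtype.ext_iff, Subgroup.coe_pow, Subgroup.coe_one]
  have he' : e = 1 ∨ e = -1 := (mul_self_eq_one_iff.1 (show (e : F) * e = 1 by
    simpa [sq] using congrArg Units.val he)).imp Units.ext Units.ext
  have h1 : rho ((1 : Fˣ), (1 : SL(2, F))) = 1 := map_one _
  by_cases t0 : g.1.trace = 0
  · refine Or.inl (pow_three h (k := 2) ?_)
    rw [← map_pow, Prod.pow_mk, he, sq, H12.sl2_mul_self_of_trace t0, rho_neg, h1]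
  by_cases t1 : g.1.trace ^ 2 = 1
  · have h3 : rho (e, g) ^ 3 = (e : F) • 1 := by
      rw [← map_pow, Prod.pow_mk, pow_succ e, he, one_mul]
      rcases mul_self_eq_one_iff.1 (sq g.1.trace ▸ t1) with t1 | t1
      · rw [← neg_neg g, Odd.neg_pow (by decide), H12.sl2_pow_three (by simp [t1]), rho_neg]
        ext1 X; simp [rho_apply]
      · rw [H12.sl2_pow_three t1]; ext1 X; simp [rho_apply]
    rcases he' with rfl | rfl
    · exact Or.inr (Or.inl (pow_three h (k := 3) (by simpa using h3)))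
    · refine Or.inl (pow_fix h (by rw [show 6 = 3 * 2 from rfl, pow_mul, h3, smul_pow]; simp) fun X hX => ?_)
      have := LinearMap.congr_fun h3 X
      simp only [pow_three', End.mul_apply, hX] at this
      ext i j
      have := congrFun (congrFun this i) j
      simp at this
      simp only [Matrix.zero_apply]
      linear_combination -this + X i j * three F
  have hA : ∀ X, rho (e, g) X = X → X = 0 := fun X hX => by_contra fun h0 => by
    rcases he' with rfl | rfl
    · exact t1 ((rho_fix he hX h0).resolve_left t0)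
    · exact FiniteField.isSquare_neg_one_iff.1 ⟨_, by
        simpa [sq] using ((rho_fix he hX h0).resolve_left t0).symm⟩ hq
  rcases H12.pow_eq_one_of_trace_ne (g := g) (fun h4 => t1 (by linear_combination h4 + three F)) with h2 | h2
  · refine Or.inr (Or.inr (Or.inl (pow_fix h ?_ hA)))
    rw [← map_pow, Prod.pow_mk, h2, show Fintype.card F - 1 = 2 * (Fintype.card F / 2) by omega, pow_mul,
      he, one_pow, h1]
  · refine Or.inr (Or.inr (Or.inr (pow_fix h ?_ hA)))
    rw [← map_pow, Prod.pow_mk, show e ^ ((Fintype.card F + 1) / 2) = 1 by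
      rw [show (Fintype.card F + 1) / 2 = 2 * ((Fintype.card F + 1) / 4) by omega, pow_mul, he, one_pow]]
    have h5 : (g ^ ((Fintype.card F + 1) / 2)) ^ 2 = 1 := by
      rw [← pow_mul, Nat.div_mul_cancel (by omega), h2]
    generalize g ^ ((Fintype.card F + 1) / 2) = y at h5
    rcases H12.sl2_eq_of_mul_self (fun h => one_ne_zero (α := F) (by
      linear_combination three F - h)) (sq y ▸ h5) with rfl | rfl
    · exact h1
    · rw [rho_neg, h1]

theorem maxset {H : Type} [Group H] [Finite H] (S : Set ℕ) (h1 : ∀ g : H, ∃ s ∈ S, g ^ s = 1)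
    (h2 : ∀ s ∈ S, ∃ g : H, s ∣ orderOf g) (h3 : ∀ s ∈ S, ∀ t ∈ S, s ∣ t → t = s) :
    {n : ℕ | n ∈ Set.range (orderOf : H → ℕ) ∧ ∀ m ∈ Set.range (orderOf : H → ℕ), n ∣ m → m = n} = S := by
  ext n
  refine ⟨fun ⟨⟨g, hg⟩, h⟩ => ?_, fun hn => ⟨H13.mem_range_orderOf.2 (h2 n hn), fun m ⟨g, hg⟩ hm => ?_⟩⟩
  · obtain ⟨s, hs, e⟩ := h1 g
    rwa [← h s (H13.mem_range_orderOf.2 (h2 s hs)) (hg ▸ orderOf_dvd_of_pow_eq_one e)]
  · obtain ⟨s, hs, e⟩ := h1 g
    have := hg ▸ orderOf_dvd_of_pow_eq_one e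
    exact Nat.dvd_antisymm (h3 n hn s hs (hm.trans this) ▸ this) hm

theorem el_dvd {e : Fˣ} (he : e ^ 2 = 1) (g : SL(2, F)) :
    orderOf e ∣ orderOf (el e he g 0) ∧ orderOf g ∣ orderOf (el e he g 0) * 2 :=
  (el_pow (pow_orderOf_eq_one _)).imp orderOf_dvd_of_pow_eq_one fun h =>
    orderOf_dvd_of_pow_eq_one (by rw [pow_mul, h])

theorem main [Fintype F] (hq : Fintype.card F % 12 = 3) (h27 : 27 ≤ Fintype.card F) :
    (∃ P : Subgroup (Aff F), P.Normal ∧ P ≠ ⊥ ∧ IsPGroup 3 ↥P) ∧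
    {n : ℕ | n ∈ Set.range (orderOf : Aff F → ℕ) ∧ ∀ m ∈ Set.range (orderOf : Aff F → ℕ), n ∣ m → m = n} =
      ({6, 9, Fintype.card F - 1, (Fintype.card F + 1) / 2} : Set ℕ) := by
  have h1 : rho ((1 : Fˣ), (1 : SL(2, F))) = 1 := map_one _
  have h2 : (2 : F) ≠ 0 := fun h => one_ne_zero (α := F) (by linear_combination three F - h)
  refine ⟨⟨⟨⟨⟨{π | ∃ v, ∀ X, π.1 X = X + v}, fun ⟨v, hv⟩ ⟨w, hw⟩ => ⟨w + v, fun X => by
      simp [hv, hw, add_assoc]⟩⟩, 0, by simp⟩, fun ⟨v, hv⟩ => ⟨-v, fun X => by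
      rw [Subgroup.coe_inv, Equiv.Perm.inv_eq_iff_eq]; simp [hv]⟩⟩, ⟨fun π ⟨v, hv⟩ ⟨σ, e, g, w, _, h⟩ => ⟨rho (e, g) v, fun X => ?_⟩⟩,
      fun h => ?_, fun π => ⟨1, Subtype.ext (Subtype.ext ?_)⟩⟩, maxset _ (fun π => by
        simpa using bound (by omega) π) ?_ ?_⟩
  · obtain ⟨Y, rfl⟩ := σ.surjective X
    simp only [Subgroup.coe_mul, Subgroup.coe_inv, Equiv.Perm.mul_apply, Equiv.Perm.coe_inv,
      Equiv.symm_apply_apply, hv]
    simp [h, add_right_comm]
  · have : (el 1 (one_pow 2) 1 1 : Aff F).1 0 = 0 := by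
      rw [Subgroup.eq_bot_iff_forall] at h
      rw [h (el 1 (one_pow 2) 1 1) ⟨1, fun X => by change rho _ X + _ = _; rw [h1]; rfl⟩]; rfl
    change rho (1, 1) 0 + (1 : Matrix _ _ F) = _ at this
    simp at this
  · obtain ⟨v, hv⟩ := π.2
    simpa using pow_three (A := 1) hv (one_pow 1)
  · let u : SL(2, F) := ⟨!![1, 1; 0, 1], by simp [det_fin_two]⟩
    have hu : u ^ 3 = 1 := H12.sl2_pow_three (by simp [u, trace_fin_two]; linear_combination three F)
    have ho : orderOf (-1 : Fˣ) = 2 := orderOf_eq_prime (by simp) fun h => h2 (by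
      have := congrArg Units.val h
      simp only [Units.val_neg, Units.val_one] at this
      linear_combination -this)
    simp only [Set.mem_insert_iff, Set.mem_singleton_iff]
    rintro s (rfl | rfl | rfl | rfl)
    · have := el_dvd (e := -1) (by simp) u
      rw [ho, orderOf_eq_prime hu fun h => by simpa [u] using congrFun (congrFun (congrArg Subtype.val h) 0) 1] at this
      exact ⟨el (-1) (by simp) u 0, by omega⟩
    · refine ⟨el 1 (one_pow 2) u !![0, 0; 0, 1], (orderOf_eq_prime_pow (p := 3) (n := 1) (fun h => h2 ?_)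
        (Subtype.ext (pow_three (A := rho (1, u)) (k := 3) (fun _ => rfl) (by
          rw [← map_pow, Prod.pow_mk, one_pow, hu, h1])))).symm.dvd⟩
      have := congrFun (congrFun (Equiv.congr_fun (congrArg Subtype.val h) 0) 0) 0
      rw [pow_one, pow_three'] at this
      change (rho (1, u) (rho (1, u) (rho (1, u) 0 + _) + _) + _) 0 0 = 0 at this
      simp only [rho_apply, map_add] at this
      simp [u, mul_apply, vecMul, dotProduct, frobenius_def] at this
      linear_combination this - three F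
    · obtain ⟨g, hg, -⟩ := H12.exists_orderOf_eq (F := F) (Or.inl dvd_rfl) (by omega)
      obtain ⟨⟨k, h3⟩, h4⟩ := el_dvd (e := -1) (by simp) g
      refine ⟨el (-1) (by simp) g 0, ?_⟩
      rw [h3] at h4
      rw [h3]
      clear h3
      rw [ho, hg, show Fintype.card F - 1 = 2 * (2 * (Fintype.card F / 4) + 1) by omega] at *
      refine mul_dvd_mul_left _ (Nat.Coprime.dvd_of_dvd_mul_right (n := 2) (by simp) ?_)
      exact Nat.dvd_of_mul_dvd_mul_left two_pos (mul_assoc 2 k 2 ▸ h4)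
    · obtain ⟨g, hg, -⟩ := H12.exists_orderOf_eq (F := F) (Or.inr dvd_rfl) (by omega)
      have := (el_dvd (one_pow 2) g).2
      rw [hg, ← Nat.div_mul_cancel (show 2 ∣ Fintype.card F + 1 by omega)] at this
      exact ⟨_, Nat.dvd_of_mul_dvd_mul_right two_pos this⟩
  · simp only [Set.mem_insert_iff, Set.mem_singleton_iff]
    generalize Fintype.card F = q at *
    rintro s (rfl | rfl | rfl | rfl) t (rfl | rfl | rfl | rfl) h <;> try omega
    all_goals first | (have := Nat.le_of_dvd (by omega) h; omega) | skip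
    obtain ⟨c, hc⟩ := h
    rcases c with _ | _ | c <;> simp [mul_add] at hc <;> omega

/-- Let q = 3^α with α ≥ 3 odd. There is a finite group H having a non-trivial normal 3-subgroup and whose element orders maximal under divisibility are exactly 6, 9, q − 1 and (q + 1)/2. -/
theorem result (α : ℕ) (hα : 3 ≤ α) (hodd : Odd α) :
    ∃ (H : Type) (_ : Group H) (_ : Fintype H), (∃ P : Subgroup H, P.Normal ∧ P ≠ ⊥ ∧ IsPGroup 3 ↥P) ∧
      {n : ℕ | n ∈ Set.range (orderOf : H → ℕ) ∧ ∀ m ∈ Set.range (orderOf : H → ℕ), n ∣ m → m = n} = ({6, 9, 3 ^ α - 1, (3 ^ α + 1) / 2} : Set ℕ) := by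
  classical
  letI := Fintype.ofFinite (GaloisField 3 α)
  have hc : Fintype.card (GaloisField 3 α) = 3 ^ α := by
    rw [← Nat.card_eq_fintype_card, GaloisField.card 3 α (by omega)]
  refine ⟨Aff (GaloisField 3 α), inferInstance, Fintype.ofFinite _, hc ▸ main ?_ ?_⟩
  · obtain ⟨k, rfl⟩ := hodd
    rw [hc]
    clear hc hα
    induction k with
    | zero => rfl
    | succ k ih =>
      rw [show 2 * (k + 1) + 1 = 2 * k + 1 + 2 by ring, pow_add, Nat.mul_mod, ih]; rfl
  · rw [hc]; exact Nat.pow_le_pow_right (n := 3) (by norm_num) hα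

end Cfsg.Agent.S2515
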