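import Cfsg.Statements.S2517
import Cfsg.Agent.H13.Om9
import Cfsg.Agent.H19.Spec

set_option autoImplicit false
open Cfsg

namespace Cfsg.Agent.S2517

/-- Let F be a finite field of odd order q, let Ω₉ be the simple orthogonal group PΩ(9, F), and let Ω₈⁻ be the commutator subgroup of the isometry group of a minus-type non-singular quadratic form on V = F⁸ (the simple group PΩ⁻(8, F), acting on its natural module V). Then Ω₉ and the semidirect product V ⋊ Ω₈⁻ have exactly the same set of element orders. -/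
theorem result {F : Type*} [Field F] [Fintype F] (hF : Odd (Fintype.card F)) (a b : F)
    (hab : ∀ z₁ z₂ : F, z₁ ^ 2 + a * z₁ * z₂ + b * z₂ ^ 2 = 0 → z₁ = 0 ∧ z₂ = 0) :
    Set.range (orderOf : Cfsg.POmega F (Cfsg.quadFormOdd 4 F) → ℕ) =
      Set.range (orderOf :
        (Multiplicative (((Fin 3 ⊕ Fin 3) ⊕ Fin 2) → F)) ⋊[
          (MulAutMultiplicative (((Fin 3 ⊕ Fin 3) ⊕ Fin 2) → F)).symm.toMonoidHom.comp
           ((DistribMulAction.toAddAut (LinearMap.GeneralLinearGroup F (((Fin 3 ⊕ Fin 3) ⊕ Fin 2) → F))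
              (((Fin 3 ⊕ Fin 3) ⊕ Fin 2) → F)).comp
            (Matrix.GeneralLinearGroup.toLin.toMonoidHom.comp
              ((Cfsg.isometryGroup F (Cfsg.quadFormMinus 3 F a b)).subtype.comp
                (Cfsg.Omega F (Cfsg.quadFormMinus 3 F a b)).subtype)))]
          ↥(Cfsg.Omega F (Cfsg.quadFormMinus 3 F a b)) → ℕ) := by
  obtain ⟨p, _⟩ := CharP.exists F
  obtain ⟨n, hp, hq⟩ := FiniteField.card F p
  have := Fact.mk hp
  have h2 : (2 : F) ≠ 0 := fun e => by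
    have := (CharP.cast_eq_zero_iff F p 2).1 e
    rw [hq, (Nat.prime_dvd_prime_iff_eq hp Nat.prime_two).1 this] at hF
    exact absurd hF (by simp [Nat.even_pow, parity_simps])
  let Q := H13.QMinus 3 F a b
  have hQ : H13.ND Q := H13.nd_QMinus hab
  have ht : H13.ty Q = -1 := (Int.units_eq_one_or _).resolve_left fun h =>
    H13.not_isPlus_QMinus hab ((H13.isPlus_iff_ty (by simp; decide)).2 h)
  let e : Cfsg.Omega F (Cfsg.quadFormMinus 3 F a b) ≃* H13.Om Q := H13.omegaEquiv Q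
  rw [H28.range_pomega' h2 (by norm_num)]
  set φ := (MulAutMultiplicative (((Fin 3 ⊕ Fin 3) ⊕ Fin 2) → F)).symm.toMonoidHom.comp
    ((DistribMulAction.toAddAut (LinearMap.GeneralLinearGroup F (((Fin 3 ⊕ Fin 3) ⊕ Fin 2) → F))
      (((Fin 3 ⊕ Fin 3) ⊕ Fin 2) → F)).comp (Matrix.GeneralLinearGroup.toLin.toMonoidHom.comp
        ((Cfsg.isometryGroup F (Cfsg.quadFormMinus 3 F a b)).subtype.comp
          (Cfsg.Omega F (Cfsg.quadFormMinus 3 F a b)).subtype)))
  obtain ⟨b1, b2⟩ := H13.spec_aff p ((H28.eo Q).comp ((H13.Om Q).subtype.comp e.toMonoidHom))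
    (H28.eo_injective.comp (Subtype.val_injective.comp e.injective)) φ (fun g v => rfl)
  have : Finite (Multiplicative (((Fin 3 ⊕ Fin 3) ⊕ Fin 2) → F) ⋊[φ] Cfsg.Omega F (Cfsg.quadFormMinus 3 F a b)) :=
    .of_equiv _ SemidirectProduct.equivProd.symm
  ext m
  constructor
  · rintro ⟨x, rfl⟩
    obtain ⟨d, M, a1, a2, -⟩ := (H13.nd_QOdd (m := 4) h2).up9 (p := p) h2 x.2 (e := 0) (by simp)
    obtain ⟨g, c1, c2⟩ := a1.lo_aff (p := p) hQ h2 (by simp) ht
    obtain ⟨y, hy⟩ := b2 (e.symm ⟨g, c1⟩) _ (by simpa using c2)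
    exact H19.exists_orderOf_of_dvd ((orderOf_dvd_of_pow_eq_one (Subtype.ext (H28.eo_injective
      ((map_pow _ _ _).trans a2)))).trans hy)
  · rintro ⟨x, rfl⟩
    obtain ⟨d, M, a1, -, a2⟩ := hQ.up9 (p := p) h2 (e x.right).2 (e := 1) (by simp)
    obtain ⟨k, hk⟩ := Nat.exists_eq_add_of_le a1.le
    have c1 := a1.lo_odd (p := p) h2 k
    rw [← hk, show 2 * k + 1 = 9 - 2 * d by omega] at c1
    obtain ⟨y, hy⟩ := c1
    exact H19.exists_orderOf_of_dvd ((orderOf_dvd_of_pow_eq_one (b1 x _ (a2 one_pos))).trans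
      (hy _ (pow_orderOf_eq_one y)))

end Cfsg.Agent.S2517
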