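import Cfsg.Statements.S2553
import Cfsg.Agent.H26.A8Sub

set_option autoImplicit false
open Cfsg

namespace Cfsg.Agent.S2553


/-- Let H be a nontrivial subgroup of GL(4,2) (a group isomorphic to the alternating group of degree 8) whose largest normal 2-subgroup and largest normal subgroup of odd order are both trivial. Then H is isomorphic to an alternating group of degree n for some 5 ≤ n ≤ 8, to the symmetric group of degree 5 or 6, or to GL(3,2). -/
theorem result (H : Subgroup (GL (Fin 4) (ZMod 2))) (hH : H ≠ ⊥) (hO : Cfsg.pPrimeCore 2 ↥H = ⊥) (hO2 : Cfsg.pCore 2 ↥H = ⊥) :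
    (∃ n : ℕ, 5 ≤ n ∧ n ≤ 8 ∧ Nonempty (↥H ≃* alternatingGroup (Fin n))) ∨
    Nonempty (↥H ≃* Equiv.Perm (Fin 5)) ∨ Nonempty (↥H ≃* Equiv.Perm (Fin 6)) ∨ Nonempty (↥H ≃* GL (Fin 3) (ZMod 2)) := by
  obtain ⟨e⟩ := H26.A8.gl4
  have : Nontrivial H := (Subgroup.nontrivial_iff_ne_bot H).2 hH
  refine H26.A8.main (e.toMonoidHom.comp H.subtype) (e.injective.comp H.subtype_injective) ?_
  intro N hN hs
  by_contra h
  obtain ⟨M, hM, hMN⟩ := H2.exists_isMinNormal_le hN h
  obtain ⟨-, p, hp, hP⟩ := hM.exists_isPGroup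
    (Group.isSolvable_of_isSolvable_injective (Subgroup.inclusion_injective hMN))
  refine hM.ne_bot (eq_bot_iff.2 ?_)
  by_cases h2 : p = 2
  · subst h2
    exact hO2 ▸ le_sSup ⟨hM.normal, hP⟩
  · have := Fact.mk hp
    obtain ⟨k, hk⟩ := hP.exists_card_eq
    exact hO ▸ le_sSup ⟨hM.normal, hk ▸ Nat.Coprime.pow_left k
      ((Nat.coprime_primes hp Nat.prime_two).2 h2)⟩

end Cfsg.Agent.S2553
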