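import Cfsg.Statements.S2560
import Cfsg.Agent.H7.WV3
-- import your own Cfsg.Agent.* helpers here

set_option autoImplicit false
open Cfsg

namespace Cfsg.Agent.S2560


/-- The number of conjugacy classes of Ω(2n+1,q), q odd, n ≥ 2: for F a finite field of odd order q, the number k of conjugacy classes of the commutator subgroup of the isometry group of the quadratic form x₀² + Σ xᵢyᵢ on F^{2n+1} satisfies q^n/2 ≤ k ≤ 7.3·q^n. -/
theorem result {F : Type*} [Field F] [Fintype F] (hodd : Odd (Fintype.card F)) (n : ℕ) (hn : 2 ≤ n) :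
    Fintype.card F ^ n ≤ 2 * Nat.card (ConjClasses ↥(Cfsg.Omega F (Cfsg.quadFormOdd n F))) ∧
      10 * Nat.card (ConjClasses ↥(Cfsg.Omega F (Cfsg.quadFormOdd n F))) ≤ 73 * Fintype.card F ^ n := by
  have h2 := H13.two_ne_zero_of_odd_card hodd
  have hQ := H13.nd_QOdd (m := n) h2
  have e := H13.omegaEquiv (H13.QOdd n F)
  have h : Nat.card (ConjClasses (Omega F (quadFormOdd n F))) = Nat.card (ConjClasses (H13.Om (H13.QOdd n F))) :=
    Nat.card_congr (Quotient.congr e.toEquiv fun a b => ⟨e.toMonoidHom.map_isConj, fun h =>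
      e.symm_apply_apply a ▸ e.symm_apply_apply b ▸ e.symm.toMonoidHom.map_isConj h⟩)
  rw [h]
  exact ⟨H7.WU.le_card_Om h2 hQ (by simp; omega), H7.WU.card_Om_le h2 hQ (by simp; omega)⟩

end Cfsg.Agent.S2560
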