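import Cfsg.Statements.S2648
import Cfsg.Agent.H13.DLSp
import Cfsg.Agent.H12.SBridge

set_option autoImplicit false
open Cfsg

namespace Cfsg.Agent.S2648

/-- Let q be odd, F a field with q elements and n ≥ 1. A Sylow 2-subgroup R of the symplectic group Sp_{2n}(F) has derived length exactly k + 1, where 2^k ≤ 2n < 2^{k+1}: the (k+1)-st term of its derived series is trivial and the k-th is not. -/
theorem result {F : Type*} [Field F] [Fintype F] [DecidableEq F] (q : ℕ) (hF : Fintype.card F = q) (hq : Odd q) (n : ℕ) (hn : 1 ≤ n) (R : Sylow 2 ↥(Matrix.symplecticGroup (Fin n) F)) : derivedSeries ↥(R : Subgroup ↥(Matrix.symplecticGroup (Fin n) F)) (Nat.log 2 (2 * n) + 1) = ⊥ ∧ derivedSeries ↥(R : Subgroup ↥(Matrix.symplecticGroup (Fin n) F)) (Nat.log 2 (2 * n)) ≠ ⊥ := by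
  subst hF
  have h2 := H12.two_ne_zero_of_odd_card hq
  obtain ⟨r, hr⟩ := CharP.exists F
  obtain ⟨m, hr', hm⟩ := FiniteField.card F r
  haveI := Fact.mk hr'
  constructor
  · let K := AlgebraicClosure F
    let ρ : Matrix.symplecticGroup (Fin n) F →* Module.End K (Fin n ⊕ Fin n → K) :=
      (Matrix.toLinAlgEquiv' : Matrix _ _ K ≃ₐ[K] _).toMulEquiv.toMonoidHom.comp
        ((algebraMap F K).mapMatrix.toMonoidHom.comp (Submonoid.subtype _))
    have hρ : ∀ g v i, ρ g v i = ∑ j, algebraMap F K (g.1 i j) * v j := fun _ _ _ => rfl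
    have := H25.derived_eq_bot_of_rep (ρ.comp (Subgroup.subtype _)) (Function.Injective.comp (g := ρ) (fun a b h => Subtype.ext
      (Matrix.map_injective (algebraMap F K).injective ((Matrix.toLinAlgEquiv' : Matrix _ _ K ≃ₐ[K] _).injective h)))
      (Subgroup.subtype_injective _)) R.isPGroup' (by simpa [map_ofNat] using (map_ne_zero (algebraMap F K)).2 h2)
      hq.not_two_dvd_nat (fun w i => w i ^ Fintype.card F) (fun g w => funext fun i => by
        simp only [MonoidHom.comp_apply, hρ]
        rw [hm, sum_pow_char_pow]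
        refine Finset.sum_congr rfl fun j _ => ?_
        rw [mul_pow, ← map_pow, ← hm, FiniteField.pow_card])
      (fun c w => funext fun i => mul_pow _ _ _) (fun w h => funext fun i => pow_eq_zero_iff
        Fintype.card_ne_zero |>.mp (congrFun h i))
    rw [(ZMod.natCast_eq_one_iff_odd).2 hq] at this
    simpa [two_mul] using this
  obtain ⟨D, _, _, V, _, _, _, B, f, a1, a2, h1, h3, h4, h5⟩ := H13.exists_sp_derived F hq (Nat.log 2 n)
  have h6 := Nat.pow_log_le_self 2 (by omega : n ≠ 0)
  obtain ⟨e⟩ := (H28.sd_sumB a1 (H12.sd_spB (l := Fin (n - 2 ^ Nat.log 2 n)))).nonempty_UG_equiv_sp (m := n)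
    (by simp [h4]; omega)
  let g : D →* Module.End F (V × (Fin (n - 2 ^ Nat.log 2 n) ⊕ Fin (n - 2 ^ Nat.log 2 n) → F)) :=
    { toFun := fun d => (f d).prodMap LinearMap.id
      map_one' := by rw [map_one]; rfl
      map_mul' := fun a b => by rw [map_mul]; rfl }
  rw [mul_comm, Nat.log_mul_base one_lt_two (by omega)]
  refine H25.derived_ne_bot_sylow R h3 (e.toMonoidHom.comp (((LinearMap.GeneralLinearGroup.generalLinearEquiv F
    _).toMonoidHom.comp g.toHomUnits).codRestrict _ fun d => (a2 d).prodMap fun _ _ => rfl))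
    (e.injective.comp fun x y h => h1 (LinearMap.ext fun v => ?_)) h5
  exact congrArg Prod.fst (LinearEquiv.congr_fun (congrArg Subtype.val h) (v, 0))

end Cfsg.Agent.S2648
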