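import Cfsg.Statements.S2756
import Cfsg.Agent.H15.ZJE

set_option autoImplicit false
open Cfsg

namespace Cfsg.Agent.S2756

/-- For a finite group G the following are equivalent: (a) G has a normal Sylow 2-subgroup; (b) for every odd prime q dividing the order of G and every Sylow q-subgroup T, the normalizer of Z(J(T)) has a normal Sylow 2-subgroup; (c) for every odd prime q and every Sylow q-subgroup T, no nonidentity element of T is inverted by an element of the normalizer of Z(J(T)). Here J(T) is the Thompson subgroup generated by the abelian subgroups of T of largest order. Stated as the two equivalences (a) ⇔ (b) and (a) ⇔ (c). -/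
theorem result {G : Type*} [Group G] [Finite G] : ((∀ P : Sylow 2 G, (P : Subgroup G).Normal) ↔ ∀ (q : ℕ) [Fact q.Prime], q ≠ 2 → q ∣ Nat.card G → ∀ T : Sylow q G, ∀ P : Sylow 2 ↥(Subgroup.normalizer (Cfsg.centerThompsonAOf (T : Subgroup G) : Set G)), (P : Subgroup ↥(Subgroup.normalizer (Cfsg.centerThompsonAOf (T : Subgroup G) : Set G))).Normal) ∧ ((∀ P : Sylow 2 G, (P : Subgroup G).Normal) ↔ ∀ (q : ℕ) [Fact q.Prime], q ≠ 2 → ∀ T : Sylow q G, ∀ x ∈ (T : Subgroup G), x ≠ 1 → ∀ g ∈ Subgroup.normalizer (Cfsg.centerThompsonAOf (T : Subgroup G) : Set G), g * x * g⁻¹ ≠ x⁻¹) := by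
  open Cfsg.Agent.H15.ZJD Cfsg.Agent.H9 in
  refine ⟨⟨fun h q _ hq _ T => two_closed_iff.2 fun r _ hr hi =>
    two_closed_iff.1 h r hr (hi.of_top.mono le_top), fun h => two_closed_iff.2 fun q _ hq hi => ?_⟩,
    fun h q _ hq T x hx h1 g _ e => two_closed_iff.1 h q hq ⟨g, trivial, x, trivial, h1, ?_, e⟩,
    fun h => two_closed_iff.2 fun q _ hq hi => ?_⟩
  · have hd : q ∣ Nat.card G := by
      obtain ⟨y, hy, h1, -⟩ := exists_inv hq (default : Sylow q G) hi
      exact (dvd_card_of_isPGroup (default : Sylow q G).isPGroup' fun e => h1 (by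
        rwa [e, Subgroup.mem_bot] at hy)).trans (Subgroup.card_subgroup_dvd_card _)
    refine two_closed_iff.1 (h q hq hd default) q hq (Inv.top ?_)
    rw [centerThompsonAOf_eq]
    exact inv_zj hq (dvd_zero q) G default hi
  · obtain ⟨k, hk⟩ := T.isPGroup' ⟨x, hx⟩
    exact ⟨k, congrArg Subtype.val hk⟩
  · obtain ⟨y, hy, h1, g, hg, e⟩ := exists_inv hq (default : Sylow q G) hi
    exact h q hq default y hy h1 g hg e

end Cfsg.Agent.S2756
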