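import Cfsg.Statements.S2773
import Cfsg.Agent.L0.Foc4

set_option autoImplicit false
universe u
open Cfsg

namespace Cfsg.Agent.S2773

open Subgroup Cfsg.Agent.H24 Cfsg.Agent.H3 Cfsg.Agent.L0


/-- For every nontrivial finite 3-group S there is a nontrivial characteristic subgroup K of S such that, in every finite group G containing S as a Sylow 3-subgroup, S ∩ G' is the product of S ∩ (C_G(Z(S)))' and S ∩ (N_G(K))' (derived subgroups; product taken elementwise). -/
theorem result {S : Type u} [Group S] [Finite S] [Nontrivial S] (hS : IsPGroup 3 S) : ∃ K : Subgroup S, K ≠ ⊥ ∧ K.Characteristic ∧ ∀ (G : Type u) [Group G] [Finite G] (τ : S →* G), Function.Injective τ → (∃ P : Sylow 3 G, (P : Subgroup G) = τ.range) → ∀ g : G, g ∈ τ.range ⊓ commutator G ↔ ∃ a ∈ τ.range ⊓ ⁅Subgroup.centralizer ((τ.range ⊓ Subgroup.centralizer (τ.range : Set G) : Subgroup G) : Set G), Subgroup.centralizer ((τ.range ⊓ Subgroup.centralizer (τ.range : Set G) : Subgroup G) : Set G)⁆, ∃ b ∈ τ.range ⊓ ⁅Subgroup.normalizer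 ((K.map τ : Subgroup G) : Set G), Subgroup.normalizer ((K.map τ : Subgroup G) : Set G)⁆, g = a * b := by
  haveI : Fact (Nat.Prime 3) := ⟨Nat.prime_three⟩
  refine ⟨Foc.KK 3 S, Foc.KK_isChar.1 S hS inferInstance, Foc.char_of_fn Foc.KK_isChar hS, fun G _ _ τ hτ hP g => ?_⟩
  obtain ⟨P, hP⟩ := hP
  have e : inducedFunctor (Foc.KK 3) τ.range = (Foc.KK 3 S).map τ := by
    rw [inducedFunctor, ← Foc.KK_isChar.2 S τ.range hS (MonoidHom.ofInjective hτ), map_map]; rfl
  have h := Foc.tf_sys (p := 3) (by norm_num) τ.range (hP ▸ H3.sylowIn_top P)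
  have n : τ.range ≤ 𝐍[(Foc.KK 3 S).map τ] := by
    haveI := Foc.char_of_fn Foc.KK_isChar hS
    rw [MonoidHom.range_eq_map]; exact map_le_normalizer_map τ (top_le_normalizer _)
  constructor
  · intro hg
    refine (mem_sup_of_le_normalizer_right ?_).1 ((h.trans (tr_le_iff.2 ?_)) hg)
    · exact inf_le_left.trans (le_normalizer_inf le_normalizer (le_normalizer_commutator
        (le_normalizer_of_le n) (le_normalizer_of_le n)))
    · rintro N (rfl | rfl)
      · exact le_sup_left
      · rw [e]; exact le_sup_right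
  · rintro ⟨a, ha, b, hb, rfl⟩
    exact mul_mem (inf_le_inf_left _ (commutator_mono le_top le_top) ha)
      (inf_le_inf_left _ (commutator_mono le_top le_top) hb)

end Cfsg.Agent.S2773
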