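import Cfsg.Statements.S2793
import Cfsg.Agent.H25.Gl5

set_option autoImplicit false
open Cfsg

namespace Cfsg.Agent.S2793

open Subgroup Cfsg.Agent.H9 Cfsg.Agent.H20 Cfsg.Agent.H21 Cfsg.Agent.H25.Gl
open scoped commutatorElement

/-- Let p be an odd prime, S a Sylow p-subgroup of the finite group G, J(S) the subgroup generated by the abelian subgroups of S of largest order, and suppose Z(J(S)) does not control strong fusion in G. Put H = N_G(Z(J(S))). Then the group F(p) of upper triangular 3 × 3 matrices (a b c; 0 a⁻¹ d; 0 0 1) over the field with p elements is involved in H, and Z(J(S)) contains a subgroup C of order p with |N_H(C) : C_H(C)| = p − 1. -/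
theorem result {G : Type*} [Group G] [Finite G] {p : ℕ} [Fact p.Prime] (hp : p ≠ 2) (S : Sylow p G) (h : ¬ Cfsg.ControlsStrongFusion p (Cfsg.centerThompsonAOf (S : Subgroup G))) (H : Subgroup G) (hH : H = Subgroup.normalizer ((Cfsg.centerThompsonAOf (S : Subgroup G)) : Set G)) : Cfsg.Involves ↥(Cfsg.fOver (ZMod p)) ↥H ∧ ∃ C : Subgroup G, C ≤ (Cfsg.centerThompsonAOf (S : Subgroup G)) ∧ Nat.card C = p ∧ (H ⊓ Subgroup.centralizer (C : Set G)).relIndex (H ⊓ Subgroup.normalizer (C : Set G)) = p - 1 := by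
  subst hH
  rw [centerThompsonAOf_eq] at h ⊢
  set Z := centerThompsonOf 0 (S : Subgroup G) with hZ
  have hS := sylowOf_top S
  have hNS : N⟦(S : Subgroup G)⟧ ≤ N⟦Z⟧ :=
    (normalizer_le_normalizer_thompsonOf 0 _).trans (normalizer_thompsonOf_le_normalizer_center 0 _)
  have hZS : Z ⊴ (S : Subgroup G) := ⟨centerThompsonOf_le 0 _, (le_norm_self _).trans hNS⟩
  have hc : IsMulCommutative Z := centerThompsonOf_comm 0 _
  obtain ⟨Q, hQ⟩ : ∃ Q, Crit p S N⟦Z⟧ Q := by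
    by_contra k
    refine h ⟨S, hZS.le, fun A hA => ⟨hA, fun g hg => ?_⟩⟩
    have : Ctl N⟦Z⟧ g (closure A) := by
      by_contra k1
      exact k (exists_crit hS hNS ((closure_le _).2 hA) (by rw [cj_closure]; exact (closure_le _).2 hg) k1)
    obtain ⟨x, hx, e⟩ := this
    exact ⟨x, hx, fun a ha => (e a (subset_closure ha)).symm⟩
  set T := (S : Subgroup G) ⊓ N⟦Q⟧ with hT
  obtain ⟨X, ⟨hTX, hXQ, hX⟩, hmin⟩ := wellFounded_lt.has_min
    {X : Subgroup G | T ≤ X ∧ X ≤ N⟦Q⟧ ∧ ¬ X ≤ ctlGp N⟦Z⟧ Q} ⟨_, inf_le_right, le_rfl, fun k => by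
      obtain ⟨x, hx, k1⟩ := hQ.bad
      exact k1 (k hx).2⟩
  have hmax : ∀ K, T ≤ K → K < X → K ≤ ctlGp N⟦Z⟧ Q := fun K k1 k2 => by
    by_contra k3
    exact hmin K ⟨k1, k2.le.trans hXQ, k3⟩ k2
  have hTM : T ≤ ctlGp N⟦Z⟧ Q := fun x hx => ⟨hx.2, .of_mem (hZS.norm hx.1) _⟩
  have hQT : Q ≤ T := hQ.lt.le
  have hQX : Q ⊴ X := ⟨hQT.trans hTX, hXQ⟩
  have hTs : SylowOf p T X := hQ.syl.of_le hTX hXQ
  obtain ⟨B, hBQ, hXB, hn, gen, hΦ⟩ := exists_min_B (S.isPGroup'.to_le hQ.le) (hQ.le.trans hZS.norm) hQX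
    (hQ.not_norm S.isPGroup' hZS hc hTX hXQ hX)
  obtain ⟨a, haT, haQ, hq⟩ : ∃ a ∈ T, a ∉ Q ∧ ∀ b ∈ B, ⁅a, ⁅a, b⁆⁆ ∈ phiOf p B := by
    by_cases hC : (S : Subgroup G) ⊓ C⟦Z⟧ ≤ T
    · exact quad_one hp S.isPGroup' inf_le_left hZ hC hQT hBQ hXQ hXB hTX hn gen hΦ
    · exact hQ.quad_two S.isPGroup' hZS hC hBQ hXQ hXB hTX hn hΦ
  have hBX : B ≤ X := hBQ.trans hQX.le
  have hinj := X.subtype_injective
  obtain ⟨T', hT'⟩ := hTs.exists_sylow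
  have hT'' : ∀ x : X, x ∈ (T' : Subgroup X) ↔ (x : G) ∈ T := fun x => by
    rw [← hT']; exact (mem_map_iff_mem hinj).symm
  have hmax' : ∀ K : Subgroup X, (T' : Subgroup X) ≤ K → K ≠ ⊤ → K ≤ (ctlGp N⟦Z⟧ Q).subgroupOf X := fun K k1 k2 x hx =>
    hmax (K.map X.subtype) (hT' ▸ map_mono k1) (lt_of_le_of_ne (map_subtype_le _) fun e => k2
      (map_injective hinj (by rw [e, ← MonoidHom.range_eq_map, range_subtype]))) ⟨x, hx, rfl⟩
  have hne : (ctlGp N⟦Z⟧ Q).subgroupOf X ≠ ⊤ := fun e => hX (subgroupOf_eq_top.1 e)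
  have hM : IsCoatom ((ctlGp N⟦Z⟧ Q).subgroupOf X) ∧ (T' : Subgroup X) ≤ (ctlGp N⟦Z⟧ Q).subgroupOf X := by
    have k : (T' : Subgroup X) ≤ (ctlGp N⟦Z⟧ Q).subgroupOf X := fun x hx => hTM ((hT'' x).1 hx)
    refine ⟨⟨hne, fun K k1 => ?_⟩, k⟩
    by_contra k2
    exact k1.not_ge (hmax' K (k.trans k1.le) k2)
  have hmo : IsMinimalOver (T' : Subgroup X) := by
    refine ⟨?_, _, hM, fun K k => (k.1.le_iff.1 (hmax' K k.2 k.1.1)).resolve_left hne |>.symm⟩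
    by_contra k
    have k1 := ((sylowOf_top T').of_le le_normalClosure le_top).frattini
      (NormalIn.of_normal (normalClosure ((T' : Subgroup X) : Set X)))
    refine hne (top_le_iff.1 (k1.ge.trans (sup_le (hmax' _ le_normalClosure k) fun x hx => ?_)))
    refine hQ.g1 hQ.lt inf_le_left (le_norm_self _) ⟨?_, hXQ x.2⟩
    rw [← hT, ← hT']
    exact norm_map X.subtype (zpowers_le.2 hx.2) ⟨x, mem_zpowers x, rfl⟩
  have haO : (⟨a, hTX haT⟩ : X) ∉ pCore p X := fun k => by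
    have k1 : pCoreOf p X ≤ T := hTs.pgroup_le_of_norm (H24.isPGroup_pCoreOf p X) (H24.pCoreOf_le p X)
      (Or.inr (hTX.trans (H24.le_normalizer_pCoreOf p X)))
    have k2 : Q < pCoreOf p X := lt_of_le_of_ne (H24.le_pCoreOf hQX.le (S.isPGroup'.to_le hQ.le) hXQ)
      fun e => haQ (e ▸ ⟨_, k, rfl⟩)
    exact hX ((le_inf (H24.le_normalizer_pCoreOf p X) hXQ).trans (hQ.g1 k2 (k1.trans inf_le_left)
      (hTX.trans (H24.le_normalizer_pCoreOf p X))))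
  haveI : (B.subgroupOf X).Normal := normal_subgroupOf_of_le_normalizer hXB
  have e1 : (phiOf p (B.subgroupOf X)).map X.subtype = phiOf p B := by rw [map_phiOf, map_subgroupOf_eq_of_le hBX]
  have e2 : ∀ x : X, x ∈ phiOf p (B.subgroupOf X) ↔ (x : G) ∈ phiOf p B := fun x => by
    rw [← e1]; exact (mem_map_iff_mem hinj).symm
  obtain ⟨u, hu⟩ := IsCyclic.exists_generator (α := (ZMod p)ˣ)
  obtain ⟨R, r1, r2, r3, a', ha', t, ht, r4, r5, y, hy, r6⟩ := exists_plane hp T' hmo hM (B := B.subgroupOf X)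
    (Y := (Z ⊓ B).subgroupOf X) (fun x hx => hx.2) (fun x hx => ⟨hΦ ((e2 x).1 hx), phiOf_le p B ((e2 x).1 hx)⟩)
    (fun x hx => mem_norm_of_forall fun y hy =>
      conj_mem_of_norm (H := Z ⊓ B) (x := (y : G)) (hx.2.norm_inf le_rfl (hXB x.2) hBQ) hy)
    (fun e => hn fun x hx => mem_norm_of_forall fun y hy =>
      conj_mem_of_norm (H := (Z ⊓ B).subgroupOf X) (g := ⟨x, hx⟩) (x := ⟨y, hBX hy.2⟩) (e ▸ mem_top _) hy)
    ((hT'' ⟨a, hTX haT⟩).2 haT) haO (fun b hb => (e2 _).2 (hq b hb)) u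
  obtain ⟨a1, ha1, ea⟩ := ha'.2
  obtain ⟨t1, ht1, et⟩ := ht.2
  let R' := R.map (X.subtype.prodMap (MonoidHom.id _))
  have s3 : ∀ c, (1, c) ∈ R' → c = 1 := by
    rintro c ⟨⟨b, c'⟩, k, e⟩
    obtain ⟨e1, rfl⟩ := Prod.ext_iff.1 e
    obtain rfl : b = 1 := Subtype.ext e1
    exact r3 _ k
  have s5 : ∀ b c, (b, Multiplicative.ofAdd c) ∈ R' →
      (t1 * b * t1⁻¹, Multiplicative.ofAdd ![u * c 0, (u : ZMod p)⁻¹ * c 1]) ∈ R' := by
    rintro b c ⟨⟨b', c'⟩, k, e⟩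
    obtain ⟨rfl, e'⟩ := Prod.ext_iff.1 e
    obtain rfl : c' = Multiplicative.ofAdd c := e'
    exact ⟨_, r5 b' _ k, Prod.ext (et _ (hBQ (r1 _ k))).symm rfl⟩
  refine ⟨involves_fOver hp _ R' ?_ ?_ s3 ?_ ha1 ht1 hu ?_ s5, ?_⟩
  · rintro _ ⟨x, k, rfl⟩
    exact hZS.norm (hQ.le (hBQ (r1 x k)))
  · intro c
    obtain ⟨b, k⟩ := r2 c
    exact ⟨b, _, k, rfl⟩
  · rintro _ ⟨x, k, rfl⟩
    obtain ⟨n, hn⟩ := S.isPGroup' ⟨_, hQ.le (hBQ (r1 x k))⟩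
    exact ⟨n, congrArg Subtype.val hn⟩
  · rintro b c ⟨⟨b', c'⟩, k, e⟩
    obtain ⟨rfl, e'⟩ := Prod.ext_iff.1 e
    obtain rfl : c' = Multiplicative.ofAdd c := e'
    exact ⟨_, r4 b' _ k, Prod.ext (ea _ (hBQ (r1 _ k))).symm rfl⟩
  · obtain ⟨C, c1, c2⟩ := exists_full N⟦Z⟧ (Z ⊓ B) (fun y hy z hz => comm_iff.1 hc y hy.1 z hz.1) R' s3
      (S.isPGroup'.to_le (inf_le_left.trans hZS.le)) ht1 (fun y hy => ⟨conj_mem_of_norm ht1 hy.1, by
        rw [et y (hBQ hy.2)]; exact conj_mem_of_norm (hXB t.2) hy.2⟩) hu s5 hy ⟨_, r6, rfl⟩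
    exact ⟨C, c1.trans inf_le_left, c2⟩

end Cfsg.Agent.S2793
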