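import Cfsg.Statements.S2803
import Cfsg.Agent.H24.Red

set_option autoImplicit false
open Cfsg

namespace Cfsg.Agent.S2803

/-- Let L be a finite group and p a prime with C_L(O_p(L)) ≤ O_p(L), T a Sylow p-subgroup, and Y the largest p-reduced normal subgroup of L. Put T_L = C_T(Y) and L_T = N_L(T_L). Then L = L_T · C_L(Y) (elementwise), T_L = O_p(L_T), and Y = Ω₁(Z(T_L)). -/
theorem result {L : Type*} [Group L] [Finite L] {p : ℕ} [Fact p.Prime] (hchar : Subgroup.centralizer (Cfsg.pCore p L : Set L) ≤ Cfsg.pCore p L) (T : Sylow p L) (Y : Subgroup L) (hY : (Cfsg.IsPReducedNormal p Y ∧ ∀ V : Subgroup L, Cfsg.IsPReducedNormal p V → V ≤ Y)) (TL : Subgroup L) (hTL : TL = (T : Subgroup L) ⊓ Subgroup.centralizer (Y : Set L)) : (∀ g : L, ∃ a ∈ Subgroup.normalizer (TL : Set L), ∃ c ∈ Subgroup.centralizer (Y : Set L), g = a * c) ∧ (Cfsg.pCore p ↥(Subgroup.normalizer (TL : Set L))).map (Subgroup.normalizer (TL : Set L)).subtype = TL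 ∧ Y = Cfsg.omegaOne p (TL ⊓ Subgroup.centralizer (TL : Set L)) := by
  open Subgroup Cfsg.Agent.H24 in
  open scoped commutatorElement in
  open Cfsg.Agent.H10 (SubnormalIn OqOf) in
  open Cfsg.Agent.H9 (maxEA) in
  have hYe : Y = Yp p ⊤ := by
    rw [Yp_top]; exact le_antisymm (le_sSup hY.1) (hY.2 _ (isPReducedNormal_largest p L))
  obtain ⟨a1, a2, -, -⟩ := (red_Yp p (⊤ : Subgroup L)).pCoreOf_normalizer (le_normalizer_Yp p ⊤) (sylIn_top T)
  have a3 := (charP_top_iff.2 hchar).Yp_eq (sylIn_top T)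
  rw [← hYe, ← hTL] at a1 a2 a3
  rw [top_inf_eq] at a1 a2
  rw [top_inf_eq, sup_comm] at a2
  refine ⟨fun g => ?_, a1, a3⟩
  have hn : 𝐍[TL] ≤ 𝐍[𝐂[Y]] := le_top.trans (by
    haveI := hY.1.1; exact top_le_normalizer _)
  exact (mem_sup_of_le_normalizer_right hn).1 (a2.ge (mem_top g))

end Cfsg.Agent.S2803
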