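import Cfsg.Statements.S2804
import Cfsg.Agent.H24.Red

set_option autoImplicit false
open Cfsg

namespace Cfsg.Agent.S2804

/-- Let L be a finite group and p a prime with C_L(O_p(L)) ≤ O_p(L), V a p-reduced normal subgroup of L and K a subnormal subgroup of L. Then [V, O^p(K)] is contained in K and is a p-reduced normal subgroup of K, where O^p(K) is the subgroup of K generated by its elements of order prime to p. -/
theorem result {L : Type*} [Group L] [Finite L] {p : ℕ} [Fact p.Prime] (hchar : Subgroup.centralizer (Cfsg.pCore p L : Set L) ≤ Cfsg.pCore p L) (V : Subgroup L) (hV : Cfsg.IsPReducedNormal p V) (K : Subgroup L) (hK : K.IsSubnormal) : ⁅V, (Cfsg.pResidual p ↥K).map K.subtype⁆ ≤ K ∧ Cfsg.IsPReducedNormal p ((⁅V, (Cfsg.pResidual p ↥K).map K.subtype⁆).subgroupOf K) := by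
  open Subgroup Cfsg.Agent.H24 in
  open scoped commutatorElement in
  open Cfsg.Agent.H10 (SubnormalIn OqOf) in
  open Cfsg.Agent.H9 (maxEA) in
  have hV' := isPReducedNormal_iff_top.1 hV
  have hK' := H10.subnormalIn_top.2 hK
  rw [map_pResidual_subtype]
  have a1 : V ≤ 𝐍[pResidualOf p K] := hV'.le_pCoreOf.trans (SubnormalIn.pCoreOf_le_normalizer hK')
  have a2 : ⁅V, pResidualOf p K⁆ ≤ K :=
    (commutator_le_right_of_le_normalizer a1).trans (pResidualOf_le p K)
  have a3 : ⁅V, pResidualOf p K⁆ ≤ V := commutator_le_left_of_le_normalizer (le_top.trans hV'.norm)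
  refine ⟨a2, isPReducedNormal_subgroupOf ⟨a2, le_normalizer_commutator (le_top.trans hV'.norm)
    (le_normalizer_pResidualOf p K), isEA_of_le a3 hV'.ea, fun D d1 d2 d3 => ?_⟩⟩
  refine (hV'.red.of_subnormal hV'.norm ((SubnormalIn.of_normal d1 d2).trans hK') ?_).trans
    (centralizer_anti a3)
  rw [← pResidualOf_le_iff]
  exact le_centralizer_of_stabilizes (pResidualOf_idem p D) (hV'.isPGroup.to_le a3)
    (commutator_mono le_rfl (pResidualOf_mono d1)) d3.pResidualOf_le

end Cfsg.Agent.S2804
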