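import Cfsg.Statements.S2805
import Cfsg.Agent.H24.Red

set_option autoImplicit false
open Cfsg

namespace Cfsg.Agent.S2805

section
open Subgroup Cfsg.Agent.H24
open scoped commutatorElement
open Cfsg.Agent.H10 (SubnormalIn OqOf)
open Cfsg.Agent.H9 (maxEA)

theorem kieler_normal {G : Type*} [Group G] [Finite G] {p : ℕ} [Fact p.Prime] {H T L : Subgroup G}
    (hH : CharP p H) (hT : SylIn p T H) (h1 : L ≤ H) (h2 : H ≤ 𝐍[L]) :
    L ⊓ 𝐂[omegaOneCenter p T] = L ⊓ 𝐂[omegaOneCenter p (T ⊓ L)] := by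
  have hS := hT.inf_normal h1 h2
  have hL := hH.of_normal h1 h2
  apply le_antisymm
  · refine le_inf inf_le_left (le_centralizer_iff.1 ?_)
    have s1 : T ⊓ L ≤ L ⊓ 𝐂[omegaOneCenter p T] :=
      le_inf inf_le_right (inf_le_left.trans (le_centralizer_omegaOneCenter p T))
    have hWn : H ≤ 𝐍[omegaOneCenter p (pCoreOf p L)] :=
      le_normalizer_omegaOneCenter (le_normalizer_pCoreOf_of h2)
    refine le_trans (le_inf (hL.omegaOneCenter_le hS) (omegaOneCenter_le_centralizer p _))
      (inf_centralizer_le_of_trace (isEA_omegaOneCenter p _).1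
        (isPGroup_of_isElementaryAbelian (isEA_omegaOneCenter p _))
        (inf_le_left.trans (h1.trans hWn)) s1 (hS.of_le s1 inf_le_left).not_dvd_relIndex hT.pgrp
        (hT.le.trans hWn) (le_normalizer_inf (hT.le.trans h2) (le_normalizer_centralizer
          (le_normalizer_omegaOneCenter le_normalizer)))
        (le_normalizer_inf le_normalizer (hT.le.trans h2)) ?_)
    refine le_centralizer_iff.1 (inf_le_right.trans (centralizer_anti ?_))
    exact le_omegaOneCenter (isEA_of_le (inf_le_left.trans inf_le_left) (isEA_omegaOneCenter p _))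
      ((inf_le_left.trans inf_le_left).trans ((omegaOneCenter_le p _).trans
        (hS.pCoreOf_le.trans inf_le_left))) inf_le_right
  · refine le_inf inf_le_left (le_centralizer_iff.1 fun z hz => ?_)
    have s1 : T ⊓ L ≤ L ⊓ 𝐂[omegaOneCenter p (T ⊓ L)] :=
      le_inf inf_le_right (le_centralizer_omegaOneCenter p _)
    have hVn : H ≤ 𝐍[omegaOneCenter p (pCoreOf p H)] :=
      le_normalizer_omegaOneCenter (le_normalizer_pCoreOf p H)
    have hz1 := hH.omegaOneCenter_le hT hz
    have hz2 : z ∈ 𝐂[T ⊓ L] := centralizer_anti inf_le_left (omegaOneCenter_le_centralizer p T hz)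
    have hzH : z ∈ H := hT.le (omegaOneCenter_le p T hz)
    have key := mem_sup_of_trace (D := omegaOneCenter p (pCoreOf p H) ⊓ L) (isEA_omegaOneCenter p _).1
      (isPGroup_of_isElementaryAbelian (isEA_omegaOneCenter p _)) (inf_le_left.trans (h1.trans hVn)) s1
      (hS.of_le s1 inf_le_left).not_dvd_relIndex ⟨hz1, hz2⟩ fun h hh =>
        ⟨Subgroup.mul_mem _ (conj_mem_of_mem_normalizer (hVn (h1 hh.1)) hz1) (Subgroup.inv_mem _ hz1), by
          have hL1 : h ∈ L := hh.1
          have := mul_mem hL1 (conj_mem_of_mem_normalizer (h2 hzH) (L.inv_mem hL1))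
          simpa [mul_assoc] using this⟩
    obtain ⟨a, ha, b, hb, rfl⟩ := (mem_sup_of_le_normalizer_right (inf_le_left.trans
      (((omegaOneCenter_le p _).trans (pCoreOf_le p H)).trans (le_normalizer_inf hVn h2)))).1 key
    refine mul_mem ha.2 (le_centralizer_iff.1 inf_le_right ?_)
    refine mem_omegaOneCenter.2 ⟨⟨hT.pCoreOf_le (omegaOneCenter_le p _ hb.1), hb.2⟩, ?_,
      (isEA_omegaOneCenter p _).2 b hb.1⟩
    have ha2 : a ∈ 𝐂[T ⊓ L] := centralizer_anti s1 ha.2
    simpa using mul_mem (inv_mem ha2) hz2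

theorem kieler {G : Type*} [Group G] [Finite G] {p : ℕ} [Fact p.Prime] {H T L : Subgroup G}
    (hH : CharP p H) (hT : SylIn p T H) (hL : SubnormalIn L H) :
    L ⊓ 𝐂[omegaOneCenter p T] = L ⊓ 𝐂[omegaOneCenter p (T ⊓ L)] := by
  refine hL.induction (P := fun L => L ⊓ 𝐂[omegaOneCenter p T] = L ⊓ 𝐂[omegaOneCenter p (T ⊓ L)])
    (by rw [inf_eq_left.2 hT.le]) fun A B h1 _ h3 h4 ih => ?_
  have := kieler_normal (hH.of_subnormal h4) (SubnormalIn.sylIn_inf h4 hT) h1 h3
  rw [inf_assoc, inf_eq_right.2 h1] at this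
  rw [← this, ← inf_eq_left.2 h1, inf_assoc, ih, inf_assoc]

end

/-- Kieler's Lemma: let H be a finite group of characteristic p (C_H(O_p(H)) ≤ O_p(H)), T a Sylow p-subgroup of H and L a subnormal subgroup of H. Then C_L(Ω₁(Z(T))) = C_L(Ω₁(Z(T ∩ L))), Ω₁(Z(·)) denoting the elements of order dividing p in the centre. -/
theorem result {H : Type*} [Group H] [Finite H] {p : ℕ} [Fact p.Prime] (hH : Subgroup.centralizer (Cfsg.pCore p H : Set H) ≤ Cfsg.pCore p H) (T : Sylow p H) (L : Subgroup H) (hL : L.IsSubnormal) : L ⊓ Subgroup.centralizer ((Cfsg.omegaOne p ((T : Subgroup H) ⊓ Subgroup.centralizer ((T : Subgroup H) : Set H))) : Set H) = L ⊓ Subgroup.centralizer ((Cfsg.omegaOne p (((T : Subgroup H) ⊓ L) ⊓ Subgroup.centralizer ((((T : Subgroup H) ⊓ L) : Subgroup H) : Set H))) : Set H) := by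
  open Subgroup Cfsg.Agent.H24 in
  open scoped commutatorElement in
  open Cfsg.Agent.H10 (SubnormalIn OqOf) in
  open Cfsg.Agent.H9 (maxEA) in
  exact kieler (charP_top_iff.2 hH) (sylIn_top T) (H10.subnormalIn_top.2 hL)

end Cfsg.Agent.S2805
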