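import Cfsg.Statements.S2806
import Cfsg.Agent.H24.Base6
import Cfsg.Agent.S2805

set_option autoImplicit false
open Cfsg

namespace Cfsg.Agent.S2806

section
open Subgroup Cfsg.Agent.H24
open scoped commutatorElement
open Cfsg.Agent.H10 (SubnormalIn OqOf)
open Cfsg.Agent.H9 (maxEA)

theorem kieler_loc {G : Type*} [Group G] [Finite G] {p : ℕ} [Fact p.Prime] {T L : Subgroup G}
    (hH : IsOfLocalCharacteristic p G) (hT : SylIn p T ⊤) (hL : SubnormalIn L ⊤) (h : T ⊓ L ≠ ⊥) :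
    L ⊓ 𝐂[omegaOneCenter p T] = L ⊓ 𝐂[omegaOneCenter p (T ⊓ L)] := by
  refine hL.induction (P := fun L => T ⊓ L ≠ ⊥ →
    L ⊓ 𝐂[omegaOneCenter p T] = L ⊓ 𝐂[omegaOneCenter p (T ⊓ L)])
    (fun _ => by rw [inf_top_eq]) (fun A B h1 _ h3 h4 ih h5 => ?_) h
  have hS := SubnormalIn.sylIn_inf h4 hT
  have e0 : T ⊓ B ⊓ A = T ⊓ A := by rw [inf_assoc, inf_eq_right.2 h1]
  have u1 := inf_omegaOneCenter_ne_bot hS.pgrp (inf_le_inf_left T h1)
    (le_normalizer_inf (le_normalizer_of_le inf_le_left) (inf_le_right.trans h3)) h5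
  set U := T ⊓ A ⊓ omegaOneCenter p (T ⊓ B) with hU
  have u2 : IsPGroup p U := hT.pgrp.to_le (inf_le_left.trans inf_le_left)
  have u3 : CharP p (B ⊓ 𝐍[U]) := by
    refine (charP_iff.2 (hH.2 U u2 u1)).of_subnormal ?_
    simpa using h4.inf_right 𝐍[U]
  have u4 : 𝐂[omegaOneCenter p (T ⊓ B)] ≤ 𝐍[U] :=
    le_normalizer_of_le_centralizer (centralizer_anti inf_le_right)
  have u5 : 𝐂[omegaOneCenter p (T ⊓ A)] ≤ 𝐍[U] :=
    le_normalizer_of_le_centralizer (centralizer_anti (le_omegaOneCenter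
      (isEA_of_le inf_le_right (isEA_omegaOneCenter p _)) inf_le_left
      (inf_le_right.trans ((omegaOneCenter_le_centralizer p _).trans
        (centralizer_anti (inf_le_inf_left T h1))))))
  have s1 : T ⊓ B ≤ B ⊓ 𝐍[U] := le_inf inf_le_right ((le_centralizer_omegaOneCenter p _).trans u4)
  have k := S2805.kieler_normal u3 (hS.of_le s1 inf_le_left) (inf_le_inf_right 𝐍[U] h1)
    (le_normalizer_inf (inf_le_left.trans h3) (le_normalizer_of_le inf_le_right))
  have e1 : T ⊓ B ⊓ (A ⊓ 𝐍[U]) = T ⊓ A := by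
    rw [← inf_assoc, e0, inf_eq_left]; exact (inf_le_inf_left T h1).trans (s1.trans inf_le_right)
  rw [e1, inf_assoc, inf_eq_right.2 u4, inf_assoc, inf_eq_right.2 u5] at k
  rw [← k, ← inf_eq_left.2 h1, inf_assoc, ih fun e => h5 (le_bot_iff.1 (e ▸ inf_le_inf_left T h1)),
    inf_assoc]

theorem ps_eq {G : Type*} [Group G] [Finite G] {p : ℕ} [Fact p.Prime] {T L : Subgroup G}
    (hH : IsOfLocalCharacteristic p G) (hT : SylIn p T ⊤) (hL : SubnormalIn L ⊤) :
    pointStabilizer p L (T ⊓ L) = pElementClosure p (L ⊓ 𝐂[omegaOneCenter p T]) := by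
  change pElementClosure p (L ⊓ 𝐂[omegaOneCenter p (T ⊓ L)]) = _
  by_cases h : T ⊓ L = ⊥
  · have : ∀ X, pElementClosure p (L ⊓ X) = ⊥ := fun X => le_bot_iff.1 (pElementClosure_le_iff.2
      fun P h1 h2 => by
        obtain ⟨g, -, hg⟩ := (SubnormalIn.sylIn_inf hL hT).exists_cj_le h1 (h2.trans inf_le_left)
        rw [h, le_bot_iff, cj_eq_bot_iff] at hg
        exact hg.le)
    rw [this, this]
  · rw [kieler_loc hH hT hL h]

end

/-- Let H be a finite group of local characteristic p, T a Sylow p-subgroup, and L₁, L₂ subnormal subgroups of H generating the subgroup L. Then the point stabilizer of L with respect to T ∩ L is generated by the point stabilizers of L₁ and L₂ with respect to T ∩ L₁ and T ∩ L₂ (point stabilizer of X w.r.t. R: the subgroup generated by the p-elements of X centralizing Ω₁(Z(R))). -/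
theorem result {H : Type*} [Group H] [Finite H] {p : ℕ} [Fact p.Prime] (hH : Cfsg.IsOfLocalCharacteristic p H) (T : Sylow p H) (L₁ L₂ : Subgroup H) (h₁ : L₁.IsSubnormal) (h₂ : L₂.IsSubnormal) : Cfsg.pointStabilizer p (L₁ ⊔ L₂) ((T : Subgroup H) ⊓ (L₁ ⊔ L₂)) = Cfsg.pointStabilizer p L₁ ((T : Subgroup H) ⊓ L₁) ⊔ Cfsg.pointStabilizer p L₂ ((T : Subgroup H) ⊓ L₂) := by
  open Subgroup Cfsg.Agent.H24 in
  open scoped commutatorElement in
  open Cfsg.Agent.H10 (SubnormalIn OqOf) in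
  open Cfsg.Agent.H9 (maxEA) in
  have a1 := H10.subnormalIn_top.2 h₁
  have a2 := H10.subnormalIn_top.2 h₂
  have hT := sylIn_top T
  rw [ps_eq hH hT a1, ps_eq hH hT a2, ps_eq hH hT (H2.subnormalIn_sup a1 a2)]
  refine le_antisymm (pElementClosure_le_iff.2 fun P h1 h2 => ?_) (sup_le
    (pElementClosure_mono (inf_le_inf_right _ le_sup_left))
    (pElementClosure_mono (inf_le_inf_right _ le_sup_right)))
  obtain ⟨S, hS, h3⟩ := exists_sylIn_le h1 (h2.trans inf_le_right)
  have hS' : SylIn p S ⊤ := hT.of_card_le hS.pgrp le_top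
    (hS.card_le hT.pgrp (le_centralizer_omegaOneCenter p _))
  refine (le_inf h3 (h2.trans inf_le_left)).trans ((hS'.inf_sup_subnormal a1 a2).le.trans (sup_le_sup ?_ ?_)) <;>
  exact le_pElementClosure hS.pgrp.to_inf_left (le_inf inf_le_right (inf_le_left.trans hS.le))

end Cfsg.Agent.S2806
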