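import Cfsg.Statements.S2809
import Cfsg.Agent.H24.Red

set_option autoImplicit false
open Cfsg

namespace Cfsg.Agent.S2809

/-- Let H be a finite group, p a prime, R a p-subgroup of H with C_H(R) ≤ R, and L a subgroup of N_H(R) acting nilpotently on R (some iterated commutator [R, L, …, L] is trivial). Then L is a p-group. -/
theorem result {H : Type*} [Group H] [Finite H] {p : ℕ} [Fact p.Prime] (R : Subgroup H) (hR : IsPGroup p ↥R) (hC : Subgroup.centralizer (R : Set H) ≤ R) (L : Subgroup H) (hL : L ≤ Subgroup.normalizer (R : Set H)) (hnil : ∃ n : ℕ, Cfsg.iterCommutator R L n = ⊥) : IsPGroup p ↥L := by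
  open Subgroup Cfsg.Agent.H24 in
  open scoped commutatorElement in
  open Cfsg.Agent.H10 (SubnormalIn OqOf) in
  open Cfsg.Agent.H9 (maxEA) in
  obtain ⟨n, hn⟩ := hnil
  have a1 := commutator_commutator_eq' (pResidualOf_idem p L) hR ((pResidualOf_le p L).trans hL)
  have a2 : ∀ m, ⁅R, pResidualOf p L⁆ ≤ iterCommutator R L m := by
    intro m
    induction m with
    | zero => exact commutator_le_left_of_le_normalizer ((pResidualOf_le p L).trans hL)
    | succ m ih => exact a1.ge.trans (commutator_mono ih (pResidualOf_le p L))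
  have a3 : pResidualOf p L ≤ 𝐂[R] := le_centralizer_iff_commutator'.2 (le_bot_iff.1 (hn ▸ a2 n))
  exact pResidualOf_eq_bot_iff.1 (eq_bot_of_pResidual (pResidualOf_idem p L) (hR.to_le (a3.trans hC)))

end Cfsg.Agent.S2809
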