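import Cfsg.Statements.S2810
import Cfsg.Agent.H24.Red

set_option autoImplicit false
open Cfsg

namespace Cfsg.Agent.S2810

/-- Let H be a finite group of characteristic p and L a subgroup of H centralizing every factor of some H-invariant chain 1 = A₀ ≤ A₁ ≤ … ≤ Aₙ = O_p(H) of normal subgroups (that is, [A_{i+1}, L] ≤ Aᵢ for each i). Then L ≤ O_p(H). -/
theorem result {H : Type*} [Group H] [Finite H] {p : ℕ} [Fact p.Prime] (hchar : Subgroup.centralizer (Cfsg.pCore p H : Set H) ≤ Cfsg.pCore p H) (L : Subgroup H) (n : ℕ) (A : Fin (n + 1) → Subgroup H) (h0 : A 0 = ⊥) (hn : A (Fin.last n) = Cfsg.pCore p H) (hmono : Monotone A) (hnorm : ∀ i, (A i).Normal) (hcent : ∀ i : Fin n, ⁅A i.succ, L⁆ ≤ A i.castSucc) : L ≤ Cfsg.pCore p H := by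
  open Subgroup Cfsg.Agent.H24 in
  open scoped commutatorElement in
  open Cfsg.Agent.H10 (SubnormalIn OqOf) in
  open Cfsg.Agent.H9 (maxEA) in
  have b1 : ∀ i : Fin n, ⁅A i.succ, ncl L ⊤⁆ ≤ A i.castSucc := fun i => by
    haveI := hnorm i.succ; haveI := hnorm i.castSucc
    exact (le_centMod_iff.1 (ncl_le (le_centMod_iff.2 ⟨le_top.trans (top_le_normalizer _), hcent i⟩)
      (le_normalizer_centMod (top_le_normalizer _) (top_le_normalizer _)))).2
  have b2 : ∀ i, pResidualOf p (ncl L ⊤) ≤ 𝐂[A i] := fun i => by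
    induction i using Fin.induction with
    | zero => rw [h0, centralizer_bot']; exact le_top
    | succ i ih =>
      exact le_centralizer_of_stabilizes (pResidualOf_idem p _)
        ((isPGroup_pCore p H).to_le (hn ▸ hmono (Fin.le_last _)))
        ((commutator_mono le_rfl (pResidualOf_le p _)).trans (b1 i)) ih
  have b3 := b2 (Fin.last n)
  rw [hn] at b3
  exact (le_ncl L ⊤).trans (le_pCore (pResidualOf_eq_bot_iff.1 (eq_bot_of_pResidual (pResidualOf_idem p _)
    ((isPGroup_pCore p H).to_le (b3.trans hchar)))))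

end Cfsg.Agent.S2810
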