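import Cfsg.Statements.S2814
import Cfsg.Agent.H24.Red

set_option autoImplicit false
open Cfsg

namespace Cfsg.Agent.S2814

section
open Subgroup Cfsg.Agent.H24
open scoped commutatorElement
open Cfsg.Agent.H10 (SubnormalIn OqOf)
open Cfsg.Agent.H9 (maxEA)

theorem isSubnormal_subnormalClosure {H : Type*} [Group H] [Finite H] (A : Subgroup H) :
    (subnormalClosure A).IsSubnormal := by
  obtain ⟨K, hK, hmin⟩ := (wellFounded_lt (α := Subgroup H)).has_min
    {K : Subgroup H | A ≤ K ∧ K.IsSubnormal} ⟨⊤, le_top, .top⟩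
  have : subnormalClosure A = K := le_antisymm (sInf_le hK) (le_sInf fun B hB => by
    by_contra hc
    exact hmin (K ⊓ B) ⟨le_inf hK.1 hB.1, hK.2.inf hB.2⟩
      (lt_of_le_of_ne inf_le_left fun e => hc (e.ge.trans inf_le_right)))
  rw [this]; exact hK.2

theorem ncl_subnormalClosure {H : Type*} [Group H] [Finite H] (A : Subgroup H) :
    A ≤ subnormalClosure A ∧ ncl A (subnormalClosure A) = subnormalClosure A := by
  have a1 : A ≤ subnormalClosure A := le_sInf fun B hB => hB.1
  exact ⟨a1, le_antisymm (ncl_le_self a1) (sInf_le ⟨le_ncl _ _, H10.IsSubnormal_of_le_normalizer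
    (ncl_le_self a1) (le_normalizer_ncl _ _) (isSubnormal_subnormalClosure A)⟩)⟩

end

/-- Let A be a subgroup of the finite group H and K the subnormal closure of A (intersection of the subnormal subgroups containing A). Then K is the normal closure of A inside K and N_H(A) ≤ N_H(K); K = A·O^p(K), O^p(K) being generated by the elements of K of order prime to p; and if A is a p-group, O^p(K) = [O^p(K), A]. -/
theorem result {H : Type*} [Group H] [Finite H] {p : ℕ} [Fact p.Prime] (A : Subgroup H) (K : Subgroup H) (hK : K = Cfsg.subnormalClosure A) : (Subgroup.normalClosure ((A.subgroupOf K : Subgroup ↥K) : Set ↥K)).map K.subtype = K ∧ Subgroup.normalizer (A : Set H) ≤ Subgroup.normalizer (K : Set H) ∧ A ⊔ (Cfsg.pResidual p ↥K).map K.subtype = K ∧ (IsPGroup p ↥A → ⁅(Cfsg.pResidual p ↥K).map K.subtype, A⁆ = (Cfsg.pResidual p ↥K).map K.subtype) := by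
  open Subgroup Cfsg.Agent.H24 in
  open scoped commutatorElement in
  open Cfsg.Agent.H10 (SubnormalIn OqOf) in
  open Cfsg.Agent.H9 (maxEA) in
  obtain ⟨a1, a2⟩ := ncl_subnormalClosure A
  have a3 := isSubnormal_subnormalClosure A
  rw [← hK] at a1 a2 a3
  refine ⟨by rw [map_normalClosure_subgroupOf a1, a2], fun g hg => ?_, sup_pResidualOf_of_ncl a1 a2.ge,
    fun hA => commutator_pResidualOf_of_ncl a1 hA a2.ge⟩
  refine inv_mem_iff.1 (mem_normalizer_of_cj_le (cj_le_iff.2 ?_))
  rw [inv_inv]
  conv_lhs => rw [hK]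
  refine sInf_le ⟨?_, H10.subnormalIn_top.1 (SubnormalIn.cj_of_mem (H10.subnormalIn_top.2 a3)
    (top_le_normalizer _ (mem_top g)))⟩
  exact (cj_eq_of_mem_normalizer hg).ge.trans (cj_mono a1 g)

end Cfsg.Agent.S2814
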