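import Cfsg.Statements.S2815
import Cfsg.Agent.H24.Red

set_option autoImplicit false
open Cfsg

namespace Cfsg.Agent.S2815

/-- Let H be a finite group and p a prime dividing its order with O_p(H) = 1, and suppose K = O^p(H) (generated by the elements of order prime to p) is quasisimple. Then K = F*(H); for every nontrivial p-subgroup Y of H, K = [K, Y] and K lies in the subgroup generated by the K-conjugates of Y; every normal subgroup of H not containing K has order prime to p; and H is p-irreducible. -/
theorem result {H : Type*} [Group H] [Finite H] {p : ℕ} [Fact p.Prime] (hp : p ∣ Nat.card H) (hO : Cfsg.pCore p H = ⊥) (hq : Cfsg.IsQuasisimple ↥(Cfsg.pResidual p H)) : Cfsg.pResidual p H = Cfsg.generalizedFittingSubgroup H ∧ (∀ Y : Subgroup H, IsPGroup p ↥Y → Y ≠ ⊥ → ⁅Cfsg.pResidual p H, Y⁆ = Cfsg.pResidual p H ∧ Cfsg.pResidual p H ≤ ⨆ k : ↥(Cfsg.pResidual p H), Y.map (MulAut.conj (k : H)).toMonoidHom) ∧ (∀ C : Subgroup H, C.Normal → ¬ Cfsg.pResidual p H ≤ C → (Nat.card ↥C).Coprime p) ∧ Cfsg.IsPIrreducible p H := by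
  open Subgroup Cfsg.Agent.H24 in
  open scoped commutatorElement in
  open Cfsg.Agent.H10 (SubnormalIn OqOf) in
  open Cfsg.Agent.H9 (maxEA) in
  have hO' : pCoreOf p (⊤ : Subgroup H) = ⊥ := by rw [pCoreOf_top, hO]
  have hc : H10.CompOf (pResidual p H) ⊤ := ⟨.of_normal le_top (top_le_normalizer _), hq⟩
  have a1 : pResidual p H = H10.FstarOf ⊤ := by
    refine le_antisymm (hc.le_LayOf.trans H10.LayOf_le_FstarOf) ?_
    rw [H10.FstarOf_eq, ← pResidualOf_top]
    refine sup_le (H10.LayOf_le_iff.2 fun K hK => ?_) (le_pResidualOf_of_coprime le_top (coprime_FitOf hO'))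
    exact (pResidualOf_eq_self_of_perfect hK.perfect).ge.trans (pResidualOf_mono le_top)
  have a2 : ∀ C : Subgroup H, C.Normal → ¬ pResidual p H ≤ C → (Nat.card C).Coprime p := by
    intro C hC h
    have b1 := (hc.le_or_of_normalizes le_top (le_top.trans (top_le_normalizer C))).resolve_left h
    refine coprime_of_forall_isPGroup fun P h1 h2 => eq_bot_of_le_centralizer_FstarOf hO' h2 le_top ?_
    rw [← a1]; exact h1.trans (le_centralizer_iff_commutator'.2 b1)
  refine ⟨a1.trans H10.FstarOf_top, fun Y hY hY1 => ?_, a2, ?_⟩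
  · have b1 : ⁅pResidual p H, Y⁆ = pResidual p H := by
      refine (H10.QS.normal_cases hq (commutator_le_left_of_le_normalizer (le_top.trans (top_le_normalizer _)))
        (left_le_normalizer_commutator _ _)).resolve_left fun h => hY1 ?_
      refine eq_bot_of_le_centralizer_FstarOf hO' hY le_top ?_
      rw [← a1, le_centralizer_iff_commutator]
      refine H10.commutator_eq_bot_of_perfect hc.perfect ?_
      rw [commutator_comm Y]; exact h
    refine ⟨b1, ?_⟩
    change _ ≤ ncl Y (pResidual p H)
    rw [ncl_eq_sup_commutator, commutator_comm, b1]; exact le_sup_right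
  · refine ⟨fun h => ?_, fun N hN h => ?_⟩
    · have := (isPClosed_iff_top.1 h).sylIn
      rw [hO'] at this
      exact this.ne_bot (by rwa [card_top]) rfl
    · by_contra hc'
      exact h (isPClosed_iff.2 (pClosed_of_coprime (a2 N hN hc')))

end Cfsg.Agent.S2815
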