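import Cfsg.Statements.S2816
import Cfsg.Agent.H24.Red

set_option autoImplicit false
open Cfsg

namespace Cfsg.Agent.S2816

/-- Let H be a finite group and p a prime with O_p(H) = 1, and Y a p-subgroup of H. Then for every subnormal subgroup K of H containing Y, [F*(H), Y] = [F*(K), Y] = [F*(K), Y, Y]; and if Y₀ ≤ Y with [F*(H), Y, Y₀] = 1 then Y₀ = 1 (in particular [F*(H), Y] = 1 forces Y = 1). -/
theorem result {H : Type*} [Group H] [Finite H] {p : ℕ} [Fact p.Prime] (hO : Cfsg.pCore p H = ⊥) (Y : Subgroup H) (hY : IsPGroup p ↥Y) : (∀ K : Subgroup H, K.IsSubnormal → Y ≤ K → ⁅Cfsg.generalizedFittingSubgroup H, Y⁆ = ⁅(Cfsg.generalizedFittingSubgroup ↥K).map K.subtype, Y⁆ ∧ ⁅(Cfsg.generalizedFittingSubgroup ↥K).map K.subtype, Y⁆ = ⁅⁅(Cfsg.generalizedFittingSubgroup ↥K).map K.subtype, Y⁆, Y⁆) ∧ (∀ Y₀ : Subgroup H, Y₀ ≤ Y → ⁅⁅Cfsg.generalizedFittingSubgroup H, Y⁆, Y₀⁆ = ⊥ → Y₀ = ⊥) := by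
  open Subgroup Cfsg.Agent.H24 in
  open scoped commutatorElement in
  open Cfsg.Agent.H10 (SubnormalIn OqOf) in
  open Cfsg.Agent.H9 (maxEA) in
  have hO' : pCoreOf p (⊤ : Subgroup H) = ⊥ := by rw [pCoreOf_top, hO]
  have hF := pCoreOf_FstarOf_eq_bot hO'
  have hn : ∀ Y : Subgroup H, Y ≤ 𝐍[H10.FstarOf ⊤] := fun Y =>
    H10.le_normalizer_FstarOf (le_top.trans (top_le_normalizer _))
  have a1 := fstar_commutator_commutator H10.FstarOf_FstarOf hF hY (hn Y)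
  rw [← H10.FstarOf_top]
  refine ⟨fun K hK hYK => ?_, fun Y₀ h1 h2 => ?_⟩
  · have hK' := H10.subnormalIn_top.2 hK
    change _ = ⁅H10.FstarOf K, Y⁆ ∧ ⁅H10.FstarOf K, Y⁆ = ⁅⁅H10.FstarOf K, Y⁆, Y⁆
    refine ⟨le_antisymm (a1.ge.trans (commutator_mono ?_ le_rfl))
      (commutator_mono (H10.SubnormalIn.FstarOf_le hK') le_rfl), (fstar_commutator_commutator
        H10.FstarOf_FstarOf (pCoreOf_FstarOf_eq_bot (SubnormalIn.pCoreOf_eq_bot hK' hO')) hY
        (H10.le_normalizer_FstarOf (hYK.trans le_normalizer))).symm⟩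
    rw [H10.SubnormalIn.FstarOf_eq hK']
    exact le_inf (SubnormalIn.le_of_le_commutator hK' le_top hYK a1.ge)
      (commutator_le_left_of_le_normalizer (hn Y))
  · refine eq_bot_of_le_centralizer_FstarOf hO' (hY.to_le h1) le_top (le_centralizer_iff_commutator'.2 ?_)
    refine commutator_eq_bot_of_quadratic hF (hY.to_le h1) (hn _) (le_bot_iff.1 (h2 ▸ ?_))
    exact commutator_mono (commutator_mono le_rfl h1) le_rfl

end Cfsg.Agent.S2816
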