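import Cfsg.Statements.S2817
import Cfsg.Agent.H24.Red

set_option autoImplicit false
open Cfsg

namespace Cfsg.Agent.S2817

/-- Let H be a finite group and p a prime with O_p(H) = 1, Q a p-subgroup of H, L = [F*(H), Q], and F the largest normal subgroup of F*(H) centralized by Q (a normal subgroup of F*(H) centralized by Q and containing every such). Then F = C_{F*(H)}(LQ); L = [L, Q]; L ∩ F ≤ Φ(L); every p-subgroup B of N_H(Q) with [L, B] ≤ F satisfies [L, B] = 1; and C_H(FL) has order prime to p. -/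
theorem result {H : Type*} [Group H] [Finite H] {p : ℕ} [Fact p.Prime] (hO : Cfsg.pCore p H = ⊥) (Q : Subgroup H) (hQ : IsPGroup p ↥Q) (L : Subgroup H) (hL : L = ⁅Cfsg.generalizedFittingSubgroup H, Q⁆) (F : Subgroup H) (hF : F ≤ Cfsg.generalizedFittingSubgroup H ∧ Cfsg.generalizedFittingSubgroup H ≤ Subgroup.normalizer (F : Set H) ∧ Q ≤ Subgroup.centralizer (F : Set H) ∧ ∀ N : Subgroup H, N ≤ Cfsg.generalizedFittingSubgroup H → Cfsg.generalizedFittingSubgroup H ≤ Subgroup.normalizer (N : Set H) → Q ≤ Subgroup.centralizer (N : Set H) → N ≤ F) : F = Cfsg.generalizedFittingSubgroup H ⊓ Subgroup.centralizer ((L ⊔ Q : Subgroup H) : Set H) ∧ ⁅L, Q⁆ = L ∧ L ⊓ F ≤ (frattini ↥L).map L.subtype ∧ (∀ B : Subgroup H, IsPGroup p ↥B → B ≤ Subgroup.normalizer (Q : Set H) → ⁅L, B⁆ ≤ F → ⁅L, B⁆ = ⊥) ∧ (Nat.card ↥(Subgroup.centralizer ((F ⊔ L : Subgroup H) : Set H))).Coprime p := by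
  open Subgroup Cfsg.Agent.H24 in
  open scoped commutatorElement in
  open Cfsg.Agent.H10 (SubnormalIn OqOf) in
  open Cfsg.Agent.H9 (maxEA) in
  have hO' : pCoreOf p (⊤ : Subgroup H) = ⊥ := by rw [pCoreOf_top, hO]
  have hFs := pCoreOf_FstarOf_eq_bot hO'
  rw [← H10.FstarOf_top] at hL hF ⊢
  set S := H10.FstarOf (⊤ : Subgroup H) with hS
  have hn : ∀ Y : Subgroup H, Y ≤ 𝐍[S] := fun Y =>
    H10.le_normalizer_FstarOf (le_top.trans (top_le_normalizer _))
  obtain ⟨f1, f2, f3, f4⟩ := hF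
  have l1 : L ≤ S := hL ▸ commutator_le_left_of_le_normalizer (hn Q)
  have l2 : S ≤ 𝐍[L] := hL ▸ left_le_normalizer_commutator S Q
  have l3 : L ⊔ Q = ncl Q S := by rw [ncl_eq_sup_commutator, commutator_comm, ← hL, sup_comm]
  have a1 : F = S ⊓ 𝐂[L ⊔ Q] := by
    refine le_antisymm (le_inf f1 ?_) (f4 _ inf_le_left (le_normalizer_inf le_normalizer
      (le_normalizer_centralizer (l3 ▸ le_normalizer_ncl Q S)))
      (le_centralizer_iff.1 (inf_le_right.trans (centralizer_anti le_sup_right))))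
    rw [l3]; exact le_centralizer_ncl (le_centralizer_iff.1 f3) f2
  have a2 : ⁅L, Q⁆ = L := by
    rw [hL]; exact fstar_commutator_commutator H10.FstarOf_FstarOf hFs hQ (hn Q)
  have sub : ∀ D, D ≤ S → S ≤ 𝐍[D] → H10.FstarOf D = D ∧ pCoreOf p D = ⊥ := fun D d1 d2 =>
    ⟨H10.FstarOf_eq_self_of_subnormal (.of_normal d1 d2),
      SubnormalIn.pCoreOf_eq_bot (.of_normal d1 d2) hFs⟩
  have lQ : Q ≤ 𝐍[L] := hL ▸ right_le_normalizer_commutator S Q
  have a3 : L ⊓ F ≤ frattiniOf L := by
    have c1 : L ⊓ F ≤ 𝐂[L ⊔ Q] := inf_le_right.trans (a1.le.trans inf_le_right)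
    have c2 : L ⊓ F ≤ ⁅L, L⁆ := by
      intro z hz
      have z1 : z ∈ L ⊔ Q := mem_sup_left hz.1
      have := H3.pow_index_mem_commutator_of_mem_center (G := ↥(L ⊔ Q)) (H := L.subgroupOf (L ⊔ Q))
        (z := ⟨z, z1⟩) hz.1 (by
          rw [← mem_map_iff_mem (L ⊔ Q).subtype_injective, map_subtype_commutator]
          exact (a2.ge.trans (commutator_mono le_sup_left le_sup_right)) hz.1) (by
          rw [← mem_map_iff_mem (L ⊔ Q).subtype_injective, map_subtype_center]
          exact ⟨z1, c1 hz⟩)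
      rw [← H10.subgroupOf_commutator le_sup_left le_sup_left, mem_subgroupOf] at this
      obtain ⟨k, hk⟩ := exists_relIndex_eq_pow hQ L
      rw [← relIndex_sup_of_le_normalizer lQ, sup_comm] at hk
      change z ^ L.relIndex (L ⊔ Q) ∈ _ at this
      rw [hk] at this
      refine mem_of_pow_mem_of_coprime this (Nat.Coprime.pow_right _ ?_)
      have c3 : L ⊓ F ≤ H10.FitOf L := le_trans (le_inf inf_le_left (c1.trans (centralizer_anti le_sup_left)))
        (H10.SubnormalIn.center_le_FitOf (.refl L))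
      exact Nat.Coprime.coprime_dvd_left ((H10.FitOf L).orderOf_dvd_natCard (c3 hz))
        (coprime_FitOf (sub L l1 l2).2)
    refine le_frattiniOf inf_le_left fun M hM => ?_
    by_contra hc
    have c4 : M ⊔ (L ⊓ F) = L := (hM.eq_or_eq le_sup_left (sup_le hM.le inf_le_left)).resolve_left
      fun e => hc (le_sup_right.trans e.le)
    have c5 : L ⊓ F ≤ 𝐂[L] := c1.trans (centralizer_anti le_sup_left)
    have c6 : L ≤ 𝐍[M] := c4.ge.trans (sup_le le_normalizer
      (le_normalizer_of_le_centralizer (c5.trans (centralizer_anti hM.le))))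
    refine hc (c2.trans ((commutator_mono c4.ge le_rfl).trans (commutator_sup_left_le le_normalizer
      (inf_le_left.trans c6) (commutator_le_left_of_le_normalizer c6) ?_)))
    rw [le_centralizer_iff_commutator.1 c5]; exact bot_le
  refine ⟨a1, a2, a3, fun B hB hBQ h => ?_, ?_⟩
  · have b1 : B ≤ 𝐍[L] := hL ▸ le_normalizer_commutator (hn B) hBQ
    have b2 := fstar_sup_centralizer (sub L l1 l2).1 (sub L l1 l2).2 hB b1
    have b3 := le_of_le_sup_frattiniOf (A := L ⊓ 𝐂[B]) inf_le_left (b2.ge.trans (sup_le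
      (((le_inf (commutator_le_left_of_le_normalizer b1) h).trans a3).trans le_sup_right) le_sup_left))
    exact le_centralizer_iff_commutator.1 (b3.trans inf_le_right)
  · have d1 : S ≤ 𝐍[S ⊓ 𝐂[L]] := le_normalizer_inf le_normalizer (le_normalizer_centralizer l2)
    have d2 := fstar_sup_centralizer (sub _ inf_le_left d1).1 (sub _ inf_le_left d1).2 hQ
      (le_normalizer_inf (hn Q) (le_normalizer_centralizer lQ))
    have d3 : S ⊓ 𝐂[L] ≤ F ⊔ L := by
      refine d2.ge.trans (sup_le ((commutator_mono inf_le_left le_rfl).trans (hL.ge.trans le_sup_right)) ?_)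
      rw [a1, centralizer_sup, ← inf_assoc]; exact le_sup_left
    refine coprime_of_forall_isPGroup fun Y h1 h2 => eq_bot_of_le_centralizer_FstarOf hO' h2 le_top
      (le_centralizer_iff_commutator'.2 (commutator_eq_bot_of_quadratic hFs h2 (hn Y) ?_))
    have e1 := le_centralizer_iff_commutator'.1 h1
    have e2 : ⁅⁅Y, S⁆, F ⊔ L⁆ = ⊥ := by
      refine three_subgroups_bot ?_ (by rw [e1, commutator_bot_left])
      exact le_bot_iff.1 (e1 ▸ commutator_mono (commutator_le_right_of_le_normalizer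
        (le_normalizer_sup f2 l2)) le_rfl)
    refine le_bot_iff.1 (e1 ▸ commutator_mono (le_trans (le_inf
      (commutator_le_left_of_le_normalizer (hn Y)) ?_) d3) le_rfl)
    rw [commutator_comm]
    exact (le_centralizer_iff_commutator.2 e2).trans (centralizer_anti le_sup_right)

end Cfsg.Agent.S2817
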