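import Cfsg.Statements.S2818
import Cfsg.Agent.H24.Red

set_option autoImplicit false
open Cfsg

namespace Cfsg.Agent.S2818

/-- Let P be a finite p-subgroup of a group G and H a subgroup of N_G(P) with [P, H] ≤ Ω₁(Z(P)) (the elements of order dividing p in the centre of P). Then H centralizes the Frattini subgroup of P. -/
theorem result {G : Type*} [Group G] [Finite G] {p : ℕ} [Fact p.Prime] (P : Subgroup G) (hP : IsPGroup p ↥P) (H : Subgroup G) (hH : H ≤ Subgroup.normalizer (P : Set G)) (h : ⁅P, H⁆ ≤ Cfsg.omegaOne p (P ⊓ Subgroup.centralizer (P : Set G))) : ⁅(frattini ↥P).map P.subtype, H⁆ = ⊥ := by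
  open Subgroup Cfsg.Agent.H24 in
  open scoped commutatorElement in
  open Cfsg.Agent.H10 (SubnormalIn OqOf) in
  open Cfsg.Agent.H9 (maxEA) in
  have h' : ⁅P, H⁆ ≤ omegaOneCenter p P := h
  have a1 : ⁅⁅P, H⁆, P⁆ = ⊥ := le_centralizer_iff_commutator.1 (h'.trans (omegaOneCenter_le_centralizer p P))
  refine le_centralizer_iff_commutator.1 (H3.frattiniOf_le (p := p) (le_centralizer_iff_commutator.2
    (three_subgroups_bot a1 (by rw [commutator_comm H]; exact a1))) fun x hx y hy => ?_)
  have b := mem_omegaOneCenter.1 (h' (commutator_comm H P ▸ commutator_mem_commutator hy hx))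
  have c : ⁅y, x ^ p⁆ = 1 := by
    rw [commutatorElement_pow_eq, (show Commute ⁅y, x⁆ x from (b.2.1 x hx).symm).mul_pow, b.2.2]; simp
  exact commutatorElement_eq_one_iff_mul_comm.1 c

end Cfsg.Agent.S2818
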