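import Cfsg.Statements.S2819
import Cfsg.Agent.H24.Red

set_option autoImplicit false
open Cfsg

namespace Cfsg.Agent.S2819

/-- Let P be a finite p-subgroup of a group G, H a subgroup of N_G(P), and Y a subgroup of H centralizing the derived subgroup P' such that [P, Y] is elementary abelian. Then O^p(⟨Y^H⟩), the subgroup of the normal closure of Y in H generated by its elements of order prime to p, centralizes the Frattini subgroup of P. -/
theorem result {G : Type*} [Group G] [Finite G] {p : ℕ} [Fact p.Prime] (P : Subgroup G) (hP : IsPGroup p ↥P) (H : Subgroup G) (hH : H ≤ Subgroup.normalizer (P : Set G)) (Y : Subgroup G) (hYH : Y ≤ H) (hYc : Y ≤ Subgroup.centralizer ((⁅P, P⁆ : Subgroup G) : Set G)) (hel : Cfsg.IsElementaryAbelian p ⁅P, Y⁆) (NY : Subgroup G) (hNY : NY = (Subgroup.normalClosure ((Y.subgroupOf H : Subgroup ↥H) : Set ↥H)).map H.subtype) : (Cfsg.pResidual p ↥NY).map NY.subtype ≤ Subgroup.centralizer (((frattini ↥P).map P.subtype : Subgroup G) : Set G) := by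
  open Subgroup Cfsg.Agent.H24 in
  open scoped commutatorElement in
  open Cfsg.Agent.H10 (SubnormalIn OqOf) in
  open Cfsg.Agent.H9 (maxEA) in
  rw [map_normalClosure_subgroupOf hYH] at hNY
  rw [map_pResidual_subtype, map_frattini_subtype]
  have hPP : H ≤ 𝐍[⁅P, P⁆] := le_normalizer_commutator hH hH
  have a1 : ⁅frattiniOf P, Y⁆ ≤ ⁅P, P⁆ := by
    have : frattiniOf P ≤ centMod Y ⁅P, P⁆ := by
      refine H3.frattiniOf_le (p := p) (le_centMod_iff.2 ⟨le_normalizer, ?_⟩) fun x hx =>
        ⟨left_le_normalizer_commutator P P (pow_mem hx p), fun y hy => ?_⟩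
      · rw [le_centralizer_iff_commutator.1 hYc]; exact bot_le
      · have c1 : ⁅y, x⁆ ∈ ⁅P, Y⁆ := commutator_comm Y P ▸ commutator_mem_commutator hy hx
        have c2 := mul_pow_mod_commutator (commutator_le_left_of_le_normalizer (hYH.trans hH) c1) hx p
        rw [hel.2 _ c1] at c2
        rw [commutatorElement_pow_eq]; simpa using c2
    rw [commutator_comm]; exact (le_centMod_iff.1 this).2
  have a2 : ⁅frattiniOf P, NY⁆ ≤ ⁅P, P⁆ := by
    rw [hNY]
    exact (le_centMod_iff.1 (ncl_le (le_centMod_iff.2 ⟨hYH.trans hPP, a1⟩)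
      (le_normalizer_centMod (le_normalizer_frattiniOf hH) hPP))).2
  have a3 : NY ≤ 𝐂[⁅P, P⁆] := hNY ▸ ncl_le hYc (le_normalizer_centralizer hPP)
  exact le_centralizer_of_stabilizes (pResidualOf_idem p _) (hP.to_le (commutator_le_of_le le_rfl le_rfl))
    ((commutator_mono le_rfl (pResidualOf_le p _)).trans a2) ((pResidualOf_le p _).trans a3)

end Cfsg.Agent.S2819
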