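import Cfsg.Statements.S2820
import Cfsg.Agent.H24.Red

set_option autoImplicit false
open Cfsg

namespace Cfsg.Agent.S2820

/-- Let A and B be subnormal subgroups of the finite group H with A a p-group and B = O^p(B) (B generated by its elements of order prime to p). Then A normalizes B and B = O^p(AB), the subgroup of ⟨A, B⟩ generated by its elements of order prime to p. -/
theorem result {H : Type*} [Group H] [Finite H] {p : ℕ} [Fact p.Prime] (A B : Subgroup H) (hA : A.IsSubnormal) (hB : B.IsSubnormal) (hAp : IsPGroup p ↥A) (hBres : (Cfsg.pResidual p ↥B).map B.subtype = B) : A ≤ Subgroup.normalizer (B : Set H) ∧ (Cfsg.pResidual p ↥(A ⊔ B)).map (A ⊔ B).subtype = B := by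
  open Subgroup Cfsg.Agent.H24 in
  open scoped commutatorElement in
  open Cfsg.Agent.H10 (SubnormalIn OqOf) in
  open Cfsg.Agent.H9 (maxEA) in
  rw [map_pResidual_subtype] at hBres ⊢
  have a1 : A ≤ 𝐍[B] := by
    rw [← hBres]
    exact (SubnormalIn.le_pCoreOf (H10.subnormalIn_top.2 hA) hAp).trans
      (SubnormalIn.pCoreOf_le_normalizer (H10.subnormalIn_top.2 hB))
  exact ⟨a1, (pResidualOf_sup_of_isPGroup hAp a1).trans hBres⟩

end Cfsg.Agent.S2820
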