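import Cfsg.Statements.S2823
import Cfsg.Agent.H24.Red

set_option autoImplicit false
open Cfsg

namespace Cfsg.Agent.S2823

/-- Let H be a finite group, p a prime, T a Sylow p-subgroup and L a subgroup of characteristic p containing T; let Z_L be the subgroup generated by the Ω₁(Z(S)) over the Sylow p-subgroups S of L and O^p(L) the subgroup generated by the elements of L of order prime to p. Then Z_L = Ω₁(Z(L))·[Z_L, O^p(L)] and [Z_L, L] = [Z_L, O^p(L)]. -/
theorem result {H : Type*} [Group H] [Finite H] {p : ℕ} [Fact p.Prime] (T : Sylow p H) (L : Subgroup H) (hTL : (T : Subgroup H) ≤ L) (hL : Subgroup.centralizer (Cfsg.pCore p ↥L : Set ↥L) ≤ Cfsg.pCore p ↥L) : Cfsg.sylowCenterClosure p L = (Cfsg.omegaOne p (L ⊓ Subgroup.centralizer ((L : Subgroup H) : Set H))) ⊔ ⁅Cfsg.sylowCenterClosure p L, (Cfsg.pResidual p ↥L).map L.subtype⁆ ∧ ⁅Cfsg.sylowCenterClosure p L, L⁆ = ⁅Cfsg.sylowCenterClosure p L, (Cfsg.pResidual p ↥L).map L.subtype⁆ := by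
  open Subgroup Cfsg.Agent.H24 in
  open scoped commutatorElement in
  open Cfsg.Agent.H10 (SubnormalIn OqOf) in
  open Cfsg.Agent.H9 (maxEA) in
  have hL' := charP_iff.2 hL
  have hT := sylIn_of_le T hTL
  have hV := hL'.isEA_scc
  rw [map_pResidual_subtype, ← omegaOneCenter_def]
  set V := sylowCenterClosure p L
  have n1 : L ≤ 𝐍[V] := le_normalizer_scc p L
  have n2 : L ≤ 𝐍[⁅V, pResidualOf p L⁆] := le_normalizer_commutator n1 (le_normalizer_pResidualOf p L)
  have a0 : omegaOneCenter p L ≤ V := le_trans (le_omegaOneCenter (isEA_omegaOneCenter p L)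
    (hT.le_of_normalizes (isPGroup_of_isElementaryAbelian (isEA_omegaOneCenter p L)) (omegaOneCenter_le p L)
      (le_normalizer_omegaOneCenter (hTL.trans le_normalizer)))
    ((omegaOneCenter_le_centralizer p L).trans (centralizer_anti hTL))) hT.omegaOneCenter_le_scc
  have a1 : V = omegaOneCenter p L ⊔ ⁅V, pResidualOf p L⁆ := by
    refine le_antisymm ?_ (sup_le a0 (commutator_le_left_of_le_normalizer ((pResidualOf_le p L).trans n1)))
    conv_lhs => rw [show V = _ from hT.scc_eq_ncl]
    refine ncl_le ((le_inf hT.omegaOneCenter_le_scc (omegaOneCenter_le_centralizer p _)).trans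
      ((hT.inf_centralizer_le hV.1 (isPGroup_of_isElementaryAbelian hV) n1).trans (sup_le_sup_right ?_ _)))
      (le_normalizer_sup (le_normalizer_omegaOneCenter le_normalizer) n2)
    exact le_omegaOneCenter (isEA_of_le inf_le_left hV) (inf_le_left.trans (scc_le p L)) inf_le_right
  refine ⟨a1, le_antisymm ?_ (commutator_mono le_rfl (pResidualOf_le p L))⟩
  refine (commutator_mono a1.le le_rfl).trans (commutator_sup_left_le ((omegaOneCenter_le p L).trans n2)
    le_normalizer ?_ (commutator_le_left_of_le_normalizer n2))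
  rw [le_centralizer_iff_commutator.1 (omegaOneCenter_le_centralizer p L)]; exact bot_le

end Cfsg.Agent.S2823
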