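import Cfsg.Statements.S2825
import Cfsg.Agent.H24.Base6

set_option autoImplicit false
open Cfsg

namespace Cfsg.Agent.S2825

section
open Subgroup Cfsg.Agent.H24
open scoped commutatorElement
open Cfsg.Agent.H10 (SubnormalIn OqOf)
open Cfsg.Agent.H9 (maxEA)

theorem cent_inf {G : Type*} [Group G] [Finite G] {p : ℕ} [Fact p.Prime] {H L : Subgroup G}
    (hL : SubnormalIn L H) : L ⊓ 𝐂[Yp p H ⊓ L] ≤ 𝐂[Yp p H] ∧ PRed p (Yp p H ⊓ L) L := by
  have n1 : L ≤ 𝐍[Yp p H ⊓ L] := le_normalizer_inf (hL.le.trans (le_normalizer_Yp p H)) le_normalizer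
  have key : ∀ D, D ≤ L → L ≤ 𝐍[D] → PGrpMod p D 𝐂[Yp p H ⊓ L] → D ≤ 𝐂[Yp p H] := by
    intro D d1 d2 d3
    have d4 := (SubnormalIn.of_normal d1 d2).trans hL
    refine (red_Yp p H).of_subnormal (le_normalizer_Yp p H) d4 (pResidualOf_le_iff.1 ?_)
    refine le_centralizer_of_stabilizes (pResidualOf_idem p D) (isPGroup_Yp p H).to_inf_left
      (le_inf (commutator_le_left_of_le_normalizer ((pResidualOf_le p D).trans
        (d4.le.trans (le_normalizer_Yp p H)))) ?_) d3.pResidualOf_le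
    exact (commutator_le_right_of_le_normalizer ((Yp_le_pCoreOf p H).trans
      (SubnormalIn.pCoreOf_le_normalizer d4))).trans ((pResidualOf_le p D).trans d1)
  exact ⟨key _ inf_le_left (le_normalizer_inf le_normalizer (le_normalizer_centralizer n1))
    (pGrpMod_of_le inf_le_right), inf_le_right, n1, isEA_of_le inf_le_left (isEA_Yp p H),
    fun D d1 d2 d3 => (key D d1 d2 d3).trans (centralizer_anti inf_le_left)⟩

theorem cent_aux {G : Type*} [Group G] [Finite G] {p : ℕ} [Fact p.Prime] {H E : Subgroup G}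
    (hE : pResidualOf p E = E) (h1 : E ≤ H) (h2 : H ≤ 𝐍[E]) (h3 : E ≤ 𝐂[Yp p H]) (V : Subgroup G)
    (v1 : V ≤ H) (v2 : H ≤ 𝐍[V]) (v3 : IsElementaryAbelian p V)
    (v4 : ∀ D, D ≤ E → H ≤ 𝐍[D] → PGrpMod p D 𝐂[V] → D ≤ 𝐂[V]) : E ≤ 𝐂[V] := by
  induction hn : Nat.card V using Nat.strong_induction_on generalizing V with
  | _ n ih =>
    by_cases hr : pCoreMod p H 𝐂[V] ≤ 𝐂[V]
    · exact h3.trans (centralizer_anti (PRed.le_Yp ⟨v1, v2, v3, red_iff.2 hr⟩))
    have c1 := le_normalizer_centralizer v2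
    have q1 := pCoreMod_le p H 𝐂[V]
    have q2 : H ≤ 𝐍[pCoreMod p H 𝐂[V]] := le_normalizer_pCoreMod le_normalizer c1
    have q3 := pGrpMod_pCoreMod (p := p) c1
    set Q := pCoreMod p H 𝐂[V]
    have q4 : ⁅Q, E⁆ ≤ 𝐂[V] := v4 _ (commutator_le_right_of_le_normalizer (q1.trans h2))
      (le_normalizer_commutator q2 h2)
      (q3.mono (commutator_le_left_of_le_normalizer (h1.trans q2)) le_rfl)
    have hp := isPGroup_of_isElementaryAbelian v3
    have k : ∀ F, pResidualOf p F = F → F ≤ E → F ≤ 𝐂[V ⊓ 𝐂[Q]] → F ≤ 𝐂[V] := fun F f1 f2 f3 =>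
      pxq_mod hp q3 f1 (q1.trans v2) (f2.trans (h1.trans v2)) ((commutator_mono le_rfl f2).trans q4) f3
    refine k E hE le_rfl (ih _ (hn ▸ card_lt_of_lt (lt_of_le_of_ne inf_le_left fun e =>
      hr (le_centralizer_iff.1 (e.ge.trans inf_le_right)))) _ (inf_le_left.trans v1)
      (le_normalizer_inf v2 (le_normalizer_centralizer q2)) (isEA_of_le inf_le_left v3)
      (fun D d1 d2 d3 => ?_) rfl)
    exact (v4 D d1 d2 (pResidualOf_le_iff.1 (k _ (pResidualOf_idem p D)
      ((pResidualOf_le p D).trans d1) d3.pResidualOf_le))).trans (centralizer_anti inf_le_left)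

theorem cent_eq {G : Type*} [Group G] [Finite G] {p : ℕ} [Fact p.Prime] {H L : Subgroup G}
    (hL : SubnormalIn L H) : L ⊓ 𝐂[Yp p L] = L ⊓ 𝐂[Yp p H] := by
  refine hL.induction (P := fun L => L ⊓ 𝐂[Yp p L] = L ⊓ 𝐂[Yp p H]) rfl fun A B h1 _ h3 _ ih => ?_
  have hA := SubnormalIn.of_normal h1 h3
  have : A ⊓ 𝐂[Yp p A] = A ⊓ 𝐂[Yp p B] := by
    refine le_antisymm (le_inf inf_le_left (le_trans (inf_le_inf_left _ (centralizer_anti
      (cent_inf hA).2.le_Yp)) (cent_inf hA).1)) (le_inf inf_le_left ?_)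
    have n1 : B ≤ 𝐍[A ⊓ 𝐂[Yp p B]] :=
      le_normalizer_inf h3 (le_normalizer_centralizer (le_normalizer_Yp p B))
    refine red_Yp p A _ inf_le_left (h1.trans n1) (pResidualOf_le_iff.1 ?_)
    exact cent_aux (pResidualOf_idem p _) ((pResidualOf_le p _).trans (inf_le_left.trans h1))
      (le_normalizer_pResidualOf_of n1) ((pResidualOf_le p _).trans inf_le_right) _
      ((Yp_le p A).trans h1) (h3.trans (normalizer_le_normalizer_Yp p A)) (isEA_Yp p A)
      fun D d1 d2 d3 => red_Yp p A D (d1.trans ((pResidualOf_le p _).trans inf_le_left)) (h1.trans d2) d3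
  rw [this, ← inf_eq_left.2 h1, inf_assoc, ih, inf_assoc]

end

/-- Let L be a subnormal subgroup of the finite group H, p a prime, Y_H and Y_L the largest p-reduced normal subgroups. Then Y_H ∩ L = Y_H ∩ Y_L and this subgroup is a p-reduced normal subgroup of L; C_L(Y_L) = C_L(Y_H) = C_L(Y_H ∩ L); and if O^p(H) ≤ L, then [Y_L, L] = 1 if and only if [Y_H, H] = 1. -/
theorem result {H : Type*} [Group H] [Finite H] {p : ℕ} [Fact p.Prime] (L : Subgroup H) (hL : L.IsSubnormal) : Cfsg.largestPReduced p H ⊓ L = Cfsg.largestPReduced p H ⊓ (Cfsg.largestPReducedOf p L) ∧ Cfsg.IsPReducedNormal p ((Cfsg.largestPReduced p H ⊓ L).subgroupOf L) ∧ L ⊓ Subgroup.centralizer ((Cfsg.largestPReducedOf p L : Subgroup H) : Set H) = L ⊓ Subgroup.centralizer (Cfsg.largestPReduced p H : Set H) ∧ L ⊓ Subgroup.centralizer (Cfsg.largestPReduced p H : Set H) = L ⊓ Subgroup.centralizer ((Cfsg.largestPReduced p H ⊓ L : Subgroup H) : Set H) ∧ (Cfsg.pResidual p H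 ≤ L → (⁅(Cfsg.largestPReducedOf p L), L⁆ = ⊥ ↔ ⁅Cfsg.largestPReduced p H, (⊤ : Subgroup H)⁆ = ⊥)) := by
  open Subgroup Cfsg.Agent.H24 in
  open scoped commutatorElement in
  open Cfsg.Agent.H10 (SubnormalIn OqOf) in
  open Cfsg.Agent.H9 (maxEA) in
  have hL' := H10.subnormalIn_top.2 hL
  obtain ⟨a1, a2⟩ := cent_inf (p := p) hL'
  have a3 := cent_eq (p := p) hL'
  rw [← Yp_top, ← pResidualOf_top]
  refine ⟨le_antisymm (le_inf inf_le_left a2.le_Yp) (inf_le_inf_left _ (Yp_le p L)),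
    isPReducedNormal_subgroupOf a2, a3, le_antisymm (inf_le_inf_left _ (centralizer_anti inf_le_left))
    (le_inf inf_le_left a1), fun h => ?_⟩
  rw [← le_centralizer_iff_commutator', ← le_centralizer_iff_commutator']
  constructor
  · intro h1
    exact red_Yp p ⊤ ⊤ le_rfl le_normalizer (pResidualOf_le_iff.1
      (h.trans ((le_inf le_rfl h1).trans (a3.le.trans inf_le_right))))
  · intro h1
    exact (le_inf le_rfl (le_top.trans h1)).trans (a3.ge.trans inf_le_right)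

end Cfsg.Agent.S2825
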