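import Cfsg.Statements.S2826
import Cfsg.Agent.H24.Red

set_option autoImplicit false
open Cfsg

namespace Cfsg.Agent.S2826

/-- Let H be a finite group of characteristic p, T a Sylow p-subgroup, and V a normal elementary abelian p-subgroup of H containing Ω₁(Z(T)). Then C_H(Ω₁(Z(T))) = C_H([V, O^p(H)] ∩ Ω₁(Z(T))), O^p(H) being generated by the elements of order prime to p. -/
theorem result {H : Type*} [Group H] [Finite H] {p : ℕ} [Fact p.Prime] (hH : Subgroup.centralizer (Cfsg.pCore p H : Set H) ≤ Cfsg.pCore p H) (T : Sylow p H) (V : Subgroup H) [V.Normal] (hV : Cfsg.IsElementaryAbelian p V) (hZV : (Cfsg.omegaOne p ((T : Subgroup H) ⊓ Subgroup.centralizer (((T : Subgroup H) : Subgroup H) : Set H))) ≤ V) : Subgroup.centralizer ((Cfsg.omegaOne p ((T : Subgroup H) ⊓ Subgroup.centralizer (((T : Subgroup H) : Subgroup H) : Set H))) : Set H) = Subgroup.centralizer (((⁅V, Cfsg.pResidual p H⁆ ⊓ (Cfsg.omegaOne p ((T : Subgroup H) ⊓ Subgroup.centralizer (((T : Subgroup H) : Subgroup H) : Set H)))) : Subgroup H) : Set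 H) := by
  open Subgroup Cfsg.Agent.H24 in
  open scoped commutatorElement in
  open Cfsg.Agent.H10 (SubnormalIn OqOf) in
  open Cfsg.Agent.H9 (maxEA) in
  rw [← omegaOneCenter_def]
  have a1 := (sylIn_top T).inf_centralizer_le hV.1 (isPGroup_of_isElementaryAbelian hV) (top_le_normalizer V)
  rw [pResidualOf_top] at a1
  have a2 : V ⊓ 𝐂[(⊤ : Subgroup H)] ≤ omegaOneCenter p T := le_omegaOneCenter (isEA_of_le inf_le_left hV)
    (inf_le_left.trans ((le_pCore (isPGroup_of_isElementaryAbelian hV)).trans (pCore_le_sylow T)))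
    (inf_le_right.trans (centralizer_anti le_top))
  have a3 := sup_inf_of_le_normalizer_right (B := ⁅V, pResidual p H⁆)
    (le_top.trans (top_le_normalizer _)) a2
  refine le_antisymm (centralizer_anti inf_le_right) (le_trans ?_ (centralizer_anti
    ((le_inf ((le_inf hZV (omegaOneCenter_le_centralizer p _)).trans a1) le_rfl).trans a3.le)))
  exact le_centralizer_sup (le_centralizer_iff.1 (inf_le_right.trans (centralizer_anti le_top))) le_rfl

end Cfsg.Agent.S2826
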