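import Cfsg.Statements.S2828
import Cfsg.Agent.H24.Red

set_option autoImplicit false
open Cfsg

namespace Cfsg.Agent.S2828

/-- Let H be a finite group, p a prime and D a normal p-subgroup of H. Then H is p-irreducible if and only if H/D is p-irreducible, and H is strongly p-irreducible if and only if H/D is strongly p-irreducible. -/
theorem result {H : Type*} [Group H] [Finite H] {p : ℕ} [Fact p.Prime] (D : Subgroup H) [D.Normal] (hD : IsPGroup p ↥D) : (Cfsg.IsPIrreducible p H ↔ Cfsg.IsPIrreducible p (H ⧸ D)) ∧ (Cfsg.IsStronglyPIrreducible p H ↔ Cfsg.IsStronglyPIrreducible p (H ⧸ D)) := by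
  open Subgroup Cfsg.Agent.H24 in
  open scoped commutatorElement in
  open Cfsg.Agent.H10 (SubnormalIn OqOf) in
  open Cfsg.Agent.H9 (maxEA) in
  have hf := QuotientGroup.mk'_surjective D
  have hk : ∀ N : Subgroup H, IsPGroup p ↥(N ⊓ (QuotientGroup.mk' D).ker) := fun N => by
    rw [QuotientGroup.ker_mk']; exact hD.to_inf_right
  have a1 : ∀ N : Subgroup H, IsPClosed p (N.map (QuotientGroup.mk' D)) ↔ IsPClosed p N := fun N => by
    rw [isPClosed_iff, isPClosed_iff]; exact ⟨pClosed_of_map _ (hk N), PClosed.map _⟩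
  have a2 : IsPClosed p (H ⧸ D) ↔ IsPClosed p H := by
    rw [isPClosed_iff_top, isPClosed_iff_top, ← isPClosed_iff, ← isPClosed_iff, ← a1,
      map_top_of_surjective _ hf]
  have a3 : ∀ N : Subgroup H, N.Normal → (pResidual p (H ⧸ D) ≤ N.map (QuotientGroup.mk' D) ↔
      pResidual p H ≤ N) := fun N hN => by
    rw [← map_pResidual hf, Subgroup.map_le_map_iff, QuotientGroup.ker_mk', sup_comm]
    refine ⟨fun h => le_of_le_sup_of_pResidual (by rw [← pResidualOf_top, pResidualOf_idem]) hD
      (le_top.trans (top_le_normalizer N)) h, fun h => h.trans le_sup_right⟩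
  have a4 : ∀ N : Subgroup H, (⁅N.map (QuotientGroup.mk' D), ⊤⁆ ≤ pCore p (H ⧸ D) ↔ ⁅N, ⊤⁆ ≤ pCore p H) :=
    fun N => by
    rw [← map_top_of_surjective _ hf, ← Subgroup.map_commutator,
      ← map_pCore_of_ker hf (by rwa [QuotientGroup.ker_mk']), Subgroup.map_le_map_iff, QuotientGroup.ker_mk',
      sup_eq_left.2 (le_pCore hD)]
  constructor
  · refine and_congr (not_congr a2.symm) ⟨fun h N hN hc => ?_, fun h N hN hc => ?_⟩
    · have e := map_comap_eq_self_of_surjective hf N
      rw [← e] at hc ⊢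
      exact (a3 _ inferInstance).2 (h _ inferInstance (by rwa [← a1]))
    · exact (a3 N hN).1 (h _ (hN.map _ hf) (by rwa [a1]))
  · refine and_congr (not_congr a2.symm) ⟨fun h N hN hc => ?_, fun h N hN hc => ?_⟩
    · have e := map_comap_eq_self_of_surjective hf N
      rw [← e] at hc ⊢
      exact (a3 _ inferInstance).2 (h _ inferInstance (by rwa [← a4]))
    · exact (a3 N hN).1 (h _ (hN.map _ hf) (by rwa [a4]))

end Cfsg.Agent.S2828
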