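import Cfsg.Statements.S2829
import Cfsg.Agent.H24.Red

set_option autoImplicit false
open Cfsg

namespace Cfsg.Agent.S2829

/-- Every strongly p-irreducible finite group is p-irreducible. -/
theorem result {H : Type*} [Group H] [Finite H] {p : ℕ} [Fact p.Prime] (hH : Cfsg.IsStronglyPIrreducible p H) : Cfsg.IsPIrreducible p H := by
  open Subgroup Cfsg.Agent.H24 in
  open scoped commutatorElement in
  open Cfsg.Agent.H10 (SubnormalIn OqOf) in
  open Cfsg.Agent.H9 (maxEA) in
  refine ⟨hH.1, fun N hN hc => hH.2 N hN fun h => hc (isPClosed_iff.2 fun P h1 h2 => ?_)⟩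
  rw [pCoreOf_eq_inf_pCore]
  refine le_inf h1 (le_sup_left.trans (le_pCore (N := P ⊔ pCore p H) (hN := top_le_normalizer_iff.1
    (le_normalizer_of_commutator_le le_rfl ?_)) (isPGroup_sup_of_le_normalizer_right h2 (isPGroup_pCore p H)
      (le_top.trans (top_le_normalizer _)))))
  exact commutator_sup_left_le (le_normalizer_of_le le_sup_left) (le_normalizer_of_le le_sup_right)
    (((commutator_mono h1 le_rfl).trans h).trans le_sup_right)
    ((commutator_le_left _ _).trans le_sup_right)

end Cfsg.Agent.S2829
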