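import Cfsg.Statements.S2830
import Cfsg.Agent.H24.Red

set_option autoImplicit false
open Cfsg

namespace Cfsg.Agent.S2830

/-- Let H act by conjugation on the elementary abelian p-subgroup V of a finite group G (H ≤ N(V)), with H p-irreducible and O^p(H) not centralizing V. Then C_H(V) is p-closed and C_T(V) ≤ O_p(H) for every p-subgroup T of H. If in addition O_p(H) centralizes V, then C_T(V) = T ∩ O_p(H) for every p-subgroup T of H, and V is p-reduced for H: O_p(H/C_H(V)) = 1. -/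
theorem result {G : Type*} [Group G] [Finite G] {p : ℕ} [Fact p.Prime] (V H : Subgroup G) (hV : Cfsg.IsElementaryAbelian p V) (hHV : H ≤ Subgroup.normalizer (V : Set G)) (hH : Cfsg.IsPIrreducible p ↥H) (hnc : ¬ (Cfsg.pResidual p ↥H).map H.subtype ≤ Subgroup.centralizer (V : Set G)) [hn : ((Subgroup.centralizer (V : Set G)).subgroupOf H).Normal] : Cfsg.IsPClosed p ↥(H ⊓ Subgroup.centralizer (V : Set G)) ∧ (∀ T : Subgroup G, T ≤ H → IsPGroup p ↥T → T ⊓ Subgroup.centralizer (V : Set G) ≤ Cfsg.pCoreOf p H) ∧ (Cfsg.pCoreOf p H ≤ Subgroup.centralizer (V : Set G) → (∀ T : Subgroup G, T ≤ H → IsPGroup p ↥T → T ⊓ Subgroup.centralizer (V : Set G) = T ⊓ Cfsg.pCoreOf p H) ∧ Cfsg.pCore p (↥H ⧸ (Subgroup.centralizer (V : Set G)).subgroupOf H) = ⊥) := by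
  open Subgroup Cfsg.Agent.H24 in
  open scoped commutatorElement in
  open Cfsg.Agent.H10 (SubnormalIn OqOf) in
  open Cfsg.Agent.H9 (maxEA) in
  have h := isPIrreducible_iff.1 hH
  have n1 : H ≤ 𝐍[𝐂[V]] := le_normalizer_centralizer hHV
  have n2 : H ≤ 𝐍[H ⊓ 𝐂[V]] := le_normalizer_inf le_normalizer n1
  have a1 : PClosed p (H ⊓ 𝐂[V]) := h.pClosed inf_le_left n2 fun e => hnc (e.trans inf_le_right)
  have a2 : ∀ T : Subgroup G, T ≤ H → IsPGroup p T → T ⊓ 𝐂[V] ≤ pCoreOf p H := fun T h1 h2 =>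
    a1.le_pCoreOf (.of_normal inf_le_left n2) h2.to_inf_left (inf_le_inf_right _ h1)
  refine ⟨isPClosed_iff.2 a1, a2, fun hO => ⟨fun T h1 h2 => le_antisymm (le_inf inf_le_left (a2 T h1 h2))
    (inf_le_inf_left _ hO), pCore_quotient_eq_bot_iff.2 ?_⟩⟩
  have d1 := pCoreMod_le p H 𝐂[V]
  have d2 : H ≤ 𝐍[pCoreMod p H 𝐂[V]] := le_normalizer_pCoreMod le_normalizer n1
  have d3 := pGrpMod_pCoreMod (p := p) n1
  have d4 := h.pClosed d1 d2 fun e => hnc ((pResidualOf_idem p H).ge.trans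
    ((pResidualOf_mono e).trans d3.pResidualOf_le))
  exact (d3.le_sup_of_sylIn (d1.trans n1) d4.sylIn).trans (sup_le le_rfl
    ((pCoreOf_le_of_normal d1 d2).trans hO))

end Cfsg.Agent.S2830
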