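import Cfsg.Statements.S2832
import Cfsg.Agent.H24.Red

set_option autoImplicit false
open Cfsg

namespace Cfsg.Agent.S2832

/-- Let H be a finite group with Sylow p-subgroup T such that H is T-minimal (generated by the conjugates of T, with T in exactly one maximal subgroup), and let N be a normal subgroup of H. Then either H/N is a p-group or H/N is minimal over the image of T in the same sense. -/
theorem result {H : Type*} [Group H] [Finite H] {p : ℕ} [Fact p.Prime] (T : Sylow p H) (hmin : Cfsg.IsMinimalOver (T : Subgroup H)) (N : Subgroup H) [N.Normal] : IsPGroup p (H ⧸ N) ∨ Cfsg.IsMinimalOver ((T : Subgroup H).map (QuotientGroup.mk' N)) := by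
  open Subgroup Cfsg.Agent.H24 in
  open scoped commutatorElement in
  open Cfsg.Agent.H10 (SubnormalIn OqOf) in
  open Cfsg.Agent.H9 (maxEA) in
  obtain ⟨M, h⟩ := isMinimalOver_iff_top.1 hmin
  have hf := QuotientGroup.mk'_surjective N
  by_cases hN : N ≤ M
  · right
    have c := H2.isCoatom_map_mk' (isCoatom_iff_covBy_top.2 h.covBy) hN
    refine isMinimalOver_iff_top.2 ⟨M.map (QuotientGroup.mk' N), map_mono h.le, c.lt_top, ?_, fun X h1 h2 => ?_⟩
    · rw [← map_top_of_surjective _ hf, ← map_ncl, h.ncl]
    · rw [← map_comap_eq_self_of_surjective hf X]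
      refine map_mono (h.max _ (map_le_iff_le_comap.1 h1) (lt_top_iff_ne_top.2 fun e => h2.ne ?_))
      rw [← map_comap_eq_self_of_surjective hf X, e, map_top_of_surjective _ hf]
  · left
    have a := h.eq_of_not_le le_sup_left le_top (X := (T : Subgroup H) ⊔ N) fun e => hN (le_sup_right.trans e)
    rw [← pGrpMod_top_iff_quotient, ← pResidualOf_le_iff]
    exact (pResidualOf_le_of_le_sup T.isPGroup' (le_top.trans (top_le_normalizer N)) a.ge).trans
      (pResidualOf_le p N)

end Cfsg.Agent.S2832
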