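import Cfsg.Statements.S2833
import Cfsg.Agent.H24.Red

set_option autoImplicit false
open Cfsg

namespace Cfsg.Agent.S2833

/-- Let V be a subgroup of a finite group G normalized by the subgroup L, let X ≤ L and g ∈ L with [V, X, X] = 1 and L generated by X and gXg⁻¹. Put W = [V, L]. Then W = [V, X]·[V, gXg⁻¹], C_W(X) = [V, X], and C_W(L) = [V, X] ∩ [V, gXg⁻¹]. -/
theorem result {G : Type*} [Group G] [Finite G] (V L : Subgroup G) (hLV : L ≤ Subgroup.normalizer (V : Set G)) (X : Subgroup G) (hX : X ≤ L) (g : G) (hg : g ∈ L) (hq : ⁅⁅V, X⁆, X⁆ = ⊥) (hgen : X ⊔ X.map (MulAut.conj g).toMonoidHom = L) (W : Subgroup G) (hW : W = ⁅V, L⁆) : ⁅V, X⁆ ⊔ ⁅V, X.map (MulAut.conj g).toMonoidHom⁆ = W ∧ W ⊓ Subgroup.centralizer (X : Set G) = ⁅V, X⁆ ∧ W ⊓ Subgroup.centralizer (L : Set G) = ⁅V, X⁆ ⊓ ⁅V, X.map (MulAut.conj g).toMonoidHom⁆ := by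
  open Subgroup Cfsg.Agent.H24 in
  open scoped commutatorElement in
  open Cfsg.Agent.H10 (SubnormalIn OqOf) in
  open Cfsg.Agent.H9 (maxEA) in
  rw [map_conj_eq_cj] at hgen ⊢
  have hX' : cj X g ≤ L := cj_le_of_mem hX hg
  have v1 : ⁅V, X⁆ ≤ V := commutator_le_left_of_le_normalizer (hX.trans hLV)
  have v2 : ⁅V, cj X g⁆ ≤ V := commutator_le_left_of_le_normalizer (hX'.trans hLV)
  have e1 : ⁅V, cj X g⁆ = cj ⁅V, X⁆ g := by rw [cj_commutator, cj_eq_of_mem_normalizer (hLV hg)]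
  have c1 : ⁅V, X⁆ ≤ 𝐂[X] := le_centralizer_iff_commutator.2 hq
  have c2 : ⁅V, cj X g⁆ ≤ 𝐂[cj X g] := by rw [e1, ← cj_centralizer]; exact cj_mono c1 g
  have a1 : ⁅V, X⁆ ⊔ ⁅V, cj X g⁆ = W := by
    rw [hW]
    refine le_antisymm (sup_le (commutator_mono le_rfl hX) (commutator_mono le_rfl hX')) ?_
    conv_lhs => rw [← hgen]
    exact commutator_sup_right_le (le_normalizer_of_commutator_le (sup_le v1 v2) le_sup_left)
      (le_normalizer_of_commutator_le (sup_le v1 v2) le_sup_right) le_sup_left le_sup_right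
  have k : ∀ w ∈ 𝐂[L], (w ∈ ⁅V, cj X g⁆ ↔ w ∈ ⁅V, X⁆) := fun w hw => by
    rw [e1, mem_cj, hw _ (inv_mem hg)]; simp
  have a2 : W ⊓ 𝐂[X] = ⁅V, X⁆ := by
    rw [← a1, sup_inf_of_le_normalizer_right (v1.trans (left_le_normalizer_commutator _ _)) c1, sup_eq_left]
    intro w hw
    exact (k w (hgen ▸ le_centralizer_sup inf_le_right (inf_le_left.trans c2) hw)).1 hw.1
  refine ⟨a1, a2, le_antisymm (fun w hw => ?_) (le_inf (inf_le_left.trans (le_sup_left.trans a1.le)) ?_)⟩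
  · have := a2.le ⟨hw.1, centralizer_anti hX hw.2⟩
    exact ⟨this, (k w hw.2).2 this⟩
  · rw [← hgen]; exact le_centralizer_sup (inf_le_left.trans c1) (inf_le_right.trans c2)

end Cfsg.Agent.S2833
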