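import Cfsg.Statements.S2835
import Cfsg.Agent.H24.Red

set_option autoImplicit false
open Cfsg

namespace Cfsg.Agent.S2835

/-- Let L be a finite group, L₀ a maximal subgroup, T a Sylow p-subgroup of L₀ and Y ≤ T, and suppose L is Y-minimal (generated by the conjugates of Y, with Y in exactly one maximal subgroup, necessarily L₀). Then N_L(T) ≤ L₀, O_p(L) ≤ L₀ and T is a Sylow p-subgroup of L; N_L(L₀) = L₀; L = ⟨Y, gYg⁻¹⟩ for each g ∈ L outside L₀; and if Y is abelian then Y ∩ gYg⁻¹ = C_Y(L) for each such g. -/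
theorem result {L : Type*} [Group L] [Finite L] {p : ℕ} [Fact p.Prime] (L₀ : Subgroup L) (hL₀ : IsCoatom L₀) (T : Sylow p ↥L₀) (Y : Subgroup L) (hYT : Y ≤ (T : Subgroup ↥L₀).map L₀.subtype) (hmin : Cfsg.IsMinimalOver Y) : Subgroup.normalizer (((T : Subgroup ↥L₀).map L₀.subtype : Subgroup L) : Set L) ≤ L₀ ∧ Cfsg.pCore p L ≤ L₀ ∧ (∃ P : Sylow p L, (P : Subgroup L) = (T : Subgroup ↥L₀).map L₀.subtype) ∧ Subgroup.normalizer (L₀ : Set L) = L₀ ∧ (∀ g : L, g ∉ L₀ → Y ⊔ Y.map (MulAut.conj g).toMonoidHom = ⊤) ∧ (IsMulCommutative ↥Y → ∀ g : L, g ∉ L₀ → Y ⊓ Y.map (MulAut.conj g).toMonoidHom = Y ⊓ Subgroup.center L) := by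
  open Subgroup Cfsg.Agent.H24 in
  open scoped commutatorElement in
  open Cfsg.Agent.H10 (SubnormalIn OqOf) in
  open Cfsg.Agent.H9 (maxEA) in
  have hT := sylIn_map T
  have h := IsMinimalOver.minOver hmin hL₀ (hYT.trans hT.le)
  have a1 := h.sylIn hT hYT
  refine ⟨by simpa using h.inf_normalizer_le hYT hT.le, ?_, sylIn_top_iff.1 a1,
    le_antisymm (by simpa using h.inf_normalizer_le h.le le_rfl) le_normalizer,
    fun g hg => h.sup_cj (mem_top g) hg, fun hY g hg => ?_⟩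
  · rw [← pCoreOf_top]; exact a1.pCoreOf_le.trans hT.le
  · rw [map_conj_eq_cj, ← centralizer_top']
    refine le_antisymm (le_inf inf_le_left ?_) (le_inf inf_le_left fun y hy => ?_)
    · rw [← h.sup_cj (mem_top g) hg]
      exact le_centralizer_sup (inf_le_left.trans (isMulCommutative_iff_le_centralizer.1 hY))
        (inf_le_right.trans (isMulCommutative_iff_le_centralizer.1 (isMulCommutative_cj g)))
    · rw [mem_cj, hy.2 _ (mem_top g⁻¹)]; simpa using hy.1

end Cfsg.Agent.S2835
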