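import Cfsg.Statements.S2836
import Cfsg.Agent.H24.Base6

set_option autoImplicit false
open Cfsg

namespace Cfsg.Agent.S2836

/-- Let L be a finite group, L₀ a maximal subgroup, T a Sylow p-subgroup of L₀, Y ≤ T, and suppose L is Y-minimal. Let D be the intersection of the conjugates of L₀ (the core of L₀). Then D contains O_p(L) and D/O_p(L) is the Frattini subgroup of L/O_p(L), so D is p-closed; and every normal subgroup N of L contained in L₀ is p-closed with N/O_p(N) a nilpotent group of order prime to p. -/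
theorem result {L : Type*} [Group L] [Finite L] {p : ℕ} [Fact p.Prime] (L₀ : Subgroup L) (hL₀ : IsCoatom L₀) (T : Sylow p ↥L₀) (Y : Subgroup L) (hYT : Y ≤ (T : Subgroup ↥L₀).map L₀.subtype) (hmin : Cfsg.IsMinimalOver Y) : (Cfsg.pCore p L ≤ L₀.normalCore ∧ (L₀.normalCore).map (QuotientGroup.mk' (Cfsg.pCore p L)) = frattini (L ⧸ Cfsg.pCore p L) ∧ Cfsg.IsPClosed p ↥(L₀.normalCore)) ∧ ∀ (N : Subgroup L) [N.Normal], N ≤ L₀ → Cfsg.IsPClosed p ↥N ∧ Group.IsNilpotent (↥N ⧸ Cfsg.pCore p ↥N) ∧ (Nat.card (↥N ⧸ Cfsg.pCore p ↥N)).Coprime p := by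
  open Subgroup Cfsg.Agent.H24 in
  open scoped commutatorElement in
  open Cfsg.Agent.H10 (SubnormalIn OqOf) in
  open Cfsg.Agent.H9 (maxEA) in
  have hT0 := sylIn_map T
  have h0 := IsMinimalOver.minOver hmin hL₀ (hYT.trans hT0.le)
  have hT := h0.sylIn hT0 hYT
  have h := h0.mono hYT hT0.le
  set S := (T : Subgroup L₀).map L₀.subtype
  have hPS : pCore p L ≤ S := pCoreOf_top (G := L) p ▸ hT.pCoreOf_le
  have hf := QuotientGroup.mk'_surjective (pCore p L)
  have pc : ∀ N : Subgroup L, N.Normal → N ≤ L₀ → PClosed p N := fun N hN h1 =>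
    h.pClosed_of_le hT h1 (top_le_normalizer N)
  have fr : ∀ N : Subgroup L, N.Normal → N ≤ L₀ →
      N.map (QuotientGroup.mk' (pCore p L)) ≤ frattini (L ⧸ pCore p L) := fun N hN h1 => by
    refine H2.le_frattini_iff.2 fun M hM => map_le_iff_le_comap.2 ?_
    have hM' := H2.isCoatom_comap_mk' hM
    have hPM : pCore p L ≤ M.comap (QuotientGroup.mk' (pCore p L)) := by
      conv_lhs => rw [← QuotientGroup.ker_mk' (pCore p L)]
      exact ker_le_comap _ _
    set U := M.comap (QuotientGroup.mk' (pCore p L))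
    by_contra hc
    obtain ⟨R, hR⟩ := exists_sylIn p U
    have a1 : SylIn p R ⊤ := by
      refine sylIn_of_not_dvd le_top hR.pgrp fun hd => ?_
      rw [← relIndex_mul_relIndex R U ⊤ hR.le le_top] at hd
      rcases (Nat.Prime.dvd_mul Fact.out).1 hd with h1 | h1
      · exact hR.not_dvd_relIndex h1
      · rw [← H2.coatom_sup_eq_top hM' hc, relIndex_sup_left_of_le_normalizer
          (le_top.trans (top_le_normalizer N))] at h1
        exact (pc N hN ‹_›).sylIn.not_dvd_relIndex
          (h1.trans (relIndex_dvd_of_le_left _ ((pCoreOf_le_pCore N).trans hPM)))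
    obtain ⟨g, -, hg⟩ := hT.exists_cj_eq a1
    have a2 := h.cj g
    rw [hg, cj_top] at a2
    have a3 := (hM'.le_iff.1 (a2.max U hR.le hM'.lt_top)).resolve_left a2.lt.ne
    exact hc (by rw [← a3, ← cj_eq_of_normal (H := N) g]; exact cj_mono h1 g)
  have a1 : pCore p L ≤ L₀.normalCore := normal_le_normalCore.2 (hPS.trans h.le)
  refine ⟨⟨a1, le_antisymm (fr _ inferInstance (normalCore_le L₀)) ?_,
    isPClosed_iff.2 (pc _ inferInstance (normalCore_le L₀))⟩, fun N hN h1 => ⟨isPClosed_iff.2 (pc N hN h1), ?_, ?_⟩⟩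
  · rw [← map_comap_eq_self_of_surjective hf (frattini _)]
    refine map_mono (normal_le_normalCore.2 ?_)
    have := comap_mono (f := QuotientGroup.mk' (pCore p L))
      (H2.le_frattini_iff.1 le_rfl _ (H2.isCoatom_map_mk' hL₀ (hPS.trans h.le)))
    rwa [comap_map_eq, QuotientGroup.ker_mk', sup_eq_left.2 (hPS.trans h.le)] at this
  · obtain ⟨e⟩ := H2.nonempty_quotient_subgroupOf_equiv_map N (pCore p L)
    have e2 : pCore p N = (pCore p L).subgroupOf N := by
      rw [← pCoreOf_subgroupOf, pCoreOf_eq_inf_pCore, inf_subgroupOf_left]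
    haveI := H10.isNilpotent_of_le ((fr N hN h1).trans H2.frattini_le_fitting) (H10.fitting_nilpotent _)
    exact Group.nilpotent_of_mulEquiv ((QuotientGroup.quotientMulEquivOfEq e2).trans e).symm
  · have := (pc N hN h1).coprime_relIndex
    rwa [relIndex, pCoreOf_subgroupOf] at this

end Cfsg.Agent.S2836
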