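import Cfsg.Statements.S2837
import Cfsg.Agent.H24.Base6

set_option autoImplicit false
open Cfsg

namespace Cfsg.Agent.S2837

/-- Let L be a finite group of characteristic p, L₀ a maximal subgroup, Y an elementary abelian p-subgroup of L₀ with L Y-minimal and O_p(L) ≤ N_L(Y). Put A = the normal closure of O_p(L) ∩ Y in L. Then for every g ∈ L outside L₀: Φ(A) = A' = [A ∩ Y, A] = [A ∩ Y, A ∩ gYg⁻¹] ≤ C_Y(L), and Y ∩ gYg⁻¹ = (A ∩ Y) ∩ (A ∩ gYg⁻¹) = C_Y(L) = C_A(L). -/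
theorem result {L : Type*} [Group L] [Finite L] {p : ℕ} [Fact p.Prime] (hchar : Subgroup.centralizer (Cfsg.pCore p L : Set L) ≤ Cfsg.pCore p L) (L₀ : Subgroup L) (hL₀ : IsCoatom L₀) (Y : Subgroup L) (hYL₀ : Y ≤ L₀) (hYel : Cfsg.IsElementaryAbelian p Y) (hmin : Cfsg.IsMinimalOver Y) (hOY : Cfsg.pCore p L ≤ Subgroup.normalizer (Y : Set L)) (A : Subgroup L) (hA : A = Subgroup.normalClosure (((Cfsg.pCore p L ⊓ Y : Subgroup L)) : Set L)) (g : L) (hg : g ∉ L₀) : (frattini ↥A).map A.subtype = ⁅A, A⁆ ∧ ⁅A, A⁆ = ⁅A ⊓ Y, A⁆ ∧ ⁅A ⊓ Y, A⁆ = ⁅A ⊓ Y, A ⊓ Y.map (MulAut.conj g).toMonoidHom⁆ ∧ ⁅A ⊓ Y, A⁆ ≤ Y ⊓ Subgroup.center L ∧ Y ⊓ Y.map (MulAut.conj g).toMonoidHom = Y ⊓ Subgroup.center L ∧ (A ⊓ Y) ⊓ (A ⊓ Y.map (MulAut.conj g).toMonoidHom) = Y ⊓ Subgroup.center L ∧ A ⊓ Subgroup.center L = Y ⊓ Subgroup.center L := by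
  open Subgroup Cfsg.Agent.H24 in
  open scoped commutatorElement in
  open Cfsg.Agent.H10 (SubnormalIn OqOf) in
  open Cfsg.Agent.H9 (maxEA) in
  have h := IsMinimalOver.minOver hmin hL₀ hYL₀
  have gen := h.sup_cj (mem_top g) hg
  rw [map_conj_eq_cj, map_frattini_subtype]
  set Q := pCore p L with hQ
  have yc := isMulCommutative_iff_le_centralizer.1 hYel.1
  have yc' : cj Y g ≤ 𝐂[cj Y g] := by rw [← cj_centralizer]; exact cj_mono yc g
  have hOY' : Q ≤ 𝐍[cj Y g] := by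
    rw [← cj_normalizer, ← cj_eq_of_normal (H := Q) g]; exact cj_mono hOY g
  have zc : center L = 𝐂[Y] ⊓ 𝐂[cj Y g] := by rw [← centralizer_sup, gen, centralizer_top']
  have k : ∀ w ∈ center L, ∀ X : Subgroup L, (w ∈ cj X g ↔ w ∈ X) := fun w hw X => by
    rw [mem_cj, mem_center_iff.1 hw g⁻¹]; simp
  have e1 : Y ⊓ cj Y g = Y ⊓ center L := by
    refine le_antisymm (le_inf inf_le_left (zc ▸ inf_le_inf yc yc')) (le_inf inf_le_left fun y hy => ?_)
    exact (k y hy.2 Y).2 hy.1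
  have b1 : cj (Q ⊓ Y) g = Q ⊓ cj Y g := by rw [cj_inf, cj_eq_of_normal]
  have aQ : A ≤ Q := hA ▸ normalClosure_le_normal inf_le_left
  have a1 : A = (Q ⊓ Y) ⊔ (Q ⊓ cj Y g) := by
    rw [hA, ← ncl_top]
    refine le_antisymm (ncl_le le_sup_left (gen.ge.trans (sup_le ?_ ?_)))
      (sup_le (le_ncl _ _) (b1 ▸ cj_le_ncl (mem_top g)))
    · exact le_normalizer_of_commutator_le (sup_le inf_le_left inf_le_left) ((le_inf (commutator_le_left _ _)
        (commutator_le_right_of_le_normalizer hOY)).trans le_sup_left)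
    · exact le_normalizer_of_commutator_le (sup_le inf_le_left inf_le_left) ((le_inf (commutator_le_left _ _)
        (commutator_le_right_of_le_normalizer hOY')).trans le_sup_right)
  have a2 : A ⊓ Y = Q ⊓ Y := le_antisymm (inf_le_inf_right _ aQ) (le_inf (le_sup_left.trans a1.ge) inf_le_right)
  have a3 : A ⊓ cj Y g = Q ⊓ cj Y g :=
    le_antisymm (inf_le_inf_right _ aQ) (le_inf (le_sup_right.trans a1.ge) inf_le_right)
  have n1 : Q ⊓ Y ≤ 𝐍[Q ⊓ cj Y g] := inf_le_left.trans (le_normalizer_inf le_normalizer hOY')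
  have c1 : ⁅Q ⊓ Y, Q ⊓ cj Y g⁆ ≤ Y ⊓ center L := by
    rw [← e1]
    exact le_inf ((commutator_mono inf_le_right inf_le_left).trans (commutator_le_left_of_le_normalizer hOY))
      ((commutator_mono inf_le_left inf_le_right).trans (commutator_le_right_of_le_normalizer hOY'))
  have c2 : ∀ X : Subgroup L, X ≤ 𝐍[⁅Q ⊓ Y, Q ⊓ cj Y g⁆] := fun X =>
    le_normalizer_of_le_centralizer (le_centralizer_iff.1 ((c1.trans inf_le_right).trans
      (by rw [← centralizer_top']; exact centralizer_anti le_top)))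
  have z1 : ⁅Q ⊓ Y, Q ⊓ Y⁆ = ⊥ := le_centralizer_iff_commutator.1
    (inf_le_right.trans (yc.trans (centralizer_anti inf_le_right)))
  have z2 : ⁅Q ⊓ cj Y g, Q ⊓ cj Y g⁆ = ⊥ := le_centralizer_iff_commutator.1
    (inf_le_right.trans (yc'.trans (centralizer_anti inf_le_right)))
  have c3 : ⁅A, A⁆ ≤ ⁅Q ⊓ Y, Q ⊓ cj Y g⁆ := by
    rw [a1]
    exact commutator_sup_left_le (c2 _) (c2 _) (commutator_sup_right_le (c2 _) (c2 _) (z1 ▸ bot_le) le_rfl)
      (commutator_sup_right_le (c2 _) (c2 _) (commutator_comm _ _).le (z2 ▸ bot_le))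
  have c4 : ⁅Q ⊓ Y, Q ⊓ cj Y g⁆ ≤ ⁅Q ⊓ Y, A⁆ := commutator_mono le_rfl (le_sup_right.trans a1.ge)
  have c5 : ⁅Q ⊓ Y, A⁆ ≤ ⁅A, A⁆ := commutator_mono (le_sup_left.trans a1.ge) le_rfl
  have zQ : Y ⊓ center L ≤ Q := inf_le_right.trans (le_trans (by
    rw [← centralizer_top']; exact centralizer_anti le_top) hchar)
  rw [a2, a3]
  refine ⟨le_antisymm (H3.frattiniOf_le (p := p) le_rfl fun x hx => ?_)
    (commutator_le_frattiniOf ((isPGroup_pCore p L).to_le aQ)), le_antisymm (c3.trans c4) c5,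
    le_antisymm (c5.trans c3) c4, (c5.trans c3).trans c1, e1, ?_, ?_⟩
  · obtain ⟨a, ha, b, hb, rfl⟩ := (mem_sup_of_le_normalizer_right n1).1 (a1.le hx)
    have := mul_pow_mod_commutator (a1.ge (mem_sup_left ha)) (a1.ge (mem_sup_right hb)) p
    rw [hYel.2 a ha.2, (isEA_cj hYel g).2 b hb.2] at this
    simpa using this
  · rw [← inf_inf_distrib_left, e1, inf_eq_right.2 zQ]
  · refine le_antisymm (le_inf ?_ inf_le_right) (le_inf ((le_inf zQ inf_le_left).trans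
      (le_sup_left.trans a1.ge)) inf_le_right)
    have d1 := sup_inf_of_le_normalizer_right n1 (inf_le_right.trans yc)
    rw [← a1] at d1
    refine (inf_le_inf_left A (zc.le.trans inf_le_left)).trans (d1.le.trans (sup_le inf_le_right ?_))
    intro w hw
    exact (k w (zc.ge ⟨hw.2, yc' hw.1.2⟩) Y).1 hw.1.2

end Cfsg.Agent.S2837
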