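import Cfsg.Statements.S2838
import Cfsg.Agent.H24.Base6

set_option autoImplicit false
open Cfsg

namespace Cfsg.Agent.S2838

/-- For a nontrivial p-subgroup Q of a finite group H the following are equivalent: Q is a weakly closed subgroup (it is the only H-conjugate of itself inside some Sylow p-subgroup containing it); Q = P for every conjugate P of Q with [Q, P] ≤ Q ∩ P; Q is normal in N_H(R) for every p-subgroup R of H containing Q. -/
theorem result {H : Type*} [Group H] [Finite H] {p : ℕ} [Fact p.Prime] (Q : Subgroup H) (hQp : IsPGroup p ↥Q) (hQ1 : Q ≠ ⊥) : (Cfsg.IsWeaklyClosedSubgroup p Q ↔ ∀ g : H, ⁅Q, ((Q : Subgroup H).map (MulAut.conj (g : H)).toMonoidHom)⁆ ≤ Q ⊓ ((Q : Subgroup H).map (MulAut.conj (g : H)).toMonoidHom) → ((Q : Subgroup H).map (MulAut.conj (g : H)).toMonoidHom) = Q) ∧ (Cfsg.IsWeaklyClosedSubgroup p Q ↔ ∀ R : Subgroup H, IsPGroup p ↥R → Q ≤ R → Subgroup.normalizer ((R : Subgroup H) : Set H) ≤ Subgroup.normalizer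 ((Q : Subgroup H) : Set H)) := by
  open Subgroup Cfsg.Agent.H24 in
  open scoped commutatorElement in
  open Cfsg.Agent.H10 (SubnormalIn OqOf) in
  open Cfsg.Agent.H9 (maxEA) in
  rw [isWC_iff]
  refine ⟨⟨fun h g hg => h.eq_of_le_normalizer (le_normalizer_iff_commutator_le_left.2
    (hg.trans inf_le_left)), fun h => ⟨hQp, fun g hg => ?_⟩⟩,
    fun h R h1 h2 => h.normalizer_le h1 h2, wc_of_normalizer hQp⟩
  by_contra hc
  obtain ⟨X, ⟨x1, a, b, x2, x3, x4⟩, xmin⟩ := (wellFounded_lt (α := Subgroup H)).has_min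
    {X : Subgroup H | IsPGroup p X ∧ ∃ a b, cj Q a ≤ X ∧ cj Q b ≤ X ∧ cj Q a ≠ cj Q b}
    ⟨_, hg, g, 1, le_sup_right, by simp, by simpa using hc⟩
  have key : ∀ a, cj Q a ≤ X → X ≤ 𝐍[cj Q a] := fun a ha => by
    refine (le_of_inf_normalizer_le x1 (inf_le_left (b := 𝐍[cj Q a])) fun x hx => ⟨hx.1, ?_⟩).trans
      inf_le_right
    by_contra hx'
    have l1 : cj Q a ≤ X ⊓ 𝐍[cj Q a] := le_inf ha le_normalizer
    exact xmin (X ⊓ 𝐍[cj Q a]) ⟨x1.to_inf_left, x * a, a, by
        rw [← cj_cj]; exact cj_le_of_mem_normalizer l1 hx.2, l1, fun e => hx' (cj_eq_self_iff.1 (by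
          rw [cj_cj, e]))⟩ (lt_of_le_of_ne inf_le_left fun e => hx' (e.ge hx.1).2)
  apply x4
  have := h (a⁻¹ * b) (by
    rw [map_conj_eq_cj, ← cj_le_cj_iff (g := a), cj_commutator, cj_inf, cj_cj, mul_inv_cancel_left]
    exact le_inf (commutator_le_left_of_le_normalizer (x3.trans (key a x2)))
      (commutator_le_right_of_le_normalizer (x2.trans (key b x3))))
  rw [map_conj_eq_cj, ← cj_cj, cj_eq_iff, inv_inv] at this
  exact this.symm

end Cfsg.Agent.S2838
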