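import Cfsg.Statements.S2839
import Cfsg.Agent.H24.Base6

set_option autoImplicit false
open Cfsg

namespace Cfsg.Agent.S2839

/-- Let Q be a nontrivial p-subgroup of the finite group H that is a weakly closed subgroup, K a subgroup containing Q and N a normal subgroup of H. Then Q is a weakly closed subgroup of K; every H-conjugate of Q contained in K is a K-conjugate of Q; N_K(Q) contains a Sylow p-subgroup of K; N = N_N(Q)·O^p(N); and QN/N is a weakly closed subgroup of H/N. -/
theorem result {H : Type*} [Group H] [Finite H] {p : ℕ} [Fact p.Prime] (Q : Subgroup H) (hQp : IsPGroup p ↥Q) (hQ1 : Q ≠ ⊥) (hwc : Cfsg.IsWeaklyClosedSubgroup p Q) (K : Subgroup H) (hQK : Q ≤ K) (N' : Subgroup H) [N'.Normal] : Cfsg.IsWeaklyClosedSubgroup p (Q.subgroupOf K) ∧ (∀ g : H, ((Q : Subgroup H).map (MulAut.conj (g : H)).toMonoidHom) ≤ K → ∃ k ∈ K, ((Q : Subgroup H).map (MulAut.conj (g : H)).toMonoidHom) = ((Q : Subgroup H).map (MulAut.conj (k : H)).toMonoidHom)) ∧ Cfsg.IsParabolic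 p ((Subgroup.normalizer ((Q : Subgroup H) : Set H)).subgroupOf K) ∧ (N' ⊓ Subgroup.normalizer ((Q : Subgroup H) : Set H)) ⊔ (Cfsg.pResidual p ↥N').map N'.subtype = N' ∧ Cfsg.IsWeaklyClosedSubgroup p (Q.map (QuotientGroup.mk' N')) := by
  open Subgroup Cfsg.Agent.H24 in
  open scoped commutatorElement in
  open Cfsg.Agent.H10 (SubnormalIn OqOf) in
  open Cfsg.Agent.H9 (maxEA) in
  have h := isWC_iff.1 hwc
  refine ⟨isWC_iff.2 (h.subgroupOf hQK), fun g hg => h.exists_cj hQK hg, ?_, ?_, ?_⟩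
  · obtain ⟨S, h1, -, h3⟩ := h.exists_sylIn hQK
    exact ⟨h1.toSylow, comap_mono h3⟩
  · obtain ⟨S, h1, -, h3⟩ := h.exists_sylIn le_top
    refine le_antisymm (sup_le inf_le_left (map_subtype_le _)) ?_
    conv_lhs => rw [← (h1.inf_normal le_top (top_le_normalizer N')).pResidualOf_sup, sup_comm]
    exact sup_le_sup_right (le_inf inf_le_right (inf_le_left.trans h3)) _
  · obtain ⟨S, h1, h2, h3⟩ := h.exists_sylIn le_top
    have hf := QuotientGroup.mk'_surjective N'
    have s := h1.map (QuotientGroup.mk' N')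
    rw [map_top_of_surjective _ hf] at s
    refine isWC_iff.2 (wc_of_sylIn s (map_mono h2) fun g hg => ?_)
    obtain ⟨g, rfl⟩ := hf g
    rw [← map_cj, Subgroup.map_le_map_iff, QuotientGroup.ker_mk', sup_comm] at hg
    obtain ⟨k, hk, e⟩ := h.exists_cj (h2.trans le_sup_right) hg
    obtain ⟨n, hn, s, hs, rfl⟩ := (mem_sup_of_le_normalizer_left (le_top.trans (top_le_normalizer N'))).1 hk
    rw [← map_cj, e, ← cj_cj, cj_eq_of_mem_normalizer (h3 hs), map_cj,
      show QuotientGroup.mk' N' n = 1 from (QuotientGroup.eq_one_iff n).2 hn, cj_one]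

end Cfsg.Agent.S2839
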