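import Cfsg.Statements.S2840
import Cfsg.Agent.H24.Base6

set_option autoImplicit false
open Cfsg

namespace Cfsg.Agent.S2840

/-- Let Q be a nontrivial p-subgroup of the finite group H that is a weakly closed subgroup and K a subgroup containing Q; let K° be the weak closure of Q in K (generated by the H-conjugates of Q inside K). Then K° is generated by the K-conjugates of Q, and K° is the subnormal closure of Q in K. -/
theorem result {H : Type*} [Group H] [Finite H] {p : ℕ} [Fact p.Prime] (Q : Subgroup H) (hQp : IsPGroup p ↥Q) (hQ1 : Q ≠ ⊥) (hwc : Cfsg.IsWeaklyClosedSubgroup p Q) (K : Subgroup H) (hQK : Q ≤ K) (Kc : Subgroup H) (hKc : Kc = Cfsg.weakClosure Q K) : Kc = ⨆ k : ↥K, ((Q : Subgroup H).map (MulAut.conj ((k : H) : H)).toMonoidHom) ∧ Kc = (Cfsg.subnormalClosure (Q.subgroupOf K)).map K.subtype := by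
  open Subgroup Cfsg.Agent.H24 in
  open scoped commutatorElement in
  open Cfsg.Agent.H10 (SubnormalIn OqOf) in
  open Cfsg.Agent.H9 (maxEA) in
  have h := isWC_iff.1 hwc
  rw [hKc, h.weakClosure_eq hQK]
  refine ⟨rfl, le_antisymm ?_ ?_⟩
  · have : (ncl Q K).subgroupOf K ≤ subnormalClosure (Q.subgroupOf K) := le_sInf fun B hB => by
      rw [← subgroupOf_map_subtype' B]
      refine comap_mono (h.ncl_le_of_subnormal (SubnormalIn.map_subtype hB.2) ?_)
      rw [← map_subgroupOf_eq_of_le hQK]; exact map_mono hB.1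
    rw [← map_subgroupOf_eq_of_le (ncl_le_self hQK)]; exact map_mono this
  · rw [map_le_iff_le_comap]
    exact sInf_le ⟨comap_mono (le_ncl Q K),
      (normal_subgroupOf_of_le_normalizer' (le_normalizer_ncl Q K)).isSubnormal⟩

end Cfsg.Agent.S2840
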