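import Cfsg.Statements.S2841
import Cfsg.Agent.H24.Base6

set_option autoImplicit false
open Cfsg

namespace Cfsg.Agent.S2841

/-- Let Q be a nontrivial p-subgroup of the finite group H that is a weakly closed subgroup and N a normal subgroup of H. Then N = N_N(Q)·[N, Q] and [N, Q] = (Q ∩ [N, Q])·[N, Q, Q]. -/
theorem result {H : Type*} [Group H] [Finite H] {p : ℕ} [Fact p.Prime] (Q : Subgroup H) (hQp : IsPGroup p ↥Q) (hQ1 : Q ≠ ⊥) (hwc : Cfsg.IsWeaklyClosedSubgroup p Q) (N' : Subgroup H) [N'.Normal] : (∀ n : H, n ∈ N' → ∃ a ∈ N' ⊓ Subgroup.normalizer ((Q : Subgroup H) : Set H), ∃ b ∈ ⁅N', Q⁆, n = a * b) ∧ (∀ c : H, c ∈ ⁅N', Q⁆ → ∃ a ∈ Q ⊓ ⁅N', Q⁆, ∃ b ∈ ⁅⁅N', Q⁆, Q⁆, c = a * b) := by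
  open Subgroup Cfsg.Agent.H24 in
  open scoped commutatorElement in
  open Cfsg.Agent.H10 (SubnormalIn OqOf) in
  open Cfsg.Agent.H9 (maxEA) in
  have h := isWC_iff.1 hwc
  have e : ncl Q N' = Q ⊔ ⁅N', Q⁆ := by rw [ncl_eq_sup_commutator, commutator_comm]
  have n1 := right_le_normalizer_commutator N' Q
  have c1 : ⁅N', Q⁆ ≤ N' := commutator_le_left _ _
  constructor
  · intro n hn
    obtain ⟨k, hk, e1⟩ := h.exists_cj (le_ncl Q N') (cj_le_ncl (inv_mem hn))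
    rw [e, sup_comm] at hk
    obtain ⟨c, hc, q, hq, rfl⟩ := (mem_sup_of_le_normalizer_left n1).1 hk
    rw [← cj_cj, cj_eq_of_mem hq, cj_eq_iff, inv_inv, cj_cj] at e1
    exact ⟨n * c, ⟨mul_mem hn (c1 hc), cj_eq_self_iff.1 e1.symm⟩, c⁻¹, inv_mem hc, by simp⟩
  · have e2 := h.ncl_ncl (K := N' ⊔ Q) le_sup_right
    rw [ncl_sup_right le_normalizer (le_top.trans (top_le_normalizer N')), e, sup_comm,
      ncl_sup_right le_normalizer n1, ncl_eq_sup_commutator, commutator_comm Q] at e2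
    intro c hc
    obtain ⟨q, hq, b, hb, rfl⟩ := (mem_sup_of_le_normalizer_right
      (right_le_normalizer_commutator _ Q)).1 (e2.ge (mem_sup_left hc))
    refine ⟨q, ⟨hq, ?_⟩, b, hb, rfl⟩
    simpa using mul_mem hc (inv_mem (commutator_le_left_of_le_normalizer n1 hb))

end Cfsg.Agent.S2841
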