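import Cfsg.Statements.S2844
import Cfsg.Agent.H24.Base6

set_option autoImplicit false
open Cfsg

namespace Cfsg.Agent.S2844

/-- Let Q be a nontrivial large p-subgroup of the finite group H and Q• = O_p(N_H(Q)). Then for every g ∈ H outside N_H(Q): C_H(Q) ∩ C_H(gQg⁻¹) = 1, C_H(Q•) ∩ C_H(gQ•g⁻¹) = 1, Z(Q) ∩ Z(gQg⁻¹) = 1 and Z(Q•) ∩ Z(gQ•g⁻¹) = 1; moreover N_H(Q) = N_H(Q•) and Q• is large in H. -/
theorem result {H : Type*} [Group H] [Finite H] {p : ℕ} [Fact p.Prime] (Q : Subgroup H) (hQp : IsPGroup p ↥Q) (hQ1 : Q ≠ ⊥) (hL : Cfsg.IsLarge Q) (Qb : Subgroup H) (hQb : Qb = Cfsg.largeBullet p Q) : (∀ g : H, g ∉ Subgroup.normalizer ((Q : Subgroup H) : Set H) → Subgroup.centralizer ((Q : Subgroup H) : Set H) ⊓ Subgroup.centralizer ((((Q : Subgroup H).map (MulAut.conj (g : H)).toMonoidHom) : Subgroup H) : Set H) = ⊥ ∧ Subgroup.centralizer ((Qb : Subgroup H) : Set H) ⊓ Subgroup.centralizer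 ((((Qb : Subgroup H).map (MulAut.conj (g : H)).toMonoidHom) : Subgroup H) : Set H) = ⊥ ∧ (Q ⊓ Subgroup.centralizer ((Q : Subgroup H) : Set H)) ⊓ (((Q : Subgroup H).map (MulAut.conj (g : H)).toMonoidHom) ⊓ Subgroup.centralizer ((((Q : Subgroup H).map (MulAut.conj (g : H)).toMonoidHom) : Subgroup H) : Set H)) = ⊥ ∧ (Qb ⊓ Subgroup.centralizer ((Qb : Subgroup H) : Set H)) ⊓ (((Qb : Subgroup H).map (MulAut.conj (g : H)).toMonoidHom) ⊓ Subgroup.centralizer ((((Qb : Subgroup H).map (MulAut.conj (g : H)).toMonoidHom) : Subgroup H) : Set H)) = ⊥) ∧ Subgroup.normalizer ((Q : Subgroup H) : Set H) = Subgroup.normalizer ((Qb : Subgroup H) : Set H) ∧ Cfsg.IsLarge Qb := by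
  open Subgroup Cfsg.Agent.H24 in
  open scoped commutatorElement in
  open Cfsg.Agent.H10 (SubnormalIn OqOf) in
  open Cfsg.Agent.H9 (maxEA) in
  have h := IsLarge.wc hL hQp hQ1
  have a1 : Q ≤ Qb := hQb ▸ le_pCoreOf_normalizer hQp
  have a2 : 𝐍[Q] = 𝐍[Qb] := le_antisymm (hQb ▸ le_normalizer_pCoreOf p _)
    (h.normalizer_le (hQb ▸ isPGroup_pCoreOf p _) a1)
  refine ⟨fun g hg => ?_, a2, ((centralizer_anti a1).trans hL.1).trans a1, fun U h1 h2 =>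
    a2 ▸ hL.2 U (h1.trans (centralizer_anti a1)) h2⟩
  have b1 : 𝐂[Q] ⊓ 𝐂[cj Q g] = ⊥ := by
    by_contra hc
    exact hg (cj_eq_self_iff.1 (h.eq_of_le_normalizer ((le_centralizer_iff.1 inf_le_right).trans
      (IsLarge.centralizer_le hL inf_le_left hc))))
  have b2 : 𝐂[Qb] ⊓ 𝐂[cj Qb g] = ⊥ :=
    le_bot_iff.1 (b1 ▸ inf_le_inf (centralizer_anti a1) (centralizer_anti (cj_mono a1 g)))
  exact ⟨b1, b2, le_bot_iff.1 (b1 ▸ inf_le_inf inf_le_right inf_le_right),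
    le_bot_iff.1 (b2 ▸ inf_le_inf inf_le_right inf_le_right)⟩

end Cfsg.Agent.S2844
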