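import Cfsg.Statements.S2845
import Cfsg.Agent.H24.Base6

set_option autoImplicit false
open Cfsg

namespace Cfsg.Agent.S2845

/-- Let Q be a nontrivial large p-subgroup of the finite group H. Then for every subgroup L ≥ Q with O_p(L) ≠ 1, C_H(O_p(L)) is a p-group and L has characteristic p, and either the weak closure L° of Q in L equals Q or C_H(L°) = 1; for every subgroup R of H containing a Sylow p-subgroup of H with O_p(R) ≠ 1, C_H(O_p(R)) ≤ O_p(R); and H has parabolic characteristic p. -/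
theorem result {H : Type*} [Group H] [Finite H] {p : ℕ} [Fact p.Prime] (Q : Subgroup H) (hQp : IsPGroup p ↥Q) (hQ1 : Q ≠ ⊥) (hL : Cfsg.IsLarge Q) : (∀ L : Subgroup H, Q ≤ L → Cfsg.pCore p ↥L ≠ ⊥ → IsPGroup p ↥(Subgroup.centralizer (((Cfsg.pCoreOf p L) : Subgroup H) : Set H)) ∧ Subgroup.centralizer (Cfsg.pCore p ↥L : Set ↥L) ≤ Cfsg.pCore p ↥L ∧ (Cfsg.weakClosure Q L = Q ∨ Subgroup.centralizer (((Cfsg.weakClosure Q L) : Subgroup H) : Set H) = ⊥)) ∧ (∀ R : Subgroup H, Cfsg.IsParabolic p R → Cfsg.pCore p ↥R ≠ ⊥ → Subgroup.centralizer (((Cfsg.pCoreOf p R) : Subgroup H) : Set H) ≤ (Cfsg.pCoreOf p R)) ∧ Cfsg.IsOfParabolicCharacteristic p H := by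
  open Subgroup Cfsg.Agent.H24 in
  open scoped commutatorElement in
  open Cfsg.Agent.H10 (SubnormalIn OqOf) in
  open Cfsg.Agent.H9 (maxEA) in
  have h := IsLarge.wc hL hQp hQ1
  refine ⟨fun L h1 h2 => ?_, fun R ⟨T, hT⟩ h2 => IsLarge.centralizer_pCoreOf_le hL hQp hQ1 (sylIn_top T) hT
    (by rwa [Ne, pCoreOf_eq_bot_iff]), IsLarge.parabolicChar hL hQp hQ1⟩
  replace h2 : pCoreOf p L ≠ ⊥ := fun e => h2 (pCoreOf_eq_bot_iff.1 e)
  refine ⟨IsLarge.isPGroup_centralizer hL hQp hQ1 h1 h2, charP_iff.1 (IsLarge.charP hL hQp hQ1 h1 h2), ?_⟩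
  rw [h.weakClosure_eq h1, or_iff_not_imp_right]
  intro hc
  exact ncl_eq_self ((le_normalizer_centralizer (le_normalizer_ncl Q L)).trans
    (hL.2 _ (centralizer_anti (le_ncl Q L)) hc))

end Cfsg.Agent.S2845
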