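import Cfsg.Statements.S2847
import Cfsg.Agent.H24.Base6

set_option autoImplicit false
open Cfsg

namespace Cfsg.Agent.S2847

section
open Subgroup Cfsg.Agent.H24
open scoped commutatorElement
open Cfsg.Agent.H10 (SubnormalIn OqOf)
open Cfsg.Agent.H9 (maxEA)

theorem exists_frakM {G : Type*} [Group G] [Finite G] {p : ℕ} [Fact p.Prime] {T L : Subgroup G}
    (hG : IsOfParabolicCharacteristic p G) (hT : SylIn p T ⊤) (hTL : T ≤ L) (hL : L ∈ charPSubgroups p G) :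
    ∃ M Ls : Subgroup G, T ≤ M ∧ IsInFrakM p M ∧ T ≤ Ls ∧ Ls ≤ M ∧ Ls ∈ charPSubgroups p G ∧
      Yp p L = Yp p Ls ∧ Yp p Ls ≤ Yp p M ∧ L ⊔ 𝐂[Yp p L] = Ls ⊔ 𝐂[Yp p L] := by
  have sub : ∀ X K, T ≤ X → X ≤ K → K ∈ charPSubgroups p G → X ∈ charPSubgroups p G := fun X K h1 h2 h3 =>
    mem_charPSubgroups_of_parabolic hG hT h1 fun e => (mem_charPSubgroups.1 h3).1 (le_bot_iff.1 (e ▸
      pCoreOf_le_pCoreOf_of_le h2 ((hT.of_le (h1.trans h2) le_top).pCoreOf_le.trans h1)))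
  have mono : ∀ X K, T ≤ X → X ≤ K → K ∈ charPSubgroups p G → Yp p X ≤ Yp p K := fun X K h1 h2 h3 =>
    (charP_of_mem h3).Yp_mono (hT.of_le (h1.trans h2) le_top) h1 h2
  let R : Subgroup G → Prop := fun K => K ∈ charPSubgroups p G ∧
    ∃ L1, T ≤ L1 ∧ L1 ≤ K ∧ L1 ⊔ 𝐂[Yp p L] = L ⊔ 𝐂[Yp p L]
  have star : ∀ K, R K → ∃ Ls, T ≤ Ls ∧ Ls ≤ K ∧ Yp p Ls = Yp p L ∧ L ⊔ 𝐂[Yp p L] = Ls ⊔ 𝐂[Yp p L] := by
    rintro K ⟨k1, L1, l1, l2, l3⟩
    obtain ⟨a1, a2, a3, -⟩ := (charP_of_mem hL).Yp_star (hT.of_le hTL le_top) (hT.of_le l1 le_top) l3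
    exact ⟨_, a3, inf_le_left.trans l2, a1, a2⟩
  have up : ∀ K X, R K → K ≤ X → X ∈ charPSubgroups p G → R X := by
    rintro K X ⟨-, L1, l1, l2, l3⟩ h1 h2
    exact ⟨h2, L1, l1, l2.trans h1, l3⟩
  have TR : ∀ K, R K → T ≤ K := by
    rintro K ⟨-, L1, l1, l2, -⟩; exact l1.trans l2
  obtain ⟨K0, k0, k0max⟩ := Set.exists_max_image {K | R K} (fun K => Nat.card (Yp p K)) (Set.toFinite _)
    ⟨L, hL, L, hTL, le_rfl, rfl⟩
  obtain ⟨K, ⟨k1, k2⟩, kmax⟩ := Set.exists_max_image {K | R K ∧ Nat.card (Yp p K) = Nat.card (Yp p K0)}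
    (fun K => Nat.card (K ⊔ 𝐂[Yp p K] : Subgroup G)) (Set.toFinite _) ⟨K0, k0, rfl⟩
  have ymax : ∀ X, R X → Yp p K ≤ Yp p X → Yp p X = Yp p K := fun X x1 x2 =>
    (eq_of_le_of_card_le x2 ((k0max X x1).trans k2.ge)).symm
  have dmax : ∀ X, R X → Yp p X = Yp p K → K ⊔ 𝐂[Yp p K] ≤ X ⊔ 𝐂[Yp p K] → X ≤ K ⊔ 𝐂[Yp p K] :=
    fun X x1 x2 x3 => by
    refine le_sup_left.trans (eq_of_le_of_card_le x3 ?_).ge
    have := kmax X ⟨x1, by rw [x2, k2]⟩
    simpa only [x2] using this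
  set Y := Yp p K with hY
  have hTK := TR K k1
  have nK : K ⊔ 𝐂[Y] ≤ 𝐍[Y] := sup_le (le_normalizer_Yp p K) (centralizer_le_normalizer' _)
  have dag : K ⊔ 𝐂[Y] ∈ charPSubgroups p G := mem_charPSubgroups_of_parabolic hG hT (hTK.trans le_sup_left)
    fun e => (charP_of_mem k1.1).Yp_ne_bot (mem_charPSubgroups.1 k1.1).1 (le_bot_iff.1 (e ▸
      le_pCoreOf ((Yp_le p K).trans le_sup_left) (isPGroup_Yp p K) nK))
  obtain ⟨M, ⟨m1, m2⟩, mmin⟩ := (wellFounded_lt (α := Subgroup G)).has_min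
    {M | T ≤ M ∧ M ⊔ 𝐂[Y] = K ⊔ 𝐂[Y]} ⟨K, hTK, rfl⟩
  have hM := hT.of_le m1 le_top
  obtain ⟨a1, a2, a3, a4⟩ := (charP_of_mem k1.1).Yp_star (hT.of_le hTK le_top) hM m2
  have a5 : M ⊓ 𝐍[T ⊓ 𝐂[Y]] = M :=
    inf_le_left.eq_or_lt.resolve_right (mmin _ ⟨a3, a2.symm⟩)
  rw [a5] at a1 a4
  have mem : M ∈ charPSubgroups p G := sub M _ m1 (le_sup_left.trans m2.le) dag
  obtain ⟨Ls, s1, s2, s3, s4⟩ := star K k1
  have yL : 𝐂[Y] ≤ 𝐂[Yp p L] := centralizer_anti (s3.ge.trans (mono _ _ s1 s2 k1.1))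
  have RM : R M := by
    refine ⟨mem, M ⊓ (Ls ⊔ 𝐂[Y]), le_inf m1 (s1.trans le_sup_left), inf_le_left, ?_⟩
    have d := sup_inf_of_le_normalizer_left (A := 𝐂[Y]) (B := M) (K := Ls ⊔ 𝐂[Y])
      (le_normalizer_centralizer (le_sup_left.trans (m2.le.trans nK))) le_sup_right
    rw [sup_comm, m2, inf_eq_right.2 (sup_le_sup_right s2 _)] at d
    rw [s4]
    refine le_antisymm (sup_le (inf_le_right.trans (sup_le_sup_left yL _)) le_sup_right)
      (sup_le (le_sup_left.trans (d.le.trans (sup_le (yL.trans le_sup_right) le_sup_left))) le_sup_right)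
  have all : ∀ X ∈ charPSubgroups p G, M ≤ X → X ≤ K ⊔ 𝐂[Y] ∧ Yp p X = Y := fun X x1 x2 => by
    have x3 := ymax X (up M X RM x2 x1) (a1.ge.trans (mono _ _ m1 x2 x1))
    exact ⟨dmax X (up M X RM x2 x1) x3 (m2.ge.trans (sup_le_sup_right x2 _)), x3⟩
  have mx : K ⊔ 𝐂[Y] ∈ maxCharPSubgroups p G := ⟨dag, fun X x1 x2 =>
    le_antisymm (all X x1 ((le_sup_left.trans m2.le).trans x2)).1 x2⟩
  have nM : M ≤ 𝐍[𝐂[Y]] := le_normalizer_centralizer (le_sup_left.trans (m2.le.trans nK))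
  have sC := hM.inf_of_le_normalizer nM
  obtain ⟨Ls', t1, t2, t3, t4⟩ := star M RM
  refine ⟨M, Ls', m1, ?_, t1, t2, sub _ _ t1 t2 mem, t3.symm, mono _ _ t1 t2 mem, t4⟩
  change Yp p M = Y at a1
  refine ⟨mem, ?_, ?_, ?_, ?_, ?_⟩ <;> rw [show largestPReducedOf p M = Y from a1]
  · rw [m2]; exact mx
  · intro X x1 x2
    rw [m2]; exact (x1.2 _ dag (all X x1.1 x2).1).symm
  · rw [m2]; exact (all _ dag (le_sup_left.trans m2.le)).2.symm
  · exact isPClosed_iff.2 (pClosed_of_sylIn sC (inf_le_left.trans (a5.ge.trans inf_le_right)))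
  · refine H2.le_frattini_iff.2 fun U' hU' => map_le_iff_le_comap.2 ?_
    have u1 := isCoatom_iff_map_subtype.1 (H2.isCoatom_comap_mk' hU')
    have u2 : pCore p M ≤ U'.comap (QuotientGroup.mk' (pCore p M)) := by
      conv_lhs => rw [← QuotientGroup.ker_mk' (pCore p M)]
      exact ker_le_comap _ _
    rw [← map_subtype_le_map_subtype'] at u2 ⊢
    rw [map_subgroupOf_eq_of_le inf_le_left]
    rw [map_pCore_subtype, a4] at u2
    set U := (U'.comap (QuotientGroup.mk' (pCore p M))).map M.subtype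
    by_contra hc
    have u3 : U ⊔ (M ⊓ 𝐂[Y]) = M := (u1.eq_or_eq le_sup_left (sup_le u1.le inf_le_left)).resolve_left
      fun e => hc (le_sup_right.trans e.le)
    obtain ⟨S, hS⟩ := exists_sylIn p U
    have u4 : SylIn p S M := by
      refine sylIn_of_not_dvd (hS.le.trans u1.le) hS.pgrp fun hd => ?_
      rw [← relIndex_mul_relIndex S U M hS.le u1.le] at hd
      rcases (Nat.Prime.dvd_mul Fact.out).1 hd with h1 | h1
      · exact hS.not_dvd_relIndex h1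
      · rw [← u3, relIndex_sup_left_of_le_normalizer (u1.le.trans (le_normalizer_inf le_normalizer nM))] at h1
        exact sC.not_dvd_relIndex (h1.trans (relIndex_dvd_of_le_left _ u2))
    obtain ⟨m, hm, e⟩ := u4.exists_cj_eq hM
    refine mmin (cj U m) ⟨e ▸ cj_mono hS.le m, ?_⟩ (by
      rw [← cj_eq_of_mem hm, cj_lt_cj_iff]; exact u1.lt)
    rw [← m2, ← cj_eq_of_mem_normalizer (nM hm), ← cj_sup, cj_eq_of_mem_normalizer (nM hm),
      ← cj_eq_of_mem (mem_sup_left (T := 𝐂[Y]) hm), cj_inj]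
    exact le_antisymm (sup_le_sup_right u1.le _) (sup_le (u3.ge.trans (sup_le_sup_left inf_le_right _))
      le_sup_right)

end

/-- Let H be a finite group of parabolic characteristic p, T a Sylow p-subgroup and L a subgroup containing T with O_p(L) ≠ 1 and C_H(O_p(L)) ≤ O_p(L). Then there are M ≥ T with the basic property (M ∈ 𝔐_H) and L* with T ≤ L* ≤ M, O_p(L*) ≠ 1, C_H(O_p(L*)) ≤ O_p(L*), such that Y_L = Y_{L*} ≤ Y_M and L·C_H(Y_L) = L*·C_H(Y_L), Y denoting largest p-reduced normal subgroups. -/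
theorem result {H : Type*} [Group H] [Finite H] {p : ℕ} [Fact p.Prime] (hH : Cfsg.IsOfParabolicCharacteristic p H) (T : Sylow p H) (L : Subgroup H) (hTL : (T : Subgroup H) ≤ L) (hL : L ∈ Cfsg.charPSubgroups p H) : ∃ M Ls : Subgroup H, (T : Subgroup H) ≤ M ∧ Cfsg.IsInFrakM p M ∧ (T : Subgroup H) ≤ Ls ∧ Ls ≤ M ∧ Ls ∈ Cfsg.charPSubgroups p H ∧ (Cfsg.largestPReducedOf p L) = (Cfsg.largestPReducedOf p Ls) ∧ (Cfsg.largestPReducedOf p L) ≤ (Cfsg.largestPReducedOf p M) ∧ L ⊔ Subgroup.centralizer (((Cfsg.largestPReducedOf p L) : Subgroup H) : Set H) = Ls ⊔ Subgroup.centralizer (((Cfsg.largestPReducedOf p L) : Subgroup H) : Set H) := by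
  open Subgroup Cfsg.Agent.H24 in
  open scoped commutatorElement in
  open Cfsg.Agent.H10 (SubnormalIn OqOf) in
  open Cfsg.Agent.H9 (maxEA) in
  obtain ⟨M, Ls, a1, a2, a3, a4, a5, a6, a7, a8⟩ := exists_frakM hH (sylIn_top T) hTL hL
  exact ⟨M, Ls, a1, a2, a3, a4, a5, a6, a6.le.trans a7, a8⟩

end Cfsg.Agent.S2847
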