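import Cfsg.Statements.S2846
import Cfsg.Agent.H24.Base6
import Cfsg.Agent.S2847

set_option autoImplicit false
open Cfsg

namespace Cfsg.Agent.S2846

/-- Let Q be a nontrivial large p-subgroup of the finite group H, S a Sylow p-subgroup containing Q, and L a subgroup containing S with O_p(L) ≠ 1 and C_H(O_p(L)) ≤ O_p(L). Then there are a subgroup M containing S having the basic property (M ∈ 𝔐_H, writing Y_X for the largest p-reduced normal subgroup of X and 𝓛_H for the set of subgroups X with O_p(X) ≠ 1 and C_H(O_p(X)) ≤ O_p(X): M ∈ 𝓛_H, M·C_H(Y_M) is the only maximal member of 𝓛_H containing M and its largest p-reduced normal subgroup is again Y_M, C_M(Y_M) is p-closed, and the image of C_M(Y_M) in M/O_p(M) lies in the Frattini subgroup of M/O_p(M)) and a subgroup L* with S ≤ L* ≤ M, O_p(L*) ≠ 1, C_H(O_p(L*)) ≤ O_p(L*), such that L·C_H(Y_L) = L*·C_H(Y_L), the weak closures of Q in L and in L* agree and lie in that of M, and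 Y_L = Y_{L*} ≤ Y_M. If moreover Q is not normal in L, then Q is normal in neither L* nor M. -/
theorem result {H : Type*} [Group H] [Finite H] {p : ℕ} [Fact p.Prime] (Q : Subgroup H) (hQp : IsPGroup p ↥Q) (hQ1 : Q ≠ ⊥) (hLg : Cfsg.IsLarge Q) (S : Sylow p H) (hQS : Q ≤ (S : Subgroup H)) (L : Subgroup H) (hSL : (S : Subgroup H) ≤ L) (hL : L ∈ Cfsg.charPSubgroups p H) : ∃ M Ls : Subgroup H, (S : Subgroup H) ≤ M ∧ Cfsg.IsInFrakM p M ∧ (S : Subgroup H) ≤ Ls ∧ Ls ≤ M ∧ Ls ∈ Cfsg.charPSubgroups p H ∧ L ⊔ Subgroup.centralizer (((Cfsg.largestPReducedOf p L) : Subgroup H) : Set H) = Ls ⊔ Subgroup.centralizer (((Cfsg.largestPReducedOf p L) : Subgroup H) : Set H) ∧ Cfsg.weakClosure Q L = Cfsg.weakClosure Q Ls ∧ Cfsg.weakClosure Q Ls ≤ Cfsg.weakClosure Q M ∧ (Cfsg.largestPReducedOf p L) = (Cfsg.largestPReducedOf p Ls) ∧ (Cfsg.largestPReducedOf p Ls) ≤ (Cfsg.largestPReducedOf p M) ∧ (¬ L ≤ Subgroup.normalizer ((Q : Subgroup H) : Set H) → ¬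 Ls ≤ Subgroup.normalizer ((Q : Subgroup H) : Set H) ∧ ¬ M ≤ Subgroup.normalizer ((Q : Subgroup H) : Set H)) := by
  open Subgroup Cfsg.Agent.H24 in
  open scoped commutatorElement in
  open Cfsg.Agent.H10 (SubnormalIn OqOf) in
  open Cfsg.Agent.H9 (maxEA) in
  have w := IsLarge.wc hLg hQp hQ1
  obtain ⟨M, Ls, a1, a2, a3, a4, a5, a6, a7, a8⟩ :=
    S2847.exists_frakM (IsLarge.parabolicChar hLg hQp hQ1) (sylIn_top S) hSL hL
  have y1 := (charP_of_mem hL).Yp_ne_bot (mem_charPSubgroups.1 hL).1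
  have b1 : weakClosure Q L = weakClosure Q Ls := by
    rw [w.weakClosure_eq (hQS.trans hSL), w.weakClosure_eq (hQS.trans a3),
      ← IsLarge.ncl_sup_centralizer hLg hQp (isPGroup_Yp p L) y1 (hQS.trans hSL) (le_normalizer_Yp p L), a8,
      IsLarge.ncl_sup_centralizer hLg hQp (isPGroup_Yp p L) y1 (hQS.trans a3) (a6 ▸ le_normalizer_Yp p Ls)]
  have b2 : Ls ≤ 𝐍[Q] → L ≤ 𝐍[Q] := fun h => by
    rw [w.weakClosure_eq (hQS.trans a3), ncl_eq_self h] at b1
    rw [← b1]; exact le_normalizer.trans (normalizer_le_normalizer_weakClosure Q L)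
  exact ⟨M, Ls, a1, a2, a3, a4, a5, a8, b1, weakClosure_mono a4, a6, a7,
    fun h => ⟨fun e => h (b2 e), fun e => h (b2 (a4.trans e))⟩⟩

end Cfsg.Agent.S2846
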