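import Cfsg.Statements.S2848
import Cfsg.Agent.H24.Base6

set_option autoImplicit false
open Cfsg

namespace Cfsg.Agent.S2848

/-- Standing hypotheses: G a finite group, S a Sylow p-subgroup, Q a nontrivial large p-subgroup of G contained in S (C_G(Q) ≤ Q and N_G(U) ≤ N_G(Q) for all nontrivial U ≤ C_G(Q)), and M a subgroup containing S with the basic property (M ∈ 𝔐_G(S)); Y_M denotes the largest p-reduced normal subgroup of M and M† = M·C_G(Y_M). Then O_p(M) is a weakly closed subgroup of M† (for p): it is the only M†-conjugate of itself inside some Sylow p-subgroup of M† containing it. -/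
theorem result {G : Type*} [Group G] [Finite G] {p : ℕ} [Fact p.Prime] (S : Sylow p G) (Q : Subgroup G) (hQp : IsPGroup p ↥Q) (hQ1 : Q ≠ ⊥) (hQS : Q ≤ (S : Subgroup G)) (hQ : Cfsg.IsLarge Q) (M : Subgroup G) (hSM : (S : Subgroup G) ≤ M) (hM : Cfsg.IsInFrakM p M) : Cfsg.IsWeaklyClosedSubgroup p (((Cfsg.pCoreOf p M)).subgroupOf (M ⊔ Subgroup.centralizer (((Cfsg.largestPReducedOf p M) : Subgroup G) : Set G))) := by
  open Subgroup Cfsg.Agent.H24 in
  open scoped commutatorElement in
  open Cfsg.Agent.H10 (SubnormalIn OqOf) in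
  open Cfsg.Agent.H9 (maxEA) in
  have h := fm_of (IsLarge.parabolicChar hQ hQp hQ1) (sylIn_top S) hSM hM
  have l : pCoreOf p M ≤ M ⊔ 𝐂[Yp p M] := (pCoreOf_le p M).trans le_sup_left
  refine isWC_iff.2 ⟨isPGroup_subgroupOf (isPGroup_pCoreOf p M) _, fun g hg => ?_⟩
  rw [← map_subtype_inj', map_cj, map_subgroupOf_eq_of_le l]
  refine h.cj_core_eq (h.norm_eq.ge g.2) ?_
  have := hg.map (Subgroup.subtype _)
  rwa [Subgroup.map_sup, map_cj, map_subgroupOf_eq_of_le l] at this

end Cfsg.Agent.S2848
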