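import Cfsg.Statements.S2850
import Cfsg.Agent.H24.Base6

set_option autoImplicit false
open Cfsg

namespace Cfsg.Agent.S2850

/-- Standing hypotheses: G a finite group, S a Sylow p-subgroup, Q a nontrivial large p-subgroup of G contained in S (C_G(Q) ≤ Q and N_G(U) ≤ N_G(Q) for all nontrivial U ≤ C_G(Q)), and M a subgroup containing S with the basic property (M ∈ 𝔐_G(S)); Y_M denotes the largest p-reduced normal subgroup of M and M† = M·C_G(Y_M). Suppose Y_M is asymmetric in G. Then N_G(L) ≤ N_G(O_p(M)) ≤ M† for every p-subgroup L containing O_p(M); O_p(M) is a weakly closed subgroup of G; for every subgroup L containing O_p(M), L ∩ M† contains a Sylow p-subgroup of L; and two elements of Y_M conjugate in G are conjugate in M. -/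
theorem result {G : Type*} [Group G] [Finite G] {p : ℕ} [Fact p.Prime] (S : Sylow p G) (Q : Subgroup G) (hQp : IsPGroup p ↥Q) (hQ1 : Q ≠ ⊥) (hQS : Q ≤ (S : Subgroup G)) (hQ : Cfsg.IsLarge Q) (M : Subgroup G) (hSM : (S : Subgroup G) ≤ M) (hM : Cfsg.IsInFrakM p M) (hasym : ¬ Cfsg.IsSymmetricIn (Cfsg.largestPReducedOf p M)) : (∀ L : Subgroup G, IsPGroup p ↥L → (Cfsg.pCoreOf p M) ≤ L → Subgroup.normalizer ((L : Subgroup G) : Set G) ≤ Subgroup.normalizer (((Cfsg.pCoreOf p M) : Subgroup G) : Set G) ∧ Subgroup.normalizer (((Cfsg.pCoreOf p M) : Subgroup G) : Set G) ≤ (M ⊔ Subgroup.centralizer (((Cfsg.largestPReducedOf p M) : Subgroup G) : Set G))) ∧ Cfsg.IsWeaklyClosedSubgroup p (Cfsg.pCoreOf p M) ∧ (∀ L : Subgroup G, (Cfsg.pCoreOf p M) ≤ L → Cfsg.IsParabolic p ((L ⊓ (M ⊔ Subgroup.centralizer (((Cfsg.largestPReducedOf p M) : Subgroup G) : Set G))).subgroupOf L)) ∧ (∀ x ∈ (Cfsg.largestPReducedOf p M), ∀ g : G, g * x * g⁻¹ ∈ (Cfsg.largestPReducedOf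 p M) → ∃ m ∈ M, m * x * m⁻¹ = g * x * g⁻¹) := by
  open Subgroup Cfsg.Agent.H24 in
  open scoped commutatorElement in
  open Cfsg.Agent.H10 (SubnormalIn OqOf) in
  open Cfsg.Agent.H9 (maxEA) in
  have h := fm_of (IsLarge.parabolicChar hQ hQp hQ1) (sylIn_top S) hSM hM
  have w := h.wc hasym
  have n := h.normalizer_core_le.trans h.norm_eq.le
  refine ⟨fun L h1 h2 => ⟨w.normalizer_le h1 h2, n⟩, isWC_iff.2 w, fun L h1 => ?_, fun x hx g hg => ?_⟩
  · obtain ⟨T, t1, -, t3⟩ := w.exists_sylIn h1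
    exact ⟨t1.toSylow, comap_mono (le_inf t1.le (t3.trans n))⟩
  · have c : ∀ y ∈ Yp p M, pCoreOf p M ≤ centralizer {y} := fun y hy => by
      rw [← centralizer_zpowers]; exact h.sylC.le.trans (centralizer_anti (zpowers_le.2 hy))
    obtain ⟨k, hk, e⟩ := w.exists_cj (g := g⁻¹) (c x hx) (by
      rw [cj_le_iff, inv_inv, cj_centralizer_singleton]; exact c _ hg)
    rw [cj_eq_iff, inv_inv, cj_cj] at e
    obtain ⟨m, hm, d, hd, e'⟩ := (mem_sup_of_le_normalizer_right
      (le_normalizer_centralizer (le_normalizer_Yp p M))).1 (n (cj_eq_self_iff.1 e.symm))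
    refine ⟨m, hm, ?_⟩
    rw [mem_centralizer_singleton_iff] at hk
    calc m * x * m⁻¹ = m * (x * d) * d⁻¹ * m⁻¹ := by group
      _ = (m * d) * x * (m * d)⁻¹ := by rw [hd x hx]; group
      _ = g * (k * x) * k⁻¹ * g⁻¹ := by rw [← e']; group
      _ = g * x * g⁻¹ := by rw [hk]; group

end Cfsg.Agent.S2850
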