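import Cfsg.Statements.S2851
import Cfsg.Agent.H24.Base6

set_option autoImplicit false
open Cfsg

namespace Cfsg.Agent.S2851

/-- Standing hypotheses: G a finite group, S a Sylow p-subgroup, Q a nontrivial large p-subgroup of G contained in S, M a subgroup containing S with the basic property (M ∈ 𝔐_G(S)); Y_M the largest p-reduced normal subgroup of M and M† = M·C_G(Y_M). Let F be the preimage in M† of the generalized Fitting subgroup of M†/C_{M†}(Y_M). If Y_M is asymmetric in G and H is a subgroup of characteristic p containing F, then Y_M ≤ Y_H. -/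
theorem result {G : Type*} [Group G] [Finite G] {p : ℕ} [Fact p.Prime] (S : Sylow p G) (Q : Subgroup G) (hQp : IsPGroup p ↥Q) (hQ1 : Q ≠ ⊥) (hQS : Q ≤ (S : Subgroup G)) (hQ : Cfsg.IsLarge Q) (M : Subgroup G) (hSM : (S : Subgroup G) ≤ M) (hM : Cfsg.IsInFrakM p M) (hasym : ¬ Cfsg.IsSymmetricIn (Cfsg.largestPReducedOf p M)) [hn : ((Subgroup.centralizer (((Cfsg.largestPReducedOf p M) : Subgroup G) : Set G)).subgroupOf (M ⊔ Subgroup.centralizer (((Cfsg.largestPReducedOf p M) : Subgroup G) : Set G))).Normal] (F : Subgroup G) (hF : F = ((Cfsg.generalizedFittingSubgroup (↥(M ⊔ Subgroup.centralizer (((Cfsg.largestPReducedOf p M) : Subgroup G) : Set G)) ⧸ (Subgroup.centralizer (((Cfsg.largestPReducedOf p M) : Subgroup G) : Set G)).subgroupOf (M ⊔ Subgroup.centralizer (((Cfsg.largestPReducedOf p M) : Subgroup G) : Set G)))).comap (QuotientGroup.mk' ((Subgroup.centralizer (((Cfsg.largestPReducedOf p M) : Subgroup G) : Set G)).subgroupOf (M ⊔ Subgroup.centralizer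 (((Cfsg.largestPReducedOf p M) : Subgroup G) : Set G))))).map ((M ⊔ Subgroup.centralizer (((Cfsg.largestPReducedOf p M) : Subgroup G) : Set G))).subtype) (H : Subgroup G) (hFH : F ≤ H) (hH : Subgroup.centralizer (Cfsg.pCore p ↥H : Set ↥H) ≤ Cfsg.pCore p ↥H) : (Cfsg.largestPReducedOf p M) ≤ Cfsg.largestPReducedOf p H := by
  open Subgroup Cfsg.Agent.H24 in
  open scoped commutatorElement in
  open Cfsg.Agent.H10 (SubnormalIn OqOf) in
  open Cfsg.Agent.H9 (maxEA) in
  have h := fm_of (IsLarge.parabolicChar hQ hQp hQ1) (sylIn_top S) hSM hM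
  have w := h.wc hasym
  have n := h.normalizer_core_le.trans h.norm_eq.le
  have hred : pCore p (↥(M ⊔ 𝐂[Yp p M]) ⧸ 𝐂[Yp p M].subgroupOf (M ⊔ 𝐂[Yp p M])) = ⊥ := by
    rw [pCore_quotient_eq_bot_iff]
    have := (red_Yp p (M ⊔ 𝐂[Yp p M])).pCoreMod_le
    rwa [h.Y_dag] at this
  have nY : M ⊔ 𝐂[Yp p M] ≤ 𝐍[Yp p M] := h.norm_eq.ge
  change F = map _ (comap (QuotientGroup.mk' (𝐂[Yp p M].subgroupOf (M ⊔ 𝐂[Yp p M]))) _) at hF
  have hC : 𝐂[Yp p M] ≤ M ⊔ 𝐂[Yp p M] := le_sup_right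
  generalize M ⊔ 𝐂[Yp p M] = X at *
  set f := QuotientGroup.mk' (𝐂[Yp p M].subgroupOf X) with hf
  have hk : f.ker = 𝐂[Yp p M].subgroupOf X := QuotientGroup.ker_mk' _
  have c1 : 𝐂[Yp p M] ≤ F := by
    rw [hF]; exact (map_subgroupOf_eq_of_le hC).ge.trans (map_mono (hk.ge.trans (ker_le_comap _ _)))
  obtain ⟨T, t1, -, t3⟩ := w.exists_sylIn (h.sylC.le.trans (c1.trans hFH))
  refine (charP_iff.2 hH).le_Yp (R := H ⊓ X) ⟨le_inf ((Yp_le_centralizer p M).trans (c1.trans hFH))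
    ((Yp_le_centralizer p M).trans hC), inf_le_right.trans nY, isEA_Yp p M, fun D d1 d2 d3 => ?_⟩ t1
    (le_inf t1.le (t3.trans n)) inf_le_left
  have d4 : D ≤ X := d1.trans inf_le_right
  have d5 : IsPGroup p ((D.subgroupOf X).map f) := pGrpMod_iff_map_mk'.1 (d3.comap _)
  have hO' : pCoreOf p (⊤ : Subgroup (X ⧸ 𝐂[Yp p M].subgroupOf X)) = ⊥ := by rw [pCoreOf_top, hred]
  have f1 : (F.subgroupOf X).map f = H10.FstarOf ⊤ := by
    rw [hF, subgroupOf_map_subtype', map_comap_eq_self_of_surjective (QuotientGroup.mk'_surjective _),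
      H10.FstarOf_top]
  have f2 : H10.FstarOf ⊤ ≤ 𝐍[(D.subgroupOf X).map f] := by
    rw [← f1]
    exact map_le_normalizer_map f (comap_le_normalizer_comap _
      ((le_inf hFH (hF ▸ map_subtype_le _)).trans d2))
  have f3 : (D.subgroupOf X).map f ⊓ H10.FstarOf ⊤ = ⊥ := le_bot_iff.1 (pCoreOf_FstarOf_eq_bot hO' ▸
    le_pCoreOf inf_le_right d5.to_inf_left (le_normalizer_inf f2 le_normalizer))
  have f4 := eq_bot_of_le_centralizer_FstarOf hO' d5 le_top (le_centralizer_iff_commutator.2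
    (le_bot_iff.1 (f3 ▸ le_inf (commutator_le_left_of_le_normalizer f2)
      (commutator_le_right_of_le_normalizer
        (H10.le_normalizer_FstarOf (le_top.trans (top_le_normalizer _)))))))
  rw [Subgroup.map_eq_bot_iff, hk] at f4
  exact (H10.subgroupOf_le_subgroupOf_iff d4).1 f4

end Cfsg.Agent.S2851
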