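import Cfsg.Statements.S2852
import Cfsg.Agent.H24.Base6

set_option autoImplicit false
open Cfsg

namespace Cfsg.Agent.S2852

/-- Standing hypotheses: G a finite group, S a Sylow p-subgroup, Q a nontrivial large p-subgroup of G contained in S, M a subgroup containing S with the basic property (M ∈ 𝔐_G(S)); Y_M the largest p-reduced normal subgroup of M. If Y_M is char-p-tall and asymmetric in G, then some subgroup H of G lies in ℌ_G(O_p(M)): H has characteristic p, O_p(M) ≤ H, Y_M ≰ O_p(H), and Y_M ≤ O_p(P) for every proper subgroup P of H containing O_p(M). -/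
theorem result {G : Type*} [Group G] [Finite G] {p : ℕ} [Fact p.Prime] (S : Sylow p G) (Q : Subgroup G) (hQp : IsPGroup p ↥Q) (hQ1 : Q ≠ ⊥) (hQS : Q ≤ (S : Subgroup G)) (hQ : Cfsg.IsLarge Q) (M : Subgroup G) (hSM : (S : Subgroup G) ≤ M) (hM : Cfsg.IsInFrakM p M) (htall : Cfsg.IsCharPTall p (Cfsg.largestPReducedOf p M)) (hasym : ¬ Cfsg.IsSymmetricIn (Cfsg.largestPReducedOf p M)) : ∃ H : Subgroup G, Cfsg.IsInFrakH p M H := by
  open Subgroup Cfsg.Agent.H24 in
  open scoped commutatorElement in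
  open Cfsg.Agent.H10 (SubnormalIn OqOf) in
  open Cfsg.Agent.H9 (maxEA) in
  have h := fm_of (IsLarge.parabolicChar hQ hQp hQ1) (sylIn_top S) hSM hM
  have w := h.wc hasym
  obtain ⟨T, L, l1, l2, l3⟩ := htall
  obtain ⟨c, hc, e⟩ := (sylIn_map T).exists_cj_eq h.sylC
  have a1 : pCoreOf p M ≤ cj L c := e ▸ cj_mono l1 c
  have a2 : ¬ Yp p M ≤ pCoreOf p (cj L c) := by
    rw [← cj_pCoreOf]
    exact fun e => l3 (cj_le_cj_iff.1 ((cj_eq_of_mem_normalizer (centralizer_le_normalizer' _ hc)).le.trans e))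
  obtain ⟨H, ⟨h1, h2, h3⟩, hmin⟩ := (wellFounded_lt (α := Subgroup G)).has_min
    {H | pCoreOf p M ≤ H ∧ H ≤ cj L c ∧ ¬ Yp p M ≤ pCoreOf p H} ⟨_, a1, le_rfl, a2⟩
  refine ⟨H, charP_iff.1 (w.charP_of_le h.centralizer_core_le h1 ((charP_iff.2 l2).cj c) h2), h1, h3,
    fun P p1 p2 => ?_⟩
  by_contra hc
  exact hmin P ⟨p1, p2.le.trans h2, hc⟩ p2

end Cfsg.Agent.S2852
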