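import Cfsg.Statements.S2854
import Cfsg.Agent.H24.Base6

set_option autoImplicit false
open Cfsg

namespace Cfsg.Agent.S2854

/-- Standing hypotheses: G a finite group, S a Sylow p-subgroup, Q a nontrivial large p-subgroup of G contained in S, M a subgroup containing S with the basic property (M ∈ 𝔐_G(S)); Y_M the largest p-reduced normal subgroup of M and M† = M·C_G(Y_M). Suppose Y_M is asymmetric in G, H ∈ ℌ_G(O_p(M)), and H ≤ N_G(gQg⁻¹) for some g ∈ G. Then gQg⁻¹ ≤ O_p(H·gQg⁻¹) ≤ N_G(O_p(M)) ≤ N_G(Y_M) = M†; H is normal in H·gQg⁻¹ with O^p(H) = O^p(H·gQg⁻¹); and H·gQg⁻¹ is p-irreducible. -/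
theorem result {G : Type*} [Group G] [Finite G] {p : ℕ} [Fact p.Prime] (S : Sylow p G) (Q : Subgroup G) (hQp : IsPGroup p ↥Q) (hQ1 : Q ≠ ⊥) (hQS : Q ≤ (S : Subgroup G)) (hQ : Cfsg.IsLarge Q) (M : Subgroup G) (hSM : (S : Subgroup G) ≤ M) (hM : Cfsg.IsInFrakM p M) (hasym : ¬ Cfsg.IsSymmetricIn (Cfsg.largestPReducedOf p M)) (H : Subgroup G) (hH : Cfsg.IsInFrakH p M H) (g : G) (hHQ : H ≤ Subgroup.normalizer ((((Q : Subgroup G).map (MulAut.conj (g : G)).toMonoidHom) : Subgroup G) : Set G)) : ((Q : Subgroup G).map (MulAut.conj (g : G)).toMonoidHom) ≤ Cfsg.pCoreOf p (H ⊔ ((Q : Subgroup G).map (MulAut.conj (g : G)).toMonoidHom)) ∧ Cfsg.pCoreOf p (H ⊔ ((Q : Subgroup G).map (MulAut.conj (g : G)).toMonoidHom)) ≤ Subgroup.normalizer (((Cfsg.pCoreOf p M) : Subgroup G) : Set G) ∧ Subgroup.normalizer (((Cfsg.pCoreOf p M) : Subgroup G) : Set G) ≤ Subgroup.normalizer (((Cfsg.largestPReducedOf p M) : Subgroup G) : Set G) ∧ Subgroup.normalizer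 (((Cfsg.largestPReducedOf p M) : Subgroup G) : Set G) = (M ⊔ Subgroup.centralizer (((Cfsg.largestPReducedOf p M) : Subgroup G) : Set G)) ∧ (H.subgroupOf (H ⊔ ((Q : Subgroup G).map (MulAut.conj (g : G)).toMonoidHom))).Normal ∧ (Cfsg.pResidual p ↥H).map H.subtype = (Cfsg.pResidual p ↥(H ⊔ ((Q : Subgroup G).map (MulAut.conj (g : G)).toMonoidHom))).map (H ⊔ ((Q : Subgroup G).map (MulAut.conj (g : G)).toMonoidHom)).subtype ∧ Cfsg.IsPIrreducible p ↥(H ⊔ ((Q : Subgroup G).map (MulAut.conj (g : G)).toMonoidHom)) := by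
  open Subgroup Cfsg.Agent.H24 in
  open scoped commutatorElement in
  open Cfsg.Agent.H10 (SubnormalIn OqOf) in
  open Cfsg.Agent.H9 (maxEA) in
  have h := fm_of (IsLarge.parabolicChar hQ hQp hQ1) (sylIn_top S) hSM hM
  have w := h.wc hasym
  have k := fh_of hH
  rw [map_conj_eq_cj] at hHQ ⊢
  have q := IsPGroup.cj hQp g
  have a1 : cj Q g ≤ pCoreOf p (H ⊔ cj Q g) := le_pCoreOf le_sup_right q (sup_le hHQ le_normalizer)
  have a2 := w.pCoreOf_le (k.le.trans (le_sup_left (b := cj Q g)))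
  have a3 : cj Q g ≤ 𝐍[H] := by
    have : ncl (pCoreOf p M) (H ⊔ cj Q g) = H := by
      rw [← w.weakClosure_eq (k.le.trans le_sup_left)]
      refine le_antisymm (weakClosure_le_iff.2 fun x hx => ?_) (k.ncl_core.ge.trans
        ((w.weakClosure_eq k.le).ge.trans (weakClosure_mono le_sup_left)))
      obtain ⟨y, hy, e⟩ := w.exists_cj (k.le.trans le_sup_left) hx
      obtain ⟨a, ha, b, hb, rfl⟩ := (mem_sup_of_le_normalizer_right hHQ).1 hy
      rw [e, ← cj_cj, cj_eq_of_mem_normalizer (a2 (a1 hb))]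
      exact cj_le_of_mem k.le ha
    conv_rhs => rw [← this]
    exact le_sup_right.trans (le_normalizer_ncl _ _)
  refine ⟨a1, a2, h.normalizer_core_le, h.norm_eq, normal_subgroupOf_of_le_normalizer'
    (sup_le le_normalizer a3), ?_, isPIrreducible_iff.2 (k.pIrr.sup q hHQ a3)⟩
  rw [map_pResidual_subtype, map_pResidual_subtype, sup_comm, pResidualOf_sup_of_isPGroup q a3]

end Cfsg.Agent.S2854
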