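import Cfsg.Statements.S2855
import Cfsg.Agent.H24.Base6
import Cfsg.Agent.S2829

set_option autoImplicit false
open Cfsg

namespace Cfsg.Agent.S2855

/-- Let H be a finite group, p a prime, and 𝒦 a nonempty set of subgroups of H permuted transitively by conjugation, with R the subgroup generated by the members of 𝒦. Suppose O^p(H) ≤ R, each E ∈ 𝒦 has E·O_p(H) normal in R·O_p(H), and each E ∈ 𝒦 is p-minimal (generated by the conjugates of a Sylow p-subgroup T_E of E, with T_E in exactly one maximal subgroup of E). Then H is p-minimal in the same sense. If instead each E ∈ 𝒦 is strongly p-irreducible, then H is p-irreducible and, for E, K ∈ 𝒦, either O^p(E·O_p(H)) = O^p(K·O_p(H)) or [E, K] ≤ O_p(H). -/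
theorem result {H : Type*} [Group H] [Finite H] {p : ℕ} [Fact p.Prime] (𝒦 : Set (Subgroup H)) (hne : 𝒦.Nonempty) (hinv : ∀ h : H, ∀ E ∈ 𝒦, E.map (MulAut.conj h).toMonoidHom ∈ 𝒦) (htr : ∀ E ∈ 𝒦, ∀ K ∈ 𝒦, ∃ h : H, K = E.map (MulAut.conj h).toMonoidHom) (hres : Cfsg.pResidual p H ≤ sSup 𝒦) (hnorm : ∀ E ∈ 𝒦, sSup 𝒦 ⊔ Cfsg.pCore p H ≤ Subgroup.normalizer ((E ⊔ Cfsg.pCore p H : Subgroup H) : Set H)) : ((∀ E ∈ 𝒦, ∀ T : Sylow p ↥E, Cfsg.IsMinimalOver (T : Subgroup ↥E)) → ∀ T : Sylow p H, Cfsg.IsMinimalOver (T : Subgroup H)) ∧ ((∀ E ∈ 𝒦, Cfsg.IsStronglyPIrreducible p ↥E) → Cfsg.IsPIrreducible p H ∧ ∀ E ∈ 𝒦, ∀ K ∈ 𝒦, (Cfsg.pResidual p ↥(E ⊔ Cfsg.pCore p H)).map (E ⊔ Cfsg.pCore p H).subtype = (Cfsg.pResidual p ↥(K ⊔ Cfsg.pCore p H)).map (K ⊔ Cfsg.pCore p H).subtype ∨ ⁅E, K⁆ ≤ Cfsg.pCore p H) := by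
  open Subgroup Cfsg.Agent.H24 in
  open scoped commutatorElement in
  open Cfsg.Agent.H10 (SubnormalIn OqOf) in
  open Cfsg.Agent.H9 (maxEA) in
  set P := pCore p H with hP
  have hPp : IsPGroup p P := isPGroup_pCore p H
  have nP : ∀ X : Subgroup H, X ≤ 𝐍[P] := fun X => le_top.trans (top_le_normalizer P)
  set N := sSup 𝒦 ⊔ P with hN
  have hK : (sSup 𝒦).Normal := normal_of_forall_cj_le fun g => cj_le_iff.2 (sSup_le fun E hE =>
    cj_le_iff.1 (le_sSup (hinv g E hE)))
  haveI hNn : N.Normal := inferInstance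
  have dN : ∀ E ∈ 𝒦, E ⊔ P ≤ N := fun E hE => sup_le_sup_right (le_sSup hE) _
  have dsub : ∀ E ∈ 𝒦, SubnormalIn (E ⊔ P) ⊤ := fun E hE =>
    SubnormalIn.step (dN E hE) (hnorm E hE) (.of_normal le_top (top_le_normalizer N))
  have dO : ∀ E ∈ 𝒦, pCoreOf p (E ⊔ P) = P := fun E hE =>
    le_antisymm ((SubnormalIn.pCoreOf_le (dsub E hE)).trans (pCoreOf_top p).le) (pCore_le_pCoreOf le_sup_right)
  have NT : ∀ T : Sylow p H, (T : Subgroup H) ⊔ N = ⊤ := fun T =>
    eq_top_iff.2 ((pResidual_sup_sylow T).ge.trans (sup_le (hres.trans (le_sup_left.trans le_sup_right)) le_sup_left))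
  have ded : ∀ E X : Subgroup H, P ≤ X → (E ⊔ P) ⊓ X = P ⊔ (E ⊓ X) := fun E X h => by
    rw [sup_comm]; exact sup_inf_of_le_normalizer_left (nP E) h
  obtain ⟨E0, hE0⟩ := hne
  constructor
  · intro h T
    have hT := sylIn_top T
    have hPT : P ≤ T := pCore_le_sylow T
    have s0 := SubnormalIn.sylIn_inf (dsub E0 hE0) hT
    obtain ⟨S, hS⟩ := exists_sylIn p E0
    obtain ⟨M1, m1⟩ := isMinimalOver_iff_map.1 (h E0 hE0 hS.toSylow)
    rw [hS.map_toSylow] at m1
    have m2 : MinOver (S ⊔ P) (M1 ⊔ P) (E0 ⊔ P) := by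
      refine ⟨sup_le_sup_right m1.le _, lt_of_le_of_ne (sup_le_sup_right m1.lt.le _) fun e => ?_, ?_,
        fun X x1 x2 => ?_⟩
      · refine m1.lt.not_ge ((le_inf (le_sup_left.trans e.ge) le_rfl).trans ?_)
        rw [sup_inf_of_le_normalizer_right (nP _) m1.lt.le]
        exact sup_le le_rfl ((hS.le_of_normalizes hPp.to_inf_left inf_le_right
          (le_normalizer_inf (nP _) (hS.le.trans le_normalizer))).trans m1.le)
      · exact le_antisymm (ncl_le_self (sup_le_sup_right hS.le _)) (sup_le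
          (m1.ncl.ge.trans (ncl_mono le_sup_left le_sup_left)) (le_sup_right.trans (le_ncl _ _)))
      · have e := ded E0 X (le_sup_right.trans x1)
        rw [inf_eq_right.2 x2.le] at e
        rw [e, sup_comm]
        refine sup_le_sup_right (m1.max _ (le_inf hS.le (le_sup_left.trans x1))
          (lt_of_le_of_ne inf_le_left fun e' => x2.not_ge ?_)) _
        exact sup_le (e'.ge.trans inf_le_right) (le_sup_right.trans x1)
    obtain ⟨d, hd, e⟩ := (hS.sup_of_normalizes hPp (nP _)).exists_cj_eq s0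
    have m3 := m2.cj d
    rw [e, cj_eq_of_mem hd] at m3
    set M0 := cj (M1 ⊔ P) d
    set D := E0 ⊔ P
    have tr : ∀ X, (T : Subgroup H) ≤ X → D ≤ X → X = ⊤ := fun X x1 x2 => by
      refine eq_top_iff.2 ((NT T).ge.trans (sup_le x1 (sup_le (sSup_le fun E hE => ?_) (hPT.trans x1))))
      obtain ⟨g, rfl⟩ := htr E0 hE0 E hE
      obtain ⟨t, ht, n, hn, rfl⟩ := (mem_sup_of_le_normalizer_right (le_top.trans (top_le_normalizer N))).1
        ((NT T).ge (mem_top g))
      refine (cj_mono (le_sup_left (b := P)) _).trans ?_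
      rw [← cj_cj, cj_eq_of_mem_normalizer (hnorm E0 hE0 hn)]
      exact cj_le_of_mem x2 (x1 ht)
    have nm : ∀ X, (T : Subgroup H) ≤ X → ¬ D ≤ X → X ⊓ N ≤ 𝐍[M0] := fun X x1 x2 y hy => by
      have a1 : X ⊓ D ≤ M0 := m3.max _ (inf_le_inf_right _ x1)
        (lt_of_le_of_ne inf_le_right fun e => x2 (e.ge.trans inf_le_left))
      have a2 := m3.cj y
      rw [cj_eq_of_mem_normalizer (hnorm E0 hE0 hy.2)] at a2
      refine cj_eq_self_iff.1 (eq_of_le_of_card_le (a2.max _ (le_trans ?_ a1) m3.lt) (card_cj _ _).le).symm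
      exact le_inf (cj_le_of_mem (inf_le_left.trans x1) hy.1)
        (cj_le_of_mem_normalizer inf_le_right (hnorm E0 hE0 hy.2))
    set J := N ⊓ ⨅ t : (T : Subgroup H), 𝐍[cj M0 t] with hJ
    have mJ : ∀ y, y ∈ J ↔ y ∈ N ∧ ∀ t ∈ (T : Subgroup H), t⁻¹ * y * t ∈ 𝐍[M0] := fun y => by
      rw [hJ, mem_inf, mem_iInf]
      simp only [← cj_normalizer, mem_cj, Subtype.forall]
    have nJ : (T : Subgroup H) ≤ 𝐍[J] := fun s hs => mem_normalizer_of_conj_mem fun y hy =>
      (mJ _).2 ⟨hNn.conj_mem _ ((mJ y).1 hy).1 s, fun t ht => by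
        have := ((mJ y).1 hy).2 (s⁻¹ * t) (mul_mem (inv_mem hs) ht)
        simpa [mul_assoc] using this⟩
    have nT : ¬ D ≤ T := fun e => m3.lt.not_ge ((le_inf e le_rfl).trans m3.le)
    refine isMinimalOver_iff_top.2 ⟨J ⊔ T, le_sup_right, lt_top_iff_ne_top.2 fun e => ?_, ?_, fun X x1 x2 => ?_⟩
    · refine m3.not_le_normalizer m3.le le_rfl ((le_inf (le_top.trans e.ge) (dN E0 hE0)).trans ?_)
      rw [sup_inf_of_le_normalizer_left nJ inf_le_left]
      exact sup_le (fun y hy => by simpa using ((mJ y).1 hy).2 1 (one_mem _)) (nm _ le_rfl nT)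
    · exact tr _ (le_ncl _ _) (m3.ncl.ge.trans (ncl_mono inf_le_left le_top))
    · have x3 : ¬ D ≤ X := fun e => x2.ne (tr X x1 e)
      have := sup_inf_of_le_normalizer_right (B := N) (le_top.trans (top_le_normalizer N)) x1
      rw [NT T, top_inf_eq] at this
      rw [this, sup_comm]
      refine sup_le_sup_right (fun y hy => (mJ y).2 ⟨hy.1, fun t ht => nm X x1 x3 ⟨?_, ?_⟩⟩) _
      · exact X.mul_mem (X.mul_mem (X.inv_mem (x1 ht)) hy.2) (x1 ht)
      · simpa using hNn.conj_mem _ hy.1 t⁻¹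
  · intro h
    have eO : ∀ E ∈ 𝒦, pCoreOf p E ≤ P := fun E hE => by
      refine le_trans (le_sup_left.trans (le_pCoreOf (A := pCoreOf p E ⊔ P)
        (sup_le_sup_right (pCoreOf_le p E) _) (isPGroup_sup_of_le_normalizer_right (isPGroup_pCoreOf p E) hPp
          (nP _)) (sup_le (le_normalizer_sup (le_normalizer_pCoreOf p E) (nP _))
            (le_normalizer_of_le le_sup_right)))) (dO E hE).le
    have ir : ∀ E ∈ 𝒦, PIrr p E := fun E hE => isPIrreducible_iff.1 (S2829.result (h E hE))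
    have pe : ∀ E ∈ 𝒦, pElementClosure p (E ⊔ P) = E ⊔ P := fun E hE => by
      obtain ⟨S, hS⟩ := exists_sylIn p E
      refine le_antisymm (pElementClosure_le p _) (sup_le ?_ (le_pElementClosure hPp le_sup_right))
      rw [← (ir E hE).ncl_eq hS, hS.ncl_eq]
      exact (pElementClosure_mono le_sup_left).trans (by rw [← hS.ncl_eq, (ir E hE).ncl_eq hS])
    have st : ∀ E ∈ 𝒦, ∀ X, P ≤ X → E ≤ 𝐍[X] → ¬ pResidualOf p E ≤ X → ⁅(E ⊔ P) ⊓ X, E ⊔ P⁆ ≤ P := by
      intro E hE X x1 x2 x3
      have a1 : ⁅E ⊓ X, E⁆ ≤ P := by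
        refine le_trans ?_ (eO E hE)
        by_contra hc
        have := (h E hE).2 ((E ⊓ X).subgroupOf E) (normal_subgroupOf_of_le_normalizer'
          (le_normalizer_inf le_normalizer x2)) (by
            rwa [← map_subtype_le_map_subtype', Subgroup.map_commutator, map_subgroupOf_eq_of_le inf_le_left,
              map_subtype_top])
        rw [← map_subtype_le_map_subtype', map_subgroupOf_eq_of_le inf_le_left] at this
        exact x3 (this.trans inf_le_right)
      rw [ded E X x1]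
      exact commutator_sup_left_le (nP _) (nP _) (commutator_le_left _ _)
        (commutator_sup_right_le (nP _) (nP _) a1 (commutator_le_right _ _))
    have st2 : ∀ E ∈ 𝒦, ∀ X Y, P ≤ X → E ≤ 𝐍[X] → ¬ pResidualOf p E ≤ X → Y ≤ N → ⁅E ⊔ P, Y⁆ ≤ X →
        ⁅E ⊔ P, Y⁆ ≤ P := by
      intro E hE X Y x1 x2 x3 y1 y2
      have := commutator_le_pCoreOf_of_commutator (pe E hE) (y1.trans (hnorm E hE)) (by
        rw [dO E hE]
        exact (commutator_mono (le_inf (commutator_le_left_of_le_normalizer (y1.trans (hnorm E hE))) y2)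
          le_rfl).trans (st E hE X x1 x2 x3))
      rwa [dO E hE] at this
    have res : ∀ X : Subgroup H, X.Normal → (∀ E ∈ 𝒦, pResidualOf p E ≤ X) → pResidual p H ≤ X := by
      intro X hX hx
      have nX : N ≤ 𝐍[X] := le_top.trans (top_le_normalizer X)
      have : sSup 𝒦 ≤ pCoreMod p N X := sSup_le fun E hE => le_sup_left.trans (le_pCoreMod (dN E hE)
        (hnorm E hE) ((pResidualOf_le_iff.1 (hx E hE)).sup (pGrpMod_of_isPGroup hPp X) (nP _)
          (le_top.trans (top_le_normalizer X))))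
      rw [← pResidualOf_top, ← pResidualOf_idem, pResidualOf_top]
      exact ((pGrpMod_pCoreMod nX).mono (hres.trans this) le_rfl).pResidualOf_le
    refine ⟨isPIrreducible_iff_top.2 ⟨fun hc => (ir E0 hE0).1 (hc.of_le le_top), fun N' _ n2 n3 => ?_⟩,
      fun E hE K hK' => ?_⟩
    · haveI := top_le_normalizer_iff.1 n2
      refine le_of_le_sup_of_pResidual (pResidualOf_idem p _) hPp (le_top.trans n2) ?_
      rw [pResidualOf_top]
      by_contra hc
      have a1 : ∀ E ∈ 𝒦, ¬ pResidualOf p E ≤ P ⊔ N' := fun E hE e => hc (res _ inferInstance fun K hK' => by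
        obtain ⟨g, rfl⟩ := htr E hE K hK'
        rw [map_conj_eq_cj, ← cj_pResidualOf, ← cj_eq_of_normal (H := P ⊔ N') g]
        exact cj_mono e g)
      have a2 : ⁅N' ⊓ N, N⁆ ≤ P := by
        refine commutator_sup_right_le (nP _) (nP _) ?_ (commutator_le_right _ _)
        refine (le_centMod_iff.1 (sSup_le fun E hE => le_centMod_iff.2 ⟨nP _, ?_⟩)).2
        refine (commutator_comm _ _).le.trans ((commutator_mono le_sup_left le_rfl).trans
          (st2 E hE (P ⊔ N') _ le_sup_left (le_top.trans (top_le_normalizer _)) (a1 E hE) inf_le_right ?_))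
        exact ((commutator_le_right _ _).trans inf_le_left).trans le_sup_right
      have a3 : ⁅N, N'⁆ ≤ N' ⊓ N := le_inf (commutator_le_right _ _) (commutator_le_left _ _)
      have a4 : ⁅⁅N, N⁆, N'⁆ ≤ P := three_subgroups (nP _) (nP _) (nP _)
        ((commutator_mono a3 le_rfl).trans a2) ((commutator_mono ((commutator_comm _ _).le.trans a3) le_rfl).trans a2)
      have a5 : pResidual p H ≤ ⁅N, N⁆ := res _ inferInstance fun E hE => by
        obtain ⟨S, hS⟩ := exists_sylIn p E
        rw [← commutator_pResidualOf_of_ncl hS.le hS.pgrp ((ir E hE).ncl_eq hS).ge]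
        have : E ≤ N := le_sup_left.trans (dN E hE)
        exact commutator_mono ((pResidualOf_le p E).trans this) (hS.le.trans this)
      obtain ⟨T⟩ : Nonempty (Sylow p H) := inferInstance
      have s := (sylIn_top T).inf_normal le_top (top_le_normalizer (P ⊔ N'))
      refine n3 ((pClosed_of_sylIn s (le_top.trans ((pResidual_sup_sylow T).ge.trans (sup_le ?_
        (le_normalizer_inf le_normalizer (le_top.trans (top_le_normalizer _))))))).of_le le_sup_right)
      refine le_normalizer_of_commutator_le inf_le_right (le_trans ?_ (le_inf (pCore_le_sylow T) le_sup_left))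
      exact commutator_sup_left_le (nP _) (nP _) (commutator_le_left _ _)
        ((commutator_comm _ _).le.trans ((commutator_mono a5 le_rfl).trans a4))
    · rw [map_pResidual_subtype, map_pResidual_subtype]
      by_cases hc : pResidualOf p E ≤ K ⊔ P
      · left
        obtain ⟨S, hS⟩ := exists_sylIn p E
        have a1 : pResidualOf p (E ⊔ P) ≤ pResidualOf p (K ⊔ P) := by
          rw [← pResidualOf_idem p (E ⊔ P)]
          refine pResidualOf_mono (le_trans (pResidualOf_le_iff.2 ?_) (sup_le hc le_sup_right))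
          exact ((pGrpMod_pResidualOf E).sup_left (nP _))
        obtain ⟨g, rfl⟩ := htr E hE K hK'
        refine eq_of_le_of_card_le a1 ?_
        rw [map_conj_eq_cj, ← cj_eq_of_normal (H := P) g, ← cj_sup, ← cj_pResidualOf, card_cj,
          cj_eq_of_normal]
      · right
        exact (commutator_mono le_sup_left le_sup_left).trans (st2 E hE (K ⊔ P) (K ⊔ P) le_sup_right
          ((le_sup_left.trans (dN E hE)).trans (hnorm K hK')) hc (dN K hK')
          (commutator_le_right_of_le_normalizer ((dN E hE).trans (hnorm K hK'))))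

end Cfsg.Agent.S2855
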