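import Cfsg.Statements.S2859
import Cfsg.Agent.H24.Base6

set_option autoImplicit false
open Cfsg

namespace Cfsg.Agent.S2859

section
open Subgroup Cfsg.Agent.H24
open scoped commutatorElement
open Cfsg.Agent.H10 (SubnormalIn OqOf)
open Cfsg.Agent.H9 (maxEA)

theorem aux {G : Type*} [Group G] [Finite G] {p : ℕ} [Fact p.Prime] {Q H H₁ H₂ : Subgroup G}
    (w : WC p Q) (hQ : Q ≤ H) (hH : ncl Q H = H) (a1 : H₁ ≤ H) (a2 : H ≤ 𝐍[H₁]) (b1 : H₂ ≤ H)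
    (b2 : H ≤ 𝐍[H₂]) (hprod : H₁ ⊔ H₂ = H) (hcomm : ⁅H₁, H₂⁆ ≤ 𝐍[Q]) (K : Subgroup G)
    (hK : K = pResidualOf p (weakClosure Q (H₁ ⊔ Q))) :
    (⁅K, Q⁆ = K ∧ ⁅K, H₁⁆ = K ∧ K ≤ ⁅H₁, H₁⁆ ∧ H ≤ 𝐍[K]) ∧ ⁅K, H₂⁆ ≤ pCoreOf p H ∧ K ≤ H₁ ∧
      ⁅Q, H₁⁆ ≤ Q ⊔ K ∧ K ≤ pResidualOf p H := by
  rw [w.weakClosure_eq le_sup_right] at hK
  have x1 := w.ncl_ncl (K := H₁ ⊔ Q) le_sup_right
  have x2 : ncl Q (H₁ ⊔ Q) = Q ⊔ ⁅Q, H₁⁆ := by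
    rw [ncl_sup_right le_normalizer (hQ.trans a2), ncl_eq_sup_commutator]
  have x3 := le_normalizer_ncl Q (H₁ ⊔ Q)
  have x4 := le_ncl Q (H₁ ⊔ Q)
  have x5 : ncl Q (H₁ ⊔ Q) ≤ H := ncl_le hQ (le_normalizer_of_le (sup_le a1 hQ))
  set X := ncl Q (H₁ ⊔ Q)
  have k0 : pResidualOf p K = K := by rw [hK, pResidualOf_idem]
  have k1 : ⁅K, Q⁆ = K := hK ▸ commutator_pResidualOf_of_ncl x4 w.pgrp x1.ge
  have k2 : K ≤ H₁ := (le_of_le_sup_of_pResidual k0 w.pgrp (left_le_normalizer_commutator Q H₁)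
    (hK ▸ (pResidualOf_le p X).trans x2.le)).trans (commutator_le_right_of_le_normalizer (hQ.trans a2))
  have k3 : H₁ ≤ 𝐍[K] := hK ▸ le_normalizer_pResidualOf_of (le_sup_left.trans x3)
  set P := pCoreOf p H
  have nP : H ≤ 𝐍[P] := le_normalizer_pCoreOf p H
  have pP := isPGroup_pCoreOf p H
  have lP : P ≤ H := pCoreOf_le p H
  have d1 : H ≤ 𝐍[⁅H₁, H₂⁆] := le_normalizer_commutator a2 b2
  have d2 : ⁅H₁, H₂⁆ ≤ H := commutator_le_of_le a1 b1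
  have d3 : ⁅⁅H₁, H₂⁆, H⁆ ≤ P := by
    have := le_centMod_of_ncl hQ d1 nP (V := ⁅H₁, H₂⁆) (le_trans (le_inf
      (commutator_le_right_of_le_normalizer hcomm) (commutator_le_left_of_le_normalizer (hQ.trans d1)))
      ((le_pCoreOf inf_le_right w.pgrp.to_inf_left (le_normalizer_inf hcomm le_normalizer)).trans
        (pCoreOf_le_of_normal d2 d1)))
    rwa [hH] at this
  have e1 : H ≤ 𝐍[⁅H₁, H₁⁆] := le_normalizer_commutator a2 a2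
  have k4 : K ≤ ⁅H₁, H₁⁆ := by
    have n1 : H ≤ 𝐍[P ⊔ ⁅H₁, H₁⁆] := le_normalizer_sup nP e1
    have n2 : H ≤ 𝐍[⁅H₁, H₁⁆ ⊔ ⁅H₁, H₂⁆] := le_normalizer_sup e1 d1
    have c1 : K ≤ ⁅H₁, H₁⁆ ⊔ ⁅H₁, H₂⁆ := k1.ge.trans ((commutator_mono k2 (hQ.trans hprod.ge)).trans
      (commutator_sup_right_le (a1.trans n2) (b1.trans n2) le_sup_left le_sup_right))
    refine le_of_le_sup_of_pResidual k0 pP (lP.trans e1) (k1.ge.trans ((commutator_mono c1 hQ).trans ?_))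
    exact commutator_sup_left_le ((commutator_le_of_le a1 a1).trans n1) (d2.trans n1)
      ((commutator_le_left_of_le_normalizer e1).trans le_sup_right) (d3.trans le_sup_left)
  have k5 : ⁅K, H₂⁆ ≤ P := (commutator_mono k4 le_rfl).trans (three_subgroups (a1.trans nP) (a1.trans nP)
    (b1.trans nP) ((commutator_mono le_rfl a1).trans d3)
    ((commutator_mono (commutator_comm _ _).le a1).trans d3))
  have k6 : H₂ ≤ 𝐍[K] := by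
    have s : SubnormalIn K H := SubnormalIn.step k2 k3 (.of_normal a1 a2)
    have := SubnormalIn.pResidualOf_sup s pP lP (s.le.trans nP)
    rw [k0] at this
    rw [← this]
    refine le_normalizer_pResidualOf_of (le_normalizer_of_commutator_le le_rfl ?_)
    exact commutator_sup_left_le (le_normalizer_of_le le_sup_left) (le_normalizer_of_le le_sup_right)
      (k5.trans le_sup_right) ((commutator_le_left_of_le_normalizer (b1.trans nP)).trans le_sup_right)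
  have k7 : H ≤ 𝐍[K] := hprod.ge.trans (sup_le k3 k6)
  have k8 : ⁅K, H₁⁆ = K := by
    have e2 : H ≤ 𝐍[⁅K, H₁⁆] := le_normalizer_commutator k7 a2
    have n1 : H ≤ 𝐍[P ⊔ ⁅K, H₁⁆] := le_normalizer_sup nP e2
    refine le_antisymm (commutator_le_left_of_le_normalizer k3) (le_of_le_sup_of_pResidual k0 pP
      (lP.trans e2) (k1.ge.trans ((commutator_mono le_rfl (hQ.trans hprod.ge)).trans ?_)))
    exact commutator_sup_right_le (a1.trans n1) (b1.trans n1) le_sup_right (k5.trans le_sup_left)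
  refine ⟨⟨k1, k8, k4, k7⟩, k5, k2, le_sup_right.trans (x2.ge.trans ?_), hK ▸ pResidualOf_mono x5⟩
  rw [hK, sup_pResidualOf_of_ncl x4 x1.ge]

end

/-- Let Q be a nontrivial p-subgroup of the finite group H that is a weakly closed subgroup, H° the weak closure of Q in H (generated by the conjugates of Q) and H_∘ = O^p(H°). Suppose H₁, H₂ are normal subgroups of H° with H° = H₁H₂ and [H₁, H₂] ≤ N_H(Q), and put Kᵢ = O^p of the weak closure of Q in HᵢQ. Then for i = 1, 2: Kᵢ = [Kᵢ, Q] = [Kᵢ, Hᵢ] ≤ Hᵢ′ and Kᵢ is normal in H°; H_∘ = K₁K₂; and [K₁, K₂] ≤ O_p(H°). -/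
theorem result {G : Type*} [Group G] [Finite G] {p : ℕ} [Fact p.Prime] (Q : Subgroup G) (hQp : IsPGroup p ↥Q) (hQ1 : Q ≠ ⊥) (hwc : Cfsg.IsWeaklyClosedSubgroup p Q) (Hc : Subgroup G) (hHc : Hc = Cfsg.weakClosure Q ⊤) (H₁ H₂ : Subgroup G) (hn₁ : H₁ ≤ Hc ∧ Hc ≤ Subgroup.normalizer ((H₁ : Subgroup G) : Set G)) (hn₂ : H₂ ≤ Hc ∧ Hc ≤ Subgroup.normalizer ((H₂ : Subgroup G) : Set G)) (hprod : H₁ ⊔ H₂ = Hc) (hcomm : ⁅H₁, H₂⁆ ≤ Subgroup.normalizer ((Q : Subgroup G) : Set G)) (K₁ K₂ : Subgroup G) (hK₁ : K₁ = ((Cfsg.pResidual p ↥(Cfsg.weakClosure Q (H₁ ⊔ Q))).map ((Cfsg.weakClosure Q (H₁ ⊔ Q))).subtype)) (hK₂ : K₂ = ((Cfsg.pResidual p ↥(Cfsg.weakClosure Q (H₂ ⊔ Q))).map ((Cfsg.weakClosure Q (H₂ ⊔ Q))).subtype)) : (⁅K₁, Q⁆ = K₁ ∧ ⁅K₁, H₁⁆ = K₁ ∧ K₁ ≤ ⁅H₁, H₁⁆ ∧ Hc ≤ Subgroup.normalizer ((K₁ : Subgroup G) : Set G)) ∧ (⁅K₂, Q⁆ = K₂ ∧ ⁅K₂, H₂⁆ = K₂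 ∧ K₂ ≤ ⁅H₂, H₂⁆ ∧ Hc ≤ Subgroup.normalizer ((K₂ : Subgroup G) : Set G)) ∧ K₁ ⊔ K₂ = ((Cfsg.pResidual p ↥Hc).map (Hc).subtype) ∧ ⁅K₁, K₂⁆ ≤ (Cfsg.pCoreOf p Hc) := by
  open Subgroup Cfsg.Agent.H24 in
  open scoped commutatorElement in
  open Cfsg.Agent.H10 (SubnormalIn OqOf) in
  open Cfsg.Agent.H9 (maxEA) in
  have w := isWC_iff.1 hwc
  rw [w.weakClosure_eq le_top] at hHc
  have hQ : Q ≤ Hc := hHc ▸ le_ncl Q ⊤
  have hH : ncl Q Hc = Hc := hHc ▸ w.ncl_ncl le_top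
  obtain ⟨a1, a2, a3, a4, a5⟩ := aux w hQ hH hn₁.1 hn₁.2 hn₂.1 hn₂.2 hprod hcomm K₁ hK₁
  obtain ⟨b1, b2, b3, b4, b5⟩ := aux w hQ hH hn₂.1 hn₂.2 hn₁.1 hn₁.2 (sup_comm H₁ H₂ ▸ hprod)
    (commutator_comm H₁ H₂ ▸ hcomm) K₂ hK₂
  refine ⟨a1, b1, le_antisymm (sup_le a5 b5) ?_, (commutator_mono le_rfl b3).trans a2⟩
  have n1 : Hc ≤ 𝐍[K₁ ⊔ K₂] := le_normalizer_sup a1.2.2.2 b1.2.2.2
  have k : ∀ X, X ≤ Hc → ⁅Q, X⁆ ≤ Q ⊔ (K₁ ⊔ K₂) → X ≤ 𝐍[Q ⊔ (K₁ ⊔ K₂)] := fun X x1 x2 =>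
    le_normalizer_of_commutator_le le_rfl (commutator_sup_left_le (le_normalizer_of_le le_sup_left)
      (le_normalizer_of_le le_sup_right) x2
      ((commutator_le_left_of_le_normalizer (x1.trans n1)).trans le_sup_right))
  refine (pResidualOf_le_of_le_sup hQp (hQ.trans n1) (hH.ge.trans (ncl_le le_sup_left (hprod.ge.trans
    (sup_le (k _ hn₁.1 (a4.trans (sup_le_sup_left le_sup_left _)))
      (k _ hn₂.1 (b4.trans (sup_le_sup_left le_sup_right _)))))))).trans (pResidualOf_le p _)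

end Cfsg.Agent.S2859
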