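import Cfsg.Statements.S2860
import Cfsg.Agent.H24.Base6
import Cfsg.Agent.S2815

set_option autoImplicit false
open Cfsg

namespace Cfsg.Agent.S2860

/-- Let Q be a nontrivial large p-subgroup of the finite group H, U a nontrivial elementary abelian p-subgroup of H, and Q ≤ E ≤ N_H(U) with Q not normal in E. Suppose O_p(E/C_E(U)) = 1 and O^p(E)·C_E(U)/C_E(U) is quasisimple. Let E° be the weak closure of Q in E (generated by the conjugates of Q inside E) and E_∘ = O^p(E°). Then O^p(E)·C_E(U) = E_∘·C_E(U); E_∘ is perfect and equals O^p(E_∘); E_∘/C_{E_∘}(U) and E_∘/O_p(E_∘) are quasisimple; and E_∘ = [E_∘, Y] for every p-subgroup Y of E not centralizing U. -/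
theorem result {G : Type*} [Group G] [Finite G] {p : ℕ} [Fact p.Prime] (Q : Subgroup G) (hQp : IsPGroup p ↥Q) (hQ1 : Q ≠ ⊥) (hQ : Cfsg.IsLarge Q) (U : Subgroup G) (hU : Cfsg.IsElementaryAbelian p U) (hU1 : U ≠ ⊥) (E : Subgroup G) (hQE : Q ≤ E) (hEU : E ≤ Subgroup.normalizer ((U : Subgroup G) : Set G)) (hQn : ¬ E ≤ Subgroup.normalizer ((Q : Subgroup G) : Set G)) [hn : ((Subgroup.centralizer ((U : Subgroup G) : Set G)).subgroupOf E).Normal] (hred : Cfsg.pCore p (↥E ⧸ (Subgroup.centralizer ((U : Subgroup G) : Set G)).subgroupOf E) = ⊥) (hqs : Cfsg.IsQuasisimple ↥(((Cfsg.pResidual p ↥E) ⊔ (Subgroup.centralizer ((U : Subgroup G) : Set G)).subgroupOf E).map (QuotientGroup.mk' ((Subgroup.centralizer ((U : Subgroup G) : Set G)).subgroupOf E)))) (Er : Subgroup G) (hEr : Er = ((Cfsg.pResidual p ↥(Cfsg.weakClosure Q E)).map ((Cfsg.weakClosure Q E)).subtype)) [hn2 : ((Subgroup.centralizer ((U : Subgroup G) : Set G)).subgroupOf Er).Normal] : ((Cfsg.pResidual p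 ↥E).map (E).subtype) ⊔ (E ⊓ Subgroup.centralizer ((U : Subgroup G) : Set G)) = Er ⊔ (E ⊓ Subgroup.centralizer ((U : Subgroup G) : Set G)) ∧ ⁅Er, Er⁆ = Er ∧ ((Cfsg.pResidual p ↥Er).map (Er).subtype) = Er ∧ Cfsg.IsQuasisimple (↥Er ⧸ (Subgroup.centralizer ((U : Subgroup G) : Set G)).subgroupOf Er) ∧ Cfsg.IsQuasisimple (↥Er ⧸ Cfsg.pCore p ↥Er) ∧ ∀ Y : Subgroup G, Y ≤ E → IsPGroup p ↥Y → ¬ Y ≤ Subgroup.centralizer ((U : Subgroup G) : Set G) → ⁅Er, Y⁆ = Er := by
  open Subgroup Cfsg.Agent.H24 in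
  open scoped commutatorElement in
  open Cfsg.Agent.H10 (SubnormalIn OqOf) in
  open Cfsg.Agent.H9 (maxEA) in
  have w := IsLarge.wc hQ hQp hQ1
  have hUp := isPGroup_of_isElementaryAbelian hU
  rw [w.weakClosure_eq hQE, map_pResidual_subtype] at hEr
  rw [map_pResidual_subtype, map_pResidual_subtype]
  set f := QuotientGroup.mk' (𝐂[U].subgroupOf E) with hfd
  have hf : Function.Surjective f := QuotientGroup.mk'_surjective _
  have hk : f.ker = 𝐂[U].subgroupOf E := QuotientGroup.ker_mk' _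
  have e0 : (pResidual p E ⊔ 𝐂[U].subgroupOf E).map f = pResidual p (E ⧸ 𝐂[U].subgroupOf E) := by
    rw [Subgroup.map_sup, (Subgroup.map_eq_bot_iff (𝐂[U].subgroupOf E)).2 hk.ge, sup_bot_eq, map_pResidual hf]
  rw [e0] at hqs
  let im : Subgroup G → Subgroup (E ⧸ 𝐂[U].subgroupOf E) := fun X => (X.subgroupOf E).map f
  have im1 : ∀ X Y, X ≤ E → Y ≤ E → im X ≤ im Y → X ≤ Y ⊔ (E ⊓ 𝐂[U]) := fun X Y x y h => by
    have := map_mono (f := E.subtype) (Subgroup.map_le_map_iff.1 h)
    rwa [map_subgroupOf_eq_of_le x, Subgroup.map_sup, map_subgroupOf_eq_of_le y, hk, subgroupOf_map_subtype,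
      inf_comm] at this
  have im2 : ∀ X Y, X ≤ E → Y ≤ E → im ⁅X, Y⁆ = ⁅im X, im Y⁆ := fun X Y x y => by
    simp only [im]; rw [H10.subgroupOf_commutator x y, Subgroup.map_commutator]
  have im3 : ∀ X, X ≤ E → im X = ⊥ → X ≤ 𝐂[U] := fun X x h => by
    rw [Subgroup.map_eq_bot_iff, hk] at h
    exact (H10.subgroupOf_le_subgroupOf_iff x).1 h
  have im4 : ∀ X, X ≤ E → im (pResidualOf p X) = pResidualOf p (im X) := fun X x => by
    simp only [im]; rw [← pResidualOf_subgroupOf_of_le x, map_pResidualOf]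
  have im5 : ∀ X : Subgroup G, IsPGroup p X → IsPGroup p (im X) := fun X x =>
    (isPGroup_subgroupOf x E).map f
  have q1 : ¬ Q ≤ 𝐂[U] := fun e => hQn (hEU.trans (hQ.2 U (le_centralizer_iff.1 e) hU1))
  have q2 : im Q ≠ ⊥ := fun e => q1 (im3 Q hQE e)
  obtain ⟨-, s2, -⟩ := S2815.result ((dvd_card_of_ne_bot (im5 Q hQp) q2).trans (card_subgroup_dvd_card _))
    hred hqs
  set R := pResidual p (E ⧸ 𝐂[U].subgroupOf E) with hR
  have x0 : ncl Q E ≤ E := ncl_le_self hQE
  have r0 : Er ≤ ncl Q E := hEr ▸ pResidualOf_le p _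
  have r1 : Er ≤ E := r0.trans x0
  have r2 : pResidualOf p Er = Er := by rw [hEr, pResidualOf_idem]
  have r3 : im Er = R := by
    rw [hEr, im4 _ x0, hR, ← pResidualOf_top]
    refine pResidualOf_eq_of_le ?_ le_top
    rw [pResidualOf_top]
    refine (s2 _ (im5 Q hQp) q2).2.trans (ncl_le (map_mono (comap_mono (le_ncl Q E))) (le_top.trans ?_))
    rw [← map_top_of_surjective _ hf, ← subgroupOf_self]
    exact map_le_normalizer_map f (comap_le_normalizer_comap _ (le_normalizer_ncl Q E))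
  have r4 : im (pResidualOf p E) = R := by
    simp only [im]; rw [pResidualOf_subgroupOf, map_pResidual hf]
  have r5 : ⁅Er, Q⁆ = Er := hEr ▸ commutator_pResidualOf_of_ncl (le_ncl Q E) hQp (w.ncl_ncl hQE).ge
  have nE : E ≤ 𝐍[Er] := hEr ▸ le_normalizer_pResidualOf_of (le_normalizer_ncl Q E)
  set P := pCoreOf p (ncl Q E)
  have nP : E ≤ 𝐍[P] := le_normalizer_pCoreOf_of (le_normalizer_ncl Q E)
  have pP : IsPGroup p P := isPGroup_pCoreOf p _
  have lP : P ≤ E := (pCoreOf_le p _).trans x0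
  have c1 : ⁅ncl Q E, 𝐂[U]⁆ ≤ P := (IsLarge.commutator_ncl_le hQ hQp hUp hU1 hQE hEU).trans inf_le_left
  have key : ∀ D Z, D ≤ Er → E ≤ 𝐍[D ⊔ P] → P ≤ 𝐍[D] → Z ≤ ncl Q E → Z ≤ 𝐍[D] → ⁅Er, Z⁆ = Er → R ≤ im D →
      Er ≤ D := fun D Z d1 d2 d3 z1 z2 z3 d4 => by
    refine le_of_le_sup_of_pResidual r2 pP d3 (z3.ge.trans ((commutator_mono
      (im1 _ _ r1 (d1.trans r1) (r3.le.trans d4)) le_rfl).trans ?_))
    rw [sup_comm P]
    exact commutator_sup_left_le (le_normalizer_of_le le_sup_left) (inf_le_left.trans d2)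
      ((commutator_le_left_of_le_normalizer z2).trans le_sup_left) ((commutator_comm _ _).le.trans
        (((commutator_mono z1 inf_le_right).trans c1).trans le_sup_right))
  have a2 : ⁅Er, Er⁆ = Er := by
    have n := le_normalizer_commutator nE nE
    refine le_antisymm (commutator_le_of_le le_rfl le_rfl) (key _ Q (commutator_le_of_le le_rfl le_rfl)
      (le_normalizer_sup n nP) (lP.trans n) (le_ncl Q E) (hQE.trans n) r5 ?_)
    rw [im2 _ _ r1 r1, r3, H10.QS.perfect hqs]
  have a4 : IsQuasisimple (Er ⧸ 𝐂[U].subgroupOf Er) := by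
    let g : Er →* E ⧸ 𝐂[U].subgroupOf E := f.comp (inclusion r1)
    have g1 : g.ker = 𝐂[U].subgroupOf Er := by
      rw [← MonoidHom.comap_ker, hk]; rfl
    have g2 : g.range = R := by
      rw [MonoidHom.range_comp, inclusion_range]; exact r3
    rw [H10.isQuasisimple_congr ((QuotientGroup.quotientMulEquivOfEq g1.symm).trans
      (QuotientGroup.quotientKerEquivRange g)), g2]
    exact hqs
  have o1 : pCore p Er ≤ 𝐂[U].subgroupOf Er := by
    rw [← pCoreOf_subgroupOf]
    exact comap_mono ((pCoreOf_le_of_normal r1 nE).trans ((pCoreOf_le_pCoreMod p E _).trans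
      (pCore_quotient_eq_bot_iff.1 hred)))
  refine ⟨le_antisymm (sup_le (im1 _ _ (pResidualOf_le p E) r1 (r4.trans r3.symm).le) le_sup_right)
    (sup_le (im1 _ _ r1 (pResidualOf_le p E) (r3.trans r4.symm).le) le_sup_right), a2, r2, a4, ?_,
    fun Y y1 y2 y3 => ?_⟩
  · have hs := QuotientGroup.mk'_surjective (pCore p Er)
    let g : Er ⧸ pCore p Er →* Er ⧸ 𝐂[U].subgroupOf Er := QuotientGroup.map _ _ (MonoidHom.id _) o1
    have g1 : Function.Surjective g := fun y => by
      obtain ⟨y, rfl⟩ := QuotientGroup.mk'_surjective _ y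
      exact ⟨QuotientGroup.mk y, rfl⟩
    have g2 : g.ker ≤ (𝐂[U].subgroupOf Er).map (QuotientGroup.mk' _) := fun y hy => by
      obtain ⟨y, rfl⟩ := hs y
      exact ⟨y, (QuotientGroup.eq_one_iff y).1 hy, rfl⟩
    have t : ⁅(⊤ : Subgroup Er), (⊤ : Subgroup Er)⁆ = ⊤ := by
      rw [← map_subtype_inj', Subgroup.map_commutator, map_subtype_top, a2]
    rw [← H10.isQuasisimple_top]
    refine H10.isQuasisimple_of_map g ?_ ?_ ?_
    · rw [← map_top_of_surjective _ hs, ← Subgroup.map_commutator, t]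
    · rw [eq_bot_iff]
      refine (commutator_mono (inf_le_right.trans g2) (map_top_of_surjective _ hs).ge).trans ?_
      rw [← Subgroup.map_commutator, le_bot_iff, Subgroup.map_eq_bot_iff, QuotientGroup.ker_mk',
        ← map_subtype_le_map_subtype', Subgroup.map_commutator, map_subtype_top, subgroupOf_map_subtype,
        map_pCore_subtype, pCoreOf_eq_inf_of_normal r0 (x0.trans nE)]
      exact le_inf (commutator_le_of_le inf_le_right le_rfl) ((commutator_comm _ _).le.trans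
        ((commutator_mono r0 inf_le_left).trans c1))
    · rwa [map_top_of_surjective _ g1, H10.isQuasisimple_top]
  · have b1 := commutator_le_left_of_le_normalizer (y1.trans nE)
    have b2 : R ≤ im ⁅Er, Y⁆ := by
      rw [im2 _ _ r1 y1, r3, (s2 _ (im5 Y y2) fun e => y3 (im3 Y y1 e)).1]
    have b3 := im1 _ _ r1 (b1.trans r1) (r3.le.trans b2)
    have b4 : Er ≤ (Er ⊓ P) ⊔ ⁅Er, Y⁆ := by
      have b5 : Er ≤ ⁅Er, Y⁆ ⊔ (E ⊓ 𝐂[U] ⊓ Er) := by
        rw [← sup_inf_of_le_normalizer_right ((b1.trans r1).trans (le_normalizer_inf le_normalizer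
          (le_normalizer_centralizer hEU))) b1]
        exact le_inf b3 le_rfl
      have n : Er ≤ 𝐍[(Er ⊓ P) ⊔ ⁅Er, Y⁆] := le_normalizer_sup (le_normalizer_inf le_normalizer (r1.trans nP))
        (left_le_normalizer_commutator _ _)
      refine a2.ge.trans ((commutator_mono b5 le_rfl).trans (commutator_sup_left_le (b1.trans n)
        (inf_le_right.trans n) ((commutator_le_left_of_le_normalizer
          (left_le_normalizer_commutator _ _)).trans le_sup_right) (le_trans (le_inf ?_ ?_) le_sup_left)))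
      · exact commutator_le_of_le inf_le_right le_rfl
      · exact (commutator_comm _ _).le.trans ((commutator_mono r0 (inf_le_left.trans inf_le_right)).trans c1)
    exact le_antisymm b1 (le_of_le_sup_of_pResidual r2 pP.to_inf_right
      (inf_le_left.trans (left_le_normalizer_commutator _ _)) b4)

end Cfsg.Agent.S2860
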