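import Cfsg.Statements.S2861
import Cfsg.Agent.H24.FL3

set_option autoImplicit false
open Cfsg

namespace Cfsg.Agent.S2861

/-- Standing hypotheses: G a finite group, S a Sylow p-subgroup, Q a nontrivial large p-subgroup of G contained in S, M a subgroup containing S with the basic property (M ∈ 𝔐_G(S)); Y_M the largest p-reduced normal subgroup of M and M† = M·C_G(Y_M). Let L ∈ 𝔏_G(Y_M) (L ∈ 𝔏_G(Y_M): Y_M ≤ L; O_p(L) is the normal closure in L of Y_M ∩ O_p(L) and normalizes Y_M; L is Y_M-minimal of characteristic p with N_L(Y_M) its unique maximal subgroup over Y_M; and L/O_p(L) ≅ SL₂(q) with q = |Y_M : Y_M ∩ O_p(L)|, or p = 2 and L/O_p(L) is a Suzuki group Sz(q) or dihedral of order 2r, r an odd prime) and A = O_p(L). Then Y_M·A/A is the unique nontrivial elementary abelian normal p-subgroup of N_L(Y_M)/A. -/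
theorem result {G : Type*} [Group G] [Finite G] {p : ℕ} [Fact p.Prime] (S : Sylow p G) (Q : Subgroup G) (hQp : IsPGroup p ↥Q) (hQ1 : Q ≠ ⊥) (hQS : Q ≤ (S : Subgroup G)) (hQ : Cfsg.IsLarge Q) (M : Subgroup G) (hSM : (S : Subgroup G) ≤ M) (hM : Cfsg.IsInFrakM p M) (L : Subgroup G) (hL : Cfsg.IsInFrakL p M L) (NL : Subgroup G) (hNL : NL = L ⊓ Subgroup.normalizer (((Cfsg.largestPReducedOf p M) : Subgroup G) : Set G)) [hn : (((Cfsg.pCoreOf p L)).subgroupOf NL).Normal] : let Ybar : Subgroup (↥NL ⧸ ((Cfsg.pCoreOf p L)).subgroupOf NL) := (((Cfsg.largestPReducedOf p M)).subgroupOf NL).map (QuotientGroup.mk' (((Cfsg.pCoreOf p L)).subgroupOf NL)); Ybar ≠ ⊥ ∧ Ybar.Normal ∧ Cfsg.IsElementaryAbelian p Ybar ∧ ∀ (V : Subgroup (↥NL ⧸ ((Cfsg.pCoreOf p L)).subgroupOf NL)), V.Normal → Cfsg.IsElementaryAbelian p V → V ≠ ⊥ → V = Ybar := by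
  open Subgroup Cfsg.Agent.H24 in
  open scoped commutatorElement in
  open Cfsg.Agent.H10 (SubnormalIn OqOf) in
  open Cfsg.Agent.H9 (maxEA) in
  obtain ⟨hY, ha, -⟩ := frl_of hL
  subst hNL
  intro Ybar
  have h1 : Yp p M ≤ L := hL.1
  let i : ↥(L ⊓ normalizer (Yp p M : Set G)) →* L ⧸ pCore p L := (QuotientGroup.mk' _).comp (inclusion inf_le_left)
  have hi : (pCoreOf p L).subgroupOf (L ⊓ normalizer (Yp p M : Set G)) = i.ker := by
    ext x
    rw [MonoidHom.mem_ker, MonoidHom.comp_apply, QuotientGroup.mk'_apply, QuotientGroup.eq_one_iff, ← pCoreOf_subgroupOf]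
    rfl
  let j := QuotientGroup.lift _ i hi.le
  have hj : Function.Injective j := (QuotientGroup.injective_lift_iff _ _ _).2 hi
  have e : ∀ X : Subgroup G, X ≤ L ⊓ normalizer (Yp p M : Set G) →
      ((X.subgroupOf _).map (QuotientGroup.mk' ((pCoreOf p L).subgroupOf (L ⊓ normalizer (Yp p M : Set G))))).map j =
        (X.subgroupOf L).map (QuotientGroup.mk' (pCore p L)) := fun X hX => by
    rw [map_map, QuotientGroup.lift_comp_mk', ← map_map]
    congr 1
    ext x
    exact ⟨fun ⟨y, hy, e⟩ => e ▸ hy, fun hx => ⟨⟨x, hX hx⟩, hx, rfl⟩⟩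
  have e1 := e _ (le_inf h1 le_normalizer)
  have e2 := e _ le_rfl
  rw [subgroupOf_self, map_top_of_surjective _ (QuotientGroup.mk'_surjective _), inf_subgroupOf_left,
    subgroupOf_normalizer_eq h1, ← hY.normalizer_map] at e2
  haveI := normal_subgroupOf_of_le_normalizer' (A := Yp p M) (H := L ⊓ normalizer (Yp p M : Set G)) inf_le_right
  refine ⟨fun e => hY.map_ne_bot (by rw [← e1]; exact (congrArg (map j) e).trans (map_bot j)),
    Normal.map inferInstance _ (QuotientGroup.mk'_surjective _),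
    Cfsg.Agent.H9.isEA_map (Cfsg.Agent.H9.isEA_subgroupOf (isEA_Yp p M) _) _, fun V hV h2 h3 => map_injective hj ?_⟩
  rw [e1]
  exact ha _ (e2 ▸ map_mono le_top) (e2 ▸ map_le_normalizer_map j (top_le_normalizer V)) (Cfsg.Agent.H9.isEA_map h2 j)
    fun e => h3 ((map_eq_bot_iff_of_injective _ hj).1 e)

end Cfsg.Agent.S2861
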