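import Cfsg.Statements.S2862
import Cfsg.Agent.H24.Base6
import Cfsg.Agent.S2833

set_option autoImplicit false
open Cfsg

namespace Cfsg.Agent.S2862

/-- Standing hypotheses: G a finite group, S a Sylow p-subgroup, Q a nontrivial large p-subgroup of G contained in S, M a subgroup containing S with the basic property (M ∈ 𝔐_G(S)); Y_M the largest p-reduced normal subgroup of M and M† = M·C_G(Y_M). Suppose Y_M is char-p-tall and asymmetric in G, H ∈ ℌ_G(O_p(M)), and L is minimal among the subgroups of H containing Y_M with Y_M ≰ O_p(L). Then H = ⟨L, O_p(M)⟩ = ⟨hY_Mh⁻¹, O_p(M)⟩ for every h ∈ L outside N_L(Y_M); L is Y_M-minimal and of characteristic p, with N_L(Y_M) the unique maximal subgroup of L containing Y_M; [V, O^p(L)] ≠ 1 for every noncentral chief factor V/W of H inside O_p(H) (that is, O^p(L) does not act trivially on V/W); and the normal closure of O_p(L) ∩ Y_M in L lies in O_p(H). -/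
theorem result {G : Type*} [Group G] [Finite G] {p : ℕ} [Fact p.Prime] (S : Sylow p G) (Q : Subgroup G) (hQp : IsPGroup p ↥Q) (hQ1 : Q ≠ ⊥) (hQS : Q ≤ (S : Subgroup G)) (hQ : Cfsg.IsLarge Q) (M : Subgroup G) (hSM : (S : Subgroup G) ≤ M) (hM : Cfsg.IsInFrakM p M) (htall : Cfsg.IsCharPTall p (Cfsg.largestPReducedOf p M)) (hasym : ¬ Cfsg.IsSymmetricIn (Cfsg.largestPReducedOf p M)) (H : Subgroup G) (hH : Cfsg.IsInFrakH p M H) (L : Subgroup G) (hLH : L ≤ H) (hYL : (Cfsg.largestPReducedOf p M) ≤ L) (hYO : ¬ (Cfsg.largestPReducedOf p M) ≤ (Cfsg.pCoreOf p L)) (hmin : ∀ L' : Subgroup G, L' ≤ L → (Cfsg.largestPReducedOf p M) ≤ L' → ¬ (Cfsg.largestPReducedOf p M) ≤ (Cfsg.pCoreOf p L') → L' = L) : (L ⊔ (Cfsg.pCoreOf p M) = H ∧ ∀ h ∈ L, h ∉ Subgroup.normalizer (((Cfsg.largestPReducedOf p M) : Subgroup G) : Set G) → (((Cfsg.largestPReducedOf p M) : Subgroup G).map (MulAut.conj (h : G)).toMonoidHom) ⊔ (Cfsg.pCoreOf p M) = H) ∧ (Cfsg.IsMinimalOver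 (((Cfsg.largestPReducedOf p M)).subgroupOf L) ∧ Subgroup.centralizer (Cfsg.pCore p ↥L : Set ↥L) ≤ Cfsg.pCore p ↥L ∧ L ⊓ Subgroup.normalizer (((Cfsg.largestPReducedOf p M) : Subgroup G) : Set G) < L ∧ ∀ X : Subgroup G, (Cfsg.largestPReducedOf p M) ≤ X → X < L → X ≤ L ⊓ Subgroup.normalizer (((Cfsg.largestPReducedOf p M) : Subgroup G) : Set G)) ∧ (∀ V W' : Subgroup G, V ≤ (Cfsg.pCoreOf p H) → H ≤ Subgroup.normalizer ((V : Subgroup G) : Set G) → H ≤ Subgroup.normalizer ((W' : Subgroup G) : Set G) → W' < V → (∀ Z' : Subgroup G, H ≤ Subgroup.normalizer ((Z' : Subgroup G) : Set G) → W' ≤ Z' → Z' ≤ V → Z' = W' ∨ Z' = V) → ¬ ⁅V, H⁆ ≤ W' → ¬ ⁅V, ((Cfsg.pResidual p ↥L).map (L).subtype)⁆ ≤ W') ∧ (Subgroup.normalClosure (((((Cfsg.pCoreOf p L) ⊓ (Cfsg.largestPReducedOf p M)).subgroupOf L : Subgroup ↥L)) : Set ↥L)).map L.subtype ≤ (Cfsg.pCoreOf p H) := by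
  open Subgroup Cfsg.Agent.H24 in
  open scoped commutatorElement in
  open Cfsg.Agent.H10 (SubnormalIn OqOf) in
  open Cfsg.Agent.H9 (maxEA) in
  have hM' := fm_of (IsLarge.parabolicChar hQ hQp hQ1) (sylIn_top S) hSM hM
  have w := hM'.wc hasym
  have k := fh_of hH
  rw [map_normalClosure_subgroupOf (inf_le_right.trans hYL), map_pResidual_subtype]
  have yR := Yp_le_pCoreOf p M
  have yE := hM'.Y_eq
  have nRY := hM'.normalizer_core_le
  have sC := hM'.sylC
  have yp := isPGroup_Yp p M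
  have yc := Yp_le_centralizer p M
  have kle := k.le
  have kmin := k.min
  have knot := k.not_le
  have kn := k.ncl_core
  change Yp p M ≤ L at hYL
  change ¬ Yp p M ≤ _ at hYO
  change ¬ IsSymmetricIn (Yp p M) at hasym
  change ∀ L', L' ≤ L → Yp p M ≤ L' → ¬ Yp p M ≤ _ → _ at hmin
  change (_ ∧ ∀ h ∈ L, h ∉ 𝐍[Yp p M] → cj (Yp p M) h ⊔ _ = H) ∧ (IsMinimalOver ((Yp p M).subgroupOf L) ∧ _ ∧
    L ⊓ 𝐍[Yp p M] < L ∧ ∀ X, Yp p M ≤ X → X < L → X ≤ L ⊓ 𝐍[Yp p M]) ∧ _ ∧ ncl (_ ⊓ Yp p M) L ≤ _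
  generalize Yp p M = Y at *
  generalize pCoreOf p M = R at *
  have hc := k.charP
  set D := pCoreOf p H with hD
  have dp : IsPGroup p D := isPGroup_pCoreOf p H
  have dH : D ≤ H := pCoreOf_le p H
  have nD : H ≤ 𝐍[D] := le_normalizer_pCoreOf p H
  have dR : D ≤ 𝐍[R] := w.pCoreOf_le kle
  have dY : D ≤ 𝐍[Y] := dR.trans nRY
  have rc : R ≤ 𝐂[Y] := sC.le
  have gen : ∀ P, L ≤ P → R ≤ P → P ≤ H → P = H := fun P p1 p2 p3 =>
    p3.eq_or_lt.resolve_right fun p4 => hYO ((le_inf hYL (kmin P p2 p4)).trans (inf_pCoreOf_le p1))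
  have LR : L ⊔ R = H := gen _ le_sup_left le_sup_right (sup_le hLH kle)
  obtain ⟨h, hL, hh⟩ : ∃ h ∈ L, ¬ IsPGroup p (Y ⊔ cj Y h : Subgroup G) := by
    by_contra hc
    push Not at hc
    exact hYO (le_pCoreOf_of_forall_cj hYL hc)
  have yh : cj Y h ≤ L := cj_le_of_mem hYL hL
  have g1 : Y ⊔ cj Y h = L := hmin _ (sup_le hYL yh) le_sup_left fun e => hh
    ((isPGroup_sup_of_le_normalizer_left (isPGroup_pCoreOf p _) (IsPGroup.cj yp h)
      (le_sup_right.trans (le_normalizer_pCoreOf p _))).to_le (sup_le_sup_right e _))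
  have v1 : ⁅D, Y⁆ ≤ Y := commutator_le_right_of_le_normalizer dY
  have v0 : ⁅D, Y⁆ ≤ D := commutator_le_left_of_le_normalizer ((hYL.trans hLH).trans nD)
  obtain ⟨s1, s2, s3⟩ := S2833.result D L (hLH.trans nD) Y hYL h hL
    (le_centralizer_iff_commutator.1 (v1.trans yc)) g1 _ rfl
  rw [map_conj_eq_cj] at s1 s3
  have e1 : ⁅D, cj Y h⁆ = cj ⁅D, Y⁆ h := by rw [cj_commutator, cj_eq_of_mem_normalizer (nD (hLH hL))]
  have v2 : ⁅D, cj Y h⁆ ≤ cj Y h := e1 ▸ cj_mono v1 h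
  have yc' : cj Y h ≤ 𝐂[cj Y h] := by rw [← cj_centralizer]; exact cj_mono yc h
  have vD : ⁅D, L⁆ ≤ D := commutator_le_left_of_le_normalizer (hLH.trans nD)
  have vL : ⁅D, L⁆ ≤ L := s1.ge.trans (sup_le (v1.trans hYL) (v2.trans yh))
  have vO : ⁅D, L⁆ ≤ pCoreOf p L := (le_inf vL vD).trans (inf_pCoreOf_le hLH)
  have c1 : D ⊓ 𝐂[Y] ≤ ⁅D, Y⁆ ⊔ (D ⊓ 𝐂[L]) := by
    intro x hx
    have a : ⁅x⁻¹, h⁆ ∈ ⁅D, L⁆ := commutator_mem_commutator (D.inv_mem hx.1) hL
    rw [← s1] at a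
    obtain ⟨a, ha, b, hb, e⟩ := (mem_sup_of_le_normalizer_right (v0.trans
      (left_le_normalizer_commutator _ _))).1 a
    have e2 : x * a = h * x * h⁻¹ * b⁻¹ := by
      rw [eq_mul_inv_iff_mul_eq, mul_assoc, ← e, commutatorElement_def]; group
    have z1 : x * a ∈ 𝐂[Y] := mul_mem hx.2 (yc (v1 ha))
    have z2 : x * a ∈ 𝐂[cj Y h] := by
      rw [e2]
      exact mul_mem (by rw [← cj_centralizer]; exact conj_mem_cj hx.2 h) (inv_mem (yc' (v2 hb)))
    have z3 : x * a ∈ D ⊓ 𝐂[L] := ⟨D.mul_mem hx.1 (v0 ha), by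
      rw [← g1, centralizer_sup]; exact ⟨z1, z2⟩⟩
    simpa using mul_mem (mem_sup_right (S := ⁅D, Y⁆) z3) (inv_mem (mem_sup_left (T := D ⊓ 𝐂[L]) ha))
  have Lnp : ¬ IsPGroup p L := fun e => hh (g1 ▸ e)
  have LY : L ≤ ncl Y L := g1.ge.trans (sup_le (le_ncl _ _) (cj_le_ncl hL))
  have rY : Y ⊔ pResidualOf p L = L := sup_pResidualOf_of_ncl hYL LY
  have rY' : cj Y h ⊔ pResidualOf p L = L :=
    sup_pResidualOf_of_ncl yh (by rw [ncl_cj_of_mem hL]; exact LY)
  have nV : L ≤ 𝐍[⁅D, L⁆] := right_le_normalizer_commutator _ _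
  have vp : IsPGroup p ↥⁅D, L⁆ := dp.to_le vD
  have vnc : ¬ ⁅D, L⁆ ≤ ⁅D, L⁆ ⊓ 𝐂[L] := fun e => Lnp (pResidualOf_eq_bot_iff.1
    (hc.eq_bot_of_le_centralizer (pResidualOf_idem p L) ((pResidualOf_le p L).trans hLH)
      (le_centralizer_of_stabilizes (pResidualOf_idem p L) vp (commutator_mono le_rfl (pResidualOf_le p L))
        ((pResidualOf_le p L).trans (le_centralizer_iff.1 (e.trans inf_le_right))))))
  have nZ : L ≤ 𝐍[⁅D, L⁆ ⊓ 𝐂[L]] := le_normalizer_of_le_centralizer (le_centralizer_iff.1 inf_le_right)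
  have c2 : ∀ U, U ≤ ⁅D, L⁆ → ⁅U, Y⁆ ≤ ⁅D, L⁆ ⊓ 𝐂[L] → U ≤ ⁅D, Y⁆ := fun U u1 u2 => by
    set Z := ⁅D, L⁆ ⊓ 𝐂[L]
    have zV : ⁅D, L⁆ ≤ 𝐍[Z] := vL.trans nZ
    have a1 : U ≤ centMod Y Z := le_centMod_iff.2 ⟨u1.trans zV, (commutator_comm _ _).le.trans u2⟩
    have a2 : ⁅D, Y⁆ ≤ centMod Y Z := le_centMod_iff.2 ⟨(le_sup_left.trans s1.le).trans zV, by
      rw [le_centralizer_iff_commutator'.1 (v1.trans yc)]; exact bot_le⟩
    have a3 := sup_inf_of_le_normalizer_right (B := ⁅D, cj Y h⁆) (v0.trans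
      (left_le_normalizer_commutator _ _)) a2
    rw [s1] at a3
    refine (le_inf u1 a1).trans (a3.le.trans (sup_le le_rfl ?_))
    set B := ⁅D, cj Y h⁆ ⊓ centMod Y Z
    have b1 : B ≤ 𝐂[cj Y h] := inf_le_left.trans (v2.trans yc')
    have b2 : ⁅B, L⁆ ≤ Z := by
      rw [← g1]
      refine commutator_sup_right_le (hYL.trans (g1 ▸ nZ)) (yh.trans (g1 ▸ nZ)) ?_ ?_
      · exact (commutator_comm _ _).le.trans (le_centMod_iff.1 inf_le_right).2
      · rw [le_centralizer_iff_commutator.1 b1]; exact bot_le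
    have b3 : pResidualOf p L ≤ 𝐂[B] := le_centralizer_of_stabilizes (pResidualOf_idem p L) vp.to_inf_left
      ((commutator_mono le_rfl (pResidualOf_le p L)).trans b2)
      ((pResidualOf_le p L).trans (le_centralizer_iff.1 inf_le_right))
    refine le_trans (le_inf (inf_le_left.trans (le_sup_right.trans s1.le)) ?_) (s3.le.trans inf_le_left)
    rw [← rY', le_centralizer_iff]; exact sup_le (le_centralizer_iff.1 b1) b3
  have main : ∀ X, Y ≤ X → X < L → X ≤ 𝐍[Y] := by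
    intro X x1 x2
    have x3 : Y ≤ pCoreOf p X := by
      by_contra hc; exact x2.ne (hmin X x2.le x1 hc)
    have wp : IsPGroup p (ncl Y X) := (isPGroup_pCoreOf p X).to_le (ncl_le_pCoreOf x3)
    have wL : ncl Y X ≤ L := (ncl_le_self x1).trans x2.le
    set Z := ⁅D, L⁆ ⊓ 𝐂[L]
    set U := ⁅D, L⁆ ⊓ centMod (ncl Y X) Z
    have u0 : ¬ U ≤ Z := fun e => by
      haveI := (isPGroup_sup_of_le_normalizer_right wp vp (wL.trans nV)).isNilpotent
      obtain ⟨B, b1, -, b3, b4⟩ := exists_not_le_commutator_le (K := ncl Y X ⊔ ⁅D, L⁆) le_sup_right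
        (sup_le (wL.trans nV) le_normalizer) vnc
      exact b3 ((le_inf b1 (le_centMod_iff.2 ⟨(b1.trans vL).trans nZ, (commutator_comm _ _).le.trans
        ((commutator_mono le_rfl le_sup_left).trans b4)⟩)).trans e)
    have u1 : U ≤ ⁅D, Y⁆ := c2 U inf_le_left ((commutator_comm _ _).le.trans
      ((commutator_mono (le_ncl Y X) le_rfl).trans (le_centMod_iff.1 inf_le_right).2))
    have u2 : X ≤ 𝐍[U] := le_normalizer_inf (x2.le.trans nV)
      (le_normalizer_centMod (le_normalizer_ncl Y X) (x2.le.trans nZ))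
    have u3 : R ≤ 𝐂[U] := rc.trans (centralizer_anti (u1.trans v1))
    have p1 : R ⊔ X < H := lt_of_le_of_ne (sup_le kle (x2.le.trans hLH)) fun e => u0 (le_inf inf_le_left
      (le_centralizer_iff.1 (hLH.trans (kn.ge.trans (ncl_le u3 (le_normalizer_centralizer
        (e.ge.trans (sup_le (le_normalizer_of_le_centralizer u3) u2))))))))
    have p2 := kmin _ le_sup_left p1
    have p3 : pCoreOf p (R ⊔ X) ≤ 𝐍[Y] := (w.pCoreOf_le le_sup_left).trans nRY
    have p4 : ∀ x ∈ R ⊔ X, cj Y x ≤ 𝐂[Y] := fun x hx => commute_of_asym hasym (p2.trans (by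
        rw [← cj_normalizer, ← cj_eq_of_mem_normalizer (le_normalizer_pCoreOf p _ hx)]
        exact cj_mono p3 x))
      ((cj_le_of_mem_normalizer p2 (le_normalizer_pCoreOf p _ hx)).trans p3)
    have p5 : ncl Y (R ⊔ X) ≤ 𝐂[Y] := ncl_le_iff.2 p4
    have p6 : ncl Y X ≤ 𝐂[Y] := (ncl_mono le_rfl le_sup_right).trans p5
    have q1 : X ≤ 𝐍[⁅D, Y⁆] := le_normalizer_iff_cj_le.2 fun x hx => le_trans (le_inf
      (cj_le_of_mem_normalizer (le_sup_left.trans s1.le) (nV (x2.le hx)))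
      ((cj_mono v1 x).trans (p4 x (mem_sup_right hx)))) s2.le
    have c3 : D ⊓ 𝐂[Y] = ⁅D, Y⁆ ⊔ (D ⊓ 𝐂[L]) := le_antisymm c1 (sup_le (le_inf v0 (v1.trans yc))
      (inf_le_inf_left _ (centralizer_anti hYL)))
    have q2 : X ≤ 𝐍[D ⊓ 𝐂[Y]] := c3 ▸ le_normalizer_sup q1 (le_normalizer_of_le_centralizer
      (le_centralizer_iff.1 (inf_le_right.trans (centralizer_anti x2.le))))
    have rY0 : R ≤ 𝐍[Y] := le_normalizer_of_le_centralizer rc
    have q3 : R ≤ 𝐍[D ⊓ 𝐂[Y]] := le_normalizer_inf (kle.trans nD) (le_normalizer_centralizer rY0)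
    have q4 : R ⊔ X ≤ 𝐍[D ⊓ 𝐂[Y]] := sup_le q3 q2
    have nV1 : R ⊔ X ≤ 𝐍[⁅D, Y⁆] := sup_le (le_normalizer_commutator (kle.trans nD) rY0) q1
    have q5 : ∀ x ∈ R ⊔ X, ⁅cj Y x, R⁆ ≤ D ⊓ 𝐂[Y] := fun x hx => by
      have a1 : cj Y x ≤ ncl Y (R ⊔ X) := cj_le_ncl hx
      refine le_inf (le_trans (le_inf (commutator_le_of_le ((cj_le_of_mem (x1.trans le_sup_right) hx).trans
        p1.le) kle) (le_centralizer_iff_commutator.2 (three_subgroups_bot ?_ ?_))) hc)
        (((commutator_mono a1 le_sup_left).trans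
          (commutator_le_left_of_le_normalizer (le_normalizer_ncl _ _))).trans p5)
      · refine le_centralizer_iff_commutator.1 (le_trans (le_inf (commutator_le_right_of_le_normalizer
          (kle.trans nD)) ((commutator_le_left_of_le_normalizer dR).trans rc)) ?_)
        rw [← cj_centralizer, ← cj_eq_of_mem_normalizer (q4 hx)]; exact cj_mono inf_le_right x
      · refine le_centralizer_iff_commutator.1 ?_
        change ⁅D, _⁆ ≤ _
        rw [← cj_eq_of_mem_normalizer (nD (p1.le hx)), ← cj_commutator, cj_eq_of_mem_normalizer (nV1 hx)]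
        exact v1.trans (le_centralizer_iff.1 rc)
    have r1 : ncl R (R ⊔ X) ≤ R ⊔ X := ncl_le_self le_sup_left
    have q6 : ⁅Y, ncl R (R ⊔ X)⁆ ≤ D ⊓ 𝐂[Y] :=
      commutator_iSup_right_le (fun x => (cj_le_ncl x.2).trans (r1.trans q4)) fun x => by
        have := cj_mono (q5 _ (inv_mem x.2)) x
        rwa [cj_commutator, cj_inv_cj, cj_eq_of_mem_normalizer (q4 x.2)] at this
    have q7 : ncl R (R ⊔ X) ≤ 𝐂[⁅D, Y⁆] :=
      ncl_le (rc.trans (centralizer_anti v1)) (le_normalizer_centralizer nV1)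
    have q8 : ⁅D ⊓ 𝐂[Y], ncl X (R ⊔ X)⁆ ≤ ⁅D, Y⁆ := le_centMod_of_ncl le_sup_right q4 nV1 (by
      rw [c3]
      refine commutator_sup_left_le le_normalizer (inf_le_left.trans (left_le_normalizer_commutator _ _))
        (commutator_le_left_of_le_normalizer q1) ?_
      rw [le_centralizer_iff_commutator.1 (inf_le_right.trans (centralizer_anti x2.le))]; exact bot_le)
    have e2 := pResidualOf_idem p (ncl R (R ⊔ X))
    have e3 := pResidualOf_le p (ncl R (R ⊔ X))
    have e4 : pResidualOf p (ncl R (R ⊔ X)) ≤ ncl X (R ⊔ X) := le_of_le_sup_of_pResidual e2 w.pgrp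
      (le_sup_left.trans (le_normalizer_ncl _ _)) (e3.trans (r1.trans (sup_le_sup_left (le_ncl _ _) _)))
    have e5 : pResidualOf p (ncl R (R ⊔ X)) ≤ 𝐂[Y] := le_centralizer_of_stabilizes e2 dp.to_inf_left
      ((commutator_mono le_rfl e3).trans q6) (le_centralizer_of_stabilizes e2 (dp.to_le v0)
        ((commutator_mono le_rfl e4).trans q8) (e3.trans q7))
    have e6 : ncl R (R ⊔ X) ≤ 𝐂[Y] :=
      (sup_pResidualOf_of_ncl (p := p) (le_ncl R _) (w.ncl_ncl le_sup_left).ge).ge.trans (sup_le rc e5)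
    intro x hx
    refine cj_eq_self_iff.1 (eq_of_le_of_card_le ?_ (card_cj Y x).le).symm
    conv_rhs => rw [yE, cj_omegaOneCenter]
    refine le_omegaOneCenter (yE ▸ isEA_omegaOneCenter p R) ?_
      (le_centralizer_iff.1 ((cj_le_ncl (mem_sup_right hx)).trans e6))
    rw [le_cj_iff]
    exact le_sup_right.trans (sC.le_of_le (isPGroup_sup_of_le_normalizer_left w.pgrp (IsPGroup.cj yp _)
      (((cj_le_of_mem_normalizer p2 (le_normalizer_pCoreOf p _ (mem_sup_right (inv_mem hx))))).trans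
        (w.pCoreOf_le le_sup_left))) le_sup_left (sup_le rc (p4 _ (mem_sup_right (inv_mem hx)))))
  have lt : L ⊓ 𝐍[Y] < L := lt_of_le_of_ne inf_le_left fun e =>
    hYO (le_pCoreOf hYL yp (e.ge.trans inf_le_right))
  have mo : MinOver Y (L ⊓ 𝐍[Y]) L := ⟨le_inf hYL le_normalizer, lt, le_antisymm (ncl_le_self hYL) LY,
    fun X x1 x2 => le_inf x2.le (main X x1 x2)⟩
  have gen2 : ∀ h ∈ L, h ∉ 𝐍[Y] → cj Y h ⊔ R = H := fun h h1 h2 =>
    gen _ ((mo.sup_cj h1 fun e => h2 e.2).ge.trans (sup_le (yR.trans le_sup_right) le_sup_left)) le_sup_right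
      (sup_le ((cj_le_of_mem hYL h1).trans hLH) kle)
  refine ⟨⟨LR, gen2⟩, ⟨(isMinimalOver_subgroupOf_iff hYL).2 ⟨_, mo⟩, charP_iff.1 (charP_of_forall
    fun E e1 e2 e3 _ => hc.eq_bot_of_le_centralizer e1 (e2.trans hLH) (le_centralizer_of_stabilizes e1
      (isPGroup_pCoreOf p L) ((commutator_mono le_rfl e2).trans vO) e3)), lt, mo.max⟩,
    fun V W v1' v2' v3' v4' v5' v6' e => v6' ?_, ncl_le_iff.2 fun l hl => cj_le_of_mem_normalizer
      (hc.le_pCoreOf_of_chief (inf_le_right.trans (hYL.trans hLH)) fun V W v1' v2' v3' v4' v5' => ?_)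
      (nD (hLH hl))⟩
  · have a1 : ⁅V, ncl (pResidualOf p L) H⁆ ≤ W :=
      le_centMod_of_ncl ((pResidualOf_le p L).trans hLH) v2' v3' e
    have cV := commutator_le_left_of_le_normalizer v2'
    have nW : V ≤ 𝐍[W] := (v1'.trans dH).trans v3'
    rcases v5' (W ⊔ ⁅V, H⁆) (le_normalizer_sup v3' (right_le_normalizer_commutator _ _)) le_sup_left
      (sup_le v4'.le cV) with b | b
    · exact le_sup_right.trans b.le
    · exfalso
      have cR : ⁅V, R⁆ ≤ V := commutator_le_left_of_le_normalizer (kle.trans v2')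
      refine v4'.not_ge (le_of_le_sup_commutator' (dp.to_le v1') w.pgrp (kle.trans v2') (kle.trans v3') nW
        (b.ge.trans (sup_le le_sup_left ?_)))
      have : H ≤ pResidualOf p L ⊔ R := LR.ge.trans (sup_le (rY.ge.trans (sup_le (yR.trans le_sup_right)
        le_sup_left)) le_sup_right)
      exact (commutator_mono le_rfl this).trans (commutator_sup_right_le
        (le_normalizer_of_commutator_le (sup_le v4'.le cR) (e.trans le_sup_left))
        (le_normalizer_of_commutator_le (sup_le v4'.le cR) le_sup_right) (e.trans le_sup_left) le_sup_right)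
  · have hN : h ∉ 𝐍[Y] := fun e => hh (by rw [cj_eq_of_mem_normalizer e, sup_idem]; exact yp)
    have g2 := gen2 h hL hN
    have bH : pCoreOf p L ⊓ Y ≤ H := inf_le_right.trans (hYL.trans hLH)
    by_cases hcen : ⁅V, H⁆ ≤ W
    · exact (commutator_mono le_rfl bH).trans hcen
    have vH : V ≤ H := v1'.trans dH
    have a1 : V ⊓ 𝐂[H] ≤ W := by
      have n : H ≤ 𝐍[V ⊓ 𝐂[H]] := le_normalizer_of_le_centralizer (le_centralizer_iff.1 inf_le_right)
      rcases v5' (W ⊔ (V ⊓ 𝐂[H])) (le_normalizer_sup v3' n) le_sup_left (sup_le v4'.le inf_le_left) with b | b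
      · exact le_sup_right.trans b.le
      · refine absurd ((commutator_mono b.ge le_rfl).trans (commutator_sup_left_le le_normalizer
          ((inf_le_left.trans vH).trans v3') (commutator_le_left_of_le_normalizer v3') ?_)) hcen
        rw [le_centralizer_iff_commutator.1 inf_le_right]; exact bot_le
    have cR : ⁅V, R⁆ ≤ V := commutator_le_left_of_le_normalizer (kle.trans v2')
    have cY : ⁅V, cj Y h⁆ ≤ V := commutator_le_left_of_le_normalizer ((yh.trans hLH).trans v2')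
    have u1 : W ⊔ (⁅V, R⁆ ⊔ ⁅V, cj Y h⁆) ≤ V := sup_le v4'.le (sup_le cR cY)
    have n1 := le_normalizer_of_commutator_le u1 (le_sup_right.trans le_sup_right)
    have n2 := le_normalizer_of_commutator_le u1 (le_sup_left.trans le_sup_right)
    have a2 : W ⊔ (⁅V, R⁆ ⊔ ⁅V, cj Y h⁆) = V := (v5' _ (g2.ge.trans (sup_le n1 n2)) le_sup_left u1).resolve_left
      fun b => hcen ((commutator_mono le_rfl g2.ge).trans ((commutator_sup_right_le n1 n2
        (le_sup_right.trans le_sup_right) (le_sup_left.trans le_sup_right)).trans b.le))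
    have oY : pCoreOf p L ≤ 𝐍[Y] := le_sup_right.trans (main _ le_sup_left (lt_of_le_of_ne
      (sup_le hYL (pCoreOf_le p L)) fun e => Lnp (e ▸ isPGroup_sup_of_le_normalizer_right yp
        (isPGroup_pCoreOf p L) (hYL.trans (le_normalizer_pCoreOf p L)))))
    have oY' : pCoreOf p L ≤ 𝐍[cj Y h] := by
      rw [← cj_normalizer, ← cj_eq_of_mem_normalizer (le_normalizer_pCoreOf p L hL)]; exact cj_mono oY h
    have nW : V ≤ 𝐍[W] := vH.trans v3'
    rw [← a2]
    refine commutator_sup_left_le le_normalizer ((sup_le cR cY).trans nW)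
      (commutator_le_left_of_le_normalizer (bH.trans v3')) (commutator_sup_left_le (cR.trans nW) (cY.trans nW)
        ?_ (le_trans (le_inf ?_ ?_) a1))
    · rw [le_centralizer_iff_commutator.1 ((((commutator_mono v1' le_rfl).trans
        (commutator_le_right_of_le_normalizer dR)).trans rc).trans (centralizer_anti inf_le_right))]
      exact bot_le
    · exact (commutator_mono cY bH).trans (commutator_le_left_of_le_normalizer v2')
    · rw [← g2]
      refine le_centralizer_sup (le_trans ?_ yc') (le_trans ?_ (le_centralizer_iff.1 rc))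
      · exact (commutator_mono ((commutator_mono v1' le_rfl).trans v2) inf_le_left).trans
          (commutator_le_left_of_le_normalizer oY')
      · exact (commutator_mono (cY.trans v1') inf_le_right).trans v1

end Cfsg.Agent.S2862
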