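import Cfsg.Statements.S2864
import Cfsg.Agent.H24.Base6

set_option autoImplicit false
open Cfsg

namespace Cfsg.Agent.S2864

/-- Standing hypotheses: G a finite group, S a Sylow p-subgroup, Q a nontrivial large p-subgroup of G contained in S, M a subgroup containing S with the basic property (M ∈ 𝔐_G(S)); Y_M the largest p-reduced normal subgroup of M and M† = M·C_G(Y_M). Let I be a nontrivial normal p-subgroup of M and Y ≤ O_p(M†); let L be a subgroup of G containing Y and A a normal p-subgroup of L with I ≤ A ≤ M. If [Y, A] ≤ [I, A], then Y ≤ O_p(L). -/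
theorem result {G : Type*} [Group G] [Finite G] {p : ℕ} [Fact p.Prime] (S : Sylow p G) (Q : Subgroup G) (hQp : IsPGroup p ↥Q) (hQ1 : Q ≠ ⊥) (hQS : Q ≤ (S : Subgroup G)) (hQ : Cfsg.IsLarge Q) (M : Subgroup G) (hSM : (S : Subgroup G) ≤ M) (hM : Cfsg.IsInFrakM p M) (I : Subgroup G) (hI1 : I ≠ ⊥) (hIp : IsPGroup p ↥I) (hIM : I ≤ M ∧ M ≤ Subgroup.normalizer ((I : Subgroup G) : Set G)) (Y : Subgroup G) (hY : Y ≤ (Cfsg.pCoreOf p (M ⊔ Subgroup.centralizer (((Cfsg.largestPReducedOf p M) : Subgroup G) : Set G)))) (L : Subgroup G) (hYL : Y ≤ L) (A : Subgroup G) (hAp : IsPGroup p ↥A) (hAL : A ≤ L ∧ L ≤ Subgroup.normalizer ((A : Subgroup G) : Set G)) (hIA : I ≤ A) (hAM : A ≤ M) (hc : ⁅Y, A⁆ ≤ ⁅I, A⁆) : Y ≤ (Cfsg.pCoreOf p L) := by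
  open Subgroup Cfsg.Agent.H24 in
  open scoped commutatorElement in
  open Cfsg.Agent.H10 (SubnormalIn OqOf) in
  open Cfsg.Agent.H9 (maxEA) in
  have h := fm_of (IsLarge.parabolicChar hQ hQp hQ1) (sylIn_top S) hSM hM
  have a1 : ⁅A, ncl Y L⁆ ≤ frattiniOf A := le_centMod_of_ncl hYL hAL.2 (le_normalizer_frattiniOf hAL.2)
    ((commutator_comm _ _).le.trans (hc.trans ((commutator_mono hIA le_rfl).trans
      (commutator_le_frattiniOf hAp))))
  have e1 := pResidualOf_le p (ncl Y L)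
  have a2 : pResidualOf p (ncl Y L) ≤ 𝐂[A] := le_centralizer_of_commutator_le_frattiniOf hAp
    (pResidualOf_idem p _) (e1.trans ((ncl_le_self hYL).trans hAL.2)) ((commutator_mono le_rfl e1).trans a1)
  have a3 : pResidualOf p (ncl Y L) ≤ M ⊔ 𝐂[Yp p M] := (a2.trans (centralizer_anti hIA)).trans
    ((centralizer_le_normalizer' I).trans (h.le_dag _ hIM.2 fun e => hI1
      (le_bot_iff.1 (e ▸ le_pCoreOf_normalizer hIp))))
  set E := pResidualOf p (ncl Y L)
  have a4 : IsPGroup p (ncl Y E) := (isPGroup_pCoreOf p _).to_le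
    (ncl_le hY (a3.trans (le_normalizer_pCoreOf p _)))
  have a5 : SubnormalIn (ncl Y E) L := by
    refine SubnormalIn.step (B := E ⊔ Y) (ncl_le le_sup_right (le_normalizer_of_le le_sup_left))
      (sup_le (le_normalizer_ncl Y E) (le_normalizer_of_le (le_ncl Y E)))
      ((subnormalIn_of_pResidualOf_le le_sup_left (sup_le e1 (le_ncl Y L))).trans
        (.of_normal (ncl_le_self hYL) (le_normalizer_ncl Y L)))
  exact (le_ncl Y E).trans (SubnormalIn.le_pCoreOf a5 a4)

end Cfsg.Agent.S2864
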