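import Cfsg.Statements.S2872
import Cfsg.Agent.H24.Misc1

set_option autoImplicit false
open Cfsg

namespace Cfsg.Agent.S2872

/-- Let S be a Sylow 2-subgroup of the finite group G. Then G has a proper normal subgroup of 2-power index (O²(G) ≠ G), or Ω₁(Z(S)) is contained in the Frattini subgroup of S, or N_G(S) acts nontrivially on Ω₁(Z(S)) by conjugation. -/
theorem result {G : Type*} [Group G] [Finite G] (S : Sylow 2 G) : Cfsg.pResidual 2 G ≠ ⊤ ∨ Cfsg.omegaOne 2 ((S : Subgroup G) ⊓ Subgroup.centralizer ((S : Subgroup G) : Set G)) ≤ (frattini ↥(S : Subgroup G)).map (S : Subgroup G).subtype ∨ ∃ g ∈ Subgroup.normalizer ((S : Subgroup G) : Set G), ∃ z ∈ Cfsg.omegaOne 2 ((S : Subgroup G) ⊓ Subgroup.centralizer ((S : Subgroup G) : Set G)), g * z * g⁻¹ ≠ z := by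
  open Subgroup Cfsg.Agent.H24 in
  open scoped commutatorElement in
  open Cfsg.Agent.H10 (SubnormalIn OqOf) in
  open Cfsg.Agent.H9 (maxEA) in
  by_contra hc
  push Not at hc
  obtain ⟨h1, h2, h3⟩ := hc
  rw [map_frattini_subtype, ← omegaOneCenter_def] at h2
  rw [← omegaOneCenter_def] at h3
  refine h2 (le_frattiniOf (omegaOneCenter_le _ _) fun M hM z hz => ?_)
  obtain ⟨hz1, hz2, hz3⟩ := mem_omegaOneCenter.mp hz
  obtain ⟨g, hg1, hg2⟩ := thompson_transfer_extremal (sylIn_top S) hM.le (relIndex_eq_of_covBy S.2 hM) (u := z) (by rw [← sq, hz3]) (fun K hK => by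
    have := normal_of_index_eq_two hK
    exact (h1.ge.trans (H3.pResidual_le_of_isPGroup_quotient (IsPGroup.of_card (n := 1) (by rw [← index_eq_card, hK, pow_one])))) trivial) S.2 (fun y hy => mem_centralizer_singleton_iff.mpr (hz2 y hy))
  rwa [h3 g (mem_normalizer_of_cj_le hg2) z hz] at hg1

end Cfsg.Agent.S2872
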