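import Cfsg.Statements.S2873
import Cfsg.Agent.H21.Base5
import Cfsg.Agent.H1.Cores

set_option autoImplicit false
open Cfsg

namespace Cfsg.Agent.S2873

open Subgroup Cfsg.Agent.H20 Cfsg.Agent.H21

theorem dih_two {r : ℕ} (hr : Odd r) {u : DihedralGroup r} (h1 : u ≠ 1) (h2 : u * u = 1) :
    ∃ i, u = DihedralGroup.sr i := by
  rcases u with i | i
  · exfalso
    apply h1
    rw [DihedralGroup.r_mul_r, DihedralGroup.one_def, DihedralGroup.r.injEq] at h2
    have h3 : (2 : ZMod r) * i = 0 := by rw [two_mul]; exact h2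
    have hu : IsUnit (2 : ZMod r) := by
      have := (ZMod.unitOfCoprime 2 (Nat.coprime_two_left.mpr hr)).isUnit
      simpa using this
    rw [hu.mul_right_eq_zero.mp h3]; rfl
  · exact ⟨i, rfl⟩

theorem dih_r {r : ℕ} (hr : Odd r) {v : DihedralGroup r} (h : v ^ r = 1) :
    ∃ i, v = DihedralGroup.r i := by
  rcases v with i | i
  · exact ⟨i, rfl⟩
  · exfalso
    have := orderOf_dvd_of_pow_eq_one h
    rw [DihedralGroup.orderOf_sr] at this
    exact (Nat.not_even_iff_odd.mpr hr) (even_iff_two_dvd.mpr this)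

theorem dih_conj {r : ℕ} (hr : Odd r) (i j : ZMod r) :
    ∃ g : DihedralGroup r, g * DihedralGroup.sr i * g⁻¹ = DihedralGroup.sr j := by
  have hu : IsUnit (2 : ZMod r) := by
    have := (ZMod.unitOfCoprime 2 (Nat.coprime_two_left.mpr hr)).isUnit
    simpa using this
  obtain ⟨w, hw⟩ := hu.exists_right_inv
  refine ⟨DihedralGroup.r (w * (i - j)), ?_⟩
  simp only [DihedralGroup.r_mul_sr, DihedralGroup.inv_r, DihedralGroup.sr_mul_r,
    DihedralGroup.sr.injEq]
  linear_combination (j - i) * hw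

/-- Let G be a finite group and r an odd prime such that G ⧸ O₂(G) is dihedral of order 2r, and let R be a Sylow r-subgroup of G with C_{O₂(G)}(R) = 1. Then N_G(R) is dihedral of order 2r; for any involution a of N_G(R), every involution of G outside O₂(G) is conjugate to a; and |C_{O₂(G)}(a)|² = |O₂(G)|. -/
theorem result {G : Type*} [Group G] [Finite G] {r : ℕ} [Fact r.Prime] (hr : r ≠ 2) [hN : (Cfsg.pCore 2 G).Normal] (hquot : Nonempty (G ⧸ Cfsg.pCore 2 G ≃* DihedralGroup r)) (R : Sylow r G) (hC : Cfsg.pCore 2 G ⊓ Subgroup.centralizer ((R : Subgroup G) : Set G) = ⊥) : Nonempty (↥(Subgroup.normalizer ((R : Subgroup G) : Set G)) ≃* DihedralGroup r) ∧ ∀ a : G, a ∈ Subgroup.normalizer ((R : Subgroup G) : Set G) → orderOf a = 2 → (∀ b : G, orderOf b = 2 → b ∉ Cfsg.pCore 2 G → ∃ g : G, g * a * g⁻¹ = b) ∧ Nat.card ↥(Cfsg.pCore 2 G ⊓ Subgroup.centralizer ({a} : Set G)) ^ 2 = Nat.card ↥(Cfsg.pCore 2 G) := by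
  classical
  have hp : r.Prime := Fact.out
  haveI : Fact (Nat.Prime 2) := ⟨Nat.prime_two⟩
  have hodd : Odd r := hp.odd_of_ne_two hr
  obtain ⟨e⟩ := hquot
  set Q := Cfsg.pCore 2 G with hQ
  have hQ2 : IsPGroup 2 Q := H1.isPGroup_pCore 2 G
  let φ : G →* DihedralGroup r := e.toMonoidHom.comp (QuotientGroup.mk' Q)
  have hφs : Function.Surjective φ := e.surjective.comp (QuotientGroup.mk'_surjective Q)
  have hφk : ∀ x, φ x = 1 ↔ x ∈ Q := fun x => by
    show e (QuotientGroup.mk x) = 1 ↔ _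
    rw [map_eq_one_iff _ e.injective, QuotientGroup.eq_one_iff]
  have hker : φ.ker = Q := by ext x; exact hφk x
  have hRQ : (R : Subgroup G) ⊓ Q = ⊥ :=
    inf_eq_bot_coprime (coprime_of_isPGroup_ne R.isPGroup' hQ2 hr)
  have hcardG : Nat.card G = ♯Q * (2 * r) := by
    rw [← Q.card_mul_index, index_eq_card, Nat.card_congr e.toEquiv, DihedralGroup.nat_card]
  obtain ⟨k, hk⟩ := hQ2.exists_card_eq
  have hR : ♯(R : Subgroup G) = r := by
    rw [R.card_eq_multiplicity, hcardG, hk, ← mul_assoc, ← pow_succ,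
      Nat.factorization_mul (by positivity) hp.ne_zero, Finsupp.add_apply, hp.factorization_self,
      Nat.factorization_eq_zero_of_not_dvd]
    · simp
    · intro h
      exact hr ((Nat.prime_dvd_prime_iff_eq hp Nat.prime_two).mp (hp.dvd_of_dvd_pow h))
  have hRs : SylowOf r (R : Subgroup G) ⊤ := sylowOf_top R
  -- elements of order r
  have hord : ∀ y : G, orderOf y = r → ∃ g, cj g (R : Subgroup G) = zpowers y := by
    intro y hy
    have : SylowOf r (zpowers y) ⊤ := Hall.of_card hRs le_top (by rw [Nat.card_zpowers, hy, hR])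
    obtain ⟨g, -, hg⟩ := Hall.exists_cj_eq hRs this
    exact ⟨g, hg⟩
  have hfpf : ∀ x : G, r ∣ orderOf x → ∀ q ∈ Q, q * x = x * q → q = 1 := by
    intro x hx q hq hc
    have hy : orderOf (x ^ (orderOf x / r)) = r := orderOf_pow_orderOf_div (orderOf_pos x).ne' hx
    obtain ⟨g, hg⟩ := hord _ hy
    have h1 : q ∈ C⟦cj g (R : Subgroup G)⟧ := by
      rw [hg, cent_zpowers, mem_cent1]
      exact (Commute.pow_right hc _).eq
    rw [← cj_cent, mem_cj] at h1
    have h2 : g⁻¹ * q * g ∈ Q ⊓ C⟦(R : Subgroup G)⟧ :=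
      mem_inf.mpr ⟨by simpa using hN.conj_mem q hq g⁻¹, h1⟩
    rw [hC, mem_bot] at h2
    calc q = g * (g⁻¹ * q * g) * g⁻¹ := by group
      _ = 1 := by rw [h2]; simp
  have hNQ : N⟦(R : Subgroup G)⟧ ⊓ Q = ⊥ := by
    rw [eq_bot_iff, ← hC]
    refine le_inf inf_le_right ?_
    refine cent_symm (cent_of_disjoint ?_ inf_le_left ?_)
    · exact norm_inf (norm_of_le (le_norm_self _)) (by rw [normalizer_eq_top]; exact le_top)
    · rw [eq_bot_iff, ← hRQ]; exact inf_le_inf_left _ inf_le_right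
  have hsurj : N⟦(R : Subgroup G)⟧ ⊔ Q = ⊤ := by
    have h1 : ♯((R : Subgroup G).map φ) = r := by
      refine Eq.trans ?_ hR
      have : ((φ.domRestrict (R : Subgroup G))).range = (R : Subgroup G).map φ := by
        ext y; simp
      rw [← this]
      refine (Nat.card_congr (MonoidHom.ofInjective ?_).toEquiv).symm
      rw [injective_iff_map_eq_one]
      intro a ha
      have : (a : G) ∈ (R : Subgroup G) ⊓ Q := mem_inf.mpr ⟨a.2, (hφk _).mp ha⟩
      rw [hRQ, mem_bot] at this
      exact Subtype.ext this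
    have h2 : ((R : Subgroup G).map φ).index = 2 := by
      have := ((R : Subgroup G).map φ).card_mul_index
      rw [h1, DihedralGroup.nat_card, mul_comm 2] at this
      exact Nat.eq_of_mul_eq_mul_left hp.pos this
    haveI := normal_of_index_eq_two h2
    have h3 := R.normalizer_sup_eq_top' (N := ((R : Subgroup G).map φ).comap φ) (le_comap_map _ _)
    rw [comap_map_eq, hker, ← sup_assoc] at h3
    rw [← h3]
    congr 1
    exact (sup_eq_left.mpr le_normalizer).symm
  let ψ : N⟦(R : Subgroup G)⟧ →* DihedralGroup r := φ.domRestrict _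
  have hψ : Function.Bijective ψ := by
    constructor
    · rw [injective_iff_map_eq_one]
      intro a ha
      have : (a : G) ∈ N⟦(R : Subgroup G)⟧ ⊓ Q := mem_inf.mpr ⟨a.2, (hφk _).mp ha⟩
      rw [hNQ, mem_bot] at this
      exact Subtype.ext this
    · intro d
      obtain ⟨g, rfl⟩ := hφs d
      have hg : g ∈ N⟦(R : Subgroup G)⟧ ⊔ Q := hsurj ▸ mem_top g
      obtain ⟨n, hn, q, hq, rfl⟩ := (mem_sup_of_norm (B := Q) (by rw [normalizer_eq_top Q]; exact le_top)).mp hg
      refine ⟨⟨n, hn⟩, ?_⟩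
      rw [map_mul, (hφk q).mpr hq, mul_one]; rfl
  refine ⟨⟨MulEquiv.ofBijective ψ hψ⟩, fun a ha ha2 => ?_⟩
  obtain ⟨ρ, hρR, hρ⟩ := exists_prime_order_mem hp (hR.symm.dvd : r ∣ ♯(R : Subgroup G))
  have hρ1 : φ ρ ≠ 1 := fun h => by
    have : ρ ∈ (R : Subgroup G) ⊓ Q := mem_inf.mpr ⟨hρR, (hφk _).mp h⟩
    rw [hRQ, mem_bot] at this
    rw [this, orderOf_one] at hρ
    exact hp.one_lt.ne hρ
  obtain ⟨j, hj⟩ := dih_r hodd (v := φ ρ) (by rw [← map_pow, orderOf_dvd_iff_pow_eq_one.mp hρ.dvd, map_one])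
  have hsq : ∀ b : G, orderOf b = 2 → b * b = 1 := fun b hb => by
    rw [← sq, ← hb, pow_orderOf_eq_one]
  have hne1 : ∀ b : G, orderOf b = 2 → b ≠ 1 := fun b hb h => by
    rw [h, orderOf_one] at hb; omega
  have hinv : ∀ b : G, orderOf b = 2 → b⁻¹ = b := fun b hb => inv_eq_of_mul_eq_one_right (hsq b hb)
  have hsr : ∀ b : G, orderOf b = 2 → b ∉ Q → ∃ i, φ b = DihedralGroup.sr i := fun b hb hbQ =>
    dih_two hodd (fun h => hbQ ((hφk _).mp h)) (by rw [← map_mul, hsq b hb, map_one])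
  have haQ : ∀ b ∈ N⟦(R : Subgroup G)⟧, orderOf b = 2 → b ∉ Q := fun b hb hb2 h => by
    have : b ∈ N⟦(R : Subgroup G)⟧ ⊓ Q := mem_inf.mpr ⟨hb, h⟩
    rw [hNQ, mem_bot] at this
    exact hne1 b hb2 this
  -- anything mapping onto a nontrivial rotation has order divisible by r
  have hdvd : ∀ (x : G) (i : ZMod r), φ x = DihedralGroup.sr i * (φ ρ * DihedralGroup.sr i * (φ ρ)⁻¹) →
      r ∣ orderOf x := by
    intro x i hx
    rw [hj] at hx
    simp only [DihedralGroup.r_mul_sr, DihedralGroup.inv_r, DihedralGroup.sr_mul_r,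
      DihedralGroup.sr_mul_sr] at hx
    have h1 : orderOf (φ x) = r := by
      apply orderOf_eq_prime
      · rw [hx, DihedralGroup.r_pow]; simp
      · rw [hx, DihedralGroup.one_def, Ne, DihedralGroup.r.injEq]
        intro h
        apply hρ1
        have hu : IsUnit (2 : ZMod r) := by
          have := (ZMod.unitOfCoprime 2 (Nat.coprime_two_left.mpr hodd)).isUnit
          simpa using this
        have h3 : (2 : ZMod r) * j = 0 := by linear_combination -h
        rw [hj, hu.mul_right_eq_zero.mp h3]; rfl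
    rw [← h1]
    exact orderOf_map_dvd φ x
  obtain ⟨ia, hia⟩ := hsr a ha2 (haQ a ha ha2)
  refine ⟨fun b hb hbQ => ?_, ?_⟩
  · obtain ⟨ib, hib⟩ := hsr b hb hbQ
    have hx := hdvd (b * (ρ * b * ρ⁻¹)) ib (by simp only [map_mul, map_inv, hib])
    set x := b * (ρ * b * ρ⁻¹) with hxd
    have hy : orderOf (x ^ (orderOf x / r)) = r := orderOf_pow_orderOf_div (orderOf_pos x).ne' hx
    obtain ⟨g, hg⟩ := hord _ hy
    have hbx : b * x * b⁻¹ = x⁻¹ := by
      rw [hxd, mul_inv_rev, mul_inv_rev, mul_inv_rev, inv_inv, hinv b hb, ← mul_assoc b b,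
        hsq b hb]
      group
    have hbn : b ∈ N⟦cj g (R : Subgroup G)⟧ := by
      rw [hg, mem_norm_iff_cj, cj_zpowers, ← conj_pow, hbx, inv_pow, zpowers_inv]
    rw [← cj_norm, mem_cj] at hbn
    have hb' : orderOf (g⁻¹ * b * g) = 2 := by
      rw [← hb]
      simpa using (MulAut.conj g⁻¹).orderOf_eq b
    obtain ⟨ic, hic⟩ := hsr _ hb' (haQ _ hbn hb')
    obtain ⟨d, hd⟩ := dih_conj hodd ia ic
    obtain ⟨n, rfl⟩ := hψ.2 d
    have : n * ⟨a, ha⟩ * n⁻¹ = ⟨g⁻¹ * b * g, hbn⟩ := by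
      apply hψ.1
      rw [map_mul, map_mul, map_inv]
      exact hia ▸ hic ▸ hd
    have h2 : (n : G) * a * (n : G)⁻¹ = g⁻¹ * b * g := congrArg Subtype.val this
    refine ⟨g * n, ?_⟩
    calc g * n * a * (g * n)⁻¹ = g * ((n : G) * a * (n : G)⁻¹) * g⁻¹ := by group
      _ = b := by rw [h2]; group
  · set a' := ρ * a * ρ⁻¹ with ha'
    have ha'2 : orderOf a' = 2 := by
      rw [← ha2]
      simpa using (MulAut.conj ρ).orderOf_eq a
    have hcj : cj ρ (Q ⊓ C₁⟦a⟧) = Q ⊓ C₁⟦a'⟧ := by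
      rw [cj_inf, cj_cent1, cj_eq_of_mem_norm (by rw [normalizer_eq_top]; trivial)]
    have hc : ♯(Q ⊓ C₁⟦a'⟧) = ♯(Q ⊓ C₁⟦a⟧) := by rw [← hcj, card_cj]
    apply le_antisymm
    · have h1 := card_mul_le (A := Q ⊓ C₁⟦a⟧) (B := Q ⊓ C₁⟦a'⟧) (H := Q) inf_le_left inf_le_left
      have h2 : (Q ⊓ C₁⟦a⟧) ⊓ (Q ⊓ C₁⟦a'⟧) = ⊥ := by
        rw [eq_bot_iff]
        intro q hq
        obtain ⟨⟨hq1, hq2⟩, -, hq3⟩ := hq
        have hq2' := mem_cent1.mp hq2
        have hq3' := mem_cent1.mp hq3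
        refine hfpf (a * a') (hdvd _ ia (by simp only [ha', map_mul, map_inv, hia])) q hq1 ?_
        rw [← mul_assoc q, hq2', mul_assoc a q, hq3', mul_assoc a a' q]
      rw [h2, card_bot, mul_one, hc] at h1
      rw [sq]; exact h1
    · -- the injection
      let A := (C₁⟦a⟧).subgroupOf Q
      let A' := (C₁⟦a'⟧).subgroupOf Q
      have hmem : ∀ q q' : Q, (q : G) * a * (q : G)⁻¹ * ((q' : G) * a' * (q' : G)⁻¹) * (a * a')⁻¹ ∈ Q := by
        intro q q'
        rw [← hφk]
        simp only [map_mul, map_inv, (hφk _).mpr q.2, (hφk _).mpr q'.2]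
        group
      let F : (Q ⧸ A) × (Q ⧸ A') → Q := fun t => ⟨_, hmem t.1.out t.2.out⟩
      have hF : Function.Injective F := by
        rintro ⟨s, s'⟩ ⟨t, t'⟩ h
        have h0 : (s.out : G) * a * (s.out : G)⁻¹ * ((s'.out : G) * a' * (s'.out : G)⁻¹) =
            (t.out : G) * a * (t.out : G)⁻¹ * ((t'.out : G) * a' * (t'.out : G)⁻¹) :=
          mul_right_cancel (congrArg Subtype.val h)
        have hs := s.out.2
        have hs' := s'.out.2
        have ht := t.out.2
        have ht' := t'.out.2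
        have key : ∀ u v : G, u * u = 1 → v * v = 1 → u * (u * v) * u⁻¹ = (u * v)⁻¹ := by
          intro u v hu hv
          rw [← mul_assoc, hu, one_mul, mul_inv_rev, inv_eq_of_mul_eq_one_right hv]
        have cs : ∀ u c : G, c * c = 1 → (u * c * u⁻¹) * (u * c * u⁻¹) = 1 := fun u c hc => by
          calc _ = u * (c * c) * u⁻¹ := by group
            _ = 1 := by rw [hc]; simp
        set b := (s.out : G) * a * (s.out : G)⁻¹ with hb
        set b' := (s'.out : G) * a' * (s'.out : G)⁻¹ with hb'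
        set d := (t.out : G) * a * (t.out : G)⁻¹ with hd
        set d' := (t'.out : G) * a' * (t'.out : G)⁻¹ with hd'
        have k1 := key b b' (cs _ _ (hsq a ha2)) (cs _ _ (hsq a' ha'2))
        have k2 := key d d' (cs _ _ (hsq a ha2)) (cs _ _ (hsq a' ha'2))
        rw [← h0] at k2
        have hbd : d⁻¹ * b = 1 := by
          refine hfpf (b * b') (hdvd _ ia ?_) _ ?_ ?_
          · simp only [hb, hb', ha', map_mul, map_inv, hia, (hφk _).mpr hs, (hφk _).mpr hs']
            group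
          · rw [← hφk]
            simp only [hb, hd, map_mul, map_inv, (hφk _).mpr hs, (hφk _).mpr ht]
            group
          · calc d⁻¹ * b * (b * b') = d⁻¹ * (b * (b * b') * b⁻¹) * b := by group
              _ = d⁻¹ * (d * (b * b') * d⁻¹) * b := by rw [k1, k2]
              _ = b * b' * (d⁻¹ * b) := by group
        have e1 : d = b := inv_mul_eq_one.mp hbd
        have e2 : d' = b' := by rw [e1] at h0; exact (mul_left_cancel h0).symm
        have f1 : s = t := by
          rw [← s.out_eq, ← t.out_eq]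
          apply QuotientGroup.eq.mpr
          rw [mem_subgroupOf, mem_cent1]
          simp only [coe_mul, coe_inv]
          calc (s.out : G)⁻¹ * t.out * a = (s.out : G)⁻¹ * d * t.out := by rw [hd]; group
            _ = _ := by rw [e1, hb]; group
        have f2 : s' = t' := by
          rw [← s'.out_eq, ← t'.out_eq]
          apply QuotientGroup.eq.mpr
          rw [mem_subgroupOf, mem_cent1]
          simp only [coe_mul, coe_inv]
          calc (s'.out : G)⁻¹ * t'.out * a' = (s'.out : G)⁻¹ * d' * t'.out := by rw [hd']; group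
            _ = _ := by rw [e2, hb']; group
        rw [f1, f2]
      have h1 := Nat.card_le_card_of_injective F hF
      rw [Nat.card_prod] at h1
      have h2 := card_inf_mul_relIndex (C₁⟦a⟧) Q
      have h3 := card_inf_mul_relIndex (C₁⟦a'⟧) Q
      rw [inf_comm] at h2 h3
      rw [hc] at h3
      change (C₁⟦a⟧).relIndex Q * (C₁⟦a'⟧).relIndex Q ≤ _ at h1
      have hpos := card_pos Q
      generalize ♯(Q ⊓ C₁⟦a⟧) = c at *
      generalize (C₁⟦a⟧).relIndex Q = m at *
      generalize (C₁⟦a'⟧).relIndex Q = m' at *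
      generalize ♯Q = n at *
      have h4 : n * n ≤ c ^ 2 * n := by
        calc n * n = c ^ 2 * (m * m') := by rw [← h2]; nth_rewrite 2 [h2]; rw [← h3]; ring
          _ ≤ _ := Nat.mul_le_mul_left _ h1
      exact Nat.le_of_mul_le_mul_right h4 hpos

end Cfsg.Agent.S2873
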