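import Cfsg.Statements.S2879
import Cfsg.Agent.H26.Q8C3
import Cfsg.Agent.H11.QD
import Cfsg.Agent.H11.Dih
import Cfsg.Agent.H21.Base5
import Cfsg.Agent.H1.Cores
import Cfsg.Agent.H3.PNil

set_option autoImplicit false
open Cfsg

namespace Cfsg.Agent.S2879

open Subgroup Cfsg.Agent.H20 Cfsg.Agent.H21 Cfsg.Agent.H11

theorem mc_sub {G : Type*} [Group G] {S U : Subgroup G} {n : ℕ} {e f : ZMod (2 ^ n)}
    {X Y : ZMod (2 ^ n) → G} (h : MC S n e f X Y) (hU : S ≤ U) :
    MC (S.subgroupOf U) n e f (fun a => ⟨X a, hU (h.X_mem a)⟩) (fun a => ⟨Y a, hU (h.Y_mem a)⟩) where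
  two_le := h.two_le
  he := h.he
  hf := h.hf
  XX a b := Subtype.ext (h.XX a b)
  YX a b := Subtype.ext (h.YX a b)
  XY a b := Subtype.ext (h.XY a b)
  YY a b := Subtype.ext (h.YY a b)
  X_inj := Subtype.ext_iff.trans h.X_inj
  Y_inj := Subtype.ext_iff.trans h.Y_inj
  X_ne_Y a b e := h.X_ne_Y a b (congrArg Subtype.val e)
  mem s := by
    rw [mem_subgroupOf, h.mem]
    simp only [Subtype.ext_iff]

theorem equiv_of_involves {G H : Type*} [Group G] [Group H] [Finite G] (h : Involves H G)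
    (hc : Nat.card G = Nat.card H) : Nonempty (G ≃* H) := by
  obtain ⟨K, R, _, ⟨e⟩⟩ := h
  have h1 := (R.subgroupOf K).card_mul_index
  rw [index_eq_card, Nat.card_congr e.toEquiv, ← hc] at h1
  have h2 : ♯K ≤ Nat.card G := Nat.le_of_dvd Nat.card_pos (card_dvd_card K)
  have h3 := card_pos (R.subgroupOf K)
  have h4 : 0 < Nat.card G := Nat.card_pos
  have h5 : ♯(R.subgroupOf K) = 1 := by nlinarith
  have h6 : K = ⊤ := eq_top_of_card_eq K (by rw [← h1, h5, one_mul])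
  exact ⟨(topEquiv.symm.trans (MulEquiv.subgroupCongr h6.symm)).trans
    (((QuotientGroup.quotientBot.symm).trans
      (QuotientGroup.quotientMulEquivOfEq (eq_bot_of_card h5).symm)).trans e)⟩

/-- Let G be a finite solvable group with O(G) = 1 whose Sylow 2-subgroup T is dihedral of order at least 8 or semidihedral, with G ≠ T and Z(T) normal in G. Then G has a normal subgroup isomorphic to SL₂(3). -/
theorem result {G : Type*} [Group G] [Finite G] (hsol : IsSolvable G) (hO : Cfsg.oddCore G = ⊥) (T : Sylow 2 G) (hT : (∃ n : ℕ, 4 ≤ n ∧ Nonempty (↥(T : Subgroup G) ≃* DihedralGroup n)) ∨ Cfsg.IsQuasiDihedral ↥(T : Subgroup G)) (hne : (T : Subgroup G) ≠ ⊤) (hZ : ((T : Subgroup G) ⊓ Subgroup.centralizer ((T : Subgroup G) : Set G)).Normal) : ∃ U : Subgroup G, U.Normal ∧ Nonempty (↥U ≃* Matrix.SpecialLinearGroup (Fin 2) (ZMod 3)) := by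
  classical
  haveI : Fact (Nat.Prime 2) := ⟨Nat.prime_two⟩
  set Q := Cfsg.pCore 2 G with hQd
  have hCQ : C⟦Q⟧ ≤ Q := H1.centralizer_pCore_le_of_isSolvable hsol hO
  have hQT : Q ≤ T := H1.pCore_le_sylow T
  have hQn : N⟦Q⟧ = ⊤ := normalizer_eq_top Q
  obtain ⟨g, hg1, hgo⟩ : ∃ g : G, g ≠ 1 ∧ Odd (orderOf g) := by
    obtain ⟨x, -, hx⟩ := SetLike.exists_of_lt (lt_top_iff_ne_top.mpr hne)
    by_contra hc
    push Not at hc
    have : IsPGroup 2 G := fun y => by
      obtain ⟨a, b, -, -, ⟨k, hk⟩, hb, rfl⟩ := H3.exists_p_part 2 y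
      by_cases h : b = 1
      · exact ⟨k, by rw [h, mul_one, hk]⟩
      · exact absurd (Nat.coprime_two_right.mp hb) (hc b h)
    exact hne (T.is_maximal' (this.to_subgroup ⊤) le_top).symm
  have hgC : g ∉ C⟦Q⟧ := fun h => by
    obtain ⟨k, hk⟩ := H1.isPGroup_pCore 2 G ⟨g, hCQ h⟩
    have h1 : orderOf g ∣ 2 ^ k := orderOf_dvd_of_pow_eq_one (congrArg Subtype.val hk)
    exact hg1 (orderOf_eq_one_iff.mp
      (Nat.eq_one_of_dvd_coprimes (Nat.Coprime.pow_right k (Nat.coprime_two_right.mpr hgo)) dvd_rfl h1))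
  have key : ∀ {n : ℕ} {e f : ZMod (2 ^ n)} {X Y : ZMod (2 ^ n) → G}, MC (T : Subgroup G) n e f X Y →
      ∃ k, f + e * k = hh n ∧ Q = closure ({X (qq n), Y k} : Set G) ∧
        ∃ a, g * X (qq n) * g⁻¹ = Y a := by
    intro n e f X Y h
    rcases h.odd_cent hQT (hQn ▸ mem_top g) hgo with h1 | ⟨k, -, -, a, ha⟩ | h1
    · exact absurd h1 hgC
    · exfalso
      have h2 : X (hh n) ∈ (T : Subgroup G) ⊓ C⟦(T : Subgroup G)⟧ :=
        mem_inf.mpr ⟨h.X_mem _, mem_cent.mpr fun s hs => h.z_comm hs⟩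
      have h3 := hZ.conj_mem _ h2 g
      rw [ha] at h3
      rcases (h.central_iff h3.1).mp (mem_cent.mp h3.2) with h4 | h4
      exacts [h.Y_ne_one _ h4, h.Y_ne_X _ _ h4]
    · exact h1
  rcases hT with ⟨m, hm, ⟨φ⟩⟩ | hT
  · exfalso
    rcases dihedral_cases T.isPGroup' (by omega) φ with h | ⟨n, X, Y, -, h⟩
    · have := h.card_four
      rw [Nat.card_congr φ.toEquiv, DihedralGroup.nat_card] at this
      omega
    · obtain ⟨k, hk, -⟩ := key h
      rw [zero_mul, add_zero] at hk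
      exact hh_ne h.one_le hk.symm
  obtain ⟨n, X, Y, h3, h⟩ := exists_MC_of_qd hT
  obtain ⟨k, hk, hQ, a, ha⟩ := key h
  have hidx : Q.index = 6 := by
    rcases h.eight_index h3 hk hQ with ⟨-, h1⟩ | ⟨h1, -⟩
    · exact absurd (ha ▸ h1 g (hQn ▸ mem_top g)) (h.Y_not_mem_zpowers _ _)
    · rwa [sup_eq_left.mpr hCQ, hQn, relIndex_top_right] at h1
  have hQ8 : ♯Q = 8 := by rw [hQ]; exact h.card_eight k
  have hG : Nat.card G = 48 := by rw [← Q.card_mul_index, hidx, hQ8]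
  have hg3 : orderOf g = 3 := by
    have h1 : orderOf g ∣ 2 ^ 4 * 3 := by
      have := orderOf_dvd_natCard g
      rwa [hG] at this
    have h2 := (Nat.Coprime.pow_right 4 (Nat.coprime_two_right.mpr hgo)).dvd_of_dvd_mul_left h1
    exact ((Nat.dvd_prime Nat.prime_three).mp h2).resolve_left fun h => hg1 (orderOf_eq_one_iff.mp h)
  have hU : ♯(Q ⊔ zpowers g) = 24 := by
    rw [card_sup_of_disjoint (Or.inr (hQn ▸ le_top)) (inf_eq_bot_coprime (by
      rw [hQ8, Nat.card_zpowers, hg3]; decide)), hQ8, Nat.card_zpowers, hg3]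
  have hUi : (Q ⊔ zpowers g).index = 2 := by
    have := (Q ⊔ zpowers g).card_mul_index
    rw [hU, hG] at this
    omega
  refine ⟨Q ⊔ zpowers g, normal_of_index_eq_two hUi, equiv_of_involves ?_ ?_⟩
  · have h8 := h.sub_eight hk
    rw [← hQ] at h8
    have h9 := mc_sub h8 (le_sup_left : Q ≤ Q ⊔ zpowers g)
    have hq : qq 2 = 1 := by decide
    let g' : ↥(Q ⊔ zpowers g) := ⟨g, mem_sup_right (mem_zpowers g)⟩
    have hn : g' ∈ N⟦Q.subgroupOf (Q ⊔ zpowers g)⟧ := by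
      rw [normalizer_eq_top]; trivial
    obtain ⟨b, hb⟩ := (h9.mem _).mp (conj_mem_of_norm hn (h9.X_mem 1))
    have h1 : (1 : ZMod (2 ^ 2)).val = 1 := rfl
    rcases hb with hb | hb
    · exfalso
      have hb' := congrArg Subtype.val hb
      simp only [coe_mul, coe_inv, g', h1, pow_one, ha] at hb'
      rw [h.X_pow] at hb'
      exact h.Y_ne_X _ _ hb'
    · refine H26.MC_involves_SL23 h9 (k := 0) (a := b) (g := g') (by simp)
        (by rw [← Subgroup.orderOf_coe]; exact hgo) ?_ (by rw [hq]; exact hb)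
      rw [hq, ← h9.eq_closure rfl]
      exact hn
  · rw [hU, Nat.card_eq_fintype_card]
    decide

end Cfsg.Agent.S2879
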