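import Cfsg.Statements.S2880
import Cfsg.Agent.H26.ES3
import Cfsg.Agent.H13.Two

set_option autoImplicit false
open Cfsg

namespace Cfsg.Agent.S2880

open Subgroup Module

/-- Let E be an extraspecial 2-group of order 2^(2m+1) of plus type, that is, containing an elementary abelian subgroup of order 2^(m+1) (equivalently, a central product of m dihedral groups of order 8). Then E has exactly 2^(2m) − 2^m elements of order 4. -/
theorem result {E : Type*} [Group E] [Finite E] (m : ℕ) (hm : 1 ≤ m) (hE : Cfsg.IsExtraspecial 2 E) (hcard : Nat.card E = 2 ^ (2 * m + 1)) (hplus : ∃ A : Subgroup E, Cfsg.IsElementaryAbelian 2 A ∧ Nat.card A = 2 ^ (m + 1)) : Nat.card {x : E // orderOf x = 4} = 2 ^ (2 * m) - 2 ^ m := by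
  classical
  haveI : Fact (Nat.Prime 2) := ⟨Nat.prime_two⟩
  obtain ⟨n, c, hc⟩ := H26.exists_ES_of_isExtraspecial hE
  have hn : finrank (ZMod 2) (Fin n → ZMod 2) = 2 * m := by
    have h1 := c.card_eq_pow
    rw [hcard] at h1
    have := Nat.pow_right_injective (le_refl 2) h1
    omega
  have hP : H13.IsPlus c.Q := (hc.isPlus_iff hn).mpr hplus
  have hQ : H13.ND c.Q := c.nd_Q_iff.mpr hc
  have h1 := hQ.nz_plus hP hm hn
  have h2 := c.card_sq_eq_one
  rw [h1, Nat.card_zmod] at h2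
  have h4 : ∀ x : E, orderOf x = 4 ↔ ¬ x ^ 2 = 1 := by
    intro x
    have hx4 : x ^ 4 = 1 := by
      rw [show (4 : ℕ) = 2 * 2 by norm_num, pow_mul, c.sq_eq x, c.ζ_pow_p]
    constructor
    · intro h h'
      have := orderOf_dvd_of_pow_eq_one h'
      rw [h] at this
      omega
    · intro h
      exact orderOf_eq_prime_pow (p := 2) (n := 1) (by simpa using h) (by simpa using hx4)
  have h5 : Nat.card {x : E // orderOf x = 4} + Nat.card {x : E // x ^ 2 = 1} = Nat.card E := by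
    rw [← Nat.card_sum]
    refine Nat.card_congr ?_
    refine (Equiv.sumCongr (Equiv.subtypeEquivRight h4) (Equiv.refl _)).trans ?_
    exact (Equiv.sumComm _ _).trans (Equiv.sumCompl (fun x : E => x ^ 2 = 1))
  obtain ⟨k, rfl⟩ : ∃ k, m = k + 1 := ⟨m - 1, by omega⟩
  rw [h2, hcard] at h5
  have e1 : 2 * (k + 1) - 1 = 2 * k + 1 := by omega
  rw [e1, Nat.add_sub_cancel] at h5
  have a1 : 2 ^ (2 * (k + 1) + 1) = 8 * 2 ^ (2 * k) := by ring
  have a2 : 2 ^ (2 * k + 1) = 2 * 2 ^ (2 * k) := by ring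
  have a3 : 2 ^ (k + 1) = 2 * 2 ^ k := by ring
  have a4 : 2 ^ (2 * (k + 1)) = 4 * 2 ^ (2 * k) := by ring
  rw [a1, a2, a3] at h5
  rw [a4, a3]
  omega

end Cfsg.Agent.S2880
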