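import Cfsg.Statements.S2881
import Cfsg.Agent.S2880

set_option autoImplicit false
open Cfsg

namespace Cfsg.Agent.S2881

open Subgroup

/-- Let E be an extraspecial 2-group of order 2^(2m+1) of plus type (containing an elementary abelian subgroup of order 2^(m+1)), and let ω be an automorphism of E of order 5 whose fixed points are exactly the centre of E. Then m is divisible by 4. -/
theorem result {E : Type*} [Group E] [Finite E] (m : ℕ) (hm : 1 ≤ m) (hE : Cfsg.IsExtraspecial 2 E) (hcard : Nat.card E = 2 ^ (2 * m + 1)) (hplus : ∃ A : Subgroup E, Cfsg.IsElementaryAbelian 2 A ∧ Nat.card A = 2 ^ (m + 1)) (ω : E ≃* E) (hω : orderOf ω = 5) (hfix : ∀ x : E, ω x = x ↔ x ∈ Subgroup.center E) : 4 ∣ m := by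
  classical
  haveI : Fact (Nat.Prime 5) := ⟨by norm_num⟩
  have hc := Cfsg.Agent.S2880.result m hm hE hcard hplus
  haveI : Fintype E := Fintype.ofFinite E
  let f : Function.End {x : E // orderOf x = 4} := fun x => ⟨ω x.1, by rw [MulEquiv.orderOf_eq]; exact x.2⟩
  have hfn : ∀ (k : ℕ) (x : {x : E // orderOf x = 4}), ((f ^ k) x).1 = ((show MulAut E from ω) ^ k) x.1 := by
    intro k
    induction k with
    | zero => intro x; rfl
    | succ k ih =>
      intro x
      rw [pow_succ, pow_succ, MulAut.mul_apply]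
      exact ih (f x)
  have hf : f ^ 5 ^ 1 = 1 := by
    funext x
    apply Subtype.ext
    rw [hfn, pow_one]
    have : (show MulAut E from ω) ^ 5 = 1 := by rw [← hω]; exact pow_orderOf_eq_one _
    rw [this]; rfl
  have h1 := Equiv.Perm.card_fixedPoints_modEq hf
  have h0 : Fintype.card (Function.fixedPoints f) = 0 := by
    rw [Fintype.card_eq_zero_iff]
    refine ⟨fun x => ?_⟩
    have hx : ω x.1.1 = x.1.1 := congrArg Subtype.val x.2
    have hz := (hfix _).mp hx
    have h2 : orderOf x.1.1 ∣ 2 := by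
      rw [← hE.2]
      exact (Subgroup.orderOf_coe (⟨x.1.1, hz⟩ : center E)) ▸ orderOf_dvd_natCard _
    rw [x.1.2] at h2
    omega
  rw [h0, ← Nat.card_eq_fintype_card, hc] at h1
  have h2 : 5 ∣ 2 ^ (2 * m) - 2 ^ m := Nat.modEq_zero_iff_dvd.mp h1
  have h3 : 2 ^ (2 * m) - 2 ^ m = 2 ^ m * (2 ^ m - 1) := by
    rw [Nat.mul_sub, mul_one, ← pow_add, two_mul]
  rw [h3] at h2
  have h4 : 5 ∣ 2 ^ m - 1 :=
    (Nat.Coprime.pow_right m (by norm_num : Nat.Coprime 5 2)).dvd_of_dvd_mul_left h2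
  have h5 : 2 ^ m % 5 = 1 := by
    have : 1 ≤ 2 ^ m := Nat.one_le_two_pow
    omega
  have h6 : 2 ^ m % 5 = 2 ^ (m % 4) % 5 := by
    conv_lhs => rw [← Nat.div_add_mod m 4, pow_add, pow_mul, Nat.mul_mod, Nat.pow_mod]
    simp
  rw [h5] at h6
  have : m % 4 < 4 := Nat.mod_lt _ (by norm_num)
  apply Nat.dvd_of_mod_eq_zero
  generalize m % 4 = k at h6 this ⊢
  interval_cases k <;> first | rfl | (norm_num at h6)

end Cfsg.Agent.S2881
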