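import Cfsg.Statements.S2912
import Mathlib
import Cfsg.Agent.H2.Hup2
import Cfsg.Agent.H9.EAMod

set_option autoImplicit false
open Cfsg

namespace Cfsg.Agent.S2912

open Subgroup Module H2 H2.Pm
open scoped commutatorElement

theorem irr_bound {E W : Type*} [Group E] [Finite E] {p r : ℕ} [hp : Fact p.Prime]
    [hr : Fact r.Prime] [AddCommGroup W] [Module (ZMod r) W] [Finite W] [Nontrivial W]
    [DistribMulAction E W] [SMulCommClass E (ZMod r) W] [FaithfulSMul E W]
    (hI : VIrr r (⊤ : Subgroup E) W) (hc : ∀ u t : E, ⁅u, t⁆ ∈ center E) {z : E}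
    (hz : z ∈ center E) (hzp : orderOf z = p) :
    ∃ m d, 1 ≤ m ∧ p ∣ r ^ m - 1 ∧ (center E).index ≤ d ^ 2 ∧ Nat.card W = r ^ (m * d) := by
  haveI : Finite (End (ZMod r) W) := Finite.of_injective _ DFunLike.coe_injective
  letI := hI.isField.toField
  have hm : ∀ c ∈ center E, vrep r W c ∈ vcen r W (⊤ : Subgroup E) := fun c h =>
    vrep_mem_vcen fun g _ => mem_center_iff.1 h g
  let ρ : E →* End (vcen r W (⊤ : Subgroup E)) W :=
    { toFun := fun g =>
        { toFun := fun v => g • v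
          map_add' := smul_add g
          map_smul' := fun c v => mem_vcen.1 c.2 g (mem_top g) v }
      map_one' := LinearMap.ext (one_smul E)
      map_mul' := fun a b => LinearMap.ext (mul_smul a b) }
  haveI : Module.Finite (vcen r W (⊤ : Subgroup E)) W := Module.Finite.of_finite
  have h1 := index_center_le (F := vcen r W (⊤ : Subgroup E))
    (algebraMap (vcen r W (⊤ : Subgroup E)) (End (vcen r W (⊤ : Subgroup E)) W)).range
    (by
      rintro _ ⟨a, rfl⟩ _ ⟨b, rfl⟩ h
      rw [← map_mul, map_eq_zero, mul_eq_zero] at h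
      exact h.imp (fun e => by rw [e, map_zero]) fun e => by rw [e, map_zero]) ρ
    (fun a b e => eq_of_smul_eq_smul fun v : W => LinearMap.congr_fun e v)
    (by rintro _ ⟨a, rfl⟩ u; exact (Algebra.commutes a _).symm)
    (fun u t => ⟨⟨_, hm _ (hc u t)⟩, rfl⟩) (fun c => ⟨c, rfl⟩)
  rw [finrank_linearMap, ← pow_two] at h1
  have h2 := Module.natCard_eq_pow_finrank (K := vcen r W (⊤ : Subgroup E)) (V := W)
  obtain ⟨m, -, hm'⟩ : ∃ m ≤ finrank (ZMod r) (End (ZMod r) W),
      Nat.card (vcen r W (⊤ : Subgroup E)) = r ^ m := by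
    have := (vcen r W (⊤ : Subgroup E)).toAddSubgroup.card_addSubgroup_dvd_card
    rw [Module.natCard_eq_pow_finrank (K := ZMod r) (V := End (ZMod r) W), Nat.card_zmod] at this
    exact (Nat.dvd_prime_pow hr.out).1 this
  refine ⟨m, _, Nat.pos_of_ne_zero fun h => ?_, ?_, h1, by rw [h2, hm', pow_mul]⟩
  · rw [h, pow_zero] at hm'
    exact Finite.one_lt_card.ne' hm'
  · letI := Fintype.ofFinite (vcen r W (⊤ : Subgroup E))
    have h3 : (⟨_, hm z hz⟩ : vcen r W (⊤ : Subgroup E)) ≠ 0 := fun e => by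
      obtain ⟨v, hv⟩ := exists_ne (0 : W)
      exact hv ((smul_eq_zero_iff_eq z).1 (LinearMap.congr_fun (congrArg Subtype.val e) v))
    have h4 := congrArg Subtype.val (FiniteField.pow_card_sub_one_eq_one _ h3)
    rw [← Nat.card_eq_fintype_card, hm'] at h4
    rw [← hzp, orderOf_dvd_iff_pow_eq_one]
    exact vrep_inj (p := r) (V := W) (by rw [map_pow, map_one]; exact h4)

theorem gen_bound {E V : Type*} [Group E] [Finite E] {p r : ℕ} [hp : Fact p.Prime]
    [hr : Fact r.Prime] (hpr : p ≠ r) [AddCommGroup V] [Module (ZMod r) V] [Finite V]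
    [DistribMulAction E V] [SMulCommClass E (ZMod r) V] [FaithfulSMul E V] (hE : IsPGroup p E)
    (hc : ∀ u t : E, ⁅u, t⁆ ∈ center E) (hZ : Nat.card (center E) = p) :
    ∃ m d, 1 ≤ m ∧ p ∣ r ^ m - 1 ∧ (center E).index ≤ d ^ 2 ∧ r ^ (m * d) ≤ Nat.card V := by
  obtain ⟨z, hz⟩ := exists_prime_orderOf_dvd_card' (G := center E) p (hZ ▸ dvd_rfl)
  have hz' : orderOf (z : E) = p := by rw [orderOf_coe, hz]
  have hz1 : (z : E) ≠ 1 := fun e => hp.out.one_lt.ne (by rw [← hz', e, orderOf_one])
  let U : Submodule (ZMod r) V := LinearMap.range (vrep r V (z : E) - 1)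
  have hU : Inv (⊤ : Subgroup E) U := by
    rintro a - _ ⟨v, rfl⟩
    refine ⟨a • v, ?_⟩
    change (z : E) • a • v - a • v = a • ((z : E) • v - v)
    rw [smul_sub, ← mul_smul, ← mul_smul, mem_center_iff.1 z.2 a]
  have hU0 : U ≠ ⊥ := fun e => hz1 (vrep_inj (p := r) (V := V) (by
    rw [map_one]; exact sub_eq_zero.1 (LinearMap.range_eq_bot.1 e)))
  have hf : ∀ v ∈ U, (z : E) • v = v → v = 0 := by
    rintro _ ⟨u, rfl⟩ h
    change (z : E) • ((z : E) • u - u) = (z : E) • u - u at h
    change (z : E) • u - u = 0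
    have k : ∀ k : ℕ, (z : E) ^ k • u = u + k • ((z : E) • u - u) := fun k => by
      induction k with
      | zero => simp
      | succ k ih => rw [pow_succ', mul_smul, ih, smul_add, smul_comm, h, succ_nsmul]; abel
    have h1 := k p
    rw [← hz', pow_orderOf_eq_one, one_smul, hz', left_eq_add, ← Nat.cast_smul_eq_nsmul (ZMod r),
      smul_eq_zero, ZMod.natCast_eq_zero_iff, Nat.prime_dvd_prime_iff_eq hr.out hp.out] at h1
    exact h1.resolve_left hpr.symm
  obtain ⟨W, hWU, hW0, hW, hmin⟩ := exists_min_inv hU0 hU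
  letI : DistribMulAction E W :=
    { smul := fun g v => ⟨g • v, hW g (mem_top g) v v.2⟩
      one_smul := fun v => Subtype.ext (one_smul E _)
      mul_smul := fun a b v => Subtype.ext (mul_smul a b _)
      smul_zero := fun a => Subtype.ext (smul_zero a)
      smul_add := fun a v w => Subtype.ext (smul_add a _ _) }
  haveI : SMulCommClass E (ZMod r) W := ⟨fun g c v => Subtype.ext (smul_comm g c (v : V))⟩
  haveI : Nontrivial W := Submodule.nontrivial_iff_ne_bot.2 hW0
  haveI : FaithfulSMul E W := by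
    have : (MulAction.toPermHom E W).ker = ⊥ := by
      by_contra h
      have := hE.isNilpotent
      obtain ⟨⟨c, hc1, hc2⟩, hc3⟩ := (ne_bot_iff_exists_ne_one).1 (inf_center_ne_bot _ h)
      have h1 : z ∈ zpowers (⟨c, hc2⟩ : center E) := by
        rw [zpowers_eq_top_of_prime_card hZ fun e =>
          hc3 (Subtype.ext (show c = 1 from congrArg Subtype.val e))]
        trivial
      obtain ⟨k, hk⟩ := h1
      have h2 : (z : E) ∈ (MulAction.toPermHom E W).ker := by
        rw [← hk]; exact (MulAction.toPermHom E W).ker.zpow_mem hc1 k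
      obtain ⟨v, hv⟩ := exists_ne (0 : W)
      exact hv (Subtype.ext (hf v (hWU v.2) (congrArg Subtype.val (Equiv.congr_fun h2 v))))
    rw [MonoidHom.ker_eq_bot_iff] at this
    exact ⟨fun h => this (Equiv.ext h)⟩
  obtain ⟨m, d, h1, h2, h3, h4⟩ := irr_bound (W := W) (r := r) (fun T hT => by
    rcases hmin (T.map W.subtype) (Submodule.map_subtype_le _ _) (by
      rintro a ha _ ⟨v, hv, rfl⟩
      exact ⟨a • v, hT a ha v hv, rfl⟩) with h | h
    · left
      refine eq_bot_iff.2 fun v hv => Subtype.ext ?_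
      exact (h.le ⟨v, hv, rfl⟩ : (v : V) ∈ (⊥ : Submodule (ZMod r) V))
    · right
      refine eq_top_iff.2 fun v _ => ?_
      obtain ⟨u, hu, e⟩ : (v : V) ∈ T.map W.subtype := h.symm ▸ v.2
      exact (Subtype.ext e : u = v) ▸ hu) hc z.2 hz'
  exact ⟨m, d, h1, h2, h3, h4 ▸ Nat.card_le_card_of_injective _ W.injective_subtype⟩

/-- Let p and r be distinct primes, let E be an extraspecial subgroup of order p^(2w+1) of a finite group, and let A be an elementary abelian r-subgroup normalized by E on which E acts faithfully (C_E(A) = 1). If n ≥ 1 is least with p dividing rⁿ − 1 (the smallest dimension of a faithful representation of a group of order p over the field with r elements), then the order of A is at least r^(n·p^w). -/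
theorem result {G : Type*} [Group G] [Finite G] {p r : ℕ} [Fact p.Prime] [hr : Fact r.Prime] (hpr : p ≠ r) (E A : Subgroup G) (w : ℕ) (hE : Cfsg.IsExtraspecial p ↥E) (hEcard : Nat.card ↥E = p ^ (2 * w + 1)) (hA : Cfsg.IsElementaryAbelian r A) (hnorm : E ≤ Subgroup.normalizer (A : Set G)) (hfaith : E ⊓ Subgroup.centralizer (A : Set G) = ⊥) (n : ℕ) (hn : 1 ≤ n) (hdiv : p ∣ r ^ n - 1) (hmin : ∀ k : ℕ, 1 ≤ k → p ∣ r ^ k - 1 → n ≤ k) : r ^ (n * p ^ w) ≤ Nat.card ↥A := by
  letI : DistribMulAction E (H9.EAMod hA) := DistribMulAction.compHom _ (H9.eaRep hA hnorm)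
  haveI : SMulCommClass E (ZMod r) (H9.EAMod hA) := ⟨fun g c v => map_smul (H9.eaRep hA hnorm g) c v⟩
  haveI : FaithfulSMul E (H9.EAMod hA) := ⟨fun {a b} h => by
    have : ((b⁻¹ * a : E) : G) ∈ E ⊓ centralizer (A : Set G) := ⟨Subtype.coe_prop _, fun x hx => by
      have := congrArg H9.EAMod.val (h (H9.EAMod.mk hA x hx))
      change (a : G) * x * (a : G)⁻¹ = b * x * (b : G)⁻¹ at this
      change x * ((b : G)⁻¹ * a) = (b : G)⁻¹ * a * x
      rw [mul_assoc, mul_inv_eq_iff_eq_mul.1 this]; group⟩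
    rw [hfaith, mem_bot] at this
    exact (inv_mul_eq_one.1 (Subtype.ext this)).symm⟩
  obtain ⟨m, d, h1, h2, h3, h4⟩ := gen_bound (V := H9.EAMod hA) hpr hE.1.1
    (fun u t => hE.1.2.2 ▸ commutator_mem_commutator (mem_top u) (mem_top t)) hE.2
  refine le_trans (Nat.pow_le_pow_right hr.out.pos (Nat.mul_le_mul (hmin m h1 h2) ?_)) h4
  have h5 := (center E).index_mul_card
  rw [hE.2, hEcard, pow_succ, Nat.mul_left_inj (Fact.out : p.Prime).ne_zero] at h5
  rw [h5, pow_mul'] at h3
  exact (Nat.pow_le_pow_iff_left two_ne_zero).1 h3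

end Cfsg.Agent.S2912
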