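import Cfsg.Agent.H17.LN5
import Cfsg.Agent.H17.MatU
import Cfsg.Agent.H17.MatO
import Cfsg.Agent.H12.Transport
import Cfsg.Agent.S0245
import Cfsg.Agent.S0246
import Cfsg.Agent.S0288
import Cfsg.Statements.S2931
-- import your own Cfsg.Agent.* helpers here

set_option autoImplicit false
open Cfsg

namespace Cfsg.Agent.S2931

open Subgroup Equiv Cfsg.Agent.H17
set_option maxRecDepth 100000
set_option Elab.async false

noncomputable def sP : List (Perm (Fin 8)) := [swap 0 4 * swap 1 5 * swap 2 6 * swap 3 7,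
  swap 4 6 * swap 5 7,
  swap 0 2 * swap 1 3 * swap 4 6 * swap 5 7,
  swap 6 7,
  swap 2 3 * swap 6 7,
  swap 4 5 * swap 6 7,
  swap 0 1 * swap 2 3 * swap 4 5 * swap 6 7]
noncomputable def sT : SM := ⟨8, 3, 0, nat_lit 0xfac688, [nat_lit 0x688fac,
  nat_lit 0xb3e688,
  nat_lit 0xb3e21a,
  nat_lit 0xdec688,
  nat_lit 0xdec4c8,
  nat_lit 0xde5688,
  nat_lit 0xde54c1], List.range 8⟩
theorem csT : sT.permB 8 sP = true := by decide +kernel
noncomputable def oM : List (List (List ℕ)) := [[[1, 1, 1, 0, 1, 1], [1, 1, 0, 1, 1, 1], [1, 0, 1, 1, 1, 1], [0, 1, 1, 1, 1, 1], [1, 1, 1, 1, 1, 0], [1, 1, 1, 1, 0, 1]],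
  [[1, 0, 0, 0, 0, 0], [1, 0, 0, 1, 0, 0], [0, 1, 1, 1, 0, 1], [1, 1, 0, 0, 0, 0], [1, 0, 0, 0, 1, 1], [0, 0, 0, 0, 0, 1]],
  [[1, 0, 0, 0, 0, 0], [1, 1, 0, 1, 1, 1], [0, 1, 1, 1, 0, 1], [1, 1, 0, 1, 1, 0], [1, 0, 0, 1, 0, 1], [0, 1, 0, 1, 0, 0]],
  [[1, 1, 0, 1, 0, 1], [0, 1, 1, 1, 1, 1], [1, 1, 1, 0, 1, 1], [1, 0, 1, 1, 0, 1], [1, 1, 1, 1, 1, 0], [1, 0, 0, 1, 1, 1]],
  [[1, 1, 1, 0, 1, 0], [1, 1, 0, 1, 1, 0], [1, 0, 1, 1, 1, 0], [0, 1, 1, 1, 1, 0], [0, 0, 0, 0, 1, 0], [1, 1, 1, 1, 0, 1]],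
  [[1, 0, 0, 0, 0, 0], [1, 1, 0, 1, 1, 0], [0, 1, 1, 1, 0, 1], [1, 1, 0, 1, 1, 1], [1, 1, 0, 0, 0, 1], [0, 1, 0, 1, 0, 0]],
  [[1, 1, 0, 1, 0, 1], [1, 1, 1, 0, 0, 1], [0, 1, 1, 1, 0, 1], [1, 0, 1, 1, 0, 1], [1, 1, 1, 1, 1, 0], [0, 0, 0, 0, 0, 1]]]
noncomputable def oT : SM := ⟨64, 6, 1, nat_lit 0xffef7cefae78df6d74cf2c70beeb6caeaa689e69648e28607de75c6da6585d65544d24503ce34c2ca2481c61440c2040, [nat_lit 0xfc81330b5e4e076e8df0b1f08176ec76a9917a99528d462f427adcb5a5a1b995624e4a1f3f8d03c8527ec462bd33bdc0,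
  nat_lit 0xc6af66d6ee62decee0ce8fe487ab7697ea729fcaf08f8bf415e25205a3560d83d41dc2d054e64244a7464c87c45cc6c0,
  nat_lit 0x4c8f665cce62b760d8a721dc642dec746ce89fc2528f835615eaf005abf4ee054efe444a3d487a2d097ec6a7c4d6e6c0,
  nat_lit 0x5ab07c2357e2b50e87cce91981ddcaf83a546e63311784afe44b939dac0d0bf5687212f63f262546c1bbd098dea97f40,
  nat_lit 0xc176fc77ad917b9d52cd463fbc81230a5a4e066a8db0b1e0437edcf5a5b1f995724f4e1f3e890388526e8462ad32b9c0,
  nat_lit 0x6429fc7468f8dec252ce83564c8b765cca72f660d8e621dc15eee005afe4af054ebf444a3d4c6a2d0d6e87a7c497e6c0,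
  nat_lit 0xc2b9fcbb5e62b76ea1ce893f83bdecfa5a72f66ab18f8d2f7c421305a58d09954e7072d03d460344a19d48915e3176c0], [1, 2, 4, 8, 16, 32]⟩
theorem coT : oT.matB (arZ 2 2 36) 6 oM = true := by decide +kernel
theorem c7 : pcB (fun u v => band (sT.eq u v) (oT.eq u v)) 2 (idW 7) [unp 6 7 (nat_lit 0x20c083020c0), [nat_lit 0, nat_lit 1, nat_lit 10, nat_lit 12, nat_lit 8, nat_lit 16], [nat_lit 0, nat_lit 5, nat_lit 10, nat_lit 4, nat_lit 8], [nat_lit 0, nat_lit 1, nat_lit 2, nat_lit 4], [nat_lit 0, nat_lit 1, nat_lit 2], [nat_lit 0, nat_lit 1], [nat_lit 0]] = true := by decide +kernel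
noncomputable def slL : List LS := [⟨[], [[nat_lit 0], [nat_lit 1], [nat_lit 3]], 0, unp 11 7 (nat_lit 0x140380f00c0580200800), 8⟩,
  ⟨[], [[nat_lit 1], [nat_lit 3]], 4, [nat_lit 1024, nat_lit 1537, nat_lit 1792], 4⟩,
  ⟨[], [[nat_lit 4]], 2, [nat_lit 512], 2⟩,
  ⟨[], [[nat_lit 3]], 6, [nat_lit 1536], 2⟩]
theorem sl : band (sT.lowC (idW 7) slL []) (Nat.ble 128 (lsProd slL)) = true := by decide +kernel
noncomputable def olL : List LS := [⟨[], [[nat_lit 1]], 15, [nat_lit 3840], 2⟩,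
  ⟨[], [[nat_lit 0], [nat_lit 2], [nat_lit 3]], 35, unp 14 7 (nat_lit 0x10027c08a0228045011402302), 8⟩,
  ⟨[], [[nat_lit 0], [nat_lit 2]], 1, [nat_lit 256, nat_lit 257, nat_lit 14081], 4⟩,
  ⟨[], [unp 8 7 (nat_lit 0x3000302030003)], 2, [nat_lit 512], 2⟩]
theorem ol : band (oT.lowC (idW 7) olL []) (Nat.ble 128 (lsProd olL)) = true := by decide +kernel
theorem oex : ∃ m, MRep (arZ 2 2 36) (eMinus 2) (τO (quadFormMinus 2 (ZMod 2) 1 1)) m oM :=
  exists_mO (k := 7) (J := [[0, 0, 1, 0, 0, 0], [0, 0, 0, 1, 0, 0], [0, 0, 0, 0, 0, 0], [0, 0, 0, 0, 0, 0], [0, 0, 0, 0, 1, 1], [0, 0, 0, 0, 0, 1]]) (quadFormMinus_eq (by decide +kernel)) (by decide +kernel)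
noncomputable def aP : List (Perm (Fin 8)) := [swap 2 3 * swap 6 7,
  swap 0 4 * swap 1 5 * swap 2 6 * swap 3 7,
  swap 4 6 * swap 5 7,
  swap 4 5 * swap 6 7,
  swap 0 2 * swap 1 3 * swap 4 6 * swap 5 7,
  swap 0 1 * swap 2 3 * swap 4 5 * swap 6 7]
noncomputable def aT : SM := ⟨8, 3, 0, nat_lit 0xfac688, [nat_lit 0xdec4c8,
  nat_lit 0x688fac,
  nat_lit 0xb3e688,
  nat_lit 0xde5688,
  nat_lit 0xb3e21a,
  nat_lit 0xde54c1], List.range 8⟩
theorem caT : aT.permB 8 aP = true := by decide +kernel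
noncomputable def pM : List (List (List ℕ)) := [[[2, 0, 2, 0], [0, 2, 0, 1], [2, 0, 1, 0], [0, 1, 0, 1]],
  [[0, 0, 1, 0], [0, 2, 0, 2], [2, 0, 0, 0], [0, 2, 0, 1]],
  [[0, 1, 0, 2], [2, 0, 1, 0], [0, 2, 0, 2], [1, 0, 1, 0]],
  [[0, 0, 1, 0], [0, 0, 0, 1], [2, 0, 0, 0], [0, 2, 0, 0]],
  [[1, 0, 2, 0], [0, 2, 0, 1], [2, 0, 2, 0], [0, 1, 0, 1]],
  [[1, 0, 0, 0], [0, 2, 0, 0], [0, 0, 1, 0], [0, 0, 0, 2]],
  [[2, 0, 0, 0], [0, 2, 0, 0], [0, 0, 2, 0], [0, 0, 0, 2]]]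
noncomputable def pT : SM := ⟨81, 7, 2, nat_lit 0x509f3a6cc972a4c88f1a2c4870a0c07ef9ebc76e9cb86ed9ab466c98b05eb96ac56a94a84e992a446890a03e78e9c3668c982e58a9426488901e3868c16284880e182840608080, [nat_lit 0x379104398227d8297ee248f10653a0632a036344033250782151c716a67b3a38c0a5921d5d15f4f2e341af4a6e84678899ac752e201242d5236909dcc12089b556866c37250500,
  nat_lit 0x161a124c06ed15a22e382ca82e1aac465460390fdb3354857253864807990dd2f4c74d11113623b5a90d981e1a5c2733e33d62a0f9314068477cc94a0282c14e8af18273c48480,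
  nat_lit 0x2d2b38e857c946c631218087080840512d992768c1435628e047a906455e5e8076e7c7bf4e6a53274880c254266b528987475c5a79b06f08c152664b10cd8f44582e63426e5080,
  nat_lit 0x4c86e98a83e586849b11db25280b8e0b2e139609cf15180e7c67ad15a232403d08ef9aac46688889d15e335484c0f0d260375c94e13140654170bd31d282c1487ed96a43648480,
  nat_lit 0x3f6f28787349cfb27122008304103051260b6324433152786042e90e2f8af68052a34ead4afa7462c381ae4c6e7c778a913584ea68902511b356ee5c304485345886644724c580,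
  nat_lit 0x3262c1ab466bd72d52a13ac56a93254880f9e468909d386e6cc97427ce9526444870a3c68b0603f76e9cbe7af1c376c5cb153464c14264870d184480f1628485080c4070c08080,
  nat_lit 0x28529d5ac549532462c98346acd72f5a7d01e448d09c3a6e1c4851a3c58105fcc9b2e7d09d2654874edcbd7cf1bb86c3470c204478a1624b172a64d1826509040a0c3880c04100], [1, 3, 9, 27]⟩
theorem cpT : pT.matB (arZ 3 2 36) 4 pM = true := by decide +kernel
theorem c6 : pcB (fun u v => band (aT.eq u v) (bor (pT.eq u v) (pT.eq u (6 :: v)))) 2 (idW 6) [[nat_lit 0, nat_lit 1, nat_lit 6, nat_lit 4, nat_lit 24, nat_lit 16], [nat_lit 0, nat_lit 5, nat_lit 10, nat_lit 4, nat_lit 8], [nat_lit 0, nat_lit 1, nat_lit 2, nat_lit 4], [nat_lit 0, nat_lit 1, nat_lit 2], [nat_lit 0, nat_lit 1], [nat_lit 0]] = true := by decide +kernel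
noncomputable def alL : List LS := [⟨[], [[nat_lit 0], [nat_lit 1], [nat_lit 2]], 0, unp 11 7 (nat_lit 0x140781701c0380201001), 8⟩,
  ⟨[], [[nat_lit 0], [nat_lit 2]], 4, [nat_lit 1025, nat_lit 1536, nat_lit 1793], 4⟩,
  ⟨[], [[nat_lit 0]], 2, [nat_lit 512], 2⟩]
theorem al : band (aT.lowC (idW 6) alL []) (Nat.ble 64 (lsProd alL)) = true := by decide +kernel
noncomputable def plL : List LS := [⟨[], [[nat_lit 0], [nat_lit 1], [nat_lit 2]], 17, unp 15 63 (nat_lit 0x1080198020027a050c09a81480248053004600ac01300304017000400100068006804f0052004008b8134028804980a48115021e04140988107028e04140588087018e032805280ab017e033405680be013e02ac01f804d005a00f800f8037025004740a8014b0254052c04b00aa01220258015001100), 64⟩,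
  ⟨[], [[nat_lit 2]], 1, [nat_lit 256], 2⟩]
theorem pl : band (pT.lowC (idW 6) plL []) (Nat.ble 128 (lsProd plL)) = true := by decide +kernel
theorem pex : ∃ m, MRep (arZ 3 2 36) (finSumFinEquiv (m := 2) (n := 2)) (τS 2 (ZMod 3)) m pM :=
  exists_mrep (τS_inj 2) (by decide +kernel) fun M hM => exists_Sp (Jm := [[0, 0, 2, 0], [0, 0, 0, 2], [1, 0, 0, 0], [0, 1, 0, 0]])
    (by decide +kernel) (allL_true (f := (arZ 3 2 36).formB 4 id _) (by decide +kernel) M hM)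
theorem iso_pc {G Γ : Type} [Group G] [Group Γ] [Finite G] [Finite Γ] {f : ℕ → G} {m : ℕ → Γ} {e1 e2 : List ℕ → List ℕ → Bool}
    (h1 : ∀ u v, e1 u v = true → ev f u = ev f v) (h2 : ∀ u v, e2 u v = true → ev m u = ev m v) {A c : List (List ℕ)}
    (hc : pcB (fun u v => band (e1 u v) (e2 u v)) 2 A c = true) (l1 : 2 ^ A.length ≤ Nat.card (wgrp f A))
    (l2 : 2 ^ A.length ≤ Nat.card (wgrp m A)) :
    ∃ (H : Type) (_ : Group H) (θ : H →* G) (θ' : H →* Γ), Function.Injective θ ∧ Function.Injective θ' ∧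
      θ.range = wgrp f A ∧ Nat.card H = 2 ^ A.length := by
  have hg : PC (fun x => (f x, m x)) 2 A := pcB_sound (fun u v h => Prod.ext
    ((map_ev' (MonoidHom.fst G Γ) (fun _ => rfl) u).trans ((h1 u v (band_true.1 h).1).trans
      (map_ev' (MonoidHom.fst G Γ) (g := fun x => (f x, m x)) (fun _ => rfl) v).symm))
    ((map_ev' (MonoidHom.snd G Γ) (fun _ => rfl) u).trans ((h2 u v (band_true.1 h).2).trans
      (map_ev' (MonoidHom.snd G Γ) (g := fun x => (f x, m x)) (fun _ => rfl) v).symm))) hc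
  have hl := Nat.le_of_dvd (by positivity) (hg.card_dvd Nat.prime_two)
  have key : ∀ {T : Type} [Group T] (π : G × Γ →* T) {t : ℕ → T}, (∀ x, π (f x, m x) = t x) →
      2 ^ A.length ≤ Nat.card (wgrp t A) → (π.comp (wgrp (fun x => (f x, m x)) A).subtype).range = wgrp t A ∧
      Function.Injective (π.comp (wgrp (fun x => (f x, m x)) A).subtype) := fun π t ht l => by
    have e : (π.comp (wgrp (fun x => (f x, m x)) A).subtype).range = wgrp t A := by
      rw [MonoidHom.range_comp, range_subtype, map_wgrp π ht]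
    obtain ⟨j, hj⟩ := equiv_of_surj _ (MonoidHom.rangeRestrict_surjective (π.comp (wgrp (fun x => (f x, m x)) A).subtype))
      (e ▸ hl.trans l)
    exact ⟨e, fun a b h => j.injective (by rw [hj, hj]; exact Subtype.ext h)⟩
  obtain ⟨e, i⟩ := key (MonoidHom.fst G Γ) (fun _ => rfl) l1
  exact ⟨_, _, _, _, i, (key (MonoidHom.snd G Γ) (fun _ => rfl) l2).2, e,
    hl.antisymm (l1.trans_eq (e ▸ (Nat.card_congr (MonoidHom.ofInjective i).toEquiv).symm))⟩
theorem syl {G H : Type} [Group G] [Group H] [Finite G] (P : Sylow 2 G) {θ : H →* G} (hθ : Function.Injective θ) {a n : ℕ}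
    (hH : Nat.card H = 2 ^ a) (hG : Nat.card G = n) (h1 : 2 ^ a ∣ n) (hs : ¬ 2 ^ (a + 1) ∣ n) : Nonempty (H ≃* P) := by
  obtain ⟨c, hc⟩ := conj_of_sylow Nat.prime_two hG hs θ.range P
    ((Nat.card_congr (MonoidHom.ofInjective hθ).toEquiv).symm.trans hH) (card_sylow hG h1 hs P)
  exact ⟨(MonoidHom.ofInjective hθ).trans (((MulAut.conj c).subgroupMap _).trans (MulEquiv.subgroupCongr hc))⟩
theorem cardZ {F : Type} [Field F] [Fintype F] (hF : Fintype.card F = 3) :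
    Nat.card (center (Matrix.symplecticGroup (Fin 2) F)) = 2 := S0246.result hF 2 (by norm_num)
theorem cardP {F : Type} [Field F] [Fintype F] (hF : Fintype.card F = 3) : Nat.card (PSp 2 F) = 25920 := by
  have := card_eq_card_quotient_mul_card_subgroup (center (Matrix.symplecticGroup (Fin 2) F))
  rw [cardZ hF, S0245.result hF, show 3 ^ 2 ^ 2 * ∏ i ∈ Finset.range 2, (3 ^ (2 * (i + 1)) - 1) = 51840 by decide +kernel] at this
  change 51840 = Nat.card (PSp 2 F) * 2 at this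
  omega

/-- The Sylow 2-subgroups of the alternating group of degree 8 and of PSp₄(3) are isomorphic, and so are the Sylow 2-subgroups of the symmetric group of degree 8 and of the full isometry group of a non-degenerate quadratic form of minus type in dimension 6 over the field with 2 elements. -/
theorem result (F : Type) [Field F] [Fintype F] (hF : Fintype.card F = 3) (K : Type) [Field K] [Fintype K] (hK : Fintype.card K = 2) (a b : K) (hab : ∀ z₁ z₂ : K, z₁ ^ 2 + a * z₁ * z₂ + b * z₂ ^ 2 = 0 → z₁ = 0 ∧ z₂ = 0) (P : Sylow 2 ↥(alternatingGroup (Fin 8))) (Q : Sylow 2 (Cfsg.PSp 2 F)) (P' : Sylow 2 (Equiv.Perm (Fin 8))) (Q' : Sylow 2 ↥(Cfsg.isometryGroup K (Cfsg.quadFormMinus 2 K a b))) : Nonempty (↥(P : Subgroup ↥(alternatingGroup (Fin 8))) ≃* ↥(Q : Subgroup (Cfsg.PSp 2 F))) ∧ Nonempty (↥(P' : Subgroup (Equiv.Perm (Fin 8))) ≃* ↥(Q' : Subgroup ↥(Cfsg.isometryGroup K (Cfsg.quadFormMinus 2 K a b)))) := by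
  obtain ⟨_, _, ok1⟩ := SM.perm_ok caT
  obtain ⟨_, _, ok2⟩ := SM.perm_ok csT
  obtain ⟨m, hm⟩ := pex
  obtain ⟨_, _, ok3, -⟩ := hm.sm cpT
  obtain ⟨o, ho⟩ := oex
  obtain ⟨_, _, ok4, -⟩ := ho.sm coT
  obtain ⟨e⟩ := H12.nonempty_ringEquiv_zmod (p := 3) hF
  obtain ⟨f⟩ := H12.nonempty_ringEquiv_zmod (p := 2) hK
  constructor
  · have hq := map_ev (QuotientGroup.mk' (center (Matrix.symplecticGroup (Fin 2) (ZMod 3)))) m
    have hz : QuotientGroup.mk' (center _) (m 6) = 1 := (QuotientGroup.eq_one_iff _).2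
      (mem_center_of_scalar (d := -1) hm.inj ((hm.map 6).trans (by decide +kernel)))
    obtain ⟨H, _, θ, θ', i1, i2, r, c⟩ := iso_pc (m := fun x => QuotientGroup.mk' (center _) (m x)) ok1.eq (fun u v h => by
      rcases bor_true.1 h with h | h
      · rw [← hq, ← hq, ok3.eq _ _ h]
      · rw [← hq, ← hq, ok3.eq _ _ h, ev_cons, map_mul, hz, one_mul]) c6 (ok1.low al) (by
      have h1 := ok3.low pl
      have h2 := ((center _).subgroupOf (wgrp m (idW 6))).card_mul_index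
      have h3 := Nat.card_le_card_of_injective _ (subgroupOfEquivOfLe (inf_le_right : center _ ⊓ wgrp m (idW 6) ≤ _)).injective
      have h4 := (card_le_of_le (inf_le_left : center _ ⊓ wgrp m (idW 6) ≤ _)).trans_eq (cardZ (F := ZMod 3) rfl)
      rw [inf_subgroupOf_right] at h3
      rw [← map_wgrp (QuotientGroup.mk' _) (fun _ => rfl), ← relIndex_ker, QuotientGroup.ker_mk', relIndex]
      change 64 ≤ _
      nlinarith)
    have hA : ∀ a, θ a ∈ alternatingGroup (Fin 8) := fun a => (r.le.trans (wgrp_le (H := alternatingGroup (Fin 8))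
      fun u hu => Perm.mem_alternatingGroup.2 (by revert u; decide +kernel))) ⟨a, rfl⟩
    obtain ⟨j1⟩ := syl P (θ := θ.codRestrict _ hA) (fun a b h => i1 (congrArg Subtype.val h)) c (n := 20160)
      (by rw [nat_card_alternatingGroup, Nat.card_fin]; rfl) (by decide) (by decide)
    obtain ⟨j2⟩ := syl Q (θ := (H12.pspCongr 2 e.symm).toMonoidHom.comp θ') ((H12.pspCongr 2 e.symm).injective.comp i2) c
      (cardP hF) (by decide) (by decide)
    exact ⟨j1.symm.trans j2⟩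
  · obtain ⟨H, _, θ, θ', i1, i2, -, c⟩ := iso_pc ok2.eq ok4.eq c7 (ok2.low sl) (ok4.low ol)
    obtain ⟨rfl, rfl⟩ : a = 1 ∧ b = 1 := by
      have : ∀ z₁ z₂ : ZMod 2, z₁ ^ 2 + f a * z₁ * z₂ + f b * z₂ ^ 2 = 0 → z₁ = 0 ∧ z₂ = 0 := fun x y h => by
        simpa using hab (f.symm x) (f.symm y) (f.injective (by simpa using h))
      rw [← f.injective.eq_iff, ← f.injective.eq_iff, map_one]
      revert this; generalize f a = x; generalize f b = y; revert x y; decide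
    have hQ : ∀ v, f.symm (quadFormMinus 2 (ZMod 2) 1 1 v) = quadFormMinus 2 K 1 1 (f.symm ∘ v) := fun v => by
      simp only [quadFormMinus, map_add, map_sum, map_mul, map_pow, map_one, Function.comp]
    have hO : ∀ a, ((H12.glCongr _ f.symm).toMonoidHom.comp ((Subgroup.subtype _).comp θ')) a ∈
        isometryGroup K (quadFormMinus 2 K 1 1) := fun a u v => by
      have := congrArg f.symm ((θ' a).2 (f ∘ u) (f ∘ v))
      rw [hQ, hQ] at this
      refine (congrArg _ (funext fun i => ?_)).trans (this.trans (congrArg _ (funext fun i => by simp)))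
      simp [Matrix.mulVec, dotProduct, H12.glCongr_apply]
    obtain ⟨j1⟩ := syl P' i1 c (n := 40320) (by rw [Nat.card_perm, Nat.card_fin]; rfl) (by decide) (by decide)
    obtain ⟨j2⟩ := syl Q' (θ := MonoidHom.codRestrict _ _ hO) (fun a b h => i2 (Subtype.ext
      ((H12.glCongr _ f.symm).injective (congrArg Subtype.val h)))) c (n := 51840)
      ((S0288.result hK 3 (by norm_num) 1 1 hab).trans (by decide +kernel)) (by decide) (by decide)
    exact ⟨j1.symm.trans j2⟩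

end Cfsg.Agent.S2931
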