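import Cfsg.Statements.S2932
import Cfsg.Agent.H28.NatSL2
import Cfsg.Agent.H26.A8Sub
import Cfsg.Agent.H26.AutP

set_option autoImplicit false
open Cfsg

namespace Cfsg.Agent.S2932

open Subgroup Cfsg.Agent.H28 Cfsg.Agent.H28.NS

theorem seven {Γ : Type*} [Group Γ] [Finite Γ] (φ : Γ →* alternatingGroup (Fin 8)) (hφ : Function.Injective φ)
    (h : Nat.card Γ = 2520) : Nonempty (Γ ≃* alternatingGroup (Fin 7)) := by
  classical
  have : IsSimpleGroup (alternatingGroup (Fin 8)) := alternatingGroup.isSimpleGroup (by simp)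
  have hi : φ.range.index = 8 := by
    have := φ.range.card_mul_index
    rw [H26.A8.card_a8, ← Nat.card_congr (MonoidHom.ofInjective hφ).toEquiv, h] at this
    omega
  let b : alternatingGroup (Fin 8) ⧸ φ.range := ((1 : alternatingGroup (Fin 8)) : _)
  have hb : ∀ g, φ g • b = b := fun g => by
    change ((φ g * 1 : alternatingGroup (Fin 8)) : _ ⧸ φ.range) = ((1 : alternatingGroup (Fin 8)) : _)
    simp [QuotientGroup.eq]
  let θ : Γ →* Equiv.Perm {c // c ≠ b} := MonoidHom.mk' (fun g => Equiv.Perm.subtypePerm (MulAction.toPerm (φ g))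
    fun c => not_congr (by
      change φ g • c = b ↔ _
      conv_lhs => rw [← hb g, smul_left_cancel_iff])) fun g k => by
        ext c
        change φ (g * k) • c.1 = φ g • φ k • c.1
        rw [map_mul, mul_smul]
  have hθ : Function.Injective θ := (injective_iff_map_eq_one θ).2 fun g hg => by
    have h1 : φ g ∈ φ.range.normalCore := by
      rw [normalCore_eq_ker, MonoidHom.mem_ker]
      ext c
      by_cases hc : c = b
      · rw [hc]; exact hb g
      · exact congrArg Subtype.val (DFunLike.congr_fun hg ⟨c, hc⟩)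
    rcases (inferInstance : φ.range.normalCore.Normal).eq_bot_or_eq_top with e | e
    · exact hφ ((mem_bot.1 (e ▸ h1)).trans φ.map_one.symm)
    · rw [top_unique (e.ge.trans φ.range.normalCore_le), index_top] at hi
      omega
  have := Fintype.ofFinite {c // c ≠ b}
  have h7 : Fintype.card {c // c ≠ b} = 7 := by
    have := Fintype.ofFinite (alternatingGroup (Fin 8) ⧸ φ.range)
    have e := Fintype.card_subtype_compl (fun c => c = b)
    rw [Fintype.card_subtype_eq, Fintype.card_eq_nat_card (α := _ ⧸ _), ← index_eq_card, hi] at e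
    convert e
  have h2 : θ.range.index = 2 := by
    have := θ.range.card_mul_index
    rw [Nat.card_perm, Nat.card_eq_fintype_card (α := {c // c ≠ b}), h7,
      ← Nat.card_congr (MonoidHom.ofInjective hθ).toEquiv, h] at this
    simp only [Nat.factorial] at this
    omega
  refine (H26.A8.alt_or_perm h7 (by norm_num) θ hθ
    (Equiv.Perm.eq_alternatingGroup_of_index_eq_two h2).ge).resolve_right fun ⟨e⟩ => ?_
  rw [Nat.card_congr e.toEquiv, Nat.card_perm, Nat.card_fin] at h
  simp [Nat.factorial] at h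

theorem endgame {Γ : Type*} [Group Γ] [Finite Γ] (φ : Γ →* alternatingGroup (Fin 8)) (hφ : Function.Injective φ)
    (L : Subgroup Γ) [IsSimpleGroup L] (hL : Nat.card L = 60) (T : Sylow 2 Γ) (hT : Nat.card T = 8)
    (TN : (T : Subgroup Γ) ≤ normalizer (L : Set Γ)) (hn : ¬ L.Normal) : Nonempty (Γ ≃* alternatingGroup (Fin 7)) := by
  classical
  set N := normalizer (L : Set Γ) with hN
  have ns : ¬ Group.IsSolvable L := fun h => by
    have : IsMulCommutative L := ⟨⟨IsSimpleGroup.comm_iff_isSolvable.2 h⟩⟩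
    have := Group.is_simple_iff_prime_card.1 (inferInstance : IsSimpleGroup L)
    rw [hL] at this
    norm_num at this
  obtain ⟨k, hk⟩ : 120 ∣ Nat.card N :=
    Nat.lcm_dvd (hT ▸ card_dvd_of_le TN : 8 ∣ _) (hL ▸ card_dvd_of_le le_normalizer : 60 ∣ _)
  have e1 := N.card_mul_index
  have e2 := (T : Subgroup Γ).card_mul_index
  have j1 : N.index ≠ 1 := fun h => hn (normalizer_eq_top_iff.1 (index_eq_one.1 h))
  have d : k * N.index ∣ 21 := by
    have h1 := H26.A8.card_dvd φ hφ
    rw [← e1, hk, mul_assoc] at h1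
    refine Nat.Coprime.dvd_of_dvd_mul_left (m := 2 ^ 3) (Nat.Coprime.pow_right _ ?_)
      (Nat.dvd_of_mul_dvd_mul_left (by norm_num) (k := 120) h1)
    refine ((Nat.Prime.coprime_iff_not_dvd Nat.prime_two).2 fun h => T.not_dvd_index ?_).symm
    rw [hk, mul_assoc] at e1
    rw [hT] at e2
    omega
  by_cases h21 : k * N.index = 21
  · exact seven φ hφ (by rw [← e1, hk, mul_assoc, h21]; rfl)
  have hj : k = 1 ∧ (N.index = 3 ∨ N.index = 7) := by
    have : ∀ m ∈ Nat.divisors 21, m ≠ 21 → ∀ j ∈ Nat.divisors m, j ≠ 1 → m = j ∧ (j = 3 ∨ j = 7) := by decide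
    have h0 : k * N.index ≠ 0 := fun h => by simp [h] at d
    obtain ⟨h1, h2⟩ := this _ (Nat.mem_divisors.2 ⟨d, by norm_num⟩) h21 _
      (Nat.mem_divisors.2 ⟨dvd_mul_left _ _, h0⟩) j1
    exact ⟨by simpa [index_ne_zero_of_finite] using h1, h2⟩
  rw [hj.1, mul_one] at hk
  let ψ := MulAction.toPermHom Γ (Γ ⧸ N)
  have kN : ψ.ker ≤ N := N.normalCore_eq_ker ▸ N.normalCore_le
  rcases (inferInstance : (ψ.ker.subgroupOf L).Normal).eq_bot_or_eq_top with e | e
  · have hi : Function.Injective (ψ.rangeRestrict.comp L.subtype) := by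
      rw [← MonoidHom.ker_eq_bot_iff, ← MonoidHom.comap_ker, MonoidHom.ker_rangeRestrict]; exact e
    have h60 := hL ▸ card_dvd_of_injective _ hi
    have := Fintype.ofFinite (Γ ⧸ N)
    rcases hj.2 with h | h
    · have := h60.trans (card_subgroup_dvd_card _)
      rw [Nat.card_perm, ← index_eq_card, h] at this
      norm_num [Nat.factorial] at this
    · have h7 : Fintype.card (Γ ⧸ N) = 7 := by rw [Fintype.card_eq_nat_card, ← index_eq_card, h]
      have : MulAction.IsPretransitive ψ.range (Γ ⧸ N) := ⟨fun x y => by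
        obtain ⟨g, hg⟩ := MulAction.exists_smul_eq Γ x y
        exact ⟨⟨ψ g, g, rfl⟩, hg⟩⟩
      have := (S0678.result h7 ψ.range (fun _ => ns (Group.isSolvable_of_isSolvable_injective hi)) fun hA => by
        have h1 := card_le_of_le hA
        have h2 := Nat.card_le_card_of_surjective _ ψ.rangeRestrict_surjective
        have : Nontrivial (Γ ⧸ N) := Fintype.one_lt_card_iff_nontrivial.1 (by omega)
        rw [nat_card_alternatingGroup, Nat.card_eq_fintype_card (α := Γ ⧸ N), h7] at h1
        rw [← e1, hk, h] at h2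
        simp only [Nat.factorial] at h1
        omega).1
      rw [this] at h60
      norm_num at h60
  · have lk := subgroupOf_eq_top.1 e
    have i2 : (L.subgroupOf N).index = 2 := by
      have := (L.subgroupOf N).card_mul_index
      rw [Nat.card_congr (subgroupOfEquivOfLe le_normalizer).toEquiv, hL, hk] at this
      omega
    have h1 : ⁅ψ.ker, ψ.ker⁆ ≤ L := commutator_le.2 fun a ha b hb => by
      have : (⟨a, kN ha⟩ * ⟨b, kN hb⟩ * ⟨a, kN ha⟩⁻¹ * ⟨b, kN hb⟩⁻¹ : N) ∈ L.subgroupOf N := by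
        simp only [mul_mem_iff_of_index_two i2, inv_mem_iff]; tauto
      exact this
    have h2 : L ≤ ⁅ψ.ker, ψ.ker⁆ := by
      refine le_trans ?_ (commutator_mono lk lk)
      rcases (inferInstance : (commutator L).Normal).eq_bot_or_eq_top with e | e
      · exact absurd ⟨1, e⟩ ns
      · rw [← map_subtype_commutator, e, ← MonoidHom.range_eq_map, range_subtype]
    exact absurd (le_antisymm h1 h2 ▸ inferInstance) hn

/-- Let p be a prime. Inside a finite ambient group let V be an elementary abelian p-subgroup and G a subgroup normalizing V and acting faithfully on it (G ∩ C(V) = 1), and let L ≤ G act on V as SL₂(F) on its natural module, F a finite field of characteristic p, with L ≅ SL₂(F). If every Sylow p-subgroup of N_G(L) is a Sylow p-subgroup of G, then either L is normal in G, or F has 4 elements and G is isomorphic to the alternating group of degree 7. -/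
theorem result {X : Type*} [Group X] [Finite X] {p : ℕ} [Fact p.Prime] (F : Type) [Field F] [Fintype F] [CharP F p] (V G L : Subgroup X) (hV : Cfsg.IsElementaryAbelian p V) (hGV : G ≤ Subgroup.normalizer (V : Set X)) (hfaith : G ⊓ Subgroup.centralizer (V : Set X) = ⊥) (hLG : L ≤ G) (hnat : Cfsg.IsNaturalSL2Module F V L) (hLiso : Nonempty (↥L ≃* Matrix.SpecialLinearGroup (Fin 2) F)) (hSyl : ∀ S : Sylow p ↥(G ⊓ Subgroup.normalizer (L : Set X)), ∀ P : Sylow p ↥G, Nat.card S = Nat.card P) : (L.subgroupOf G).Normal ∨ (Fintype.card F = 4 ∧ Nonempty (↥G ≃* ↥(alternatingGroup (Fin 7)))) := by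
  classical
  obtain ⟨-, ρ, ψ₀, hs, hker, hρ⟩ := hnat
  let ψ : Additive V ≃+ F × F := ψ₀.trans (LinearEquiv.finTwoArrow F F).toAddEquiv
  let c : G →* MulAut V := (normalizerMonoidHom V).comp (inclusion hGV)
  have hc : Function.Injective c := (injective_iff_map_eq_one c).2 fun g hg => Subtype.ext (mem_bot.1 (by
    rw [← hfaith]
    refine ⟨g.2, mem_centralizer_iff.2 fun v hv => ?_⟩
    have : (g : X) * v * (g : X)⁻¹ = v := congrArg Subtype.val (DFunLike.congr_fun hg (⟨v, hv⟩ : V))
    exact (mul_inv_eq_iff_eq_mul.1 this).symm))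
  let : DistribMulAction G (F × F) :=
    { smul := fun g v => ψ (Additive.ofMul (c g (ψ.symm v).toMul))
      one_smul := fun v => by change ψ _ = _; simp
      mul_smul := fun g h v => by change ψ _ = ψ (Additive.ofMul (c g (ψ.symm (ψ _)).toMul)); simp
      smul_zero := fun g => by change ψ _ = _; simp
      smul_add := fun g v w => by change ψ _ = ψ _ + ψ _; simp }
  have sd : ∀ (g : G) (v : F × F), g • v = ψ (Additive.ofMul (c g (ψ.symm v).toMul)) := fun _ _ => rfl
  have : FaithfulSMul G (F × F) := ⟨fun {g h} e => hc (MulEquiv.ext fun v => by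
    simpa [sd] using e (ψ (Additive.ofMul v)))⟩
  have act : ∀ (l : G) (hl : l.1 ∈ L) (v : F × F), l • v =
      ((ρ ⟨l, hl⟩).1 0 0 * v.1 + (ρ ⟨l, hl⟩).1 0 1 * v.2, (ρ ⟨l, hl⟩).1 1 0 * v.1 + (ρ ⟨l, hl⟩).1 1 1 * v.2) := by
    intro l hl v
    obtain ⟨w, h1, h2⟩ := hρ ⟨l, hl⟩ (ψ.symm v).toMul
    rw [sd, show c l (ψ.symm v).toMul = w from Subtype.ext h1.symm]
    change LinearEquiv.finTwoArrow F F (ψ₀ _) = _
    rw [h2]
    simp [ψ, Matrix.mulVec, dotProduct]
  choose x hx using fun a : F => hs ⟨!![1, a; 0, 1], by simp⟩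
  choose y hy using fun a : F => hs ⟨!![1, 0; a, 1], by simp⟩
  let N : Subgroup G := normalizer (L.subgroupOf G : Set G)
  have QL : Q F G ≤ L.subgroupOf G := by
    rintro g ⟨a, ha⟩
    have : g = ⟨x a, hLG (x a).2⟩ := eq_of (F := F) fun v => by rw [ha, act _ (x a).2]; simp [hx]
    rw [this]; exact (x a).2
  obtain ⟨T, QT, TN⟩ : ∃ T : Sylow p G, Q F G ≤ T ∧ (T : Subgroup G) ≤ N := by
    let i : ↥(G ⊓ normalizer (L : Set X)) →* G := inclusion inf_le_left
    have hi : Function.Injective i := inclusion_injective _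
    obtain ⟨S, hS⟩ := (((K_pgroup (F := F) (Γ := G) p).to_le Q_le_K).comap_of_injective i hi).exists_le_sylow
    obtain ⟨T, hT⟩ := (S.isPGroup'.map i).exists_le_sylow
    have e : (S : Subgroup _).map i = T := eq_of_le_of_card_ge hT (by rw [card_map_of_injective hi, hSyl S T])
    refine ⟨T, fun g hg => e ▸ ⟨⟨g, g.2, le_normalizer (QL hg)⟩, hS hg, rfl⟩, ?_⟩
    rw [← e]
    rintro _ ⟨s, -, rfl⟩
    exact mem_normalizer_iff.2 fun g => mem_normalizer_iff.1 s.2.2 g
  obtain ⟨a₀, a0, Ta⟩ : ∃ a₀ : F, a₀ ≠ 0 ∧ ∀ t ∈ (T : Subgroup G), t • ((a₀, 0) : F × F) = (a₀, 0) := by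
    obtain ⟨w, h1, h2⟩ := T.isPGroup'.exists_fixed_point_of_prime_dvd_card_of_fixed_point (F × F) (by
      obtain ⟨n, -, hn⟩ := FiniteField.card F p
      rw [Nat.card_prod, Nat.card_eq_fintype_card, hn]
      exact (dvd_pow_self p n.ne_zero).mul_right _) (a := 0) fun g => smul_zero _
    have h3 : w.2 = 0 := by
      have := congrArg Prod.fst (h1 ⟨⟨x 1, hLG (x 1).2⟩, QT ⟨1, fun v => by rw [act _ (x 1).2]; simp [hx]⟩⟩)
      change ((⟨x 1, hLG (x 1).2⟩ : G) • w).1 = _ at this
      rw [act _ (x 1).2] at this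
      simpa [hx] using this
    refine ⟨w.1, fun h => h2 (Prod.ext h.symm h3.symm), fun t ht => ?_⟩
    rw [← h3]; exact h1 ⟨t, ht⟩
  have H : Hyp p (L.subgroupOf G) (fun a => ⟨x a, hLG (x a).2⟩) (fun a => ⟨y a, hLG (y a).2⟩) T a₀ :=
    { lin := fun l hl c v => by rw [act l hl, act l hl]; ext <;> simp <;> ring
      X_mem := fun a => (x a).2
      Y_mem := fun a => (y a).2
      X_smul := fun a v => by rw [act _ (x a).2]; simp [hx]
      Y_smul := fun a v => by rw [act _ (y a).2]; simp [hy]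
      fix := fun l hl e => by
        rw [act l hl] at e
        have d := (ρ ⟨l, hl⟩).2
        simp only [mul_one, mul_zero, add_zero, Prod.mk.injEq] at e
        rw [Matrix.det_fin_two, e.1, e.2, one_mul, mul_zero, sub_zero] at d
        exact ⟨(ρ ⟨l, hl⟩).1 0 1, fun v => by rw [act l hl, e.1, e.2, d]; simp⟩
      QT := QT, TN := TN, a0 := a0, Ta := Ta }
  refine or_iff_not_imp_left.2 fun hn => ?_
  have h4 : Nat.card F = 4 := by
    by_contra h4
    exact hn (H.normal fun g x hx => H.sc h4 hx)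
  have h4' : Fintype.card F = 4 := by rw [← h4, Nat.card_eq_fintype_card]
  obtain rfl : p = 2 := by
    obtain ⟨n, hp, hn⟩ := FiniteField.card F p
    exact (Nat.prime_dvd_prime_iff_eq hp Nat.prime_two).1
      (hp.dvd_of_dvd_pow (n := 2) (by rw [show 2 ^ 2 = 4 from rfl, ← h4', hn]; exact dvd_pow_self p n.ne_zero))
  obtain ⟨t, ht, htQ⟩ : ∃ t ∈ (T : Subgroup G), t ∉ Q F G := by
    by_contra! h
    exact hn (H.normal fun g x _ => h _)
  have hT : Nat.card T = 8 := by
    have i2 : ((Q F G).subgroupOf T).index = 2 := by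
      refine index_eq_two_iff.2 ⟨⟨t, ht⟩, fun b => ?_⟩
      by_cases hb : b.1 ∈ Q F G
      · exact .inr ⟨hb, fun h => htQ (by simpa using mul_mem (inv_mem hb) (mem_subgroupOf.1 h))⟩
      · exact .inl ⟨((H.three b.2 ht (.inr h4)).resolve_left hb).resolve_left htQ, hb⟩
    have cQ : Nat.card (Q F G) = 4 := by
      rw [← h4]
      refine (Nat.card_eq_of_bijective (fun a : F => (⟨_, H.XQ a⟩ : Q F G)) ⟨fun a b e =>
        H.X_inj (congrArg Subtype.val e), fun g => ?_⟩).symm
      obtain ⟨a, ha⟩ := H.Q_eq g.2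
      exact ⟨a, Subtype.ext ha.symm⟩
    rw [← ((Q F G).subgroupOf T).card_mul_index, i2, Nat.card_congr (subgroupOfEquivOfLe QT).toEquiv, cQ]
  obtain ⟨e⟩ := hLiso
  have e' := (subgroupOfEquivOfLe hLG).trans e
  have hz : center (Matrix.SpecialLinearGroup (Fin 2) F) = ⊥ := by
    rw [← card_eq_one, H12.card_center_SL, h4]; rfl
  have := H12.PSL_fin_simple (F := F) 2 le_rfl fun _ => h4'.ge
  have : IsSimpleGroup (L.subgroupOf G) :=
    (e'.trans ((QuotientGroup.quotientMulEquivOfEq hz).trans QuotientGroup.quotientBot).symm).isSimpleGroup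
  have : IsMulCommutative V := hV.1
  obtain ⟨e1⟩ := H26.nonempty_mulAut_equiv_GL (V := V) (p := 2) (r := 4) (fun v => Subtype.ext (hV.2 v v.2)) (by
    rw [← Nat.card_congr Additive.toMul, Nat.card_congr ψ.toEquiv, Nat.card_prod, h4]; rfl)
  obtain ⟨e2⟩ := H26.A8.gl4
  exact ⟨h4', endgame ((e1.trans e2).toMonoidHom.comp c) ((e1.trans e2).injective.comp hc) _
    (by rw [Nat.card_congr e'.toEquiv, H12.card_SL2 h4']; rfl) T hT TN hn⟩

end Cfsg.Agent.S2932
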