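import Cfsg.Statements.S2933
import Cfsg.Agent.L0.HG5
import Cfsg.Agent.H11.AbS

set_option autoImplicit false
open Cfsg

namespace Cfsg.Agent.S2933

open Subgroup Cfsg.Agent.L0.HG
open scoped commutatorElement


/-- Let T be a 2-subgroup of a finite group G, V ≤ Z(T) a four-group, and t, ρ ∈ N_G(V) ∩ N_G(T) elements of order 2 and 3 with t commuting with ρ and with V. If [V, ρ] = V and C_T(t) = V, then T is elementary abelian of order 16, or homocyclic of rank 2 (ℤ/2ⁿ × ℤ/2ⁿ for some n ≥ 1), or isomorphic to a Sylow 2-subgroup of PSL₃(4) or of PSU₃(4). -/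
theorem result {G : Type*} [Group G] [Finite G] (T V : Subgroup G) (hT : IsPGroup 2 ↥T) (hVT : V ≤ T ⊓ Subgroup.centralizer (T : Set G)) (hV : Nat.card ↥V = 4 ∧ ∀ v ∈ V, v ^ 2 = 1) (t ρ : G) (ht : orderOf t = 2) (hρ : orderOf ρ = 3) (htn : t ∈ Subgroup.normalizer (V : Set G) ⊓ Subgroup.normalizer (T : Set G)) (hρn : ρ ∈ Subgroup.normalizer (V : Set G) ⊓ Subgroup.normalizer (T : Set G)) (htρ : t * ρ = ρ * t) (htV : t ∈ Subgroup.centralizer (V : Set G)) (hVρ : ⁅V, Subgroup.zpowers ρ⁆ = V) (hCt : T ⊓ Subgroup.centralizer ({t} : Set G) = V) : (Nat.card ↥T = 16 ∧ ∀ x ∈ T, x ^ 2 = 1) ∨ (∃ n : ℕ, 1 ≤ n ∧ Nonempty (↥T ≃* Multiplicative (ZMod (2 ^ n)) × Multiplicative (ZMod (2 ^ n)))) ∨ (∃ (F : Type) (_ : Field F) (_ : Fintype F), Fintype.card F = 4 ∧ ∀ P : Sylow 2 (Matrix.ProjectiveSpecialLinearGroup (Fin 3) F), Nonempty (↥T ≃* ↥(P : Subgroup (Matrix.ProjectiveSpecialLinearGroup (Fin 3) F)))) ∨ (∃ (F : Type) (_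 : Field F) (_ : Fintype F), Fintype.card F = 16 ∧ ∀ P : Sylow 2 (Cfsg.PSU 3 F 4), Nonempty (↥T ≃* ↥(P : Subgroup (Cfsg.PSU 3 F 4)))) := by
  let α : MulAut T := T.normalizerMonoidHom ⟨t, htn.2⟩
  let r : MulAut T := T.normalizerMonoidHom ⟨ρ, hρn.2⟩
  have hα : ∀ x : T, (α x : G) = t * x * t⁻¹ := fun x => rfl
  have hr : ∀ x : T, (r x : G) = ρ * x * ρ⁻¹ := fun x => rfl
  have hVT' : V ≤ T := hVT.trans inf_le_left
  have hC : ∀ x : T, x ∈ Cc α ↔ (x : G) ∈ V := fun x => by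
    rw [mem_Cc, ← hCt, Subtype.ext_iff, hα, mem_inf, mem_centralizer_singleton_iff, mul_inv_eq_iff_eq_mul]
    exact ⟨fun h => ⟨x.2, h.symm⟩, fun h => h.2.symm⟩
  have hC' : Cc α = V.subgroupOf T := Subgroup.ext hC
  have hc4 : Nat.card (Cc α) = 4 := by
    rw [hC', Nat.card_congr (subgroupOfEquivOfLe hVT').toEquiv, hV.1]
  have hr3 : r ^ 3 = 1 := by
    rw [← map_pow, show (⟨ρ, hρn.2⟩ : normalizer (T : Set G)) ^ 3 = 1 from
      Subtype.ext (by rw [← hρ]; exact pow_orderOf_eq_one ρ), map_one]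
  have ha : ∀ x, α (α x) = x := fun x => by
    rw [← MulAut.mul_apply, ← map_mul, show (⟨t, htn.2⟩ : normalizer (T : Set G)) * ⟨t, htn.2⟩ = 1 from
      Subtype.ext (by rw [← pow_two, ← ht]; exact pow_orderOf_eq_one t), map_one]; rfl
  have har : ∀ x, α (r x) = r (α x) := fun x => by
    rw [← MulAut.mul_apply, ← map_mul, show (⟨t, htn.2⟩ : normalizer (T : Set G)) * ⟨ρ, hρn.2⟩ =
      ⟨ρ, hρn.2⟩ * ⟨t, htn.2⟩ from Subtype.ext htρ, map_mul]; rfl
  have hm : ∀ x, r x ∈ Cc α ↔ x ∈ Cc α := fun x => by rw [mem_Cc, mem_Cc, har, r.injective.eq_iff]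
  obtain ⟨z, hz, hzr⟩ : ∃ z ∈ Cc α, r z ≠ z := by
    by_contra hh
    push Not at hh
    have : ⁅V, zpowers ρ⁆ = ⊥ := by
      rw [commutator_eq_bot_iff_le_centralizer, ← le_centralizer_iff, zpowers_le, mem_centralizer_iff]
      intro v hv
      have := congrArg Subtype.val (hh ⟨v, hVT' hv⟩ ((hC _).2 hv))
      rw [hr, mul_inv_eq_iff_eq_mul] at this
      exact this.symm
    rw [hVρ] at this
    rw [this] at hV
    simp at hV
  have r3 : ∀ x, r (r (r x)) = x := fun x => by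
    rw [← MulAut.mul_apply, ← MulAut.mul_apply, ← pow_three', hr3]; rfl
  have hall : ∀ x ∈ Cc α, x ≠ 1 → ∃ i ≤ 3, (r ^ i) z = x := fun x hx x1 => by
    have z1 : z ≠ 1 := fun e => hzr (by rw [e, map_one])
    have h1 : ({1, z, r z, r (r z)} : Set T) = Cc α := by
      refine Set.eq_of_subset_of_ncard_le ?_ ?_ (Set.toFinite _)
      · rintro y (rfl | rfl | rfl | rfl)
        exacts [one_mem _, hz, (hm _).2 hz, (hm _).2 ((hm _).2 hz)]
      · have h2 : r (r z) ≠ z := fun e => hzr (by have := r3 z; rwa [e] at this)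
        rw [← Nat.card_coe_set_eq, SetLike.coe_sort_coe, hc4, Set.ncard_insert_of_notMem (by
          simp [z1.symm, eq_comm (a := (1 : T)), z1]), Set.ncard_insert_of_notMem (by simp [hzr.symm, h2.symm]),
          Set.ncard_pair (r.injective.ne hzr.symm)]
    rcases (h1.ge hx : x ∈ ({1, z, r z, r (r z)} : Set T)) with e | e | e | e
    exacts [absurd e x1, ⟨0, by omega, e.symm⟩, ⟨1, by omega, e.symm⟩, ⟨2, by omega, e.symm⟩]
  obtain ⟨E, _, _, _, hE⟩ := H4.exists_field_two_pow (n := 2 * 2) (by omega)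
  rw [pow_mul, show 2 ^ 2 = 4 from rfl] at hE
  have : Fintype (FF (H12.frobq hE)) := Fintype.ofFinite _
  have hF := card_FF hE
  have hρ' : r ^ (Fintype.card (FF (H12.frobq hE)) - 1) = 1 := by rw [hF, hr3]
  obtain ⟨d, l, A, h⟩ := exists_HB hT (α := α) (ρ := r) (F := FF (H12.frobq hE)) ha har (by omega) hρ'
    (fun x hx => Subtype.ext (by rw [← pow_two]; exact hV.2 x ((hC x).1 hx))) (by rw [hc4, hF])
    fun x hx y hy x1 y1 => by
      obtain ⟨i, hi, rfl⟩ := hall x hx x1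
      obtain ⟨j, -, rfl⟩ := hall y hy y1
      exact ⟨j + (3 - i), by rw [← MulAut.mul_apply, ← pow_add, add_assoc, Nat.sub_add_cancel hi, pow_add, hr3,
        mul_one]⟩
  by_cases hn : ∃ x y : T, ⁅x, y⁆ ≠ 1
  · rcases h.nonab_cases hE (by decide) hρ' hn with h1 | h1
    · exact Or.inr (Or.inr (Or.inl ⟨_, _, _, hF, h1⟩))
    · exact Or.inr (Or.inr (Or.inr ⟨E, _, _, hE, h1⟩))
  push Not at hn
  have key : (∀ x : T, x * x = 1 → x ∈ Cc α) ∨ (Nat.card T = 16 ∧ ∀ x : T, x * x = 1) := by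
    by_cases hA : A = ⊥
    · refine Or.inl fun x _ => ?_
      have := mem_bot.1 (hA ▸ (h.mem _).2 ⟨x, rfl⟩)
      rw [co, inv_mul_eq_one] at this
      exact mem_Cc.2 this.symm
    obtain ⟨e, he, h0⟩ := h.exists_exp hA
    exact (h.ab_cases he h0 hn).imp_right fun h1 => ⟨by rw [h1.1, hF]; rfl, h1.2⟩
  rcases key with h1 | h1
  · have : IsMulCommutative T := ⟨⟨fun a b => commutatorElement_eq_one_iff_mul_comm.1 (hn a b)⟩⟩
    obtain ⟨j, ⟨e⟩⟩ := H11.homocyclic_of_rank_two hT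
      (fun B _ hB => (card_le_of_le fun x hx => h1 x (by rw [← pow_two]; exact hB x hx)).trans hc4.le) fun hp => by
        obtain ⟨k, hk⟩ := hp r
        have := Nat.dvd_gcd (orderOf_dvd_of_pow_eq_one hk) (orderOf_dvd_of_pow_eq_one hr3)
        rw [(Nat.Coprime.pow_left k (by decide : Nat.Coprime 2 3)).gcd_eq_one, Nat.dvd_one, orderOf_eq_one_iff] at this
        exact hzr (by rw [this]; rfl)
    exact Or.inr (Or.inl ⟨j + 1, by omega, ⟨e.trans (MulEquiv.prodMultiplicative _ _)⟩⟩)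
  · exact Or.inl ⟨h1.1, fun x hx => by rw [pow_two]; exact congrArg Subtype.val (h1.2 ⟨x, hx⟩)⟩

end Cfsg.Agent.S2933
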