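import Cfsg.Statements.S2937
import Cfsg.Agent.H14.PL5
import Cfsg.Agent.H10.Comp

set_option autoImplicit false
open Cfsg

namespace Cfsg.Agent.S2937

/-- Let X be a finite p-minimal group whose generalized Fitting subgroup K = F*(X) is a simple group of Lie type in characteristic p, and let U be a Sylow p-subgroup of K. Then N_X(U) is a maximal subgroup of X, and either K has Lie rank one (K ≅ PSL₂(pᵉ), PSU₃(pᵉ), a Suzuki group for p = 2, or a Ree group or PSL₂(8) for p = 3), or p = 2, K ≠ X and K is isomorphic to PSL₃(2ᵉ) or to PSp₄(2ᵉ) (e ≥ 2) or to the alternating group of degree 6. -/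
theorem result {X : Type*} [Group X] [Finite X] {p : ℕ} [Fact p.Prime] (hX : Cfsg.IsPMinimal p X) (hK : Cfsg.IsChevSimple p ↥(Cfsg.generalizedFittingSubgroup X)) (U : Sylow p ↥(Cfsg.generalizedFittingSubgroup X)) : IsCoatom (Subgroup.normalizer (((U : Subgroup ↥(Cfsg.generalizedFittingSubgroup X)).map (Cfsg.generalizedFittingSubgroup X).subtype : Subgroup X) : Set X)) ∧ (Cfsg.IsLieRankOneChar p ↥(Cfsg.generalizedFittingSubgroup X) ∨ (p = 2 ∧ Cfsg.generalizedFittingSubgroup X ≠ ⊤ ∧ ((∃ (F : Type) (_ : Field F) (_ : Fintype F) (_ : CharP F 2), Nonempty (↥(Cfsg.generalizedFittingSubgroup X) ≃* Matrix.ProjectiveSpecialLinearGroup (Fin 3) F)) ∨ (∃ (F : Type) (_ : Field F) (_ : Fintype F) (_ : CharP F 2), 4 ≤ Fintype.card F ∧ Nonempty (↥(Cfsg.generalizedFittingSubgroup X) ≃* Cfsg.PSp 2 F)) ∨ Nonempty (↥(Cfsg.generalizedFittingSubgroup X) ≃* ↥(alternatingGroup (Fin 6)))))) := by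
  generalize hN : generalizedFittingSubgroup X = K at *
  have : K.Normal := hN ▸ inferInstance
  clear hN
  rcases hK with h | ⟨rfl, ⟨⟨e⟩⟩ | ⟨F, _, _, hF, ⟨e⟩⟩ | ⟨⟨e⟩⟩⟩ | ⟨rfl, F, _, _, hF, ⟨e⟩⟩
  · have := H28.simple_of_lie h
    obtain ⟨Y, -, h1, -⟩ := H28.isSBN_of_lie h
    have := H14.sbn_nonempty Y h1
    refine ⟨((H14.sbnPL Y).pmin hX).2.2 U, (H14.lie_rank h).imp_right ?_⟩
    rintro (⟨I, L, _, h2⟩ | ⟨⟨I, L, i, j, hij, h2⟩, h3⟩)
    · exact absurd (L.pmin hX).1 h2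
    have : Nonempty I := ⟨i⟩
    obtain rfl := H14.PL.two_of_tr hij h2 (L.pmin hX).1
    refine ⟨rfl, fun e => hij (((L.pmin hX).2.1 e).elim i j), h3.imp_right ?_⟩
    rintro ⟨F, _, _, _, h4, h5⟩
    refine Or.inl ⟨F, _, ‹_›, ‹_›, ?_, h5⟩
    have := FiniteField.even_card_of_char_two (ringChar.eq F 2)
    omega
  · have := alternatingGroup.isSimpleGroup (α := Fin 6) (by simp)
    have := e.isSimpleGroup
    obtain ⟨I, L, i, j, hij, -⟩ := H14.A6.r2.of_equiv e.symm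
    have : Nonempty I := ⟨i⟩
    exact ⟨(L.pmin hX).2.2 U, Or.inr ⟨rfl, fun e => hij (((L.pmin hX).2.1 e).elim i j), Or.inr (Or.inr ⟨e⟩)⟩⟩
  · have := S0283.result (q := 3) hF 3 le_rfl (by simp)
    have := e.isSimpleGroup
    have := Finite.of_equiv _ e.toEquiv
    exact absurd hX ((H14.gen2_u33 hF).of_equiv e.symm).not_pmin
  · have : IsSimpleGroup K := @MulEquiv.isSimpleGroup _ _ _ _ S1074.result.2.1 e
    have := Finite.of_equiv _ e.toEquiv
    obtain ⟨I, L, _, h⟩ := H14.nt_tits.of_equiv e.symm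
    exact absurd (L.pmin hX).1 h
  · have := H12.PSL_fin_simple (F := F) 2 le_rfl (fun a => by omega)
    have := e.isSimpleGroup
    obtain ⟨V, hV⟩ := H14.l28_coatom hF e
    obtain ⟨P, -, h1, h2, -, -, h3⟩ := H14.pm_core hX V hV.1
    exact ⟨h3 ((hV.le_iff.1 h2).resolve_left h1).le U, Or.inl (Or.inr (Or.inr (Or.inr ⟨rfl, Or.inr ⟨F, _, _, hF, ⟨e⟩⟩⟩)))⟩

end Cfsg.Agent.S2937
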