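import Cfsg.Statements.S2971
import Cfsg.Agent.H24.Misc2

set_option autoImplicit false
open Cfsg

namespace Cfsg.Agent.S2971

/-- Let G be a finite group and p an odd prime such that G has p-rank at most 1 (no elementary abelian subgroup of order p²). If x ∈ G is an isolated element of order p, then x is central modulo the largest normal subgroup of G of order prime to p. -/
theorem result {G : Type*} [Group G] [Finite G] {p : ℕ} [Fact p.Prime] (hp : p ≠ 2) (hrk : Cfsg.PRankLE p 1 G) (x : G) (hx : orderOf x = p) (hiso : Cfsg.IsIsolated x) : Cfsg.InZStar p x := by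
  open Subgroup Cfsg.Agent.H24 in
  open scoped commutatorElement in
  open Cfsg.Agent.H10 (SubnormalIn OqOf) in
  open Cfsg.Agent.H9 (maxEA) in
  have hx1 : x ^ p = 1 := by rw [← hx, pow_orderOf_eq_one]
  obtain ⟨T, hT, h1⟩ := exists_sylIn_le (isPGroup_zpowers (k := 1) (by rwa [pow_one])) (le_top (a := zpowers x))
  have hxT := h1 (mem_zpowers x)
  have hc := IsIsolated.le_cent hiso hT.pgrp hxT
  have h2 : HasNormalPComplement p (⊤ : Subgroup G) := by
    by_contra h
    obtain ⟨w, hw, n, -, h3, h4, h5⟩ := exists_fusion_of_not_pnil hp hT h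
    have h6 : IsElementaryAbelian p (zpowers w ⊔ zpowers x : Subgroup G) :=
      isEA_sup (isEA_zpowers h3) (isEA_zpowers hx1)
        (zpowers_le_centralizer_zpowers (mem_centralizer_singleton_iff.mp (hc hw)))
    have h7 := hrk _ h6.1 h6.2
    have hw1 : w ≠ 1 := fun he => h5 (by rw [he]; group)
    have h8 : zpowers w = zpowers w ⊔ zpowers x := eq_of_le_of_card_le le_sup_left (by
      rw [Nat.card_zpowers, orderOf_eq_prime h3 hw1]; simpa using h7)
    have h9 : zpowers x = zpowers w ⊔ zpowers x := eq_of_le_of_card_le le_sup_right (by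
      rw [Nat.card_zpowers, hx]; simpa using h7)
    have h10 : n * x * n⁻¹ ∈ T := by
      have : cj (zpowers w) n ≤ T := by rw [cj_zpowers]; exact zpowers_le_of_mem h4
      exact this (conj_mem_cj (h8 ▸ mem_sup_right (mem_zpowers x)) n)
    have h11 := mem_cent_iff_conj.mpr (IsIsolated.eq_of_mem hiso hT.pgrp hxT h10)
    rw [← centralizer_zpowers, h9] at h11
    exact h5 (mem_centralizer_iff_conj.mp h11 w (mem_sup_left (mem_zpowers w)))
  obtain ⟨K, -, h3, h4, -, h5, -⟩ := (sylIn_iff_H3.mp hT).exists_complement h2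
  have h6 : K ≤ pPrimeCore p G := H10.OqOf_top (p := p) (G := G) ▸ H10.le_OqOf le_top (le_normalizer.trans h4) h3
  have hn : ∀ L : Subgroup G, L ≤ 𝐍[K] := fun L => le_top.trans (le_normalizer.trans h4)
  have h7 : ⁅K ⊔ T, zpowers x⁆ ≤ K := commutator_sup_left_le (hn _) (hn _)
    (commutator_le_left_of_le_normalizer (hn _))
    ((le_centralizer_iff_commutator.mp (by rwa [centralizer_zpowers])).le.trans bot_le)
  exact fun g => h6 (h7 (commutator_mem_commutator (h5.ge (mem_top g)) (mem_zpowers x)))

end Cfsg.Agent.S2971
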