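import Cfsg.Statements.S2975
import Cfsg.Agent.H24.Misc2

set_option autoImplicit false
open Cfsg

namespace Cfsg.Agent.S2975

/-- Let G be a finite group, p a prime and x ∈ G an isolated element of order p (the only conjugate of x commuting with x is x) which is not central modulo the largest normal subgroup of order prime to p, while x is central modulo the largest normal subgroup of order prime to p in every proper subgroup containing x, and the image of x is so in every quotient of G by a nontrivial normal subgroup (a minimal counterexample to the Z*_p statement). Then for every prime q, every q-subgroup of G that is normalized by x and maximal among the q-subgroups normalized by x is either trivial or a Sylow q-subgroup of G; and C_G(x) permutes the x-invariant Sylow q-subgroups of G transitively by conjugation. -/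
theorem result {G : Type*} [Group G] [Finite G] {p : ℕ} [Fact p.Prime] (x : G) (hx : orderOf x = p) (hiso : Cfsg.IsIsolated x) (hnz : ¬ Cfsg.InZStar p x) (hmin : ∀ (H : Subgroup G) (hxH : x ∈ H), H ≠ ⊤ → Cfsg.InZStar p (⟨x, hxH⟩ : ↥H)) (hquot : ∀ (N : Subgroup G) [N.Normal], N ≠ ⊥ → Cfsg.InZStar p (QuotientGroup.mk x : G ⧸ N)) (q : ℕ) [Fact q.Prime] : (∀ Q : Subgroup G, IsPGroup q ↥Q → x ∈ Subgroup.normalizer (Q : Set G) → (∀ R : Subgroup G, IsPGroup q ↥R → x ∈ Subgroup.normalizer (R : Set G) → Q ≤ R → R = Q) → Q = ⊥ ∨ ∃ S : Sylow q G, (S : Subgroup G) = Q) ∧ (∀ S₁ S₂ : Sylow q G, x ∈ Subgroup.normalizer ((S₁ : Subgroup G) : Set G) → x ∈ Subgroup.normalizer ((S₂ : Subgroup G) : Set G) → ∃ c ∈ Subgroup.centralizer ({x} : Set G), (S₁ : Subgroup G).map (MulAut.conj c).toMonoidHom = (S₂ : Subgroup G)) := by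
  open Subgroup Cfsg.Agent.H24 in
  open scoped commutatorElement in
  open Cfsg.Agent.H10 (SubnormalIn OqOf) in
  open Cfsg.Agent.H9 (maxEA) in
  have h : ZMin p x := ⟨hx, hiso, hnz, hmin, hquot⟩
  refine ⟨fun Q hQ hxQ hmax => ?_, fun S₁ S₂ h1 h2 => ?_⟩
  · refine or_iff_not_imp_left.mpr fun h0 => sylIn_top_iff.mp ?_
    by_cases hqp : q = p
    · subst hqp
      obtain ⟨T, hT, h1⟩ := exists_sylIn_le (isPGroup_sup_of_le_normalizer_right h.pgrp hQ
        (zpowers_le_of_mem hxQ)) le_top
      rwa [← hmax T hT.pgrp (le_normalizer (h1 (mem_sup_left (mem_zpowers x)))) (le_sup_right.trans h1)]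
    have hH : 𝐍[Q] ≠ ⊤ := fun he => h0 (eq_bot_iff.mpr (h.fitting_eq_bot ▸ H10.le_FitOf le_top he.ge
      hQ.isNilpotent))
    have h1 := (inZStar_subtype_iff hxQ).mp (hmin _ hxQ hH)
    set O := OqOf p 𝐍[Q] with hO
    have hOn : 𝐍[Q] ≤ 𝐍[O] := H10.le_normalizer_OqOf le_normalizer
    have hOc : (Nat.card O).Coprime p := H10.OqOf_coprime
    have hcard : Nat.card (zpowers x) = p := by rw [Nat.card_zpowers, hx]
    obtain ⟨R, hR, hxR⟩ := H1.exists_invariant_isSylowIn q (A := zpowers x) (K := O)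
      ((zpowers_le_of_mem hxQ).trans hOn) (hcard ▸ hOc.symm) (Or.inl (H1.isSolvable_zpowers x))
    replace hR := sylIn_iff_H1.mpr hR
    have h2 := hR.frattini_sup H10.OqOf_le hOn
    set L := 𝐍[Q] ⊓ 𝐍[R] with hL
    have hxL : zpowers x ≤ L := le_inf (zpowers_le_of_mem hxQ) hxR
    have h3 : L ≤ (L ⊓ O) ⊔ (L ⊓ 𝐂[zpowers x]) := le_sup_inf_centralizer
      (le_normalizer_inf (hxL.trans le_normalizer) (hxL.trans (inf_le_left.trans hOn))) inf_le_left
      (hcard ▸ (H10.coprime_card_of_le inf_le_right hOc).symm) (Or.inl (H1.isSolvable_zpowers x))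
      (le_inf (commutator_le_of_le le_rfl hxL) (commutator_zpowers_le_of_forall (hOn hxQ) fun g hg => h1 g hg.1))
    · obtain ⟨U, hU⟩ := exists_sylIn q (L ⊓ 𝐂[zpowers x])
      have h4 : U ≤ 𝐍[R] := hU.le.trans (inf_le_left.trans inf_le_right)
      have h5 := hU.sup hR (inf_le_left.trans (inf_le_left.trans hOn))
        (isPGroup_sup_of_le_normalizer_right hU.pgrp hR.pgrp h4)
      have h6 : L ⊓ 𝐂[zpowers x] ⊔ O = 𝐍[Q] := by
        refine le_antisymm (sup_le (inf_le_left.trans inf_le_left) H10.OqOf_le) ?_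
        rw [← h2]
        exact sup_le le_sup_right (h3.trans (sup_le (inf_le_right.trans le_sup_right) le_sup_left))
      rw [h6] at h5
      have h7 := hmax _ h5.pgrp (le_normalizer_sup (le_normalizer_of_le_centralizer
        (le_centralizer_iff.mp (hU.le.trans inf_le_right))) hxR (mem_zpowers x))
        (h5.le_of_normalizes hQ le_normalizer h5.le)
      rw [h7] at h5
      exact sylIn_of_sylIn_inf_normalizer (by rwa [top_inf_eq])
  · obtain ⟨g, -, hg⟩ := (sylIn_top S₁).exists_cj_eq (sylIn_top S₂)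
    obtain ⟨k, hk, h3⟩ := IsIsolated.exists_conj (g := g⁻¹) (H := 𝐍[(S₁ : Subgroup G)]) hiso h.pgrp h1 (by
      rw [inv_inv, ← mem_cj, cj_normalizer, hg]; exact h2)
    refine ⟨_, inv_mem h3, ?_⟩
    rw [map_conj_eq_cj, mul_inv_rev, inv_inv, ← cj_cj, cj_eq_of_mem_normalizer (inv_mem hk), hg]

end Cfsg.Agent.S2975
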