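import Cfsg.Statements.S2976
import Cfsg.Agent.H4.SzAut
import Cfsg.Agent.S2112

set_option autoImplicit false
open Cfsg

namespace Cfsg.Agent.S2976

open Cfsg.Agent.H4

open Subgroup H20 H21


/-- Let G be a finite group, K a component of G whose order is not divisible by 3, and y ∈ G an element of order 3 whose centralizer C_G(y) is solvable. Then K ⧸ Z(K) is isomorphic to the Suzuki group over the field with 8 elements and y normalizes K. If moreover O₂(G) = 1, then K is simple. -/
theorem result {G : Type*} [Group G] [Finite G] (K : Subgroup G) (hK : Cfsg.IsComponent K) (h3 : ¬ 3 ∣ Nat.card ↥K) (y : G) (hy : orderOf y = 3) (hsol : Group.IsSolvable ↥(Subgroup.centralizer ({y} : Set G))) : (∃ (F : Type) (_ : Field F) (_ : Fintype F), Fintype.card F = 8 ∧ Nonempty (↥K ⧸ Subgroup.center ↥K ≃* ↥(Cfsg.Lie.Sz F 4))) ∧ y ∈ Subgroup.normalizer (K : Set G) ∧ (Cfsg.pCore 2 G = ⊥ → IsSimpleGroup ↥K) := by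
  have hn := H4P.comp_norm hK (by rw [← pow_three', ← hy, pow_orderOf_eq_one]) hsol
  have := hK.2.2
  have := hK.2.1
  obtain ⟨F, _, _, m, hm, hF, ⟨e⟩⟩ := H4S.sz_of_three (G := K ⧸ center K)
    (H10.QS.commutator_ne_bot (H10.isQuasisimple_top.2 (H10.isQuasisimple_of_surjective
      (QuotientGroup.mk'_surjective _) hK.2)) <| commg_eq_bot.2 <| comm_iff_le_cent.1 <|
      comm_top_iff.2 ·) fun a => h3 (a.trans (card_quotient_dvd_card _))
  obtain rfl := H4P.comp_sz hm hF e h3 hy hn hsol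
  refine ⟨⟨F, _, _, hF, ⟨e⟩⟩, hn, fun h0 => ?_⟩
  obtain ⟨π, hπ⟩ := (H27.hasSchur_congr (S2112.result hF) e.symm).2 K (QuotientGroup.mk' _)
    ⟨QuotientGroup.mk'_surjective _, (QuotientGroup.ker_mk' _).le,
      hK.2.1.commutator_eq_top ▸ le_top⟩
  have h1 : IsPGroup 2 (QuotientGroup.mk' (center K)).ker :=
    (IsPGroup.of_card (n := 2) (by simp)).of_surjective π hπ
  rw [QuotientGroup.ker_mk'] at h1
  have h2 := le_pCoreOf_of_le_fittingOf (H := ⊤) ((map_center K).le.trans
    (H10.compOf_top.2 hK).subnormalIn.center_le_FitOf) (h1.map _)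
  rw [← pCore_eq_top, h0, le_bot_iff, map_eq_bot_iff_of_injective _ K.subtype_injective] at h2
  exact (QuotientGroup.quotientBot.symm.trans (QuotientGroup.quotientMulEquivOfEq h2.symm)).isSimpleGroup

end Cfsg.Agent.S2976
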