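import Cfsg.Statements.S2981
import Cfsg.Agent.H24.FH9

set_option autoImplicit false
open Cfsg

namespace Cfsg.Agent.S2981

/-- The local C**(G,T)-Theorem for minimal parabolic groups. Let G be a finite p-minimal group (a Sylow p-subgroup T is not normal and lies in exactly one maximal subgroup) of characteristic p (C_G(O_p(G)) ≤ O_p(G)), and suppose G ≠ C**(G,T), the subgroup generated by C_G(Ω₁(Z(T))) and N_G(J(T)) (J(T) generated by the elementary abelian p-subgroups of T of largest order). Put V = Ω₁(Z(O_p(G))) and C = C_G(V). Then there are subgroups E₁, …, E_r of G containing C such that: J(G)TC = G and the E_i C/C form an internal direct product equal to J(G)C/C; any two of the E_i are conjugate by an element of T; V = C_V(⟨E_i⟩)·∏[V, E_i] with [V, E_i, E_j] = 1 for i ≠ j; for some n ≥ 1, each E_i/C is isomorphic to SL₂(pⁿ), or p = 2 and to the symmetric group of degree 2ⁿ + 1; and E_i acts on [V, E_i]/C_{[V,E_i]}(E_i)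 as the natural two-dimensional SL₂(pⁿ)-module, respectively as the symmetric group of degree 2ⁿ+1 on its even-weight permutation module. -/
theorem result {G : Type*} [Group G] [Finite G] {p : ℕ} [Fact p.Prime] (hmin : Cfsg.IsPMinimal p G) (hG : Subgroup.centralizer (Cfsg.pCore p G : Set G) ≤ Cfsg.pCore p G) (T : Sylow p G) (hne : Cfsg.cStarStarOf p (T : Subgroup G) ≠ ⊤) : ∃ (r : ℕ) (E : Fin r → Subgroup G), (∀ i, Subgroup.centralizer (Cfsg.omegaOneCenter p (Cfsg.pCore p G) : Set G) ≤ E i) ∧ Cfsg.thompsonSubgroup p G ⊔ (T : Subgroup G) ⊔ Subgroup.centralizer (Cfsg.omegaOneCenter p (Cfsg.pCore p G) : Set G) = ⊤ ∧ (⨆ i, E i) = Cfsg.thompsonSubgroup p G ⊔ Subgroup.centralizer (Cfsg.omegaOneCenter p (Cfsg.pCore p G) : Set G) ∧ (∀ i j, i ≠ j → ⁅E i, E j⁆ ≤ Subgroup.centralizer (Cfsg.omegaOneCenter p (Cfsg.pCore p G) : Set G)) ∧ (∀ i, E i ⊓ (⨆ j ∈ {j | j ≠ i}, E j) ≤ Subgroup.centralizer (Cfsg.omegaOneCenter p (Cfsg.pCore p G)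 : Set G)) ∧ (∀ i j, ∃ t ∈ (T : Subgroup G), (E i).map (MulAut.conj t).toMonoidHom = E j) ∧ (Cfsg.omegaOneCenter p (Cfsg.pCore p G) ⊓ Subgroup.centralizer ((⨆ i, E i : Subgroup G) : Set G)) ⊔ (⨆ i, ⁅Cfsg.omegaOneCenter p (Cfsg.pCore p G), E i⁆) = Cfsg.omegaOneCenter p (Cfsg.pCore p G) ∧ (∀ i j, i ≠ j → ⁅⁅Cfsg.omegaOneCenter p (Cfsg.pCore p G), E i⁆, E j⁆ = ⊥) ∧ ∀ i, ∃ n : ℕ, 1 ≤ n ∧ ((∃ (F : Type) (_ : Field F) (_ : Fintype F), Fintype.card F = p ^ n ∧ (∃ _ : ((Subgroup.centralizer (Cfsg.omegaOneCenter p (Cfsg.pCore p G) : Set G)).subgroupOf (E i)).Normal, Nonempty (↥(E i) ⧸ (Subgroup.centralizer (Cfsg.omegaOneCenter p (Cfsg.pCore p G) : Set G)).subgroupOf (E i) ≃* Matrix.SpecialLinearGroup (Fin 2) F)) ∧ Cfsg.ActsAsSL2OnSection F ⊤ (E i) ⁅Cfsg.omegaOneCenter p (Cfsg.pCore p G), E i⁆ (⁅Cfsg.omegaOneCenter p (Cfsg.pCore p G), E i⁆ ⊓ Subgroup.centralizer ((E i : Subgroup G) : Set G))) ∨ (p = 2 ∧ (∃ _ : ((Subgroup.centralizer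 (Cfsg.omegaOneCenter p (Cfsg.pCore p G) : Set G)).subgroupOf (E i)).Normal, Nonempty (↥(E i) ⧸ (Subgroup.centralizer (Cfsg.omegaOneCenter p (Cfsg.pCore p G) : Set G)).subgroupOf (E i) ≃* Equiv.Perm (Fin (2 ^ n + 1)))) ∧ Cfsg.ActsAsOddPermModuleOnSection (2 ^ n + 1) ⊤ (E i) ⁅Cfsg.omegaOneCenter p (Cfsg.pCore p G), E i⁆ (⁅Cfsg.omegaOneCenter p (Cfsg.pCore p G), E i⁆ ⊓ Subgroup.centralizer ((E i : Subgroup G) : Set G)))) := by
  open Subgroup Cfsg.Agent.H24 in
  open scoped commutatorElement in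
  open Cfsg.Agent.H10 (SubnormalIn OqOf) in
  open Cfsg.Agent.H9 (maxEA) in
  have hT := sylIn_top T
  obtain ⟨M, hm⟩ := (isPMinimal_iff_top hT).1 hmin
  have hc := charP_top_iff.2 hG
  rw [← pCoreOf_top]
  set V := omegaOneCenter p (pCoreOf p (⊤ : Subgroup G)) with hV
  have ea : IsElementaryAbelian p V := isEA_omegaOneCenter _ _
  have m1 := hm.max _ (le_sup_of_le_left (le_centralizer_omegaOneCenter p (T : Subgroup G))) (lt_top_iff_ne_top.2 hne)
  have z1 : omegaOneCenter p (T : Subgroup G) ≤ V ⊓ 𝐂[(T : Subgroup G)] :=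
    le_inf (hc.omegaOneCenter_le' hT p) (omegaOneCenter_le_centralizer _ _)
  have m2 : 𝐂[V ⊓ 𝐂[(T : Subgroup G)]] ≤ M := (centralizer_anti z1).trans (le_sup_left.trans m1)
  have h := mp_hol ea hm hT (le_centralizer_omegaOneCenter _ _) m2
  set π := H9.holRep V
  have hk : π.ker = 𝐂[V] := H9.ker_holRep
  have off : ∀ S, V ≤ S → ∀ A ∈ maxEA p S, 𝐂[A.map π].relIndex (H9.holSub V V) ≤ Nat.card (A.map π) :=
    fun S hS A hA => by rw [relIndex_hol le_rfl, card_map_hol]; exact maxEA_off ea hS hA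
  have vT : V ≤ T := (omegaOneCenter_le _ _).trans hT.pCoreOf_le
  obtain ⟨A, hA, a1⟩ := exists_maxEA_not_le (n := p) (S := T) (Q := 𝐂[V]) fun e => hm.lt.not_ge (by
    refine le_trans ?_ (le_sup_right.trans m1)
    rw [← H9.thompsonOf_eq_of_le (hm.le_pCoreOf hT ((centralizer_anti inf_le_left).trans m2) (top_le_normalizer _)
      (hT.pgrp.to_le (H9.thompsonOf_le _ _)) e) hT.pCoreOf_le]
    exact le_normalizer_thompsonOf (le_normalizer_pCoreOf p ⊤))
  have a2 := isEA_map π hA.2.1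
  have a3 : A.map π ≠ ⊥ := map_hol_eq_bot.not.2 a1
  have hf := h.fhy' (map_le_range _ _) a2 a3 (off _ vT A hA)
  obtain ⟨B, b1, b2, -⟩ := h.exists_tv (map_le_range _ _) a2 a3 (off _ vT A hA)
  obtain ⟨r, E, e1, e2, e3, e4, e5, e6, e7, e8, e9, e10⟩ := hf.struct h.min ⟨B, b2⟩
  have := H9.thompson_normal (G := G) p
  have j1 : (thompsonSubgroup p G).map π = ⨆ i, E i := by
    rw [e5]
    refine le_antisymm ?_ (sSup_le fun C hC => ?_)
    · rw [map_le_iff_le_comap, ← H9.thompsonOf_top, H9.thompsonOf_le_iff]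
      exact fun C hC => map_le_iff_le_comap.1 ((h.off_le (map_le_range _ _) (isEA_map π hC.2.1)
        (off _ le_top C hC)).trans (jD_mono (map_le_range _ _)))
    obtain ⟨_, ⟨g, rfl⟩, e⟩ := h.syl.exists_cj_le (hf.pgrp' hC.1) hC.2
    refine (cj_le_cj_iff (g := π g)).1 (((le_jD (hf.cjm C hC.1 _ ⟨g, rfl⟩) e).trans (hf.jD_le_of h.min h.core
      (map_mono (H9.thompsonOf_le p _)) (map_le_normalizer_map π (le_normalizer_thompsonOf le_normalizer)) b2
        (b1.trans (map_mono (H9.le_thompsonOf hA))))).trans ?_)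
    rw [← map_cj, cj_eq_of_normal, ← H9.thompsonOf_top]
    exact map_mono (H9.thompsonOf_le_iff.2 fun D hD => H9.le_thompsonOf (hT.maxEA_subset hD))
  have mc : ∀ i, ((E i).comap π).map π = E i := fun i => map_comap_eq_self (e2 i)
  have j2 : (⨆ i, (E i).comap π).map π = ⨆ i, E i := by simp only [Subgroup.map_iSup, mc]
  have kl : ∀ i, 𝐂[V] ≤ (E i).comap π := fun i => hk ▸ ker_le_comap _ _
  have cV : ∀ X, ⁅V, X⁆ ≤ V := fun X => commutator_le_left V X
  refine ⟨r, fun i => (E i).comap π, kl, ?_, ?_, fun i j ij => ?_, fun i => ?_, fun i j => ?_,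
    le_antisymm (sup_le inf_le_left (iSup_le fun i => cV _)) ?_, fun i j ij => ?_,
    fun i => (e10 i).imp fun n hn => ⟨hn.1, ?_⟩⟩
  · rw [← hk, ← comap_map_eq, Subgroup.map_sup, j1, e5, e6, MonoidHom.comap_range_self]
  · rw [← hk, ← comap_map_eq, j1, ← j2, comap_map_eq_self]
    exact hk.le.trans (le_iSup_of_le ⟨0, e1⟩ (kl _))
  · rw [← map_hol_eq_bot, map_commutator, mc, mc]; exact le_centralizer_iff_commutator.1 (e3 i j ij)
  · rw [← map_hol_eq_bot, ← le_bot_iff, ← e4 i]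
    refine (map_inf_le _ _ _).trans (inf_le_inf (mc i).le ?_)
    simp only [Subgroup.map_iSup]
    exact iSup₂_mono fun j _ => (mc j).le
  · obtain ⟨_, ⟨t, ht, rfl⟩, e⟩ := e7 i j
    refine ⟨t, ht, ?_⟩
    rw [map_conj_eq_cj]
    ext x; simp only [← e, mem_cj, mem_comap, map_mul, map_inv]
  · rw [← holSub_le_iff le_rfl, holSub_sup inf_le_left (iSup_le fun i => cV _), holSub_inf_cent le_rfl, j2,
      holSub_iSup fun i => cV _]
    exact e8.trans (sup_le_sup_left (iSup_mono fun i => by rw [holSub_commutator le_rfl, mc]) _)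
  · rw [← le_centralizer_iff_commutator, ← holSub_le_cent (cV _), holSub_commutator le_rfl, mc, mc]
    exact e9 i j ij
  · have := hn.2
    rw [← mc i, ← holSub_commutator le_rfl, ← holSub_inf_cent (cV _), mc] at this
    have k := this.hol (cV _) (inf_le_left.trans (cV _)) (e2 i)
    rw [MonoidHom.comap_bot, hk] at k
    exact k.final

end Cfsg.Agent.S2981
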