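import Cfsg.Statements.S2987
import Cfsg.Agent.H24.BK11

set_option autoImplicit false
open Cfsg

namespace Cfsg.Agent.S2987

/-- Let G be a finite group of characteristic p (C_G(O_p(G)) ≤ O_p(G)) and E a subnormal subgroup of G which is a B(T)-block for some Sylow p-subgroup T of G. Then E is a normal subgroup of the Baumann subgroup B(G) (generated by the B(T) over all Sylow p-subgroups T), E is a B(T')-block for every Sylow p-subgroup T' of G, and every subgroup F that is a B(T')-block for some Sylow p-subgroup T' satisfies F ≤ E or [F, E] = 1. -/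
theorem result {G : Type*} [Group G] [Finite G] {p : ℕ} [Fact p.Prime] (hG : Subgroup.centralizer (Cfsg.pCore p G : Set G) ≤ Cfsg.pCore p G) (E : Subgroup G) (hE : ∃ T : Sylow p G, Cfsg.IsBaumannBlock p (T : Subgroup G) E) (hEs : E.IsSubnormal) : E ≤ Cfsg.baumannSubgroup p G ∧ Cfsg.baumannSubgroup p G ≤ Subgroup.normalizer (E : Set G) ∧ (∀ T' : Sylow p G, Cfsg.IsBaumannBlock p (T' : Subgroup G) E) ∧ ∀ F : Subgroup G, (∃ T' : Sylow p G, Cfsg.IsBaumannBlock p (T' : Subgroup G) F) → F ≤ E ∨ ⁅F, E⁆ = ⊥ := by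
  open Subgroup Cfsg.Agent.H24 in
  open scoped commutatorElement in
  open Cfsg.Agent.H10 (SubnormalIn OqOf) in
  open Cfsg.Agent.H9 (maxEA) in
  obtain ⟨T, hT⟩ := hE
  have c := charP_top_iff.2 hG
  have h : SB p ⊤ E := ⟨⟨c, le_top, _, sylIn_top T, hT⟩, H10.subnormalIn_top.2 hEs⟩
  refine ⟨hT.2.1.ge.trans (commutator_le_right_of_le_normalizer' (le_iSup (fun S : Sylow p G => baumannSubgroupOf p (S : Subgroup G)) T)
    (le_normalizer_iff_cj_le.2 fun g _ => ?_)), iSup_le fun S => h.B_norm (sylIn_top S), fun S => h.block (sylIn_top S),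
    fun F ⟨S, hF⟩ => (h.le_or ⟨c, le_top, _, sylIn_top S, hF⟩).imp_right le_centralizer_iff_commutator.1⟩
  rw [baumannSubgroup, cj_iSup]
  refine iSup_le fun S => ?_
  obtain ⟨S', e⟩ := sylIn_top_iff.1 ((sylIn_top S).cj_of_mem (mem_top g))
  rw [cj_baum, ← e]
  exact le_iSup (fun S : Sylow p G => baumannSubgroupOf p (S : Subgroup G)) S'

end Cfsg.Agent.S2987
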