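import Cfsg.Statements.S3000
import Cfsg.Agent.H24.FH9

set_option autoImplicit false
open Cfsg

namespace Cfsg.Agent.S3000

/-- Let p be a prime and let P and V be subgroups of a finite group with V elementary abelian, P normalizing V and acting faithfully on it (P ∩ C(V) = 1). Suppose P is p-minimal (a Sylow p-subgroup T of P is not normal and lies in a unique maximal subgroup M of P), O_p(P) = 1, C_P(C_V(T)) ≤ M, and P has a best offender on V: a subgroup A not centralizing V, with A/C_A(V) elementary abelian, such that |B|·|C_V(B)| ≤ |A|·|C_V(A)| for every subgroup B of A. Then there are subgroups E₁, …, E_r of P (r ≥ 1), pairwise commuting and forming with T a product P = (E₁ × ⋯ × E_r)T (internal direct product of the E_i), any two of which are conjugate by an element of T, such that V = C_V(E₁⋯E_r)·∏[V, E_i] with [V, E_i, E_j] = 1 for i ≠ j, and for each i there is n ≥ 1 with either E_i ≅ SL₂(pⁿ)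 acting on [V, E_i]/C_{[V,E_i]}(E_i) as on its natural two-dimensional module, or p = 2 and E_i isomorphic to the symmetric group of degree 2ⁿ + 1 acting on [V, E_i]/C_{[V,E_i]}(E_i) as on its even-weight permutation module. -/
theorem result {G : Type*} [Group G] [Finite G] {p : ℕ} [Fact p.Prime] (V P : Subgroup G) (hV : Cfsg.IsElementaryAbelian p V) (hPV : P ≤ Subgroup.normalizer (V : Set G)) (hfaith : P ⊓ Subgroup.centralizer (V : Set G) = ⊥) (hmin : Cfsg.IsPMinimal p ↥P) (T : Sylow p ↥P) (M : Subgroup ↥P) (hM : IsCoatom M) (hTM : (T : Subgroup ↥P) ≤ M) (hOp : Cfsg.pCore p ↥P = ⊥) (hoff : ∃ A : Subgroup G, A ≤ P ∧ ¬ A ≤ Subgroup.centralizer (V : Set G) ∧ Cfsg.IsBestOffenderOn p V A) (hCT : P ⊓ Subgroup.centralizer ((V ⊓ Subgroup.centralizer ((((T : Subgroup ↥P).map P.subtype) : Subgroup G) : Set G)) : Set G) ≤ M.map P.subtype) : ∃ (r : ℕ) (E : Fin r → Subgroup G), 1 ≤ r ∧ (∀ i, E i ≤ P) ∧ (∀ i j,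 i ≠ j → ⁅E i, E j⁆ = ⊥) ∧ (∀ i, E i ⊓ (⨆ j ∈ {j | j ≠ i}, E j) = ⊥) ∧ (⨆ i, E i) ⊔ ((T : Subgroup ↥P).map P.subtype) = P ∧ (∀ i j, ∃ t ∈ ((T : Subgroup ↥P).map P.subtype), (E i).map (MulAut.conj t).toMonoidHom = E j) ∧ (V ⊓ Subgroup.centralizer (((⨆ i, E i) : Subgroup G) : Set G)) ⊔ (⨆ i, ⁅V, E i⁆) = V ∧ (∀ i j, i ≠ j → ⁅⁅V, E i⁆, E j⁆ = ⊥) ∧ ∀ i, ∃ n : ℕ, 1 ≤ n ∧ ((∃ (F : Type) (_ : Field F) (_ : Fintype F), Fintype.card F = p ^ n ∧ Nonempty (↥(E i) ≃* Matrix.SpecialLinearGroup (Fin 2) F) ∧ Cfsg.ActsAsSL2OnSection F ⊤ (E i) ⁅V, E i⁆ (⁅V, E i⁆ ⊓ Subgroup.centralizer ((E i : Subgroup G) : Set G))) ∨ (p = 2 ∧ Nonempty (↥(E i) ≃* Equiv.Perm (Fin (2 ^ n + 1))) ∧ Cfsg.ActsAsOddPermModuleOnSection (2 ^ n + 1) ⊤ (E i) ⁅V, E i⁆ (⁅V, E i⁆ ⊓ Subgroup.centralizer ((E i : Subgroup G) : Set G)))) := by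
  open Subgroup Cfsg.Agent.H24 in
  open scoped commutatorElement in
  open Cfsg.Agent.H10 (SubnormalIn OqOf) in
  open Cfsg.Agent.H9 (maxEA) in
  set T' := (T : Subgroup P).map P.subtype with hT'
  have hT : SylIn p T' P := sylIn_map T
  have hmo : MinOver T' (M.map P.subtype) P := by
    simpa only [map_subtype_top] using (IsPMinimal.minOver hmin (sylIn_top T) hM hTM).map_injective P.subtype_injective
  have h : MP p V P T' _ := ⟨hV, hPV, hfaith, hmo, hT, pCoreOf_eq_bot_iff.2 hOp, hCT⟩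
  obtain ⟨A, a1, a2, a3⟩ := hoff
  have a4 := IsBestOffenderOn.isEA a3 (le_bot_iff.1 ((inf_le_inf_right _ a1).trans hfaith.le))
  have a5 : A ≠ ⊥ := fun e => a2 (e ▸ bot_le)
  have a6 := IsBestOffenderOn.relIndex_le_card a3
  have hf := h.fhy' a1 a4 a5 a6
  obtain ⟨r, E, e1, e2, e3, e4, e5, e6, e7, e8, e9, e10⟩ := hf.struct hmo ((h.exists_tv a1 a4 a5 a6).imp fun _ e => e.2.1)
  refine ⟨r, E, e1, e2, fun i j ij => le_centralizer_iff_commutator.1 (e3 i j ij), e4, e5 ▸ e6, e7,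
    le_antisymm (sup_le inf_le_left (iSup_le fun i => hf.comm_le (e2 i))) e8,
    fun i j ij => le_centralizer_iff_commutator.1 (e9 i j ij), fun i => (e10 i).imp fun n hn => ⟨hn.1, ?_⟩⟩
  have k : ∀ (X : Type) [Group X], (∃ _ : ((⊥ : Subgroup G).subgroupOf (E i)).Normal,
      Nonempty (E i ⧸ (⊥ : Subgroup G).subgroupOf (E i) ≃* X)) → Nonempty (E i ≃* X) := fun X _ ⟨_, ⟨e⟩⟩ =>
    ⟨((QuotientGroup.quotientMulEquivOfEq (bot_subgroupOf _)).trans QuotientGroup.quotientBot).symm.trans e⟩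
  exact hn.2.final.imp (fun ⟨F, _, _, h1, h2, h3⟩ => ⟨F, _, _, h1, k _ h2, h3⟩) fun ⟨h1, h2, h3⟩ => ⟨h1, k _ h2, h3⟩

end Cfsg.Agent.S3000
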