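import Cfsg.Statements.S3022
import Cfsg.Agent.H24.PB1

set_option autoImplicit false
open Cfsg

namespace Cfsg.Agent.S3022

/-- Let G be a finite group all of whose non-abelian simple sections are known simple groups, such that a Sylow 2-subgroup of G lies in exactly one maximal subgroup of G and C_G(O₂(G)) ≤ O₂(G). Let S be a Sylow 2-subgroup of G and A a group of automorphisms of S of odd order. Then some nontrivial A-invariant subgroup of S is normal in G. -/
theorem result {G : Type*} [Group G] [Finite G] (hK : Cfsg.IsKGroup G) (hirr : ∀ S : Sylow 2 G, ∃! M : Subgroup G, IsCoatom M ∧ (S : Subgroup G) ≤ M) (hchar : Subgroup.centralizer (Cfsg.pCore 2 G : Set G) ≤ Cfsg.pCore 2 G) (S : Sylow 2 G) (A : Subgroup (MulAut ↥(S : Subgroup G))) (hA : Odd (Nat.card A)) : ∃ U : Subgroup G, U ≠ ⊥ ∧ U.Normal ∧ U ≤ (S : Subgroup G) ∧ ∀ a ∈ A, ∀ x : ↥(S : Subgroup G), (x : G) ∈ U → ((a x : ↥(S : Subgroup G)) : G) ∈ U := by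
  open Subgroup Cfsg.Agent.H24 in
  open scoped commutatorElement in
  open Cfsg.Agent.H10 (SubnormalIn OqOf) in
  open Cfsg.Agent.H9 (maxEA) in
  have hS := sylIn_top S
  by_cases hn : ⊤ ≤ normalizer ((S : Subgroup G) : Set G)
  · refine ⟨S, fun e => ?_, top_le_normalizer_iff.1 hn, le_rfl, fun a _ x _ => (a x).2⟩
    obtain ⟨M, ⟨hM, -⟩, -⟩ := hirr S
    have : pCore 2 G = ⊥ := le_bot_iff.1 (e ▸ pCore_le_sylow S)
    rw [this, centralizer_bot'] at hchar
    exact hM.1 (top_le_iff.1 (hchar.trans bot_le))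
  obtain ⟨M, ⟨hM, h1⟩, h2⟩ := hirr S
  have hm : MinOver (S : Subgroup G) M ⊤ := minOver_of hS h1 hM.1.lt_top (fun X x1 x2 => by
    obtain ⟨Y, y1, y2⟩ := exists_covBy_of_lt x2
    exact h2 Y ⟨isCoatom_iff_covBy_top.2 y2, x1.trans y1⟩ ▸ y1) hn
  obtain ⟨X, _, _, φ, ψ, hφ, hψ⟩ := exists_aut_amalgam (S : Subgroup G).subtype_injective
  obtain ⟨U, u1, u2, u3, u4⟩ := odd_aut rfl ((charP_top_iff.2 hchar).map_injective hφ) (hS.map_injective hφ)
    (hm.map_injective hφ) (A := A.map ψ) (by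
      rintro _ ⟨σ, -, rfl⟩
      exact mem_normalizer_of_conj_mem (by
        rintro _ ⟨t, ht, rfl⟩
        exact (hψ σ ⟨t, ht⟩).symm ▸ mem_map_of_mem φ (σ ⟨t, ht⟩).2)) (hA.of_dvd_nat (card_map_dvd _ _))
  refine ⟨U.comap φ, fun e => u2 ?_, top_le_normalizer_iff.1 ((comap_map_eq_self_of_injective hφ ⊤).ge.trans
    (comap_le_normalizer_comap φ u3)), comap_map_eq_self_of_injective hφ (S : Subgroup G) ▸ comap_mono u1,
    fun σ hσ t ht => (hψ σ t).subst (motive := (· ∈ U)) (conj_mem_of_mem_normalizer (u4 (mem_map_of_mem ψ hσ)) ht)⟩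
  rw [← map_comap_eq_self (u1.trans (map_le_range φ _)), e, Subgroup.map_bot]

end Cfsg.Agent.S3022
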