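import Cfsg.Statements.S3040
import Cfsg.Agent.H4.F3

set_option autoImplicit false
open Cfsg

namespace Cfsg.Agent.S3040

open Cfsg.Agent.H4

open Subgroup H20 H21 SemidirectProduct


/-- Let G be a finite group of even order coprime to 3, and let Σ be a group of automorphisms of G isomorphic to the symmetric group of degree 3 that is fixed-point-free (only the identity of G is fixed by every element of Σ). Then G is solvable, O_{2′,2}(G) (the preimage in G of O₂(G/O(G))) has odd index in G, and G = O_{2′,2}(G) C_G(σ) for every element σ of Σ of order 3; that is, O₂(G/O(G)) is a Sylow 2-subgroup of G/O(G) and G/O(G) = O₂(G/O(G)) C_{G/O(G)}(σ). -/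
theorem result {G : Type*} [Group G] [Finite G] (heven : 2 ∣ Nat.card G) (h3 : ¬ 3 ∣ Nat.card G)
    (Sig : Subgroup (MulAut G)) (hS3 : Nonempty (↥Sig ≃* Equiv.Perm (Fin 3))) (hfpf : ∀ g : G, (∀ σ ∈ Sig, σ g = g) → g = 1) :
    Group.IsSolvable G ∧ ¬ 2 ∣ (Cfsg.pPrimePCore 2 G).index ∧ ∀ σ ∈ Sig, orderOf σ = 3 →
      Cfsg.pPrimePCore 2 G ⊔ Subgroup.closure {g : G | σ g = g} = ⊤ := by
  obtain ⟨e⟩ := hS3
  let i : G →* G ⋊[Sig.subtype] Sig := inl
  have hi : Function.Injective i := inl_injective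
  haveI : Finite (G ⋊[Sig.subtype] Sig) := Finite.of_equiv _ SemidirectProduct.equivProd.symm
  have hK : i.range.Normal := range_inl_eq_ker_rightHom (φ := Sig.subtype) ▸ inferInstance
  have hc : ♯i.range = Nat.card G := (Nat.card_congr (MonoidHom.ofInjective hi).toEquiv).symm
  have m : ∀ (σ : Sig) (g : G), i g * inr σ = inr σ * i g → σ.1 g = g := fun σ g h => hi (by
    rw [show i (σ.1 g) = _ from inl_aut σ g, ← h, map_inv, mul_inv_cancel_right])
  have key : ∀ σ : Sig, orderOf σ = 3 → Group.IsSolvable i.range ∧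
      Odd ♯(C⟦zpowers (inr σ)⟧.comap i) ∧ pPrimePCore 2 G ⊔ C⟦zpowers (inr σ)⟧.comap i = ⊤ := by
    intro σ hσ
    have hX : ♯(zpowers (inr σ : G ⋊[Sig.subtype] Sig)) = 3 := by
      rw [Nat.card_zpowers, orderOf_injective _ inr_injective, hσ]
    have s1 : e σ ^ 3 = 1 := by rw [← map_pow, orderOf_dvd_iff_pow_eq_one.1 hσ.dvd, map_one]
    have s2 : e σ ≠ 1 := fun r => by rw [e.map_eq_one_iff.1 r, orderOf_one] at hσ; omega
    obtain ⟨τ, hτ⟩ := e.surjective (Equiv.swap 0 1)
    have hA : ♯(zpowers (inr τ : G ⋊[Sig.subtype] Sig)) = 2 := by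
      rw [Nat.card_zpowers, orderOf_injective _ inr_injective, ← e.orderOf_eq, hτ]
      exact orderOf_eq_prime (by decide) (by decide)
    have ho : Odd ♯(i.range ⊓ C⟦zpowers (inr σ)⟧) := by
      have := H1.card_modEq_of_fpf (A := zpowers (inr τ)) (K := i.range ⊓ C⟦zpowers (inr σ)⟧)
        (norm_inf_cent le_normalizer_of_normal (zpowers_le.2 (mem_norm_iff_cj.2 (by
          rw [cj_zpowers, ← map_inv, ← map_mul, ← map_mul, ← zpowers_inv, ← map_inv]
          congr 3
          apply e.injective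
          rw [map_inv, map_mul, map_mul, map_inv, hτ]
          revert s1 s2
          generalize e σ = s
          revert s
          decide)))) fun a a1 a2 => eq_bot_iff.2 ?_
      · rw [hA] at this; exact Nat.odd_iff.2 this
      rw [cent1_eq_of_card_prime (hA ▸ Nat.prime_two) a1 a2]
      rintro _ ⟨⟨⟨g, rfl⟩, g1⟩, g2⟩
      have f1 := m σ g (g1 _ (mem_zpowers _)).symm
      have f2 := m τ g (g2 _ (mem_zpowers _)).symm
      rw [hfpf g fun ρ hρ => ?_, map_one]
      · exact one_mem _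
      have : ∀ s r : Equiv.Perm (Fin 3), s ^ 3 = 1 → s ≠ 1 → r = 1 ∨ r = s ∨ r = s * s ∨
        r = Equiv.swap 0 1 ∨ r = s * Equiv.swap 0 1 ∨ r = s * s * Equiv.swap 0 1 := by decide
      have := this _ (e ⟨ρ, hρ⟩) s1 s2
      simp only [← hτ, ← map_mul, e.apply_eq_iff_eq, e.map_eq_one_iff, Subtype.ext_iff] at this
      rcases this with r | r | r | r | r | r <;> simp [r, f1, f2]
    have hs := H4P.solv_three _ _ _ hK hX (hc ▸ h3) ho
    have hcop : (♯i.range).Coprime ♯(zpowers (inr σ : G ⋊[Sig.subtype] Sig)) :=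
      hX ▸ hc ▸ (Nat.prime_three.coprime_iff_not_dvd.2 h3).symm
    refine ⟨hs, by rwa [← card_map_of_injective hi, map_comap_eq], eq_top_iff.2 fun g _ => ?_⟩
    obtain ⟨n, n1, _, ⟨⟨c, rfl⟩, c1⟩, r⟩ := coprime_commg_prod le_normalizer_of_normal hcop (Or.inr hs)
      (i g) ⟨g, rfl⟩
    have n2 := H4P.commg_le_ppcore (hX ▸ Nat.prime_three) hcop le_normalizer_of_normal hs ho
      (by omega) n1
    rw [MonoidHom.range_eq_map, ← map_ppcore hi, pPrimePCoreOf_top] at n2
    obtain ⟨n, n2, rfl⟩ := n2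
    rw [← hi (r.symm.trans (map_mul i n c).symm).symm]
    exact mul_mem_sup n2 c1
  obtain ⟨σ, hσ⟩ := e.surjective (finRotate 3)
  obtain ⟨h1, h2, h4⟩ := key σ (by rw [← e.orderOf_eq, hσ]; exact orderOf_eq_prime (by decide) (by decide))
  refine ⟨Group.isSolvable_of_surjective (f := (MonoidHom.ofInjective hi).symm.toMonoidHom)
    (MulEquiv.surjective _), fun h => ?_, fun ρ a b => eq_top_iff.2 ((key ⟨ρ, a⟩
    ((orderOf_coe _).symm.trans b)).2.2.ge.trans (sup_le_sup_left (fun g hg => ?_) _))⟩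
  swap
  · exact subset_closure (m ⟨ρ, a⟩ g (hg _ (mem_zpowers _)).symm)
  rw [← relIndex_top_right, ← h4, relIndex_sup_of_norm' (Or.inr (le_top.trans
    (pPrimePCoreOf_top (G := G) 2 ▸ (ppcore_normalIn 2 ⊤).norm)))] at h
  exact absurd (h2.of_dvd_nat (h.trans (relIndex_dvd_card _ _))) (by decide)

end Cfsg.Agent.S3040
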