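import Cfsg.Statements.S3050
import Cfsg.Agent.H22.Hig3

set_option autoImplicit false
set_option linter.style.haveILetI false
open Cfsg

namespace Cfsg.Agent.S3050

/-- Let G be a finite group with a normal 2-subgroup Q such that G/Q is isomorphic to SL(2, 2ⁿ) with n ≥ 2, and suppose some element of G of order 3 fixes no nonidentity element of Q under conjugation. Then Q is elementary abelian and is the direct product of normal subgroups of G on each of which G acts as SL(2, 2ⁿ) acts on its natural two-dimensional module (a Galois twist of the natural action allowed). -/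
theorem result {G : Type*} [Group G] [Finite G]
    (Q : Subgroup G) [Q.Normal] (hQ : IsPGroup 2 ↥Q) (n : ℕ) (hn : 2 ≤ n)
    (K : Type*) [Field K] [Fintype K] (hK : Fintype.card K = 2 ^ n)
    (e : G ⧸ Q ≃* Matrix.SpecialLinearGroup (Fin 2) K)
    (x : G) (hx : orderOf x = 3) (hfpf : ∀ q ∈ Q, x * q * x⁻¹ = q → q = 1) :
    Cfsg.IsElementaryAbelian 2 Q ∧
      ∃ (k : ℕ) (V : Fin k → Subgroup G), (∀ i, V i ≤ Q ∧ (V i).Normal ∧
        Cfsg.ActsAsSL2OnSection K ⊤ ⊤ (V i) ⊥) ∧ iSupIndep V ∧ ⨆ i, V i = Q := by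
  have h2 : (2 : K) = 0 := by
    haveI : CharP K 2 := H22.Nt.charP_of_card (p := 2) hK
    exact CharTwo.two_eq_zero
  have hk : (e.toMonoidHom.comp (QuotientGroup.mk' Q)).ker = Q := by
    ext g; simp [MonoidHom.mem_ker]
  have x3 : x ^ 3 = 1 := hx ▸ pow_orderOf_eq_one x
  refine H22.Hg.Hy.main (π := e.toMonoidHom.comp (QuotientGroup.mk' Q)) (x := x)
    ⟨h2, ?_, hQ, e.surjective.comp (QuotientGroup.mk'_surjective Q), hk, H22.Hg.c3_of_fpf x3 hfpf,
      H22.Hg.tr_of_cube h2 (by rw [← map_pow, x3, map_one]) fun h => ?_⟩ hK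
  · rw [hK]; exact Nat.pow_le_pow_right (n := 2) (by norm_num) hn
  · have hxQ : x ∈ Q := hk ▸ h
    rw [hfpf x hxQ (by simp), orderOf_one] at hx
    omega

end Cfsg.Agent.S3050
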