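import Cfsg.Statements.S3104
import Cfsg.Agent.H20.Sq3
import Cfsg.Agent.H20.Sq4
import Cfsg.Agent.H2.Basic

set_option autoImplicit false
open Cfsg

namespace Cfsg.Agent.S3104

/-- Let X be a finite nonsolvable 2-constrained group with no nontrivial normal subgroup of odd order such that O₂(X) has sectional 2-rank at most 4, and write Q for X/O₂(X). Then Q is isomorphic to the projective special linear group of dimension 3 over the field with 2 elements, to an alternating group of degree n with 5 ≤ n ≤ 8, to a symmetric group of degree n with 5 ≤ n ≤ 7, or else O₃(Q) has order 3 and Q/O₃(Q) is isomorphic to the alternating or the symmetric group of degree 5 (so Q is the direct product of a group of order 3 with the alternating group of degree 5, or an extension of that direct product by a group of order 2). If moreover X itself has sectional 2-rank at most 4, then Q is not isomorphic to the symmetric group of degree 6 or 7 nor to the alternating group of degree 8. -/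
theorem result {X : Type*} [Group X] [Finite X] (hns : ¬ Group.IsSolvable X) (hc : Cfsg.IsPConstrained 2 X) (hO : Cfsg.oddCore X = ⊥)
    (h4 : Cfsg.SectionalPRankLE 2 4 ↥(Cfsg.pCore 2 X)) :
    ((∃ (F : Type) (_ : Field F) (_ : Fintype F), Fintype.card F = 2 ∧
          Nonempty (X ⧸ Cfsg.pCore 2 X ≃* Matrix.ProjectiveSpecialLinearGroup (Fin 3) F)) ∨
        (∃ n : ℕ, 5 ≤ n ∧ n ≤ 8 ∧ Nonempty (X ⧸ Cfsg.pCore 2 X ≃* ↥(alternatingGroup (Fin n)))) ∨
        (∃ n : ℕ, 5 ≤ n ∧ n ≤ 7 ∧ Nonempty (X ⧸ Cfsg.pCore 2 X ≃* Equiv.Perm (Fin n))) ∨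
        (Nat.card ↥(Cfsg.pCore 3 (X ⧸ Cfsg.pCore 2 X)) = 3 ∧
          (Nonempty ((X ⧸ Cfsg.pCore 2 X) ⧸ Cfsg.pCore 3 (X ⧸ Cfsg.pCore 2 X) ≃* ↥(alternatingGroup (Fin 5))) ∨
            Nonempty ((X ⧸ Cfsg.pCore 2 X) ⧸ Cfsg.pCore 3 (X ⧸ Cfsg.pCore 2 X) ≃* Equiv.Perm (Fin 5))))) ∧
      (Cfsg.SectionalPRankLE 2 4 X →
        ¬ (Nonempty (X ⧸ Cfsg.pCore 2 X ≃* Equiv.Perm (Fin 6)) ∨ Nonempty (X ⧸ Cfsg.pCore 2 X ≃* Equiv.Perm (Fin 7)) ∨
            Nonempty (X ⧸ Cfsg.pCore 2 X ≃* ↥(alternatingGroup (Fin 8))))) := by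
  obtain ⟨f, hf⟩ := S3103.result hc hO h4
  have hQ : ¬ Group.IsSolvable (X ⧸ pCore 2 X) := fun s => hns (by
    have := (H1.isPGroup_pCore 2 X).isNilpotent
    exact Group.isSolvable_of_ker_le_range (pCore 2 X).subtype (QuotientGroup.mk' (pCore 2 X)) (by simp))
  refine ⟨?_, fun h => ?_⟩
  · by_cases hR : ∀ N : Subgroup (X ⧸ pCore 2 X), N.Normal → Group.IsSolvable N → N = ⊥
    · have : Nontrivial (X ⧸ pCore 2 X) := by
        by_contra n
        have := not_nontrivial_iff_subsingleton.1 n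
        exact hQ inferInstance
      rcases H26.A8.main f hf hR with a | a | a | ⟨⟨a⟩⟩
      · exact .inr (.inl a)
      · exact .inr (.inr (.inl ⟨5, le_rfl, by decide, a⟩))
      · exact .inr (.inr (.inl ⟨6, by decide, by decide, a⟩))
      · obtain ⟨b⟩ := H26.A8.gl_equiv_psl 2
        exact .inl ⟨ZMod 2, inferInstance, inferInstance, rfl, ⟨a.trans b⟩⟩
    · push Not at hR
      obtain ⟨N, n, s, n0⟩ := hR
      obtain ⟨M, hM, le⟩ := H2.exists_isMinNormal_le n n0
      obtain ⟨c, p, hp, he⟩ := hM.exists_prime_of_isSolvable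
        (Group.isSolvable_of_isSolvable_injective (Subgroup.inclusion_injective le))
      have := hM.normal
      refine .inr (.inr (.inr (H20.Sq.odd_case (ψ := (alternatingGroup _).subtype.comp f)
        (Subtype.val_injective.comp hf) (fun g => (f g).2) hQ hp ?_ (fun x => Subtype.ext (he x x.2)) hM.ne_bot)))
      rintro rfl
      exact hM.ne_bot (le_bot_iff.1 (H1.pCore_quotient_pCore (G := X) 2 ▸
        le_sSup ⟨this, H2.isPGroup_of_forall_pow_eq_one he⟩))
  · have r := H26.sr_of_sectional h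
    rintro (⟨⟨e⟩⟩ | ⟨⟨e⟩⟩ | ⟨⟨e⟩⟩)
    · exact H20.Sq.no6 hc hO h4 e.symm.toMonoidHom e.symm.injective r
    · have := alternatingGroup.isSimpleGroup (α := Fin 8) (by simp)
      have a := f.range.card_mul_index
      rw [H26.A8.card_a8, ← Nat.card_congr (MonoidHom.ofInjective hf).toEquiv, Nat.card_congr e.toEquiv,
        Nat.card_perm, Nat.card_eq_fintype_card, Fintype.card_fin, show Nat.factorial 7 = 5040 from rfl] at a
      have b := H26.A8.five_le_index (T := alternatingGroup (Fin 8))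
        (fun s => hQ (Group.isSolvable_of_isSolvable_injective hf)) (U := f.range) fun t => by simp [t] at a
      omega
    · obtain ⟨ι, hι⟩ := H20.Sq.s6a8
      exact H20.Sq.no6 hc hO h4 (e.symm.toMonoidHom.comp ι) (e.symm.injective.comp hι) r

end Cfsg.Agent.S3104
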