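import Cfsg.Statements.S3121
import Cfsg.Agent.S1911
import Cfsg.Agent.H10.Comp

set_option autoImplicit false
open Cfsg

namespace Cfsg.Agent.S3121

open Cfsg.Agent.BS.Bd Cfsg.Agent.H20 Cfsg.Agent.H21 Subgroup

/-- Let G be a finite group whose generalized Fitting subgroup F*(G) is a non-abelian simple group, let H be a tightly embedded subgroup of G and N its normalizer. If H^g ∩ N has odd order for every element g of G outside N, then either H is normal in G or F*(G) has a strongly embedded subgroup. -/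
theorem result {G : Type*} [Group G] [Finite G]
    (hF : IsSimpleGroup ↥(Cfsg.generalizedFittingSubgroup G)) (hF' : ¬ IsMulCommutative ↥(Cfsg.generalizedFittingSubgroup G))
    (H : Subgroup G) (hH : Cfsg.IsTightlyEmbedded H)
    (hodd : ∀ g : G, g ∉ Subgroup.normalizer (H : Set G) →
      Odd (Nat.card ↥(H.map (MulAut.conj g).toMonoidHom ⊓ Subgroup.normalizer (H : Set G)))) :
    H.Normal ∨ ∃ M : Subgroup ↥(Cfsg.generalizedFittingSubgroup G), Cfsg.IsStronglyEmbedded M := by
  refine (S1911.result H hH hodd).imp_right fun hS => ?_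
  have hC := H10.centralizer_fstar_le G
  haveI : (generalizedFittingSubgroup G).Normal := inferInstance
  generalize generalizedFittingSubgroup G = F at *
  have hFK : F ≤ normalClosure H := by
    refine subgroupOf_eq_top.1 ((IsSimpleGroup.eq_bot_or_eq_top_of_normal _ inferInstance).resolve_left fun e => ?_)
    have h1 : normalClosure H ≤ C⟦F⟧ := commutator_eq_bot_iff_le_centralizer.1
      (eq_bot_iff.2 ((commutator_le_inf _ _).trans (subgroupOf_eq_bot.1 e).le_bot))
    obtain ⟨z, hz, hi⟩ := exists_iv (Nat.not_odd_iff_even.2 hH.1)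
    have h2 := h1 (subset_normalClosure hz)
    have h3 := (IsSimpleGroup.eq_bot_or_eq_top_of_normal (center F) inferInstance).resolve_left fun e2 =>
      hi.1 (congrArg Subtype.val (e2.le (mem_center_iff.2 fun x =>
        Subtype.ext (mem_centralizer_iff.1 h2 x x.2)) : (⟨z, hC h2⟩ : F) = 1))
    exact hF' ⟨⟨fun x y => mem_center_iff.1 (h3.ge (mem_top y)) x⟩⟩
  obtain ⟨i, hi, h1⟩ := exists_iv (A := F) fun ho =>
    hF' ⟨⟨IsSimpleGroup.comm_iff_isSolvable.2 (FT.solvable_of_odd ho)⟩⟩
  obtain ⟨g, hg⟩ := H11.SE.exists_conj_mem hS (u := ⟨i, hFK hi⟩) ((orderOf_coe _).symm.trans h1.ord)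
  have h2 := Normal.conj_mem inferInstance i hi g
  have h3 := h1.conj g
  replace hg : (g : G) * i * (g : G)⁻¹ ∈ N⟦H⟧ := hg
  generalize (g : G) * i * (g : G)⁻¹ = j at h2 h3 hg
  refine ⟨N⟦H⟧.subgroupOf F, H11.isStronglyEmbedded_iff.2 ⟨fun e => hS.1 ((eq_top_iff' _).2 fun x => ?_),
    Nat.not_odd_iff_even.1 fun ho => Iv.not_mem (u := (⟨j, h2⟩ : F))
      ⟨fun e => h3.1 (congrArg Subtype.val e), Subtype.ext h3.2⟩ ho hg, fun t ht h4 x hx => ?_⟩⟩
  · exact H11.SE.mem_of_conj hS (t := ⟨j, hFK h2⟩) hg ((orderOf_coe _).symm.trans h3.ord)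
      (subgroupOf_eq_top.1 e (Normal.conj_mem inferInstance j h2 x))
  · exact H11.SE.mem_of_conj hS (t := ⟨t, hFK t.2⟩) (g := ⟨x, hFK x.2⟩) ht
      ((orderOf_coe _).symm.trans ((orderOf_coe t).trans h4)) hx

end Cfsg.Agent.S3121
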