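import Cfsg.Statements.S3170
import Cfsg.Agent.H11.U6
import Cfsg.Agent.H16.Abs
import Cfsg.Agent.GW.Cor

set_option autoImplicit false
open Cfsg

namespace Cfsg.Agent.S3170

open Subgroup U5

instance (x : U10) : Decidable (x ∈ A0.comap ρ) := inferInstanceAs (Decidable (x.u ∈ A0))

theorem chk : (∀ x ∈ A0.comap ρ, (⟨1, 1⟩ : U10) * x = x * ⟨1, 1⟩ ∧ (x * x = 1 ∨ x * x = ⟨1, 1⟩)) ∧
    ∀ y ∈ A0.comap ρ, (∀ x ∈ [ea, eb, ⟨⟨0, 1, 0, 0, 0, 0, 0, 0, 0⟩, 0⟩, ⟨⟨0, 0, 1, 0, 0, 0, 0, 0, 0⟩, 0⟩,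
      ⟨⟨0, 0, 0, 0, 1, 0, 0, 0, 0⟩, 0⟩, ⟨⟨0, 0, 0, 0, 0, 1, 0, 0, 0⟩, 0⟩], x ∈ A0.comap ρ → y * x = x * y) → y = 1 ∨ y = ⟨1, 1⟩ := by
  decide +kernel

/-- Let H be a finite group with no nontrivial normal subgroup of odd order whose Sylow 2-subgroup T is isomorphic to a Sylow 2-subgroup of the Mathieu group of degree 24, and suppose that the centre of T lies in the centre of H. If E is a subgroup of T that is normal in T and extraspecial of order 2^7, and E is the only such subgroup of T, then E is normal in H. -/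
theorem result {H : Type*} [Group H] [Finite H]
    (hO : Cfsg.oddCore H = ⊥) (T : Sylow 2 H) (P : Sylow 2 ↥Cfsg.M24)
    (hT : Nonempty (↥(T : Subgroup H) ≃* ↥(P : Subgroup ↥Cfsg.M24)))
    (hZ : ∀ z ∈ (T : Subgroup H), (∀ t ∈ (T : Subgroup H), z * t = t * z) → z ∈ Subgroup.center H)
    (E : Subgroup H) (hE : E ≤ (T : Subgroup H)) (hEn : (E.subgroupOf (T : Subgroup H)).Normal)
    (hEx : Cfsg.IsExtraspecial 2 ↥E) (hE7 : Nat.card ↥E = 2 ^ 7)
    (huniq : ∀ E' : Subgroup H, E' ≤ (T : Subgroup H) → (E'.subgroupOf (T : Subgroup H)).Normal →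
      Cfsg.IsExtraspecial 2 ↥E' → Nat.card ↥E' = 2 ^ 7 → E' = E) :
    E.Normal := by
  obtain ⟨e⟩ := hT
  obtain ⟨f⟩ := sylow_M24 P
  obtain ⟨i, ii, hi⟩ := exists_emb (e.trans f)
  have hc : ρ.ker.map i ≤ center H := by
    rintro _ ⟨x, hx, rfl⟩
    refine hZ _ (hi.le ⟨x, rfl⟩) fun t ht => ?_
    obtain ⟨y, rfl⟩ := hi.ge ht
    rw [← map_mul, ← map_mul, mem_center_iff.1 (ker_ρ.le hx)]
  haveI : (ρ.ker.map i).Normal := ⟨fun x hx g => by rwa [mem_center_iff.1 (hc hx) g, mul_inv_cancel_right]⟩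
  have hs := QuotientGroup.mk'_surjective (ρ.ker.map i)
  have hk := QuotientGroup.ker_mk' (ρ.ker.map i)
  set π := QuotientGroup.mk' (ρ.ker.map i)
  have hρ : Function.Surjective ρ := fun x => ⟨⟨x, 0⟩, rfl⟩
  obtain ⟨j, hj⟩ : ∃ j : U9 →* H ⧸ ρ.ker.map i, j.comp ρ = π.comp i :=
    ⟨_, ρ.liftOfRightInverse_comp (fun x => ⟨x, 0⟩) (fun _ => rfl) ⟨π.comp i, fun x hx => hk.ge (mem_map_of_mem i hx)⟩⟩
  have jj : Function.Injective j := (injective_iff_map_eq_one j).2 fun x hx => by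
    obtain ⟨x, rfl⟩ := hρ x
    exact (mem_map_iff_mem ii).1 (hk.le ((DFunLike.congr_fun hj x).symm.trans hx))
  have h1 := (normal (GW.oddCore_of_central hO hs (hk.le.trans hc)) (T.mapSurjective hs) jj (by
    rw [Sylow.coe_mapSurjective, ← hi, MonoidHom.map_range, ← hj, ← MonoidHom.map_range,
      MonoidHom.range_eq_top.2 hρ, MonoidHom.range_eq_map])).comap π
  rw [← map_comap_eq_self_of_surjective hρ A0, map_map, hj, ← map_map,
    comap_map_eq_self (hk.le.trans (map_mono (ker_le_comap _ _)))] at h1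
  rwa [← huniq _ ((map_le_range i _).trans hi.le) (h1.subgroupOf _) ?_ ?_]
  · have m : ∀ x ∈ A0.comap ρ, i x ∈ (A0.comap ρ).map i := fun x => mem_map_of_mem i
    refine H16.extraspecial_of (t := ⟨i ⟨1, 1⟩, m _ (by decide)⟩) (fun h => ?_) ?_ ?_ ?_
      ⟨⟨i ea, m _ (by decide)⟩, ⟨i ⟨⟨0, 0, 0, 0, 0, 1, 0, 0, 0⟩, 0⟩, m _ (by decide)⟩, fun h => ?_⟩
    · exact absurd (ii ((congrArg Subtype.val h).trans (map_one i).symm)) (by decide)
    · rintro ⟨_, x, hx, rfl⟩
      exact Subtype.ext (by simp only [coe_mul, ← map_mul, (chk.1 x hx).1])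
    · rintro ⟨_, x, hx, rfl⟩
      exact (chk.1 x hx).2.imp (fun h => Subtype.ext (by simp only [coe_mul, ← map_mul, h, map_one, coe_one]))
        fun h => Subtype.ext (by simp only [coe_mul, ← map_mul, h])
    · rintro ⟨_, x, hx, rfl⟩ h
      exact (chk.2 x hx fun y _ hy => ii (by simpa using congrArg Subtype.val (h ⟨i y, m y hy⟩))).imp
        (fun h => Subtype.ext (by simp only [h, map_one, coe_one])) fun h => Subtype.ext (by simp only [h])
    · have := congrArg Subtype.val h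
      simp only [coe_mul, ← map_mul, ii.eq_iff] at this
      exact absurd this (by decide)
  · have h2 := (A0.comap ρ).card_mul_index
    have h3 := A0.card_mul_index
    rw [index_comap_of_surjective _ hρ, card10] at h2
    rw [card9, show Nat.card A0 = 64 from cardA] at h3
    rw [card_map_of_injective ii]
    have : A0.index = 8 := by omega
    rw [this] at h2; omega

end Cfsg.Agent.S3170
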