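import Cfsg.Statements.S3177
import Cfsg.Agent.H11.U3S
import Cfsg.Agent.H21.Base4

set_option autoImplicit false
open Cfsg

namespace Cfsg.Agent.S3177

/-- Let n ≥ 3 and let G be a finite group whose Sylow 2-subgroups are isomorphic to those of PSU(3, 2^n), realised over the field with 4^n elements. Then either G is solvable of 2-length at most one, or the quotient of G by its largest normal subgroup of odd order has a normal subgroup of odd index isomorphic to PSU(3, 2^n). -/
theorem result {G : Type*} [Group G] [Finite G]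
    (n : ℕ) (hn : 3 ≤ n) {F : Type*} [Field F] [Fintype F] (hF : Fintype.card F = 4 ^ n)
    (S : Sylow 2 G) (P : Sylow 2 (Cfsg.PSU 3 F (2 ^ n)))
    (hS : Nonempty (↥(S : Subgroup G) ≃* ↥(P : Subgroup (Cfsg.PSU 3 F (2 ^ n))))) :
    (Group.IsSolvable G ∧ Cfsg.PLengthLE 2 1 G) ∨
      ∃ N : Subgroup (G ⧸ Cfsg.oddCore G), N.Normal ∧ Odd N.index ∧ Nonempty (↥N ≃* Cfsg.PSU 3 F (2 ^ n)) := by
  obtain ⟨e⟩ := hS
  have hF' : Fintype.card F = (2 ^ n) ^ 2 := by rw [hF, ← pow_mul, mul_comm, pow_mul]; rfl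
  have hq : 8 ≤ 2 ^ n := Nat.pow_le_pow_right two_pos hn
  obtain ⟨X, Y, h⟩ := H11.exists_uc_PSU hF' (Nat.even_pow.2 ⟨even_two, by omega⟩) P
  have hπ := QuotientGroup.mk'_surjective (oddCore G)
  have hc : (Nat.card (pPrimeCore 2 G)).Coprime 2 := H10.OqOf_top (G := G) 2 ▸ H10.OqOf_coprime
  let f : (S : Subgroup G) ≃* (S.mapSurjective hπ : Subgroup (G ⧸ oddCore G)) := MulEquiv.ofBijective
    ((QuotientGroup.mk' (oddCore G)).subgroupMap S) ⟨(injective_iff_map_eq_one _).2 fun x hx => Subtype.ext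
      ((H10.eq_bot_of_isPGroup_of_coprime (S.2.to_inf_left (K := oddCore G))
        (hc.coprime_dvd_left (Subgroup.card_dvd_of_le inf_le_right))).le ⟨x.2, (QuotientGroup.eq_one_iff _).1 (congrArg Subtype.val hx)⟩),
      MonoidHom.subgroupMap_surjective _ _⟩
  have h1 := h.comp (f.symm.trans e)
  rcases (U3S.ut_of _ h1 (by rw [H12.q0_frobq]; omega)).main GP.O_quot hq (by
      rw [h1.card_eq, H12.q0_frobq, Nat.card_eq_fintype_card, hF']; ring)
    (by rw [Subgroup.card_map_of_injective (Subgroup.subtype_injective _), h1.card_center, H12.q0_frobq]) with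
    h2 | ⟨L, h2, h3, K, _, _, h4, ⟨g⟩⟩
  · have h3 := (S.mapSurjective hπ).not_dvd_index
    refine .inl ⟨?_, H21.pLengthLE_one_iff.2 fun h4 => h3 (h4.trans ?_)⟩
    · haveI := H10.oddSolv _ (Nat.coprime_two_right.1 hc)
      haveI := H10.oddSolv ((G ⧸ oddCore G) ⧸ (S.mapSurjective hπ : Subgroup (G ⧸ oddCore G)))
        (Nat.not_even_iff_odd.1 fun a => h3 a.two_dvd)
      haveI := (S.mapSurjective hπ).2.isNilpotent
      haveI := solvable_of_ker_le_range _ _ ((QuotientGroup.ker_mk' _).le.trans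
        (S.mapSurjective hπ : Subgroup (G ⧸ oddCore G)).range_subtype.ge)
      exact solvable_of_ker_le_range _ _ ((QuotientGroup.ker_mk' _).le.trans (oddCore G).range_subtype.ge)
    · rw [pPrimePCore, Subgroup.index_comap_of_surjective _ hπ]
      exact Subgroup.index_dvd_of_le (H10.le_pCore (S.mapSurjective hπ).2)
  · obtain ⟨k⟩ := H12.nonempty_ringEquiv_of_natCard_eq (F := K) (K := F) (by
      rw [Nat.card_eq_fintype_card, Nat.card_eq_fintype_card, h4, hF'])
    exact .inr ⟨L, h2, h3, ⟨g.trans (H12.psuCongr 3 _ k)⟩⟩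

end Cfsg.Agent.S3177
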