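import Cfsg.Statements.S3179
import Mathlib
import Cfsg.Agent.H15.Sz2
import Cfsg.Agent.H2.Lin1
import Cfsg.Agent.H2.Hup2
import Cfsg.Agent.H9.PLen
import Cfsg.Agent.H12.Torus
import Cfsg.Agent.S0243
import Cfsg.Agent.S0280

set_option autoImplicit false
open Cfsg

namespace Cfsg.Agent.S3179

open Subgroup Matrix

theorem cardGL : Nat.card (GL (Fin 5) (ZMod 2)) = 9999360 := by
  rw [card_GL_field]; simp [Fin.prod_univ_five]

theorem cube (x : GL (Fin 5) (ZMod 2)) (hx : ∃ k, x ^ 3 ^ k = 1) : x ^ 3 = 1 := by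
  classical
  obtain ⟨k, hk⟩ := hx
  obtain ⟨j, -, hj⟩ := (Nat.dvd_prime_pow Nat.prime_three).1 (orderOf_dvd_of_pow_eq_one hk)
  have h1 := orderOf_dvd_natCard x
  rw [hj, cardGL] at h1
  have h2 : j < 3 := by
    by_contra h
    exact absurd ((pow_dvd_pow 3 (not_lt.1 h)).trans h1) (by decide)
  by_contra h3
  obtain rfl : j = 1 + 1 := by
    rw [← orderOf_dvd_iff_pow_eq_one, hj] at h3
    interval_cases j <;> simp_all
  let W := LinearMap.ker (toLin' (x ^ 3).1 - 1)
  have mem : ∀ v, v ∈ W ↔ x ^ 3 • v = v := fun v => by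
    simp only [W, LinearMap.mem_ker, LinearMap.sub_apply, sub_eq_zero, toLin'_apply]; rfl
  have := H2.Pm.card_dvd_ncard_of_free (zpowers x) ((W : Set (Fin 5 → ZMod 2))ᶜ)
    (by
      rintro _ ⟨i, rfl⟩ v hv h
      refine hv ((mem v).2 ?_)
      rwa [SetLike.mem_coe, mem, ← mul_smul, ((Commute.refl x).pow_left 3 |>.zpow_right i).eq, mul_smul,
        smul_left_cancel_iff] at h)
    fun g hg v hv h => by_contra fun h1 => hv ((mem v).2 (zpowers_le.2
      (show g ∈ MulAction.stabilizer _ v from h) (H2.Pm.mem_zpowers_of_prime_pow Nat.prime_three hj hg h1)))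
  have h4 := Set.ncard_add_ncard_compl (W : Set (Fin 5 → ZMod 2))
  have h5 : (W : Set (Fin 5 → ZMod 2)).ncard = 2 ^ Module.finrank (ZMod 2) W := by
    exact (Module.natCard_eq_pow_finrank (K := ZMod 2) (V := W)).trans (by simp)
  have h6 : Module.finrank (ZMod 2) W < 5 := by
    simpa using Submodule.finrank_lt (s := W) fun e => h3 (Units.ext (toLin'.injective
      (LinearMap.ext fun v => by
        rw [toLin'_apply, toLin'_apply, Units.val_one, one_mulVec]; exact (mem v).1 (e ▸ trivial))))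
  rw [Nat.card_zpowers, hj] at this
  rw [h5, Nat.card_eq_fintype_card] at h4
  simp only [Fintype.card_pi, ZMod.card, Finset.prod_const, Finset.card_univ, Fintype.card_fin] at h4
  generalize Module.finrank (ZMod 2) W = i at *
  interval_cases i <;> omega

theorem bound {n : ℕ} (h : 2 ^ n ∣ 9999360) : n < 11 := by
  by_contra h1
  exact absurd ((pow_dvd_pow 2 (not_lt.1 h1)).trans h) (by decide)

/-- Let X be a section of the general linear group GL(5, 2), that is, a quotient of a subgroup of it. If X is isomorphic to PSL(2, 2^n) for some n ≥ 2, to a Suzuki group over the field with 2^(2m+1) elements for some m ≥ 1, or to PSU(3, 2^n) for some n ≥ 2, then X is isomorphic to PSL(2, 4). -/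
theorem result {H : Subgroup (GL (Fin 5) (ZMod 2))}
    {K : Subgroup ↥H} [K.Normal]
    (hX : (∃ (n : ℕ) (F : Type) (_ : Field F) (_ : Fintype F), 2 ≤ n ∧ Fintype.card F = 2 ^ n ∧
        Nonempty (↥H ⧸ K ≃* Matrix.ProjectiveSpecialLinearGroup (Fin 2) F)) ∨
      (∃ (m : ℕ) (F : Type) (_ : Field F) (_ : Fintype F), 1 ≤ m ∧ Fintype.card F = 2 ^ (2 * m + 1) ∧
        Nonempty (↥H ⧸ K ≃* ↥(Cfsg.Lie.Sz F (2 ^ (m + 1))))) ∨
      (∃ (n : ℕ) (F : Type) (_ : Field F) (_ : Fintype F), 2 ≤ n ∧ Fintype.card F = 4 ^ n ∧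
        Nonempty (↥H ⧸ K ≃* Cfsg.PSU 3 F (2 ^ n)))) :
    ∃ (F : Type) (_ : Field F) (_ : Fintype F), Fintype.card F = 4 ∧
      Nonempty (↥H ⧸ K ≃* Matrix.ProjectiveSpecialLinearGroup (Fin 2) F) := by
  have hd : Nat.card (H ⧸ K) ∣ 9999360 :=
    cardGL ▸ (card_quotient_dvd_card K).trans (card_subgroup_dvd_card H)
  rcases hX with ⟨n, F, _, _, hn, hF, ⟨e⟩⟩ | ⟨m, F, _, _, hm, hF, ⟨e⟩⟩ | ⟨n, F, _, _, hn, hF, ⟨e⟩⟩
  · have h1 := S0243.result hF 2 le_rfl
    rw [← Nat.card_congr e.toEquiv, Nat.Coprime.gcd_eq_one (Nat.coprime_two_left.2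
      (Nat.Even.sub_odd Nat.one_le_two_pow (by simp [Nat.even_pow]; omega) odd_one)), one_mul,
      Fin.prod_univ_two, Fin.val_zero, Fin.val_one, pow_zero, pow_one, pow_two,
      show 2 ^ n * 2 ^ n - 2 ^ n = (2 ^ n - 1) * 2 ^ n by rw [Nat.sub_one_mul], mul_left_comm,
      Nat.mul_right_inj (Nat.sub_ne_zero_of_lt (Nat.one_lt_two_pow (by omega)))] at h1
    rw [h1] at hd
    have := bound ((dvd_mul_left _ _).trans hd)
    have h3 : n ≠ 3 := by
      rintro rfl
      haveI : Fact (Nat.Prime 3) := ⟨Nat.prime_three⟩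
      obtain ⟨t, t1, -⟩ := H12.exists_orderOf_eq (F := F) (k := 9) (.inr (by rw [hF]; decide)) (by decide)
      obtain ⟨x, x1, x2⟩ := H9.exists_pElt_lift (p := 3) (n := 2)
        (f := e.toMonoidHom.comp (QuotientGroup.mk' K))
        (e.surjective.comp (QuotientGroup.mk'_surjective K)) (y := QuotientGroup.mk' (center _) t)
        (by rw [← map_pow, show t ^ 3 ^ 2 = 1 from orderOf_dvd_iff_pow_eq_one.1 t1.dvd, map_one])
      have a1 : x ^ 3 = 1 := Subtype.ext (cube x (x1.imp fun k hk => congrArg Subtype.val hk))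
      have a2 : t ^ 3 ∈ center _ := (QuotientGroup.eq_one_iff _).1
        (show QuotientGroup.mk' _ (t ^ 3) = 1 by rw [map_pow, ← x2, ← map_pow, a1, map_one])
      obtain ⟨r, r1, r2⟩ := Matrix.SpecialLinearGroup.mem_center_iff.1 a2
      have : (t ^ 3) ^ 2 = 1 := Subtype.ext (by
        rw [Matrix.SpecialLinearGroup.coe_pow, ← r2, ← map_pow, show r ^ 2 = 1 from r1, map_one]; rfl)
      rw [← pow_mul, ← orderOf_dvd_iff_pow_eq_one, t1] at this
      omega
    interval_cases n
    · exact ⟨F, _, _, hF, ⟨e⟩⟩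
    all_goals first | exact absurd rfl h3 | exact absurd hd (by decide)
  · haveI := H15.Sz.charP_two hF
    rw [Nat.card_congr e.toEquiv, (H15.Sz.lieModel hm hF).card_G, Nat.card_eq_fintype_card, hF] at hd
    have := bound (n := (2 * m + 1) * 2) (pow_mul 2 _ 2 ▸ ((dvd_mul_right _ _).mul_right _).trans hd)
    have : m < 3 := by omega
    interval_cases m <;> exact absurd hd (by decide)
  · have h1 := S0280.result (q := 2 ^ n) (hF.trans (by rw [← pow_mul, mul_comm, pow_mul]; rfl)) 3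
      (by decide)
    rw [← Nat.card_congr e.toEquiv] at h1
    have h2 := h1 ▸ Nat.mul_dvd_mul (Nat.gcd_dvd_left 3 (2 ^ n + 1)) (mul_dvd_mul_left (2 ^ n + 1) hd)
    have h3 := (dvd_mul_right _ _).trans h2
    have o : Odd (2 ^ n + 1) := Even.add_one (by simp [Nat.even_pow]; omega)
    rw [← pow_mul, ← mul_assoc] at h3
    have := bound ((Nat.Coprime.pow_left _ (Nat.coprime_two_left.2
      ((by decide : Odd 3).mul o))).dvd_of_dvd_mul_left h3)
    have : n < 4 := by omega
    interval_cases n <;> exact absurd h2 (by decide)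

end Cfsg.Agent.S3179
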