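import Cfsg.Statements.S3182
import Cfsg.Agent.CI.E
import Cfsg.Agent.WA.Main

set_option autoImplicit false
open Cfsg

namespace Cfsg.Agent.S3182

/-- Simple groups with central Sylow 2-intersections. Let G be a non-abelian finite simple group in which the intersection of any two distinct Sylow 2-subgroups is contained in the centre of some Sylow 2-subgroup. Then G is isomorphic to PSL(2, q) for some prime power q ≡ 0, 3 or 5 mod 8; or G has abelian Sylow 2-subgroups and an involution t whose centralizer is a maximal subgroup of G and is the direct product of the subgroup generated by t with a subgroup E having a normal subgroup isomorphic to PSL(2, q), q odd and greater than 3, with trivial centralizer in E; or G is isomorphic to a Suzuki group Sz(2^(2m+1)) with m ≥ 1, or to PSU(3, 2^n) with n ≥ 2. -/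
theorem result {G : Type*} [Group G] [Finite G] [IsSimpleGroup G]
    (hG : ¬ IsMulCommutative G)
    (hCI : ∀ S T : Sylow 2 G, S ≠ T → ∃ U : Sylow 2 G,
      (S : Subgroup G) ⊓ (T : Subgroup G) ≤ (Subgroup.center ↥(U : Subgroup G)).map (U : Subgroup G).subtype) :
    (∃ (F : Type) (_ : Field F) (_ : Fintype F),
        (Fintype.card F % 8 = 0 ∨ Fintype.card F % 8 = 3 ∨ Fintype.card F % 8 = 5) ∧
        Nonempty (G ≃* Matrix.ProjectiveSpecialLinearGroup (Fin 2) F)) ∨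
    ((∀ S : Sylow 2 G, IsMulCommutative ↥(S : Subgroup G)) ∧
      ∃ t : G, orderOf t = 2 ∧ IsCoatom (Subgroup.centralizer ({t} : Set G)) ∧
        ∃ E : Subgroup G, Cfsg.IsInternalDirectProduct (Subgroup.zpowers t) E (Subgroup.centralizer ({t} : Set G)) ∧
          ∃ (F : Type) (_ : Field F) (_ : Fintype F), Odd (Fintype.card F) ∧ 3 < Fintype.card F ∧
            ∃ N : Subgroup ↥E, N.Normal ∧ Nonempty (↥N ≃* Matrix.ProjectiveSpecialLinearGroup (Fin 2) F) ∧
              Subgroup.centralizer (N : Set ↥E) = ⊥) ∨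
    (∃ (m : ℕ) (F : Type) (_ : Field F) (_ : Fintype F), 1 ≤ m ∧ Fintype.card F = 2 ^ (2 * m + 1) ∧
        Nonempty (G ≃* ↥(Cfsg.Lie.Sz F (2 ^ (m + 1))))) ∨
    (∃ (n : ℕ) (F : Type) (_ : Field F) (_ : Fintype F), 2 ≤ n ∧ Fintype.card F = 4 ^ n ∧
        Nonempty (G ≃* Cfsg.PSU 3 F (2 ^ n))) := by
  have L : ∀ (F : Type) [Field F] [Fintype F], (∃ n : ℕ, 2 ≤ n ∧ Fintype.card F = 2 ^ n) →
      Nonempty (G ≃* Matrix.ProjectiveSpecialLinearGroup (Fin 2) F) → ∃ (F : Type) (_ : Field F) (_ : Fintype F),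
        (Fintype.card F % 8 = 0 ∨ Fintype.card F % 8 = 3 ∨ Fintype.card F % 8 = 5) ∧
        Nonempty (G ≃* Matrix.ProjectiveSpecialLinearGroup (Fin 2) F) := fun F _ _ ⟨n, h1, h2⟩ ⟨e⟩ => by
    rcases h1.eq_or_lt with rfl | h1
    · have := Fact.mk Nat.prime_five
      obtain ⟨f⟩ := CI.psl_four h2
      exact ⟨ZMod 5, _, inferInstance, by simp, ⟨e.trans f⟩⟩
    · obtain ⟨k, rfl⟩ := Nat.exists_eq_add_of_le h1
      exact ⟨F, _, _, Or.inl (by rw [h2, pow_add]; simp), ⟨e⟩⟩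
  obtain ⟨S⟩ : Nonempty (Sylow 2 G) := inferInstance
  by_cases hS : IsMulCommutative (S : Subgroup G)
  · rcases WA.walter hG (fun T _ hT a ha b hb => by
      obtain ⟨U, hU⟩ := hT.exists_le_sylow
      exact H21.comm_iff.1 (CI.comm_all hS U) a (hU ha) b (hU hb)) with
      ⟨F, _, _, h1, h2⟩ | ⟨F, _, _, h1, -, h2⟩ | ⟨t, E, E₀, F, _, _, h1, h2, h3, h4, h5, h6, h7, h8, ⟨e⟩⟩
    · exact Or.inl (L F h1 h2)
    · exact Or.inl ⟨F, _, _, Or.inr h1, h2⟩
    · refine Or.inr (Or.inl ⟨CI.comm_all hS, t, h1, h2, E, h3, F, _, _, h7, h8, E₀.subgroupOf E,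
        Subgroup.normal_subgroupOf_of_le_normalizer h5, ⟨(Subgroup.subgroupOfEquivOfLe h4).trans e⟩,
        eq_bot_iff.2 fun x hx => Subtype.ext (Subgroup.mem_bot.1 (h6 ▸ Subgroup.mem_inf.2 ⟨x.2, fun y hy => ?_⟩))⟩)
      exact congrArg Subtype.val (hx ⟨y, h4 hy⟩ hy)
  · rcases CI.CIG.bender hCI hG hS with ⟨F, _, _, h1, h2⟩ | ⟨F, _, _, m, h1, h2, h3⟩ | ⟨F, _, _, n, h1, h2, h3⟩
    · exact Or.inl (L F h1 h2)
    · exact Or.inr (Or.inr (Or.inl ⟨m, F, _, _, h1, h2, h3⟩))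
    · exact Or.inr (Or.inr (Or.inr ⟨n, F, _, _, h1, by rw [h2, ← pow_mul, mul_comm, pow_mul]; rfl, h3⟩))

end Cfsg.Agent.S3182
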