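import Cfsg.Statements.S3185
import Cfsg.Agent.CI.J
import Cfsg.Agent.H10.Four

set_option autoImplicit false
open Cfsg

namespace Cfsg.Agent.S3185

/-- Call an involution of a finite group 2-central when it lies in the centre of some Sylow 2-subgroup, and call an intersection of two distinct Sylow 2-subgroups central when it is trivial or contains a 2-central involution. Let G be a non-abelian finite simple group in which every central intersection of two distinct Sylow 2-subgroups has 2-rank at most one (no Klein four-subgroup). Then G is isomorphic to PSL(2, 2^n) with n ≥ 2, to a Suzuki group over the field with 2^(2m+1) elements with m ≥ 1, to PSU(3, 2^n) with n ≥ 2, to PSL(2, q) with q ≡ 3 or 5 mod 8 and q > 5, or G is simple of order 175560 (the order of the first Janko group). -/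
theorem result {G : Type*} [Group G] [Finite G] [IsSimpleGroup G]
    (hG : ¬ IsMulCommutative G)
    (h : ∀ S T : Sylow 2 G, S ≠ T →
      ((S : Subgroup G) ⊓ (T : Subgroup G) = ⊥ ∨
        ∃ z ∈ (S : Subgroup G) ⊓ (T : Subgroup G), orderOf z = 2 ∧
          ∃ U : Sylow 2 G, z ∈ (Subgroup.center ↥(U : Subgroup G)).map (U : Subgroup G).subtype) →
      Cfsg.PRankLE 2 1 ↥((S : Subgroup G) ⊓ (T : Subgroup G))) :
    (∃ (n : ℕ) (F : Type) (_ : Field F) (_ : Fintype F), 2 ≤ n ∧ Fintype.card F = 2 ^ n ∧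
        Nonempty (G ≃* Matrix.ProjectiveSpecialLinearGroup (Fin 2) F)) ∨
    (∃ (m : ℕ) (F : Type) (_ : Field F) (_ : Fintype F), 1 ≤ m ∧ Fintype.card F = 2 ^ (2 * m + 1) ∧
        Nonempty (G ≃* ↥(Cfsg.Lie.Sz F (2 ^ (m + 1))))) ∨
    (∃ (n : ℕ) (F : Type) (_ : Field F) (_ : Fintype F), 2 ≤ n ∧ Fintype.card F = 4 ^ n ∧
        Nonempty (G ≃* Cfsg.PSU 3 F (2 ^ n))) ∨
    (∃ (F : Type) (_ : Field F) (_ : Fintype F), (Fintype.card F % 8 = 3 ∨ Fintype.card F % 8 = 5) ∧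
        5 < Fintype.card F ∧ Nonempty (G ≃* Matrix.ProjectiveSpecialLinearGroup (Fin 2) F)) ∨
    Cfsg.IsJ1 G := by
  have h4 : CI.U4 G := fun S T x hx y hy ix iy e hc => by_contra fun hne => H10.not_pRankLE_one_iff.2
    ⟨_, (Subgroup.closure_le _).2 (by rintro _ (rfl | rfl) <;> assumption),
      H11.isKleinFour_closure ix.ord iy.ord e (hc y hy.1).symm⟩ (h S T hne (Or.inr ⟨x, hx, ix.ord, S, ⟨x, hx.1⟩,
        Subgroup.mem_center_iff.2 fun s => Subtype.ext (hc s s.2), rfl⟩))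
  rcases h4.gt hG with ⟨h2, ⟨F, _, _, ⟨n, h5, h6⟩, e⟩ | ⟨F, _, _, h5, h6, ⟨e⟩⟩ | h5⟩ | ⟨F, _, _, ⟨n, h5, h6⟩, e⟩ |
    ⟨F, _, _, m, h5, h6, e⟩ | ⟨F, _, _, n, h5, h6, e⟩
  · exact Or.inl ⟨n, F, _, _, h5, h6, e⟩
  · by_cases h7 : Fintype.card F = 5
    · have := Fintype.ofFinite (GaloisField 2 2)
      have h8 : Fintype.card (GaloisField 2 2) = 2 ^ 2 := by
        rw [← Nat.card_eq_fintype_card, GaloisField.card 2 2 two_ne_zero]
      exact Or.inl ⟨2, _, _, _, le_rfl, h8, ⟨(e.trans (S0253.result h7).some).trans (S0252.result h8).some.symm⟩⟩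
    · exact Or.inr (Or.inr (Or.inr (Or.inl ⟨F, _, _, h5, by omega, ⟨e⟩⟩)))
  · exact Or.inr (Or.inr (Or.inr (Or.inr (JR.isJ1_of_iso (CI.jrt_j1 h2 h5 h4)))))
  · exact Or.inl ⟨n, F, _, _, h5, h6, e⟩
  · exact Or.inr (Or.inl ⟨m, F, _, _, h5, h6, e⟩)
  · exact Or.inr (Or.inr (Or.inl ⟨n, F, _, _, h5, by rw [h6, ← pow_mul, mul_comm, pow_mul]; rfl, e⟩))

end Cfsg.Agent.S3185
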