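import Cfsg.Statements.S3186
import Cfsg.Agent.H24.AI5
import Cfsg.Agent.H24.AI6
import Cfsg.Agent.H24.Sco
import Cfsg.Agent.S1169
import Cfsg.Agent.S0206

set_option autoImplicit false
open Cfsg

namespace Cfsg.Agent.S3186

/-- Let G be a non-abelian finite simple group in which the intersection of any two distinct Sylow 2-subgroups is abelian. Then a Sylow 2-subgroup of G is either dihedral (of order at least 4) or of nilpotency class at most two (its derived subgroup is central). -/
theorem result {G : Type*} [Group G] [Finite G] [IsSimpleGroup G]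
    (hG : ¬ IsMulCommutative G)
    (hA : ∀ S T : Sylow 2 G, S ≠ T → IsMulCommutative ↥((S : Subgroup G) ⊓ (T : Subgroup G))) (S : Sylow 2 G) :
    (∃ m : ℕ, 2 ≤ m ∧ Nonempty (↥(S : Subgroup G) ≃* DihedralGroup m)) ∨
      commutator ↥(S : Subgroup G) ≤ Subgroup.center ↥(S : Subgroup G) := by
  open Subgroup Cfsg.Agent.H24 in
  open scoped commutatorElement in
    by_contra hc
    rw [not_or] at hc
    have nse : ∀ H : Subgroup G, ¬ IsStronglyEmbedded H := fun H hH =>
      hc.2 (bender_class_two (BS.Bd.isBender_of_se hH) S)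
    have conv : ⁅(S : Subgroup G), (S : Subgroup G)⁆ ≤ 𝐂[(S : Subgroup G)] → False := fun h => hc.2 (by
      rw [_root_.commutator_def, commutator_le]
      intro a _ b _
      exact mem_center_iff.2 fun c => Subtype.ext
        (mem_centralizer_iff'.1 (h (commutator_mem_commutator a.2 b.2)) c c.2))
    have nab : ¬ IsMulCommutative (S : Subgroup G) := fun h => conv (by
      rw [le_centralizer_iff_commutator.1 (isMulCommutative_iff_le_centralizer.1 h)]; exact bot_le)
    have H : AI.Hy (S : Subgroup G) := ⟨sylIn_top S, fun P g h1 h2 h3 => by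
      by_contra h4
      have h5 : S ≠ g⁻¹ • S := fun e => h4 (by simpa using inv_mem (Sylow.smul_eq_iff_mem_normalizer.1 e.symm))
      exact h3 (isMulCommutative_iff_le_centralizer.1 (isMulCommutative_of_le
        (le_inf h1 (cj_le_iff.1 h2)) (hA S _ h5)))⟩
    rcases AI.main H (Sco.perf hG) (fun e => nab (e ▸ inferInstance)) (fun M h1 h2 => by
      by_contra h0
      exact ((S1169.result S M h0 (isMulCommutative_iff_le_centralizer.2 h1) h2).resolve_left nab).elim nse)
      with h | ⟨x, y, x2, y2, x1, y1, hxy, e⟩
    · exact conv h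
    · refine hc.1 ⟨orderOf (x * y), ?_, e ▸ S0206.result x y (orderOf_eq_prime (by rwa [sq]) x1)
        (orderOf_eq_prime (by rwa [sq]) y1) hxy⟩
      have h1 : orderOf (x * y) ≠ 1 := fun h => hxy (by
        rw [← inv_eq_of_mul_eq_one_left y2, eq_inv_iff_mul_eq_one]; exact orderOf_eq_one_iff.1 h)
      have := orderOf_pos (x * y)
      omega

end Cfsg.Agent.S3186
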