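import Cfsg.Statements.S3206
import Cfsg.Agent.H11.JR

set_option autoImplicit false
open Cfsg

namespace Cfsg.Agent.S3206

/-- Let G be a non-abelian finite simple group with abelian Sylow 2-subgroups, and let t be an involution of G whose centralizer is a maximal subgroup of G and is the direct product of the subgroup generated by t with a subgroup E having a normal subgroup isomorphic to PSL(2, q), q odd and greater than 3, with trivial centralizer in E. Then every finite perfect group having a central 2-subgroup with quotient isomorphic to G has that central subgroup trivial (G has no nontrivial perfect central extension by a 2-group), and every automorphism of G of 2-power order that fixes every element of some Sylow 2-subgroup of G is inner. -/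
theorem result {G : Type*} [Group G] [Finite G] [IsSimpleGroup G]
    (hG : ¬ IsMulCommutative G) (hab : ∀ S : Sylow 2 G, IsMulCommutative ↥(S : Subgroup G))
    (t : G) (ht : orderOf t = 2) (hmax : IsCoatom (Subgroup.centralizer ({t} : Set G)))
    (E : Subgroup G) (hE : Cfsg.IsInternalDirectProduct (Subgroup.zpowers t) E (Subgroup.centralizer ({t} : Set G)))
    {F : Type*} [Field F] [Fintype F] (hFo : Odd (Fintype.card F)) (hF3 : 3 < Fintype.card F)
    (N : Subgroup ↥E) [N.Normal] (hN : Nonempty (↥N ≃* Matrix.ProjectiveSpecialLinearGroup (Fin 2) F))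
    (hNc : Subgroup.centralizer (N : Set ↥E) = ⊥) :
    (∀ (L : Type) (_ : Group L) (_ : Finite L) (Z : Subgroup L) (_ : Z.Normal), commutator L = ⊤ → Z ≤ Subgroup.center L →
        IsPGroup 2 ↥Z → Nonempty (L ⧸ Z ≃* G) → Z = ⊥) ∧
    (∀ (φ : G ≃* G) (k : ℕ), φ ^ (2 ^ k) = 1 → (∃ S : Sylow 2 G, ∀ s ∈ (S : Subgroup G), φ s = s) →
        ∃ g : G, ∀ x : G, φ x = g * x * g⁻¹) := by
  haveI : Fact (Nat.Prime 2) := ⟨Nat.prime_two⟩
  have he : Even (Nat.card G) := even_iff_two_dvd.2 (ht ▸ orderOf_dvd_natCard t)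
  refine ⟨fun L _ _ Z _ hL hZ h2 ⟨ψ⟩ => ?_, fun φ k hk ⟨S, hS⟩ => ?_⟩
  · obtain ⟨φ⟩ := hN
    obtain ⟨S, hS⟩ := (H11.isPGroup_zpowers_of_orderOf (p := 2) (k := 1) (x := t) ht).exists_le_sylow
    obtain ⟨h, h1, h3⟩ := H11.JR.of_psl2 (E₀ := N.map E.subtype) (hab S) ht
      (hS (Subgroup.mem_zpowers t)) hE (Subgroup.map_subtype_le N)
      (fun e he => Subgroup.mem_normalizer_fintype (by
        rintro _ ⟨n, hn, rfl⟩
        exact ⟨_, ‹N.Normal›.conj_mem n hn ⟨e, he⟩, rfl⟩))
      (eq_bot_iff.2 fun e he => by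
        have : (⟨e, he.1⟩ : E) ∈ Subgroup.centralizer (N : Set E) := fun n hn =>
          Subtype.ext (he.2 _ ⟨n, hn, rfl⟩)
        rw [hNc] at this
        exact congrArg Subtype.val (Subgroup.mem_bot.1 this))
      hF3 ((N.equivMapOfInjective _ E.subtype_injective).symm.trans φ)
    have hk : (ψ.toMonoidHom.comp (QuotientGroup.mk' Z)).ker = Z := by
      rw [← MonoidHom.comap_ker, (MonoidHom.ker_eq_bot_iff _).2 ψ.injective, MonoidHom.comap_bot,
        QuotientGroup.ker_mk']
    rw [← hk] at hZ h2 ⊢
    exact h.cover_bot hG (H11.commutator_self_of_simple h3) hFo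
      ((N.equivMapOfInjective _ E.subtype_injective).symm.trans φ) _
      (ψ.surjective.comp (QuotientGroup.mk'_surjective Z)) hL hZ h2
  · obtain ⟨j, -, hj⟩ := (Nat.dvd_prime_pow Nat.prime_two).1 (orderOf_dvd_of_pow_eq_one hk)
    exact S4593.result (H11.center_eq_bot_of_simple hG) (H11.pPrimeCore_eq_bot_of_simple he) S
      (hab S) φ ⟨j, hj⟩ hS

end Cfsg.Agent.S3206
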