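import Cfsg.Statements.S3252
import Cfsg.Agent.H15Z.F

set_option autoImplicit false
open Cfsg

namespace Cfsg.Agent.S3252

/-- Let G be a finite non-solvable group that is the product G = AB of a cyclic subgroup A and a subgroup B all of whose Sylow subgroups are cyclic. Then the quotient of G by its largest solvable normal subgroup is isomorphic to PGL₂(p) for some prime p > 3. -/
theorem result {G : Type*} [Group G] [Finite G] (hG : ¬ Group.IsSolvable G)
    (A B : Subgroup G) (hA : IsCyclic ↥A) (hB : ∀ (q : ℕ) [Fact q.Prime] (Q : Sylow q ↥B), IsCyclic ↥(Q : Subgroup ↥B))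
    (hAB : ∀ g : G, ∃ a ∈ A, ∃ b ∈ B, g = a * b)
    (R : Subgroup G) [hR : R.Normal] (hRs : Group.IsSolvable ↥R) (hRmax : ∀ N : Subgroup G, N.Normal → Group.IsSolvable ↥N → N ≤ R) :
    ∃ (F : Type) (_ : Field F) (_ : Fintype F) (p : ℕ), p.Prime ∧ 3 < p ∧ Fintype.card F = p ∧
      Nonempty ((G ⧸ R) ≃* (GL (Fin 2) F ⧸ Subgroup.center (GL (Fin 2) F))) := by
  have h : H15Z.Hyp A B := ⟨hA, ⟨fun p hp P => @hB p ⟨hp⟩ P⟩, hAB⟩
  have hq : ¬ Group.IsSolvable (G ⧸ R) := fun e => hG (H15Z.sol_of_normal R hRs e)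
  obtain ⟨p, v, hT⟩ := H15Z.main _ rfl (h.map (QuotientGroup.mk'_surjective R))
    (H15Z.rf_quot hRs hRmax) hq
  obtain ⟨F, _, _, hF, ⟨φ⟩⟩ := hT.iso
  exact ⟨F, _, _, p, hT.prime, hT.big hq, hF, ⟨φ⟩⟩

end Cfsg.Agent.S3252
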