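import Cfsg.Statements.S3254
import Cfsg.Agent.H19.P3e
import Cfsg.Agent.S0497

set_option autoImplicit false
open Cfsg

namespace Cfsg.Agent.S3254
open Cfsg.Agent.H19 MulAction

/-- Let p > 3 be a prime and G a finite non-abelian simple group acting faithfully and transitively on a set Ω of 3p points, such that the normalizer of a Sylow p-subgroup of G has order 2p. If the action is primitive then p = 5 and G ≅ A₆; if it is imprimitive then p = 2^m + 1 for some m and G ≅ PSL₂(2^m). -/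
theorem result {G : Type*} [Group G] [Finite G] [IsSimpleGroup G] (hG : ¬ IsMulCommutative G)
    (p : ℕ) (hp : p.Prime) (hp3 : 3 < p) {Ω : Type*} [Fintype Ω] [MulAction G Ω] [FaithfulSMul G Ω]
    (htr : MulAction.IsPretransitive G Ω) (hΩ : Fintype.card Ω = 3 * p)
    (P : Sylow p G) (hN : Nat.card ↥(Subgroup.normalizer ((P : Subgroup G) : Set G)) = 2 * p) :
    (MulAction.IsPreprimitive G Ω → p = 5 ∧ Nonempty (G ≃* ↥(alternatingGroup (Fin 6)))) ∧
      (¬ MulAction.IsPreprimitive G Ω → ∃ (F : Type) (_ : Field F) (_ : Fintype F) (m : ℕ), Fintype.card F = 2 ^ m ∧ p = 2 ^ m + 1 ∧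
        Nonempty (G ≃* Matrix.ProjectiveSpecialLinearGroup (Fin 2) F)) := by
  have := Fintype.ofFinite G
  have := Fact.mk hp
  rw [Fintype.card_eq_nat_card] at hΩ
  have h5 := hp.five_le_of_ne_two_of_ne_three (by omega) (by omega)
  haveI : Nontrivial Ω := Finite.one_lt_card_iff_nontrivial.mp (by omega)
  obtain ⟨a⟩ : Nonempty Ω := inferInstance
  have hi := (index_stabilizer_of_transitive G a).trans hΩ
  have hd : p ∣ Nat.card G := (Dvd.intro_left _ hi.symm).trans (Subgroup.index_dvd_card _)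
  obtain ⟨x, hx, hP, hn⟩ := exists_gen_of_two P (by omega) (P.ne_bot_of_dvd_card hd) hN
  have hne : NN x ≠ ⊤ := fun e => by
    rcases (Subgroup.normalizer_eq_top_iff.mp e).eq_bot_or_eq_top with e | e
    · exact P.ne_bot_of_dvd_card hd (hP ▸ e)
    · exact not_cyclic_of_not_comm hG (isCyclic_iff_exists_zpowers_eq_top.mpr ⟨x, e⟩)
  have hN' : Nat.card (NN x) = 2 * p := by rw [NN, hP, hN]
  refine ⟨fun hpr => ?_, fun hpr => ?_⟩
  · have hO := core_bot_of_primitive (G := G) (Dvd.intro_left _ hΩ.symm)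
    obtain ⟨h, he, hc⟩ := setup_two hx hn hO hN' hne
    obtain ⟨h1, h2, ⟨B, h3, h4, h6⟩ | ⟨h3, h4⟩ | ⟨h3, h4⟩⟩ := h.three hG he h5 hΩ
    · refine absurd hpr (not_prim_one hG h1 h5 hΩ h2 ?_ h6)
      rcases h5.eq_or_lt with rfl | e
      · exact isoF_five (B.card_five hc he rfl h3 h4 hO).1
      · exact (B.fam he h5 h3 h4 hO).iso hc (by have := hp.eq_two_or_odd; omega)
    · obtain ⟨e1, e2⟩ := h.case_two hG h1 h5 hΩ h2 h3 h4
      exact ⟨e1, S0497.result e2⟩
    · exact (h.case_three hG h1 h5 hΩ h2 h3 h4).elim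
  rw [← isCoatom_stabilizer_iff_preprimitive G a, IsCoatom, not_and, not_forall] at hpr
  obtain ⟨M, hM⟩ := hpr fun e => by rw [e, Subgroup.index_top] at hi; omega
  push Not at hM
  have h1 := Subgroup.relIndex_mul_index hM.1.le
  have h2 : M.index = p := by
    rw [hi] at h1
    have h3 : M.index ≠ 1 := fun e => hM.2 (Subgroup.index_eq_one.mp e)
    have h4 : (stabilizer G a).relIndex M ≠ 1 := fun e => hM.1.not_ge (Subgroup.relIndex_eq_one.mp e)
    by_cases h6 : p ∣ M.index
    · obtain ⟨k, hk⟩ := h6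
      rw [hk, mul_comm p, ← mul_assoc] at h1
      rcases (Nat.dvd_prime Nat.prime_three).mp
        (Dvd.intro _ (Nat.eq_of_mul_eq_mul_right hp.pos h1)) with e | e
      · exact absurd e h4
      · rw [e] at h1
        rw [hk, show k = 1 by have := Nat.eq_of_mul_eq_mul_right hp.pos h1; omega, mul_one]
    · have h7 := (Nat.dvd_prime Nat.prime_three).mp
        ((hp.coprime_iff_not_dvd.mpr h6).symm.dvd_of_dvd_mul_right (Dvd.intro_left _ h1))
      have h8 := two_mul_card_dvd_factorial_index hG M hM.2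
      rw [h7.resolve_left h3] at h8
      have := Nat.le_of_dvd (by norm_num [Nat.factorial]) ((Nat.mul_dvd_mul_left 2 hd).trans h8)
      norm_num [Nat.factorial] at this
      omega
  haveI : FaithfulSMul G (G ⧸ M) := ⟨fun h =>
    toPermHom_injective_of_simple (exists_smul_ne_quotient M hM.2) (Equiv.ext h)⟩
  haveI : IsPreprimitive G (G ⧸ M) := IsPreprimitive.of_prime_card (h2 ▸ hp : M.index.Prime)
  haveI : Nontrivial (G ⧸ M) := Finite.one_lt_card_iff_nontrivial.mp (h2 ▸ hp.one_lt : 1 < M.index)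
  have h3 : IsoF p G := by
    rcases perm_two (α := G ⧸ M) h2.symm.dvd (h2.le.trans (by omega)) h5 (fun _ => h2.le) hx hn hN'
      hne with ⟨rfl, e, _⟩ | ⟨-, e, -⟩
    · exact isoF_five e
    · exact e
  obtain ⟨m, F, _, _, e1, e2, e3, -⟩ := h3.psl (by omega)
  exact ⟨F, _, _, m, e1, e2, e3⟩

end Cfsg.Agent.S3254
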