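import Cfsg.Statements.S3255
import Cfsg.Agent.H15J.G

set_option autoImplicit false
open Cfsg

namespace Cfsg.Agent.S3255

/-- Let G be a finite triply transitive permutation group on a set Ω of more than 3 points whose size is divisible by 3. Then every nontrivial normal subgroup H of G has at most two orbits on the set of ordered triples of distinct points of Ω; and if moreover |Ω| ≢ 2 (mod 4), then H is triply transitive or H contains a normal subgroup isomorphic to PSL₂(q) with q = |Ω| − 1. -/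
theorem result {G : Type*} [Group G] [Finite G]
    {Ω : Type*} [Fintype Ω] [MulAction G Ω] [FaithfulSMul G Ω] (h3 : MulAction.IsMultiplyPretransitive G Ω 3)
    (hΩ : 3 ∣ Fintype.card Ω) (hΩ3 : 3 < Fintype.card Ω) (H : Subgroup G) [hHn : H.Normal] (hH : H ≠ ⊥) :
    Nat.card (MulAction.orbitRel.Quotient ↥H (Fin 3 ↪ Ω)) ≤ 2 ∧
      (Fintype.card Ω % 4 ≠ 2 → MulAction.IsMultiplyPretransitive ↥H Ω 3 ∨
        ∃ (N : Subgroup ↥H) (F : Type) (_ : Field F) (_ : Fintype F), N.Normal ∧ Fintype.card F + 1 = Fintype.card Ω ∧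
          Nonempty (↥N ≃* Matrix.ProjectiveSpecialLinearGroup (Fin 2) F)) := by
  rw [← Nat.card_eq_fintype_card] at hΩ hΩ3
  obtain ⟨N, hN, _, h⟩ := H15J.exists_bs h3 hΩ hΩ3 H hH
  obtain ⟨a⟩ : Nonempty Ω := (Nat.card_pos_iff.1 (by omega)).1
  obtain ⟨b, ba, -⟩ := H15J.exists_avoid hΩ3 a a a
  refine ⟨H15J.card_orbits (fun x y e => ?_) ((h.two ba.symm).mono hN), fun h4 => ?_⟩
  · obtain ⟨g, hg, e⟩ := h.t2 a b x y ba.symm e
    exact ⟨g, hN hg, e⟩
  · rw [← Nat.card_eq_fintype_card] at h4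
    refine (h.psl h4).imp (H2.Pm.mt_mono hN) ?_
    rintro ⟨F, _, _, e1, ⟨e⟩⟩
    exact ⟨N.subgroupOf H, F, inferInstance, inferInstance, inferInstance, e1,
      ⟨(Subgroup.subgroupOfEquivOfLe hN).trans e⟩⟩

end Cfsg.Agent.S3255
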