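import Cfsg.Statements.S3278
import Cfsg.Agent.GW.SE
import Cfsg.Agent.S0493
import Cfsg.Agent.S0494
import Cfsg.Agent.S3224
import Cfsg.Agent.H4.BSW4

set_option autoImplicit false
open Cfsg

namespace Cfsg.Agent.S3278

open Cfsg.Agent.H4


/-- Let G be a finite simple group with an involution x such that a Sylow 2-subgroup of C_G(x) is a Klein four-group which is normal in C_G(x). Then G is isomorphic to the alternating group of degree 5 (that is, to PSL(2, 5)). -/
theorem result {G : Type*} [Group G] [Finite G] [IsSimpleGroup G] (x : G) (hx : orderOf x = 2)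
    (S₀ : Subgroup G) (hle : S₀ ≤ Subgroup.centralizer ({x} : Set G)) (hK : IsKleinFour ↥S₀)
    (hodd : ¬ 2 ∣ S₀.relIndex (Subgroup.centralizer ({x} : Set G))) (hn : (S₀.subgroupOf (Subgroup.centralizer ({x} : Set G))).Normal) :
    Nonempty (G ≃* ↥(alternatingGroup (Fin 5))) := by
  have hxx := H11.mul_self_of_orderOf_two hx
  have hp := H11.klein_isPGroup hK
  have hS := H11.isSylIn_of_not_dvd hle hp hodd
  have hxS : x ∈ S₀ := hS.mem_of_commute (k := 1) hx (H11.mem_cent1.2 rfl) fun s hs => H11.mem_cent1.1 (hle hs)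
  have h4 := Subgroup.card_subgroup_dvd_card S₀
  rw [hK.card_four] at h4
  have hno := H11.no_index_two_of_simple (G := G) (fun e => by rw [e] at h4; omega)
  have hnc : ¬ IsCyclic G := fun _ => GW.klein_not_cyclic hK inferInstance
  obtain ⟨P, hP⟩ := hp.exists_le_sylow
  have h1 := hS.eq (Q := P ⊓ Subgroup.centralizer {x}) P.isPGroup'.to_inf_left (le_inf hP hle) inf_le_right
  rcases hP.eq_or_lt with rfl | h2
  · have hD : GW.DS G := ⟨P, 2, le_rfl, H11.nonempty_dihedral_two_of_klein hK⟩
    have h3 : Subgroup.normalizer ((P : Subgroup G) : Set G) ≠ ⊤ := fun e => by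
      rcases (Subgroup.normalizer_eq_top_iff.1 e).eq_bot_or_eq_top with e | e
      · exact GW.klein_not_cyclic hK (e ▸ inferInstance)
      · exact hno _ ((H11.card_mul_relIndex (Subgroup.zpowers_le.2 hxS)).symm.trans (by
          rw [Nat.card_zpowers, hx]) |> fun h => by
            rw [hK.card_four, e, Subgroup.relIndex_top_right] at h; omega : (Subgroup.zpowers x).index = 2)
    have h5 := GW.se_index_le hD (GW.isStronglyEmbedded_of_oneCl h3 (GW.oneCl_of_sylow (t := x)
      (H11.isSylIn_of_sylow_le P Subgroup.le_normalizer) fun v hv h5 => by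
        obtain ⟨g, -, rfl⟩ := hD.oneCl hno x trivial v trivial hx h5
        obtain ⟨n, -, h6, h7⟩ := (H11.isSylIn_top P).exists_normalizer_conj (x := x) (g := g) trivial
          (fun s hs => H11.klein_comm hK hs hxS) fun s hs => H11.klein_comm hK hs hv
        exact ⟨n, h6, h7⟩) (Subgroup.le_normalizer hxS) hx
      (Subgroup.le_normalizer_of_normal_subgroupOf hle))
    obtain ⟨f, hf⟩ := H11.exists_perm_hom_of_simple h3 h5
    have h6 := Nat.card_le_card_of_injective (f.codRestrict _ fun g =>
      H11.range_le_alternating hno f ⟨g, rfl⟩) fun a b e => hf (congrArg Subtype.val e)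
    rw [nat_card_alternatingGroup, Nat.card_eq_fintype_card (α := Fin 5), Fintype.card_fin] at h6
    exact S0494.result (S0493.result hnc (h6.trans (by decide)))
  exfalso
  have h3 := H11.card_lt_of_lt h2
  rw [hK.card_four] at h3
  obtain ⟨n, e, X, Y, h⟩ : ∃ n e X Y, H11.MC (P : Subgroup G) n e 0 X Y := by
    rcases S3224.result P.isPGroup' ⟨x, hP hxS⟩ (by rwa [Subgroup.orderOf_mk]) (by
      rw [← hK.card_four, ← H11.card_subgroupOf hP, ← h1]
      congr 3; ext g; simp [H11.mem_cent1, Subgroup.mem_subgroupOf, Subtype.ext_iff]) with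
      ⟨m, ⟨φ⟩⟩ | h4 | h4
    · have h4 := H4.card_of_dih φ
      rcases H11.dihedral_cases P.isPGroup' (by omega) φ with h5 | ⟨n, X, Y, -, h5⟩
      · have := h5.card_four; omega
      · exact ⟨n, _, X, Y, h5⟩
    · obtain ⟨n, X, Y, -, h5⟩ := H11.exists_MC_of_qd h4
      exact ⟨n, _, X, Y, h5⟩
    · omega
  obtain ⟨c, hc⟩ := (H11.thompson_transfer (H11.index_mod_four_of_relIndex_two P (h.zpowers_le 1)
    h.relIndex_zpowers) hxx).resolve_left fun ⟨M, hM, _⟩ => hno M hM
  obtain ⟨d, hd⟩ := h.mem_zpowers_X.1 hc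
  replace hd := hd.trans (congrArg X (h.orderOf_X_two.1 (hd ▸ (H11.orderOf_conj c _).trans hx)))
  have := (hS.cj c).card_le P.isPGroup' fun s hs => by
    rw [H11.cj_cent1, hd]; exact H11.mem_cent1.2 (h.z_comm hs)
  rw [H11.card_cj, hK.card_four] at this
  omega

end Cfsg.Agent.S3278
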