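import Cfsg.Statements.S3280
import Cfsg.Agent.H4.FT3c
import Cfsg.Agent.GW.Cor
import Cfsg.Agent.S3278
import Cfsg.Agent.S0254

set_option autoImplicit false
open Cfsg

namespace Cfsg.Agent.S3280

open Cfsg.Agent.H4

open Subgroup Cfsg.Agent.H10 Cfsg.Agent.H4
open scoped MatrixGroups

theorem ds_or_qd_four {G : Type*} [Group G] [Finite G] (S : Sylow 2 G) {u : G} (hu : u ∈ (S : Subgroup G))
    (h4 : orderOf u = 4) (hc : centralizer {u} = zpowers u) {V : Subgroup G} (hV : IsKleinFour V)
    (hS : V ≤ S) : GW.DS G ∨ ∃ n X Y, H11.MC (S : Subgroup G) n (H11.hh n) 0 X Y := by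
  by_cases hW : ∀ W : Subgroup S, W.Normal → ¬ IsKleinFour W
  · rcases H11.isCyclic_or_MC_of_no_normal_klein S.isPGroup' hW with h | ⟨n, e, f, X, Y, h⟩
    · exact (GW.klein_not_cyclic hV (isCyclic_of_le hS)).elim
    obtain ⟨X, Y, h⟩ := h.of_equiv (MulEquiv.refl _)
    obtain ⟨a, -, rfl⟩ := h.klein_eq hS hV
    exact ds_or_qd S hV hS fun s hs => (h.commute_Y_iff hs.1).1 (hs.2 _ GW.right_mem_pair).symm
  push Not at hW
  obtain ⟨W, hn, hW⟩ := hW
  have h1 : (S : Subgroup G) ≤ normalizer (W.map (S : Subgroup G).subtype : Subgroup G) :=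
    le_normalizer_map_subtype W
  replace hW := H11.isKleinFour_map_subtype hW
  have h2 := map_subtype_le W
  generalize W.map (S : Subgroup G).subtype = W at *
  obtain ⟨z, hz, z2, zc⟩ := H11.exists_orderOf_eq_centralizer_of_normalized S.isPGroup'
    (H11.klein_isPGroup hW) (by rintro rfl; simpa using hW.card_four) h1
  have h3 : ∀ s, orderOf s = 2 → s * u = u * s → s = u * u := fun s hs e => by
    classical
    obtain ⟨k, hk, rfl⟩ := Finset.mem_image.1 (mem_zpowers_iff_mem_range_orderOf.1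
      (hc.le (H11.mem_cent1.2 e)))
    rw [h4, Finset.mem_range] at hk
    rw [orderOf_pow, h4] at hs
    interval_cases k <;> simp_all [sq]
  have z1 := H11.ne_one_of_orderOf_two z2
  obtain ⟨v, hv, v1, vz⟩ := H11.klein_exists_other hW z
  have h5 : ∀ s ∈ (S : Subgroup G), s * v * s⁻¹ = v ∨ s * v * s⁻¹ = v * z := fun s hs => by
    rcases (H11.klein_mem_iff hW hv hz v1 z1 vz).1 (H11.conj_mem_of_mem_normalizer (h1 hs) hv) with
      h | h | h | h
    · exact absurd (by simpa using h) v1
    · exact .inl h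
    · rw [mul_inv_eq_iff_eq_mul, ← zc s hs] at h
      exact (vz (mul_left_cancel h)).elim
    · exact .inr h
  have h6 := h3 z z2 (zc u hu).symm
  have h7 : u * v * u⁻¹ = v * z := (h5 u hu).resolve_left fun e =>
    vz ((h3 v (H11.klein_orderOf hW hv v1) (mul_inv_eq_iff_eq_mul.1 e).symm).trans h6.symm)
  have vv := H11.klein_sq hW hv
  have zz := H11.klein_sq hW hz
  have h8 : u ∉ W := fun e => by have := H11.klein_orderOf hW e (by rintro rfl; simp at h4); omega
  have h9 : orderOf (u * v) = 2 := H11.orderOf_two_of (fun e => h8 (by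
    rw [eq_inv_of_mul_eq_one_left e]; exact inv_mem hv)) (calc
      _ = u * v * u⁻¹ * (u * u) * v := by group
      _ = _ := by rw [h7, ← h6, mul_assoc v, zz, mul_one, vv])
  have h10 := mul_mem hu (h2 hv)
  have h11 : ∀ s, s * v = v * s → s * (u * v) = u * v * s → s = 1 ∨ s = z := fun s e e' => by
    classical
    obtain ⟨k, hk, rfl⟩ := Finset.mem_image.1 (mem_zpowers_iff_mem_range_orderOf.1
      (hc.le (H11.mem_cent1.2 (show s * u = u * s from mul_right_cancel (b := v) (by
        rw [mul_assoc, e', mul_assoc, mul_assoc, e])))))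
    have : u * v ≠ v * u := fun e => z1 (by rw [e] at h7; simpa using h7.symm)
    rw [h4, Finset.mem_range] at hk
    interval_cases k
    · simp
    · exact (this (by simpa using e)).elim
    · exact .inr (by rw [h6, sq])
    · refine (this (mul_left_cancel (a := z) ?_)).elim
      rw [← mul_assoc, ← mul_assoc z, ← zc v (h2 hv), h6, ← pow_three', e, pow_three']; group
  refine ds_or_qd S (H11.isKleinFour_closure h9 z2 (fun e => h8 ((mul_mem_cancel_right hv).1 (e ▸ hz)))
    (zc _ h10)) (GW.closure_pair_le h10 (h2 hz)) fun s hs => ?_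
  have h12 := hs.2 _ GW.left_mem_pair
  rcases h5 s hs.1 with e | e
  · rcases h11 s (mul_inv_eq_iff_eq_mul.1 e) h12.symm with rfl | rfl
    exacts [one_mem _, GW.right_mem_pair]
  · refine (mul_mem_cancel_left (inv_mem GW.left_mem_pair)).1 ?_
    rcases h11 ((u * v)⁻¹ * s) (by
      rw [mul_assoc, mul_inv_eq_iff_eq_mul.1 e, ← h7]; group) (by rw [mul_assoc, ← h12]; group) with e | e <;>
      rw [e]
    exacts [one_mem _, GW.right_mem_pair]

theorem four {G : Type*} [Group G] [Finite G] [IsSimpleGroup G] (hG : ¬ IsMulCommutative G) {u : G}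
    (h4 : orderOf u = 4) (hc : Nat.card (centralizer ({u} : Set G)) ≤ 4) :
    Nonempty (G ≃* alternatingGroup (Fin 6)) ∨ Nonempty (G ≃* alternatingGroup (Fin 7)) ∨
      ∃ (F : Type) (_ : Field F) (_ : Fintype F), Fintype.card F = 7 ∧ Nonempty (G ≃* PSL(2, F)) := by
  have h0 : centralizer {u} = zpowers u := (eq_of_le_of_card_ge (zpowers_le.2 (H11.mem_cent1.2 rfl))
    (by rwa [Nat.card_zpowers, h4])).symm
  have hno := H11.no_index_two_of_simple (G := G) fun e =>
    hG (by haveI := isCyclic_of_prime_card (p := 2) e; infer_instance)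
  have h1 : Even (Nat.card G) := even_iff_two_dvd.2 (Dvd.dvd.trans ⟨2, h4⟩ (orderOf_dvd_natCard u))
  obtain ⟨V, hV⟩ : ∃ V : Subgroup G, IsKleinFour V := by
    by_contra! e
    obtain ⟨z, -, z2, hz, -⟩ := GW.rank_one e ((Normal.eq_bot_or_eq_top inferInstance).resolve_right
      fun e => Nat.not_odd_iff_even.2 h1 (by simpa [e] using GW.odd_oddCore (Q := G))) h1
    exact H11.ne_one_of_orderOf_two z2 (mem_bot.1 (H11.center_eq_bot_of_simple hG ▸ hz))
  obtain ⟨S, hS⟩ := (IsPGroup.of_card (p := 2) (n := 2) ((Nat.card_zpowers u).trans h4)).exists_le_sylow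
  obtain ⟨g, -, hg⟩ := (H11.isSylIn_top S).exists_cj_le (H11.klein_isPGroup hV) le_top
  rcases ds_or_qd_four S (hS (mem_zpowers u)) h4 h0 (H11.isKleinFour_cj hV g) hg with hD | ⟨n, X, Y, h⟩
  · rcases GW.gw_simple hG hD with ⟨F, _, _, ho, h3, ⟨e⟩⟩ | e
    swap
    · exact .inr (.inl e)
    obtain ⟨n, hn, hN⟩ := H12.exists_four_mul_eq ho
    have h5 : orderOf (e u) = 4 := (e.orderOf_eq u).trans h4
    obtain ⟨a, s, hD, ha, -⟩ := H12.centralizer_invol (H27.two_ne_zero_iff_odd.2 ho) (x := e u ^ 2)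
      (by rw [orderOf_pow, h5]; rfl) hN
    have h6 := (hD.mem_zpowers_or (g := e u) (H11.mem_cent1.2 (Commute.self_pow _ _).eq)).resolve_right
      fun e => by have := orderOf_dvd_of_pow_eq_one ((sq _).trans e); rw [h5] at this; omega
    have h7 := orderOf_dvd_of_mem_zpowers h6
    have h8 := orderOf_dvd_of_mem_zpowers (h0.le (show e.symm a ∈ _ from H11.mem_cent1.2 (e.injective (by
      obtain ⟨k, hk⟩ := h6
      rw [map_mul, map_mul, e.apply_symm_apply, ← hk]; exact (Commute.self_zpow a k).eq))))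
    rw [e.symm.orderOf_eq, h4] at h8
    have := Nat.dvd_antisymm h8 (h5 ▸ h7)
    rcases hN with hN | hN
    · exact .inl ⟨e.trans (S0254.result (by omega)).some⟩
    · exact .inr (.inr ⟨F, _, _, by omega, ⟨e⟩⟩)
  have h5 : IsConj (X (H11.qq n)) (Y 1) := by_contra fun e =>
    let ⟨K, _, _, hK, _⟩ := h.qd_K_of_not_uv e; hno K hK
  obtain ⟨g, rfl⟩ := isConj_iff.1 ((h.qd_four_G h4).elim id h5.trans)
  have h6 := card_le_of_le (show zpowers (X 1) ≤ _ from zpowers_le.2 (H11.mem_cent1.2 (h.X_comm 1 (H11.qq n))))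
  rw [← H11.cj_cent1, H11.card_cj] at hc
  rw [Nat.card_zpowers, h.orderOf_X_one] at h6
  have := Nat.pow_le_pow_right two_pos h.qd_three
  omega


/-- A non-cyclic finite simple group containing an element whose centralizer has order at most 4 is isomorphic to the alternating group of degree 5, 6 or 7, or to PSL(2, 7). -/
theorem result {G : Type*} [Group G] [Finite G] [IsSimpleGroup G] (hG : ¬ IsCyclic G)
    (w : G) (hw : Nat.card ↥(Subgroup.centralizer ({w} : Set G)) ≤ 4) :
    Nonempty (G ≃* ↥(alternatingGroup (Fin 5))) ∨ Nonempty (G ≃* ↥(alternatingGroup (Fin 6))) ∨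
      Nonempty (G ≃* ↥(alternatingGroup (Fin 7))) ∨
      (∃ (F : Type) (_ : Field F) (_ : Fintype F), Fintype.card F = 7 ∧ Nonempty (G ≃* Matrix.ProjectiveSpecialLinearGroup (Fin 2) F)) := by
  have hp : ¬ (Nat.card G).Prime := fun e => by
    have := Fact.mk e; exact hG (isCyclic_of_prime_card rfl)
  have h0 : ¬ IsMulCommutative G := fun _ => hp (Group.is_simple_iff_prime_card.1 inferInstance)
  have h1 : zpowers w ≤ centralizer {w} := zpowers_le.2 (H11.mem_cent1.2 rfl)
  have h2 := Nat.card_zpowers w ▸ card_dvd_of_le h1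
  have h3 := Nat.le_of_dvd Nat.card_pos h2
  have h4 : w ≠ 1 := by
    rintro rfl
    rw [show centralizer ({1} : Set G) = ⊤ from eq_top_iff.2 fun g _ => H11.mem_cent1.2 (by simp),
      card_top] at hw
    have := Nat.card_pos (α := G)
    refine h0 (IsPGroup.isMulCommutative_of_card_eq_prime_sq (p := 2) ?_)
    have := Finite.one_lt_card (α := G)
    interval_cases Nat.card G <;> simp_all [Nat.prime_two, Nat.prime_three]
  have h5 := mt orderOf_eq_one_iff.1 h4
  have h6 := orderOf_pos w
  rcases (show orderOf w = 2 ∨ orderOf w = 3 ∨ orderOf w = 4 by omega) with h | h | h <;> rw [h] at h2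
  · by_cases h7 : ∀ c ∈ centralizer ({w} : Set G), c * c = 1
    · by_cases h8 : Nat.card (centralizer ({w} : Set G)) = 4
      · exact .inl (S3278.result w h _ le_rfl (H11.isKleinFour_iff.2 ⟨h8, h7⟩) (by simp)
          (by rw [subgroupOf_self]; infer_instance))
      have h9 : zpowers w = centralizer {w} := eq_of_le_of_card_ge h1 (by rw [Nat.card_zpowers]; omega)
      obtain ⟨S, hS⟩ := (isPGroup_zpowers h).exists_le_sylow
      obtain ⟨z, hz, z2, zc⟩ := GW.exists_central_invol S.isPGroup' fun e =>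
        h4 (by simpa [e] using hS (mem_zpowers w))
      obtain rfl := ((H11.mem_zpowers_invol (H11.mul_self_of_orderOf_two h)).1 (h9.ge (H11.mem_cent1.2
        (zc w (hS (mem_zpowers w))).symm))).resolve_left (H11.ne_one_of_orderOf_two z2)
      exact (h0 ⟨⟨IsSimpleGroup.comm_iff_isSolvable.2 ((isSolvable_congr topEquiv).1 (GW.nil2_of_cyclic
        (H11.isSylIn_top S) (isCyclic_of_le fun s hs => h9.ge (H11.mem_cent1.2 (zc s hs)))).solvable)⟩⟩).elim
    push Not at h7
    obtain ⟨u, hu, h7⟩ := h7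
    have h8 : Nat.card (centralizer ({w} : Set G)) = 4 := by_contra fun e => h7 (by
      rw [← sq, ← h, ← Nat.card_zpowers, eq_of_le_of_card_ge h1 (by rw [Nat.card_zpowers]; omega)]
      exact congrArg Subtype.val (pow_card_eq_one' (x := (⟨u, hu⟩ : centralizer ({w} : Set G)))))
    have h9 : orderOf u = 4 := orderOf_eq_prime_pow (p := 2) (n := 1) (by simpa [sq] using h7) (by
      simpa [h8] using congrArg Subtype.val (pow_card_eq_one' (x := (⟨u, hu⟩ : centralizer ({w} : Set G)))))
    have h10 : zpowers u = centralizer {w} := eq_of_le_of_card_ge (zpowers_le.2 hu)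
      (by rw [Nat.card_zpowers]; omega)
    refine .inr (four h0 h9 ((card_le_of_le ?_).trans hw))
    rw [← centralizer_zpowers, h10]
    exact centralizer_le (Set.singleton_subset_iff.2 (H11.mem_cent1.2 rfl))
  · haveI := Fact.mk Nat.prime_seven
    exact ((SC3.mk h (eq_of_le_of_card_ge h1 (by rw [Nat.card_zpowers]; omega)).symm).simple h0).imp_right
      fun e => .inr (.inr ⟨ZMod 7, inferInstance, inferInstance, ZMod.card 7, e⟩)
  · exact .inr (four h0 h hw)

end Cfsg.Agent.S3280
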