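import Cfsg.Statements.S3304
import Cfsg.Agent.CI.M

set_option autoImplicit false
open Cfsg

namespace Cfsg.Agent.S3304

/-- Let G be a finite solvable group in which the intersection of any two distinct Sylow 2-subgroups has 2-rank at most 1 (contains no Klein four-group). Write Q = G/O(G), O(G) the largest normal subgroup of odd order. Then Q has a normal Sylow 2-subgroup; or Q is isomorphic to GL(2,3); or Q has order 48, centre of order 2 with central quotient isomorphic to the symmetric group of degree 4, and generalized quaternion Sylow 2-subgroups of order 16 (the binary octahedral group). The last two are the two representation groups of the symmetric group of degree 4. -/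
theorem result {G : Type*} [Group G] [Finite G] (hs : Group.IsSolvable G)
    (hI : ∀ S T : Sylow 2 G, S ≠ T → Cfsg.PRankLE 2 1 ↥((S : Subgroup G) ⊓ (T : Subgroup G))) :
    (∃ P : Sylow 2 (G ⧸ Cfsg.oddCore G), (P : Subgroup (G ⧸ Cfsg.oddCore G)).Normal) ∨
    Nonempty ((G ⧸ Cfsg.oddCore G) ≃* GL (Fin 2) (ZMod 3)) ∨
    (Nat.card (G ⧸ Cfsg.oddCore G) = 48 ∧ Nat.card ↥(Subgroup.center (G ⧸ Cfsg.oddCore G)) = 2 ∧
      Nonempty ((G ⧸ Cfsg.oddCore G) ⧸ Subgroup.center (G ⧸ Cfsg.oddCore G) ≃* Equiv.Perm (Fin 4)) ∧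
      ∀ P : Sylow 2 (G ⧸ Cfsg.oddCore G), Nonempty (↥(P : Subgroup (G ⧸ Cfsg.oddCore G)) ≃* QuaternionGroup 4)) := by
  have hf := QuotientGroup.mk'_surjective (oddCore G)
  have hU := CI.uk_map hf (by rw [QuotientGroup.ker_mk']; exact GW.odd_oddCore) (CI.uk_of hI)
  have hO : H10.OqOf 2 (⊤ : Subgroup (G ⧸ oddCore G)) = ⊥ := (H10.OqOf_top 2).trans BS.Bd.oddCore_quot
  have hs' : Group.IsSolvable (G ⧸ oddCore G) := inferInstance
  let H := G ⧸ oddCore G
  refine or_iff_not_imp_left.2 fun n => ?_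
  obtain ⟨S⟩ : Nonempty (Sylow 2 H) := inferInstance
  obtain ⟨T, e⟩ : ∃ T : Sylow 2 H, T ≠ S := by
    by_contra! e
    exact n ⟨S, Subgroup.normalizer_eq_top_iff.1 (eq_top_iff.2 fun g _ => CI.fix_iff.1 (e _))⟩
  have nk := CI.nk_Q hU (H11.isSylIn_top T) (H11.isSylIn_top S) fun x => e (Sylow.ext x)
  have hC := H10.inf_centralizer_FitOf_le_of_solvable (H := (⊤ : Subgroup H)) inferInstance
  rw [H10.FitOf_eq_OpOf hO, top_inf_eq] at hC
  have hQ := fun P : Sylow 2 H => CI.Q_le (H11.isSylIn_top P)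
  have : (H10.OpOf 2 (⊤ : Subgroup H)).Normal := Subgroup.normalizer_eq_top_iff.1 (top_le_iff.1 CI.nQ)
  have np : ¬ IsPGroup 2 (⊤ : Subgroup H) := fun h => n ⟨S, S.is_maximal' h le_top ▸ inferInstance⟩
  rcases H11.aut_cases H10.OpOf_isPGroup nk.sub with h | ⟨⟨i⟩⟩
  · exact absurd ((h.to_subgroup ⊤).comap_of_ker_isPGroup MulAut.conjNormal (H10.OpOf_isPGroup.to_le fun x hx =>
      hC fun y hy => (mul_inv_eq_iff_eq_mul.1 (show x * y * x⁻¹ = y from congrArg Subtype.val
        (DFunLike.congr_fun (MonoidHom.mem_ker.1 hx) (⟨y, hy⟩ : H10.OpOf 2 (⊤ : Subgroup H))))).symm)) np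
  set ι := (H10.OpOf 2 (⊤ : Subgroup H)).subtype.comp i.symm.toMonoidHom
  have r : ι.range = H10.OpOf 2 ⊤ := by
    rw [MonoidHom.range_comp, MonoidHom.range_eq_top.2 i.symm.surjective, ← MonoidHom.range_eq_map, Subgroup.range_subtype]
  rw [← r] at hC hQ nk this
  obtain ⟨ρ, h⟩ := CI.exists_fr ((Subgroup.subtype_injective _).comp i.symm.injective) hC
  have c1 : Nat.card H ∣ 48 := h.card ▸ Nat.mul_dvd_mul_left 2 (CI.card_aut ▸ Subgroup.card_subgroup_dvd_card _)
  have c2 : ∀ P : Sylow 2 H, Nat.card (P : Subgroup H) = 16 := fun P => by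
    obtain ⟨k, hk⟩ := P.2.exists_card_eq
    have h1 : 2 ^ k ∣ 2 ^ 4 := (Nat.Coprime.pow_left k (by decide : Nat.Coprime 2 3)).dvd_of_dvd_mul_right
      (hk ▸ (Subgroup.card_subgroup_dvd_card _).trans c1)
    have h2 : 2 ^ 3 ∣ 2 ^ k := hk ▸ h.card_range.symm.dvd.trans (Subgroup.card_dvd_of_le (hQ P))
    rw [Nat.pow_dvd_pow_iff_le_right (by decide)] at h1 h2
    have h3 : k ≠ 3 := fun e => n ⟨P, Subgroup.eq_of_le_of_card_ge (hQ P) (by rw [hk, e, h.card_range]; decide) ▸ this⟩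
    rw [hk, show k = 4 by omega]; rfl
  have c3 : Nat.card H = 48 := Nat.dvd_antisymm c1 (Nat.Coprime.mul_dvd_of_dvd_of_dvd (m := 16) (n := 3) (by decide)
    (c2 S ▸ Subgroup.card_subgroup_dvd_card _) (by_contra fun e => np (by
      obtain ⟨k, -, hk⟩ := (Nat.dvd_prime_pow Nat.prime_two).1 (((Nat.Prime.coprime_iff_not_dvd Nat.prime_three).2
        e).symm.dvd_of_dvd_mul_right (show _ ∣ 2 ^ 4 * 3 from c1))
      exact (IsPGroup.of_card hk).to_subgroup _)))
  refine or_iff_not_imp_left.2 fun g => ⟨c3, by rw [h.center_eq, h.ker, Nat.card_zpowers, h.o], ?_, fun P => ?_⟩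
  · obtain ⟨j⟩ := S3742.result
    exact ⟨((QuotientGroup.quotientMulEquivOfEq h.center_eq).trans
      (QuotientGroup.quotientKerEquivOfSurjective ρ (h.surj c3))).trans j⟩
  · obtain ⟨k, ⟨j⟩⟩ := CI.Nk.quat (T := P) (fun W _ hW => nk W (fun w hw => by_contra fun e =>
      g (h.gl c3 (H11.klein_sq hW hw) e)) hW) P.2 fun c => by
        have := H3.isMulCommutative_iff_mem.1 c.isMulCommutative _ (hQ P ⟨QuaternionGroup.a 1, rfl⟩) _
          (hQ P ⟨QuaternionGroup.xa 0, rfl⟩)
        rw [← map_mul, ← map_mul] at this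
        exact absurd (h.inj this) (by decide)
    have := (Nat.card_congr j.toEquiv).symm.trans (c2 P)
    rw [Nat.card_eq_fintype_card, QuaternionGroup.card] at this
    obtain rfl : k = 1 := by
      have := Nat.pow_right_injective (le_refl 2) (show 2 ^ (k + 1) = 2 ^ 2 by omega)
      omega
    exact ⟨j⟩

end Cfsg.Agent.S3304
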