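import Cfsg.Statements.S3308
import Cfsg.Agent.GO.Tc
import Cfsg.Agent.S3305
import Cfsg.Agent.S3185

set_option autoImplicit false
open Cfsg

namespace Cfsg.Agent.S3308

open Subgroup Cfsg.Agent.H10 Cfsg.Agent.H11 Cfsg.Agent.GO

/-- Let G be a finite nonsolvable group in which any two distinct Sylow 2-subgroups intersect in a cyclic group, and let R be its solvable radical (the largest solvable normal subgroup). Then G has a normal subgroup G₁ of odd index containing R such that G₁/R is a non-abelian simple group isomorphic to PSL(2, 2^n) (n ≥ 2), a Suzuki group over the field with 2^(2m+1) elements (m ≥ 1), PSU(3, 2^n) (n ≥ 2), PSL(2, q) with q ≡ 3 or 5 mod 8 and q > 5, or simple of order 175560 (the order of the first Janko group). -/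
theorem result {G : Type*} [Group G] [Finite G] (hns : ¬ Group.IsSolvable G)
    (hC : ∀ S T : Sylow 2 G, S ≠ T → IsCyclic ↥((S : Subgroup G) ⊓ (T : Subgroup G)))
    (R : Subgroup G) [R.Normal] (hR : Group.IsSolvable ↥R) (hRmax : ∀ N : Subgroup G, N.Normal → Group.IsSolvable ↥N → N ≤ R) :
    ∃ (G₁ : Subgroup G) (_ : G₁.Normal) (_ : (R.subgroupOf G₁).Normal), Odd G₁.index ∧ R ≤ G₁ ∧
      IsSimpleGroup (↥G₁ ⧸ R.subgroupOf G₁) ∧ ¬ IsMulCommutative (↥G₁ ⧸ R.subgroupOf G₁) ∧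
      ((∃ (n : ℕ) (F : Type) (_ : Field F) (_ : Fintype F), 2 ≤ n ∧ Fintype.card F = 2 ^ n ∧
          Nonempty (↥G₁ ⧸ R.subgroupOf G₁ ≃* Matrix.ProjectiveSpecialLinearGroup (Fin 2) F)) ∨
      (∃ (m : ℕ) (F : Type) (_ : Field F) (_ : Fintype F), 1 ≤ m ∧ Fintype.card F = 2 ^ (2 * m + 1) ∧
          Nonempty (↥G₁ ⧸ R.subgroupOf G₁ ≃* ↥(Cfsg.Lie.Sz F (2 ^ (m + 1))))) ∨
      (∃ (n : ℕ) (F : Type) (_ : Field F) (_ : Fintype F), 2 ≤ n ∧ Fintype.card F = 4 ^ n ∧
          Nonempty (↥G₁ ⧸ R.subgroupOf G₁ ≃* Cfsg.PSU 3 F (2 ^ n))) ∨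
      (∃ (F : Type) (_ : Field F) (_ : Fintype F), (Fintype.card F % 8 = 3 ∨ Fintype.card F % 8 = 5) ∧ 5 < Fintype.card F ∧
          Nonempty (↥G₁ ⧸ R.subgroupOf G₁ ≃* Matrix.ProjectiveSpecialLinearGroup (Fin 2) F)) ∨
      Cfsg.IsJ1 (↥G₁ ⧸ R.subgroupOf G₁)) := by
  set π := QuotientGroup.mk' R
  have hπ : Function.Surjective π := QuotientGroup.mk'_surjective R
  have h : UK (⊤ : Subgroup (G ⧸ R)) := fun W hW S T hS hT h1 h2 => by
    obtain ⟨S, rfl⟩ := hS.exists_sylow_top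
    obtain ⟨T, rfl⟩ := hT.exists_sylow_top
    by_contra e
    haveI := S3305.result hC R S T fun e' => e (e' ▸ rfl)
    exact IsKleinFour.not_isCyclic (G := W) (isCyclic_of_le (le_inf h1 h2))
  have k : π.ker = R := QuotientGroup.ker_mk' R
  haveI : Nontrivial (G ⧸ R) := QuotientGroup.nontrivial_iff.2 fun e =>
    hns ((isSolvable_congr topEquiv).1 (e ▸ hR))
  have hF : FitOf (⊤ : Subgroup (G ⧸ R)) = ⊥ := by
    have n : (FitOf (⊤ : Subgroup (G ⧸ R))).Normal :=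
      normalizer_eq_top_iff.1 (top_le_iff.1 (le_normalizer_FitOf le_normalizer))
    rw [← map_comap_eq_self_of_surjective hπ (FitOf ⊤), Subgroup.map_eq_bot_iff, k]
    refine hRmax _ inferInstance (isSolvable_of_map_of_inf_ker π _ ?_
      (isSolvable_of_le (inf_le_right.trans k.le) hR))
    rw [map_comap_eq_self_of_surjective hπ]
    exact FitOf_solvable
  obtain ⟨L, l1, l2, l3, l4⟩ := h.main hF
  have e : L.comap π ⧸ R.subgroupOf (L.comap π) ≃* L := by
    refine (QuotientGroup.quotientMulEquivOfEq ?_).trans (QuotientGroup.quotientKerEquivOfSurjective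
      _ (π.subgroupComap_surjective_of_surjective _ hπ))
    ext x
    exact (Subtype.ext_iff.trans (QuotientGroup.eq_one_iff (x : G))).symm
  haveI := e.isSimpleGroup
  have l5 : ¬ IsMulCommutative (L.comap π ⧸ R.subgroupOf (L.comap π)) := fun _ =>
    l3 ⟨⟨fun a b => e.symm.injective (by rw [map_mul, map_mul, mul_comm'])⟩⟩
  refine ⟨L.comap π, inferInstance, inferInstance, by rwa [index_comap_of_surjective _ hπ],
    k.ge.trans (ker_le_comap π _), this, l5, ?_⟩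
  rcases S3185.result l3 fun S T h1 _ => by_contra fun h2 => by
      obtain ⟨W, w1, w2⟩ := not_pRankLE_one_iff.1 h2
      exact h1 (Sylow.ext (map_injective L.subtype_injective (h.mono le_top _ (isKleinFour_map_subtype w2)
        _ _ (isSylIn_map S) (isSylIn_map T) (map_mono (w1.trans inf_le_left))
        (map_mono (w1.trans inf_le_right))))) with
    ⟨n, F, _, _, a, b, ⟨f⟩⟩ | ⟨n, F, _, _, a, b, ⟨f⟩⟩ | ⟨n, F, _, _, a, b, ⟨f⟩⟩ | ⟨F, _, _, a, b, ⟨f⟩⟩ | a
  · exact .inl ⟨n, F, _, _, a, b, ⟨e.trans f⟩⟩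
  · exact .inr (.inl ⟨n, F, _, _, a, b, ⟨e.trans f⟩⟩)
  · exact .inr (.inr (.inl ⟨n, F, _, _, a, b, ⟨e.trans f⟩⟩))
  · exact .inr (.inr (.inr (.inl ⟨F, _, _, a, b, ⟨e.trans f⟩⟩)))
  · exact .inr (.inr (.inr (.inr ⟨this, (Nat.card_congr e.toEquiv).trans a.2⟩)))

end Cfsg.Agent.S3308
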