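import Cfsg.Statements.S3310
import Cfsg.Agent.CI.L

set_option autoImplicit false
open Cfsg

namespace Cfsg.Agent.S3310

/-- Let G be a finite nonsolvable group; write O(G) for its largest normal subgroup of odd order and O₂(G) for its largest normal 2-subgroup. Suppose that every intersection of two distinct Sylow 2-subgroups of G has 2-rank at most 1, that some two distinct Sylow 2-subgroups of G/O(G) have a non-cyclic intersection, and that no Sylow 2-subgroup of G is a quaternion group, ordinary or generalized (of order 2^k ≥ 8). Then either (a) O₂(G) is a quaternion group, ordinary or generalized (of order 2^k ≥ 8), and G has a normal subgroup G₁ of odd index containing O₂(G)O(G) with G₁/O₂(G)O(G) isomorphic to PSL(2,2ⁿ) (n ≥ 2), a Suzuki group over the field with 2^(2m+1) elements (m ≥ 1), or PSU(3,2ⁿ) (n ≥ 2); or (b) G has a normal subgroup G₁ containing O(G), of index odd or twice an odd number,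 with G₁/O(G) isomorphic to the central product of two copies of SL(2,5) with amalgamated centres. -/
theorem result {G : Type*} [Group G] [Finite G] (hns : ¬ Group.IsSolvable G)
    (hI : ∀ S T : Sylow 2 G, S ≠ T → Cfsg.PRankLE 2 1 ↥((S : Subgroup G) ⊓ (T : Subgroup G)))
    (hnC : ∃ S T : Sylow 2 (G ⧸ Cfsg.oddCore G), S ≠ T ∧
      ¬ IsCyclic ↥((S : Subgroup (G ⧸ Cfsg.oddCore G)) ⊓ (T : Subgroup (G ⧸ Cfsg.oddCore G))))
    (hnQ : ∀ S : Sylow 2 G, ∀ n : ℕ, IsEmpty (↥(S : Subgroup G) ≃* QuaternionGroup (2 ^ (n + 1)))) :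
    (∃ (G₁ : Subgroup G) (_ : G₁.Normal) (_ : ((Cfsg.pCore 2 G ⊔ Cfsg.oddCore G).subgroupOf G₁).Normal),
      Odd G₁.index ∧ Cfsg.pCore 2 G ⊔ Cfsg.oddCore G ≤ G₁ ∧
      (∃ n : ℕ, Nonempty (↥(Cfsg.pCore 2 G) ≃* QuaternionGroup (2 ^ (n + 1)))) ∧
      ((∃ (n : ℕ) (F : Type) (_ : Field F) (_ : Fintype F), 2 ≤ n ∧ Fintype.card F = 2 ^ n ∧
          Nonempty (↥G₁ ⧸ (Cfsg.pCore 2 G ⊔ Cfsg.oddCore G).subgroupOf G₁ ≃* Matrix.ProjectiveSpecialLinearGroup (Fin 2) F)) ∨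
       (∃ (m : ℕ) (F : Type) (_ : Field F) (_ : Fintype F), 1 ≤ m ∧ Fintype.card F = 2 ^ (2 * m + 1) ∧
          Nonempty (↥G₁ ⧸ (Cfsg.pCore 2 G ⊔ Cfsg.oddCore G).subgroupOf G₁ ≃* ↥(Cfsg.Lie.Sz F (2 ^ (m + 1))))) ∨
       (∃ (n : ℕ) (F : Type) (_ : Field F) (_ : Fintype F), 2 ≤ n ∧ Fintype.card F = 4 ^ n ∧
          Nonempty (↥G₁ ⧸ (Cfsg.pCore 2 G ⊔ Cfsg.oddCore G).subgroupOf G₁ ≃* Cfsg.PSU 3 F (2 ^ n))))) ∨
    (∃ (G₁ : Subgroup G) (_ : G₁.Normal) (_ : ((Cfsg.oddCore G).subgroupOf G₁).Normal),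
      (Odd G₁.index ∨ ∃ k : ℕ, Odd k ∧ G₁.index = 2 * k) ∧ Cfsg.oddCore G ≤ G₁ ∧
      ∃ (Z : Subgroup (Matrix.SpecialLinearGroup (Fin 2) (ZMod 5) × Matrix.SpecialLinearGroup (Fin 2) (ZMod 5))) (_ : Z.Normal),
        Z = Subgroup.zpowers ((-1 : Matrix.SpecialLinearGroup (Fin 2) (ZMod 5)), (-1 : Matrix.SpecialLinearGroup (Fin 2) (ZMod 5))) ∧
        Nonempty (↥G₁ ⧸ (Cfsg.oddCore G).subgroupOf G₁ ≃*
          (Matrix.SpecialLinearGroup (Fin 2) (ZMod 5) × Matrix.SpecialLinearGroup (Fin 2) (ZMod 5)) ⧸ Z)) := by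
  have hf := QuotientGroup.mk'_surjective (oddCore G)
  have ho : Odd (Nat.card (oddCore G)) := GW.odd_oddCore
  have hk : Odd (Nat.card (QuotientGroup.mk' (oddCore G)).ker) := by rwa [QuotientGroup.ker_mk']
  have hU := CI.uk_of hI
  obtain ⟨S', T, e, hc⟩ := hnC
  obtain ⟨S, rfl⟩ := Sylow.mapSurjective_surjective hf 2 S'
  have hS := H11.isSylIn_top (S.mapSurjective hf)
  obtain ⟨z, h⟩ := CI.exists_Gl (CI.uk_map hf hk hU) ((H10.OqOf_top 2).trans BS.Bd.oddCore_quot) hS (H11.isSylIn_top T)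
    (fun x => e (Sylow.ext x)) hc
  obtain ⟨K, hK⟩ := h.exists_comp fun s => hns (by
    have := WA.solv_of_odd ho
    exact Group.isSolvable_of_ker_le_range (oddCore G).subtype (QuotientGroup.mk' (oddCore G)) (by simp))
  by_cases u : ∀ L : Subgroup (G ⧸ oddCore G), H10.CompOf L ⊤ → L = K
  swap
  · push Not at u
    obtain ⟨L, hL, e⟩ := u
    obtain ⟨φ, h1, h2, h3⟩ := h.two hL hK e
    have ι := (QuotientGroup.quotientKerEquivRange φ).symm
    exact Or.inr ⟨φ.range.comap _, inferInstance, inferInstance, by rwa [Subgroup.index_comap_of_surjective _ hf],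
      QuotientGroup.le_comap_mk' _ _, φ.ker, inferInstance, h3, CI.quot_equiv hf (ψ := ι.toMonoidHom) ι.surjective
        fun g hg => (QuotientGroup.eq_one_iff g).symm.trans ((Subtype.ext_iff (a1 := ⟨_, hg⟩) (a2 := (1 : φ.range))).symm.trans
          ι.map_eq_one_iff.symm)⟩
  obtain ⟨W, w1, hW⟩ : ∃ W ≤ ((S.mapSurjective hf : Sylow 2 _) : Subgroup (G ⧸ oddCore G)), IsKleinFour W := by
    by_contra! n
    obtain ⟨k, ⟨i⟩⟩ := CI.Nk.quat n hS.pg fun c => hc (Subgroup.isCyclic_of_le inf_le_left)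
    exact (hnQ S k).false ((MulEquiv.ofBijective ((QuotientGroup.mk' (oddCore G)).subgroupMap S)
      ⟨fun a b x => Subtype.ext (CI.inj_of_odd hk S.2 a.2 b.2 (congrArg Subtype.val x)),
        MonoidHom.subgroupMap_surjective _ _⟩).trans i)
  obtain ⟨h1, ⟨M, n, h2, h3, ψ, h4, h5, h6⟩, _, ⟨x, hx, rfl⟩, _, ⟨y, hy, rfl⟩, o1, o2, c, e1, e2, e3, e4⟩ :=
    h.one hK u hS (H11.isSylIn_top T) (fun x => e (Sylow.ext x)) hc hW
  obtain ⟨z, hz, rfl⟩ := CI.Q_le hS h.zQ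
  set f := QuotientGroup.mk' (oddCore G) with hf'
  have o : ∀ a ∈ (S : Subgroup G), orderOf (f a) = 2 → orderOf a = 2 := fun a ha o => H11.orderOf_two_of
    (fun e => H11.ne_one_of_orderOf_two o (by simp [e])) (CI.inj_of_odd hk S.2 (mul_mem ha ha) (one_mem _)
      (by rw [map_mul, map_one, H11.mul_self_of_orderOf_two o]))
  have cm : ∀ a ∈ (S : Subgroup G), ∀ b ∈ (S : Subgroup G), f a * f b = f b * f a → a * b = b * a :=
    fun a ha b hb e => CI.inj_of_odd hk S.2 (mul_mem ha hb) (mul_mem hb ha) (by rw [map_mul, map_mul, e])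
  have v : Subgroup.closure {x, y} ≤ (S : Subgroup G) := (Subgroup.closure_le _).2 (Set.pair_subset hx hy)
  have hC := CI.cent_E8 hU (H11.isSylIn_top S) (H11.isKleinFour_closure (o x hx o1) (o y hy o2)
    (fun e => e1 (congrArg f e)) (cm x hx y hy c)) v hz (o z hz h.o) (fun e => by
      rcases (H11.mem_four_iff (H11.mul_self_of_orderOf_two (o x hx o1)) (H11.mul_self_of_orderOf_two (o y hy o2))
        (cm x hx y hy c)).1 e with e | e | e | e
      exacts [H11.ne_one_of_orderOf_two (o z hz h.o) e, e2 (congrArg f e), e3 (congrArg f e),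
        e4 (by rw [e, map_mul])]) (fun a ha => cm a (v ha) z hz (h.cen _)) ho
  set Q := H10.OpOf 2 (⊤ : Subgroup (G ⧸ oddCore G)) with hQ
  have : Q.Normal := Subgroup.normalizer_eq_top_iff.1 (top_le_iff.1 CI.nQ)
  have d : ∀ g ∈ Q.comap f, ∃ s ∈ (S : Subgroup G) ⊓ Q.comap f, s⁻¹ * g ∈ oddCore G := fun g hg => by
    obtain ⟨s, hs, e⟩ := CI.Q_le hS hg
    exact ⟨s, ⟨hs, show f s ∈ Q from e ▸ hg⟩, QuotientGroup.eq.1 e⟩
  have r : pCore 2 G = (S : Subgroup G) ⊓ Q.comap f := le_antisymm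
    (le_inf (H10.OpOf_top (G := G) 2 ▸ CI.Q_le (H11.isSylIn_top S))
      (Subgroup.map_le_iff_le_comap.1 ((H10.map_pCore_le hf).trans (H10.OpOf_top 2).ge)))
    (H10.OpOf_top (G := G) 2 ▸ (H10.le_OpOf inf_le_right (fun g hg => by
      obtain ⟨s, hs, e⟩ := d g hg
      exact (mul_mem_cancel_left (inv_mem (Subgroup.le_normalizer hs))).1 (Subgroup.centralizer_le_normalizer _
        (Subgroup.centralizer_le inf_le_left (hC e)))) S.2.to_inf_left).trans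
      (H10.SubnormalIn.OpOf_le (.of_normal le_top (Subgroup.normalizer_eq_top _).ge)))
  have r' : pCore 2 G ⊔ oddCore G = Q.comap f := le_antisymm (sup_le (r.le.trans inf_le_right)
    (QuotientGroup.le_comap_mk' _ _)) fun g hg => by
      obtain ⟨s, hs, e⟩ := d g hg
      simpa using mul_mem (Subgroup.mem_sup_left (T := oddCore G) (r.ge hs)) (Subgroup.mem_sup_right e)
  obtain ⟨k, ⟨i⟩⟩ := h.nk.quat H10.OpOf_isPGroup h1
  obtain ⟨j⟩ := CI.quot_equiv hf h4 (N := pCore 2 G ⊔ oddCore G) fun g hg => r' ▸ h6 ⟨f g, hg⟩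
  refine Or.inl ⟨M.comap f, inferInstance, inferInstance, by rwa [Subgroup.index_comap_of_surjective _ hf],
    r' ▸ Subgroup.comap_mono h3, ⟨k, ⟨(MulEquiv.ofBijective ((f.comp (pCore 2 G).subtype).codRestrict Q
      fun a => (r.le a.2).2) ⟨fun a b x => Subtype.ext (CI.inj_of_odd hk S.2 (r.le a.2).1 (r.le b.2).1
        (congrArg Subtype.val x)), fun q => ?_⟩).trans i⟩⟩, ?_⟩
  · obtain ⟨s, hs, e⟩ := CI.Q_le hS q.2
    exact ⟨⟨s, r.ge ⟨hs, show f s ∈ Q from e ▸ q.2⟩⟩, Subtype.ext e⟩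
  · rcases h5 with ⟨F, _, _, ⟨n, a, b⟩, ⟨c⟩⟩ | ⟨F, _, _, m, a, b, ⟨c⟩⟩ | ⟨F, _, _, n, a, b, ⟨c⟩⟩
    · exact Or.inl ⟨n, F, _, _, a, b, ⟨j.trans c⟩⟩
    · exact Or.inr (Or.inl ⟨m, F, _, _, a, b, ⟨j.trans c⟩⟩)
    · exact Or.inr (Or.inr ⟨n, F, _, _, a, by rw [b, ← pow_mul, mul_comm, pow_mul]; rfl, ⟨j.trans c⟩⟩)

end Cfsg.Agent.S3310
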