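import Cfsg.Statements.S3313
import Cfsg.Agent.J2T.G

set_option autoImplicit false
open Cfsg

namespace Cfsg.Agent.S3313

/-- The order of a simple group with the involution pattern of the Hall–Janko group. Let G be a non-abelian finite simple group with exactly two conjugacy classes of involutions, represented by z and t, such that: F*(C_G(z)) is an extraspecial 2-group; Q = O₂(C_G(z)) has order 32 and C_G(z) is the semidirect product of Q by a subgroup isomorphic to A₅; every involution of Q is conjugate to z and every other involution of C_G(z) is conjugate to t; C_G(t) is an internal direct product V × B with V a four-group containing t and B ≅ A₅; every involution of B is conjugate to z and every other involution of C_G(t) is conjugate to t. Then |G| = 604800. -/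
theorem result {G : Type*} [Group G] [Finite G]
    [IsSimpleGroup G] (hna : ¬ IsMulCommutative G) (z t : G) (hz : orderOf z = 2) (ht : orderOf t = 2)
    (hzt : ¬ IsConj z t) (hcl : ∀ x : G, orderOf x = 2 → IsConj x z ∨ IsConj x t)
    (hex : Cfsg.IsExtraspecial 2 ↥(Cfsg.generalizedFittingSubgroup ↥(Subgroup.centralizer ({z} : Set G))))
    (hQ : Nat.card ↥(Cfsg.pCore 2 ↥(Subgroup.centralizer ({z} : Set G))) = 32)
    (K : Subgroup G) (hK : Nonempty (↥K ≃* alternatingGroup (Fin 5)))
    (hKC : K ⊔ (Cfsg.pCore 2 ↥(Subgroup.centralizer ({z} : Set G))).map (Subgroup.centralizer ({z} : Set G)).subtype = Subgroup.centralizer ({z} : Set G))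
    (hKQ : K ⊓ (Cfsg.pCore 2 ↥(Subgroup.centralizer ({z} : Set G))).map (Subgroup.centralizer ({z} : Set G)).subtype = ⊥)
    (hQz : ∀ x ∈ (Cfsg.pCore 2 ↥(Subgroup.centralizer ({z} : Set G))).map (Subgroup.centralizer ({z} : Set G)).subtype, orderOf x = 2 → IsConj x z)
    (hCz : ∀ x ∈ Subgroup.centralizer ({z} : Set G), orderOf x = 2 →
      x ∉ (Cfsg.pCore 2 ↥(Subgroup.centralizer ({z} : Set G))).map (Subgroup.centralizer ({z} : Set G)).subtype → IsConj x t)
    (V B : Subgroup G) (hVB : Cfsg.IsInternalDirectProduct V B (Subgroup.centralizer ({t} : Set G)))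
    (hV : Nat.card ↥V = 4) (hV2 : ∀ v ∈ V, v ^ 2 = 1) (htV : t ∈ V) (hB : Nonempty (↥B ≃* alternatingGroup (Fin 5)))
    (hBz : ∀ x ∈ B, orderOf x = 2 → IsConj x z)
    (hCt : ∀ x ∈ Subgroup.centralizer ({t} : Set G), orderOf x = 2 → x ∉ B → IsConj x t) :
    Nat.card G = 604800 := by
  haveI : Fact (Nat.Prime 2) := ⟨Nat.prime_two⟩
  obtain ⟨e⟩ := hK
  have h1 := H26.isExtraspecial_congr hex
    (Subgroup.equivMapOfInjective _ _ (Subgroup.subtype_injective _))
  have h2 : H10.FstarOf (J2T.Ce z) = H10.OpOf 2 (J2T.Ce z) := H10.FstarOf_eq_OpOf_iff.2 h1.1.1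
  have h3 : Nat.card (H10.OpOf 2 (J2T.Ce z)) = 32 :=
    (Subgroup.card_map_of_injective (Subgroup.subtype_injective _)).trans hQ
  have h4 : J2T.JW (H10.OpOf 2 (J2T.Ce z)) z := ⟨H10.lx_of_fstar hz h2 (h2 ▸ h1), h3, by
    have a := H1.card_sup_of_disjoint (H10.le_normalizer_OpOf (p := 2)
      ((le_sup_left.trans hKC.le).trans Subgroup.le_normalizer)) ((inf_comm _ _).trans hKQ)
    rw [h3, Nat.card_congr e.toEquiv, JR.card_A5, sup_comm] at a
    exact (congrArg (fun H : Subgroup G => Nat.card H) hKC).symm.trans a⟩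
  obtain ⟨s, a1, a2, a3⟩ := h4.exists_om
  obtain ⟨g, rfl⟩ := isConj_iff.1 (hQz s a1 (orderOf_eq_prime (by rw [sq, a2])
    fun e => a3 (e ▸ one_mem _))).symm
  obtain ⟨_, _, _, _, _, _, h⟩ := h4.exists_je a1 (fun e => a3 (e.symm ▸ Subgroup.mem_zpowers z))
    ⟨z, t, hz, ht, hzt⟩
  exact h.order

end Cfsg.Agent.S3313
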