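import Cfsg.Statements.S3333
import Cfsg.Agent.H19.N9e
import Cfsg.Agent.H26.SylNum

set_option autoImplicit false
open Cfsg

namespace Cfsg.Agent.S3333

/-- Let G be a finite group with a Sylow 3-subgroup S of order 9 that is its own centralizer, with N_G(S)/S dihedral of order 8, and such that C_G(x) ≤ N_G(S) for every non-identity x in S. Then S is normal in G or G is isomorphic to the symmetric group of degree 6. -/
theorem result {G : Type*} [Group G] [Finite G]
    (P : Sylow 3 G) (S : Subgroup G) (hSP : S = P) (hcard : Nat.card S = 9)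
    (hC : Subgroup.centralizer (S : Set G) = S)
    (eN : Subgroup.normalizer (S : Set G) ⧸ S.subgroupOf (Subgroup.normalizer (S : Set G)) ≃* DihedralGroup 4)
    (hcent : ∀ x ∈ S, x ≠ 1 → Subgroup.centralizer ({x} : Set G) ≤ Subgroup.normalizer (S : Set G)) :
    S.Normal ∨ Nonempty (G ≃* Equiv.Perm (Fin 6)) := by
  subst hSP
  have hc : IsMulCommutative (P : Subgroup G) := Subgroup.le_centralizer_iff_isMulCommutative.1 hC.ge
  obtain ⟨c, θ, inj, hθ⟩ := H19.N9.exists_sec hcard rfl eN (by rw [DihedralGroup.nat_card]; decide)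
  have he : ∀ m ∈ (P : Subgroup G), m ^ 3 = 1 := fun m hm => by_contra fun e => by
    have h1 := H26.relIndex_centralizer_dvd_card_mulAut (P : Subgroup G)
    have : IsCyclic (P : Subgroup G) := isCyclic_of_orderOf_eq_card ⟨m, hm⟩ (by
      rw [Subgroup.orderOf_mk, hcard]
      exact orderOf_eq_prime_pow (n := 1) e (by
        rw [show 3 ^ (1 + 1) = Nat.card P from hcard.symm]
        exact orderOf_dvd_iff_pow_eq_one.1 (Subgroup.orderOf_dvd_natCard _ hm)))
    rw [IsCyclic.card_mulAut, hcard, hC, show (P : Subgroup G).relIndex _ = _ from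
      Nat.card_congr eN.toEquiv, DihedralGroup.nat_card] at h1
    exact absurd h1 (by decide)
  obtain ⟨f, h⟩ := H19.N9.exists_md8 hcard he ⟨fun a ha b hb => congrArg Subtype.val
    (hc.1.1 ⟨a, ha⟩ ⟨b, hb⟩), rfl, hcent⟩ hC.le (by rw [c, DihedralGroup.nat_card]) θ inj hθ
  exact or_iff_not_imp_left.2 fun hn => h.sym6 he fun e =>
    hn (Subgroup.normalizer_eq_top_iff.1 (h.se.norm.trans e))

end Cfsg.Agent.S3333
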