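import Cfsg.Statements.S3361
import Mathlib
import Cfsg.Agent.H2.Hup4
import Cfsg.Agent.S0688

set_option autoImplicit false
open Cfsg

namespace Cfsg.Agent.S3361

/-- Let q be a prime and V a non-trivial finite vector space over the field with q elements, and let G be a finite solvable group acting faithfully and linearly on V and regularly on the non-zero vectors (transitively, with only the identity fixing a non-zero vector). Then either V can be identified with the additive group of a finite field F so that every element of G acts as x ↦ a·σ(x) (a ∈ F, σ a field automorphism), or V has 5^2, 7^2, 11^2 or 23^2 elements. Moreover, if q ≠ 2 then G has a normal subgroup of index 2, except that when V has 25 elements G may be isomorphic to SL(2,3) and when V has 121 elements G may be isomorphic to SL(2,3) × C₅. -/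
theorem result
    (q : ℕ) [Fact q.Prime] {V : Type*} [AddCommGroup V] [Module (ZMod q) V] [Finite V] [Nontrivial V]
    {G : Type*} [Group G] [Finite G] (hsol : Group.IsSolvable G)
    (ρ : G →* (V ≃ₗ[ZMod q] V)) (hρ : Function.Injective ρ)
    (htrans : ∀ v w : V, v ≠ 0 → w ≠ 0 → ∃ g : G, ρ g v = w)
    (hreg : ∀ v : V, v ≠ 0 → ∀ g : G, ρ g v = v → g = 1) :
    ((∃ (F : Type) (_ : Field F) (_ : Fintype F) (e : V ≃+ F),
        ∀ g : G, ∃ (a : F) (σ : F ≃+* F), ∀ v : V, e (ρ g v) = a * σ (e v)) ∨
      Nat.card V ∈ ({25, 49, 121, 529} : Set ℕ)) ∧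
    (q ≠ 2 → (∃ N : Subgroup G, N.Normal ∧ N.index = 2) ∨
      (Nat.card V = 25 ∧ Nonempty (G ≃* Matrix.SpecialLinearGroup (Fin 2) (ZMod 3))) ∨
      (Nat.card V = 121 ∧ Nonempty (G ≃* Matrix.SpecialLinearGroup (Fin 2) (ZMod 3) × Multiplicative (ZMod 5)))) := by
  letI : DistribMulAction G V := DistribMulAction.compHom V ρ
  haveI : SMulCommClass G (ZMod q) V := ⟨fun g c v => map_smul (ρ g) c v⟩
  haveI : FaithfulSMul G V := ⟨fun h => hρ (LinearEquiv.ext h)⟩
  have hR : H2.Pm.RegLin G V := ⟨fun g v hv e => hreg v hv g e, htrans⟩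
  by_cases h : H2.Pm.NoAb q G V
  · have hI : H2.Pm.NoIrr q G V := fun A h1 h2 => by
      have := h A h1 h2.isMulCommutative
      unfold H2.Pm.VIrr at this
      push_neg at this
      obtain ⟨W, h3, h4, h5⟩ := this
      exact ⟨W, h4, h5, h3⟩
    refine ⟨Or.inr ?_, fun _ => or_iff_not_imp_left.2 fun h2 => hR.no2 hsol hI fun N e =>
      h2 ⟨N, Subgroup.normal_of_index_eq_two e, e⟩⟩
    obtain ⟨N, hN, e, W, h3, h4, h5⟩ := hR.q8 hsol hI
    rcases hR.card_of_q8 hI e h3 h4 h5 with h | h | h | h <;> simp [h3, h]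
  · unfold H2.Pm.NoAb at h
    push_neg at h
    obtain ⟨A, h1, h2, h3⟩ := h
    refine ⟨Or.inl (h3.gam1 h2), fun hq => Or.inl (by_contra fun hn => h3.odd h2 (fun N e =>
      hn ⟨N, Subgroup.normal_of_index_eq_two e, e⟩) ?_)⟩
    have h4 := hR.card_eq
    have h5 : Odd (Nat.card V) := H2.Pm.card_V (p := q) (V := V) ▸
      ((Fact.out : q.Prime).odd_of_ne_two hq).pow
    obtain ⟨k, hk⟩ := h5
    omega

end Cfsg.Agent.S3361
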