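import Cfsg.Statements.S3365
import Cfsg.Agent.FX.Z2
import Cfsg.Agent.FX.Z3
import Cfsg.Agent.FX.M2a
import Cfsg.Agent.FX.M3

set_option autoImplicit false
open Cfsg

namespace Cfsg.Agent.S3365

/-- Finite simple groups acting with fixity 4. Let G be a finite non-abelian simple group acting faithfully and transitively on a finite set so that every non-identity element fixes at most 4 points and some non-identity element fixes exactly 4 (fixity 4). Let P be a Sylow 3-subgroup, S a Sylow 2-subgroup, f the largest number of fixed points of an involution of G, and a a point. Then one of the following holds: (1) f ≥ 1 and G has a strongly embedded subgroup; (2) 1 ≤ f ≤ 3 and S is dihedral or semidihedral; (3) f = 4 and G has sectional 2-rank at most 4; (4) the point stabilizer G_a has odd order divisible by 3 and either G has a strongly 3-embedded subgroup (a proper subgroup H of order divisible by 3 such that H ∩ gHg⁻¹ has order prime to 3 for every element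 g outside H), or |P| = 3 and a Sylow 2-subgroup of N_G(P) has order at most 4, or P is elementary abelian of order 9, or P is extraspecial of order 27 and exponent 3, or P is isomorphic to a Sylow 3-subgroup of Sym(9) (the wreath product C₃ ≀ C₃); (5) G_a has order prime to 6. -/
theorem result {G Ω : Type*} [Group G] [Finite G] [IsSimpleGroup G] (hna : ¬ IsMulCommutative G)
    [MulAction G Ω] [FaithfulSMul G Ω] [Finite Ω] (htrans : MulAction.IsPretransitive G Ω)
    (hfix : ∀ g : G, g ≠ 1 → Nat.card (MulAction.fixedBy Ω g) ≤ 4)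
    (hfix4 : ∃ g : G, g ≠ 1 ∧ Nat.card (MulAction.fixedBy Ω g) = 4)
    (P : Sylow 3 G) (S : Sylow 2 G) (f : ℕ)
    (hf : ∀ g : G, orderOf g = 2 → Nat.card (MulAction.fixedBy Ω g) ≤ f)
    (hf' : ∃ g : G, orderOf g = 2 ∧ Nat.card (MulAction.fixedBy Ω g) = f) (a : Ω) :
    (1 ≤ f ∧ ∃ H : Subgroup G, Cfsg.IsStronglyEmbedded H) ∨
    (1 ≤ f ∧ f ≤ 3 ∧ ((∃ n : ℕ, Nonempty ((S : Subgroup G) ≃* DihedralGroup n)) ∨ Cfsg.IsQuasiDihedral (S : Subgroup G))) ∨
    (f = 4 ∧ Cfsg.SectionalPRankLE 2 4 G) ∨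
    (Odd (Nat.card (MulAction.stabilizer G a)) ∧ 3 ∣ Nat.card (MulAction.stabilizer G a) ∧
      ((∃ H : Subgroup G, H ≠ ⊤ ∧ 3 ∣ Nat.card H ∧ ∀ g : G, g ∉ H → ¬ 3 ∣ Nat.card ↥(H ⊓ H.map (MulAut.conj g).toMonoidHom)) ∨
       (Nat.card P = 3 ∧ ∀ T : Sylow 2 (Subgroup.normalizer ((P : Subgroup G) : Set G)), Nat.card T ≤ 4) ∨
       (Nat.card P = 9 ∧ ∀ x ∈ (P : Subgroup G), x ^ 3 = 1) ∨
       (Nat.card P = 27 ∧ Cfsg.IsExtraspecial 3 (P : Subgroup G) ∧ ∀ x ∈ (P : Subgroup G), x ^ 3 = 1) ∨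
       (∃ T : Sylow 3 (Equiv.Perm (Fin 9)), Nonempty ((P : Subgroup G) ≃* (T : Subgroup (Equiv.Perm (Fin 9))))))) ∨
    (Nat.card (MulAction.stabilizer G a)).Coprime 6 := by
  haveI : Fact (Nat.Prime 2) := ⟨Nat.prime_two⟩
  haveI : Fact (Nat.Prime 3) := ⟨Nat.prime_three⟩
  rcases Nat.even_or_odd (Nat.card (MulAction.stabilizer G a)) with he | ho
  · obtain ⟨t, ht⟩ := exists_prime_orderOf_dvd_card' (G := MulAction.stabilizer G a) 2 he.two_dvd
    have h1 : 1 ≤ f := le_trans (Nat.card_pos_iff.2 ⟨⟨⟨a, t.2⟩⟩, inferInstance⟩)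
      (hf t.1 ((Subgroup.orderOf_coe t).trans ht))
    by_cases h3 : f ≤ 3
    · rcases FX.m2a hna htrans S f hf hf' h1 h3 with h | h
      · exact Or.inl ⟨h1, h⟩
      · exact Or.inr (Or.inl ⟨h1, h3, h⟩)
    · obtain ⟨d, hd, hd4⟩ := hf'
      have h4 : f = 4 := by
        have := hfix d (fun e => by rw [e] at hd; simp at hd)
        omega
      rcases FX.m2b hfix htrans hd (hd4.trans h4) with h | h
      · exact Or.inl ⟨h1, h⟩
      · exact Or.inr (Or.inr (Or.inl ⟨h4, h⟩))
  · by_cases h3 : 3 ∣ Nat.card (MulAction.stabilizer G a)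
    · refine Or.inr (Or.inr (Or.inr (Or.inl ⟨ho, h3, ?_⟩)))
      rcases FX.m3 hna htrans hfix P a ho h3 (FX.wr hna) with h | h | ⟨Q, T, ⟨e⟩⟩
      · exact Or.inl h
      · exact Or.inr (Or.inr (Or.inl h))
      · exact Or.inr (Or.inr (Or.inr (Or.inr ⟨T, ⟨(Sylow.equiv P Q).trans e⟩⟩)))
    · refine Or.inr (Or.inr (Or.inr (Or.inr ?_)))
      exact (show 2 * 3 = 6 from rfl) ▸ Nat.Coprime.mul_right (Nat.coprime_two_right.2 ho)
        ((Nat.Prime.coprime_iff_not_dvd Nat.prime_three).2 h3).symm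

end Cfsg.Agent.S3365
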