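import Cfsg.Statements.S3685
import Cfsg.Agent.H9.Amal6

set_option autoImplicit false
open Cfsg

namespace Cfsg.Agent.S3685

open Subgroup H24 H9K
open scoped commutatorElement

section
variable {G : Type*} [Group G] [Finite G]

theorem le_normalizer_res {A T : Subgroup G} (h : T ≤ A) (h3 : T.relIndex A = 3) :
    A ≤ 𝐍[𝐑[T]] := by
  let K := (T.subgroupOf A).normalCore.map A.subtype
  have h1 : K ≤ T := (map_mono (normalCore_le _)).trans (map_subgroupOf_eq_of_le h).le
  have h2 : A ≤ 𝐍[K] := map_subtype_le_normalizer _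
  have h4 : K.relIndex A ∣ 6 := by
    have := H12.index_normalCore_dvd (T.subgroupOf A)
    rw [show (T.subgroupOf A).index = 3 from h3] at this
    rwa [relIndex, subgroupOf_map_subtype']
  rw [← relIndex_mul_relIndex _ _ _ h1 h, h3] at h4
  have h5 : K.relIndex T ∣ 2 := (Nat.mul_dvd_mul_iff_right (by norm_num : 0 < 3)).1 h4
  have h6 : PGrpMod 2 T K := by
    rcases (Nat.dvd_prime Nat.prime_two).1 h5 with e | e
    · exact pGrpMod_of_le (relIndex_eq_one.1 e)
    · exact fun a ha => ⟨1, by rw [pow_one, pow_two]; exact sq_mem_of_relIndex_two e ha⟩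
  rw [← pResidualOf_eq_of_le h6.pResidualOf_le h1]
  exact le_normalizer_pResidualOf_of h2

theorem half_or {A T : Subgroup G} (h : T ≤ A) (h3 : T.relIndex A = 3) (hT : IsPGroup 2 T) :
    A ≤ 𝐍[T] ∨ Half A T := by
  have hS : SylIn 2 T A := sylIn_of_not_dvd h hT (by rw [h3]; norm_num)
  let K := (T.subgroupOf A).normalCore.map A.subtype
  have h1 : K ≤ T := (map_mono (normalCore_le _)).trans (map_subgroupOf_eq_of_le h).le
  have h4 : K.relIndex A ∣ 6 := by
    have := H12.index_normalCore_dvd (T.subgroupOf A)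
    rw [show (T.subgroupOf A).index = 3 from h3] at this
    rwa [relIndex, subgroupOf_map_subtype']
  rw [← relIndex_mul_relIndex _ _ _ h1 h, h3] at h4
  have h5 : K.relIndex T ∣ 2 := (Nat.mul_dvd_mul_iff_right (by norm_num : 0 < 3)).1 h4
  have h6 : 𝐎[A].relIndex T ∣ 2 := (relIndex_dvd_of_le_left _
    (le_pCoreOf (h1.trans h) (hT.to_le h1) (map_subtype_le_normalizer _))).trans h5
  rcases (Nat.dvd_prime Nat.prime_two).1 h6 with e | e
  · exact Or.inl (le_antisymm hS.pCoreOf_le (relIndex_eq_one.1 e) ▸ le_normalizer_pCoreOf 2 A)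
  · exact Or.inr ⟨h, hT, h3, e⟩

end

/-- Let a finite group G act faithfully and primitively on a set Ω, and suppose the stabilizer of a point a has an orbit of length 3. Then the stabilizer of a is isomorphic to one of: the cyclic group of order 3, the symmetric group of degree 3, the dihedral group of order 12, the symmetric group of degree 4, or the direct product of the symmetric group of degree 4 with a group of order 2. -/
theorem result {G Ω : Type*} [Group G] [Finite G] [MulAction G Ω] [FaithfulSMul G Ω] [Finite Ω]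
    (hprim : MulAction.IsPreprimitive G Ω) (a b : Ω) (h3 : Nat.card (MulAction.orbit (MulAction.stabilizer G a) b) = 3) :
    Nonempty (MulAction.stabilizer G a ≃* Multiplicative (ZMod 3)) ∨ Nonempty (MulAction.stabilizer G a ≃* Equiv.Perm (Fin 3)) ∨
      Nonempty (MulAction.stabilizer G a ≃* DihedralGroup 6) ∨ Nonempty (MulAction.stabilizer G a ≃* Equiv.Perm (Fin 4)) ∨
      Nonempty (MulAction.stabilizer G a ≃* Equiv.Perm (Fin 4) × Multiplicative (ZMod 2)) := by
  set A := MulAction.stabilizer G a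
  set B := MulAction.stabilizer G b
  obtain ⟨g, hg⟩ := MulAction.exists_smul_eq G a b
  have hB : B = cj A g := by
    ext x
    simp only [mem_cj, A, B, MulAction.mem_stabilizer_iff, ← hg, mul_smul, inv_smul_eq_iff]
  have i1 : (A ⊓ B).relIndex A = 3 := by
    rw [inf_relIndex_left, ← h3, Nat.card_coe_set_eq, ← MulAction.index_stabilizer]
    rfl
  have i2 : (B ⊓ A).relIndex B = 3 := by
    have e1 := card_mul_relIndex (inf_le_left : A ⊓ B ≤ A)
    have e2 := card_mul_relIndex (inf_le_left : B ⊓ A ≤ B)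
    have e3 : Nat.card B = Nat.card A := by rw [hB, card_cj]
    rw [i1] at e1
    rw [e3, ← e1, inf_comm B] at e2
    rw [inf_comm]
    exact Nat.eq_of_mul_eq_mul_left (card_pos' _) e2
  have hne : ¬ B ≤ A := fun h0 => by rw [relIndex_eq_one.2 (le_inf le_rfl h0)] at i2; omega
  haveI : Nontrivial Ω := ⟨a, b, fun e => hne (by simp only [A, B, e, le_refl])⟩
  have hA : IsCoatom A := hprim.isCoatom_stabilizer_of_isPreprimitive G a
  have key : ∀ N ≤ A ⊓ B, A ≤ 𝐍[N] → B ≤ 𝐍[N] → N = ⊥ := fun N a1 a2 a3 => by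
    have hN : N.Normal := top_le_normalizer_iff.1
      (hA.2 _ (lt_of_le_not_ge a2 fun h0 => hne (a3.trans h0))).ge
    refine (eq_bot_iff_forall _).2 fun x hx => eq_of_smul_eq_smul (α := Ω) fun y => ?_
    obtain ⟨k, rfl⟩ := MulAction.exists_smul_eq G a y
    have : (k⁻¹ * x * k) • a = a := (a1 (hN.conj_mem' x hx k)).1
    rw [mul_smul, mul_smul, inv_smul_eq_iff] at this
    rw [this, one_smul]
  have hT : IsPGroup 2 (A ⊓ B :) := pResidualOf_eq_bot_iff.1 (key _ (pResidualOf_le 2 _)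
    (le_normalizer_res inf_le_left i1) (inf_comm A B ▸ le_normalizer_res inf_le_left i2))
  have hT' : IsPGroup 2 (B ⊓ A :) := inf_comm A B ▸ hT
  have hO : 𝐎[A].relIndex A = 𝐎[B].relIndex B := by rw [hB, ← cj_pCoreOf, relIndex_cj]
  have s1 : SylIn 2 (A ⊓ B) A := sylIn_of_not_dvd inf_le_left hT (by rw [i1]; norm_num)
  have s2 : SylIn 2 (B ⊓ A) B := sylIn_of_not_dvd inf_le_left hT' (by rw [i2]; norm_num)
  rcases half_or inf_le_left i1 hT with h1 | h1 <;> rcases half_or inf_le_left i2 hT' with h2 | h2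
  · have e1 := card_mul_relIndex (inf_le_left : A ⊓ B ≤ A)
    rw [i1, key _ le_rfl h1 (inf_comm B A ▸ h2), card_bot] at e1
    haveI : Fact (Nat.Prime 3) := ⟨Nat.prime_three⟩
    exact Or.inl ⟨mulEquivOfPrimeCardEq e1.symm (by simp)⟩
  · rw [s1.pCoreOf_eq_of_normal h1, i1, h2.relIndex_O] at hO; omega
  · rw [s2.pCoreOf_eq_of_normal h2, i2, h1.relIndex_O] at hO; omega
  have hE : Edge A B := ⟨h1, h2, key⟩
  by_cases hc : CharP 2 A
  · have hc' : CharP 2 B := hB ▸ hc.cj g
    have z1 : ¬ A ≤ 𝐂[𝐙[A]] := fun h0 => by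
      have h3 : B ≤ 𝐂[𝐙[B]] := by rwa [hB, ← cj_scc, ← cj_centralizer, cj_le_cj_iff]
      refine omegaOneCenter_ne_bot hT (fun e => h1.not_le (e.le.trans bot_le)) (key _
        (omegaOneCenter_le 2 _) (le_normalizer_of_le_centralizer (h0.trans (centralizer_anti
          s1.omegaOneCenter_le_scc))) (le_normalizer_of_le_centralizer (h3.trans
            (centralizer_anti (inf_comm B A ▸ s2.omegaOneCenter_le_scc)))))
    exact Or.inr (Or.inr (Or.inr ((hE.iso hc hc' z1 (by
      rwa [hB, ← cj_scc, ← cj_centralizer, cj_le_cj_iff])).imp And.right And.right)))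
  · have hc' : ¬ CharP 2 B := fun h0 => hc (by simpa [hB, cj_cj] using h0.cj g⁻¹)
    have r1 := h1.res_le_centralizer hc
    have r2 := h2.res_le_centralizer hc'
    have n1 : A ⊓ B ≤ 𝐍[𝐎[A] ⊓ 𝐎[B]] := le_normalizer_inf
      (inf_le_left.trans (le_normalizer_pCoreOf 2 A)) (inf_le_right.trans (le_normalizer_pCoreOf 2 B))
    have e1 : 𝐎[A] ⊓ 𝐎[B] = ⊥ := key _ (inf_le_left.trans h1.O_le)
      (h1.le_normalizer_of_res (r1.trans (centralizer_anti inf_le_left)) n1)
      (h2.le_normalizer_of_res (r2.trans (centralizer_anti inf_le_right)) (inf_comm A B ▸ n1))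
    have c1 : ∀ X Y : Subgroup G, Half X (X ⊓ Y) → Half Y (Y ⊓ X) → 𝐎[X] ⊓ 𝐎[Y] = ⊥ →
        Nat.card 𝐎[X] ≤ 2 := fun X Y a1 a2 a3 => by
      have e2 := card_inf_mul_relIndex 𝐎[Y] 𝐎[X]
      rw [inf_comm, a3, card_bot, one_mul] at e2
      exact e2.symm.le.trans ((relIndex_le_of_le_right (a1.O_le.trans (inf_comm X Y).le)
        (relIndex_ne_zero _)).trans a2.idx2.le)
    have c2 := c1 A B h1 h2 e1
    have c3 := c1 B A h2 h1 (inf_comm 𝐎[A] _ ▸ e1)
    obtain ⟨s, hs, hs2, hsO⟩ : ∃ s ∈ A ⊓ B, s * s = 1 ∧ s ∉ 𝐎[A] := by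
      by_cases h0 : 𝐎[B] = ⊥
      · obtain ⟨s, hs, hsO⟩ := SetLike.not_le_iff_exists.1 h1.not_le
        exact ⟨s, hs, mem_bot.1 (h0 ▸ sq_mem_of_relIndex_two h2.idx2 ⟨hs.2, hs.1⟩), hsO⟩
      · have h4 : Nat.card 𝐎[B] = 2 := by
          have := card_pos' 𝐎[B]
          have := mt card_eq_one.1 h0
          omega
        obtain ⟨z, hz, hz'⟩ := exists_zpowers_of_card_two h4
        have hzO : z ∈ 𝐎[B] := hz' ▸ mem_zpowers z
        refine ⟨z, inf_comm B A ▸ h2.O_le hzO, by rw [← pow_two, ← hz, pow_orderOf_eq_one],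
          fun h5 => ?_⟩
        rw [mem_bot.1 (e1.le (mem_inf.2 ⟨h5, hzO⟩)), orderOf_one] at hz
        omega
    exact Or.inr ((h1.dih r1 c2 hs hs2 hsO).imp_right Or.inl)

end Cfsg.Agent.S3685
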