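import Cfsg.Statements.S3390
import Mathlib
import Cfsg.Agent.H2.Lin1
import Cfsg.Agent.H2.SS
import Cfsg.Agent.H3.Frobenius
import Cfsg.Agent.S3224

set_option autoImplicit false
open Cfsg

namespace Cfsg.Agent.S3390

open Subgroup MulAction

theorem dih {S : Type*} [Group S] [Finite S] (hS : IsPGroup 2 S) (s : S) (hs : orderOf s = 2)
    (hC : Nat.card (centralizer ({s} : Set S)) = 4)
    (h4 : Nat.card S = 4 → ∃ t : S, t ≠ 1 ∧ t ≠ s ∧ t ^ 2 = 1) :
    (∃ n : ℕ, Nonempty (S ≃* DihedralGroup n)) ∨ IsQuasiDihedral S := by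
  rcases S3224.result hS s hs hC with h | h | h
  · exact Or.inl h
  · exact Or.inr h
  left
  obtain ⟨t, h1, h2, h3⟩ := h4 h
  have hs1 : s ≠ 1 := by rintro rfl; simp at hs
  have hnc : ¬ IsCyclic S := by
    intro hc
    classical
    haveI := Fintype.ofFinite S
    have h5 := IsCyclic.card_pow_eq_one_le (α := S) (n := 2) (by norm_num)
    have h6 : ({1, s, t} : Finset S) ⊆ Finset.univ.filter fun a : S => a ^ 2 = 1 := by
      intro a ha
      simp only [Finset.mem_insert, Finset.mem_singleton] at ha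
      rcases ha with rfl | rfl | rfl
      · simp
      · simp [← hs, pow_orderOf_eq_one]
      · simp [h3]
    have h7 := Finset.card_le_card h6
    rw [Finset.card_eq_three.2 ⟨1, s, t, hs1.symm, h1.symm, h2.symm, rfl⟩] at h7
    omega
  haveI : IsKleinFour S := ⟨h, (not_isCyclic_iff_exponent_eq_prime Nat.prime_two (by simpa using h)).1 hnc⟩
  exact ⟨2, IsKleinFour.nonempty_mulEquiv⟩

theorem card_cent {G : Type*} [Group G] (S : Subgroup G) (s : S) :
    Nat.card (centralizer ({s} : Set S)) = Nat.card (S ⊓ centralizer {(s : G)} : Subgroup G) := by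
  rw [← card_map_of_injective (K := centralizer ({s} : Set S)) S.subtype_injective]
  congr 2
  ext x
  simp only [mem_map, mem_centralizer_singleton_iff, mem_inf]
  constructor
  · rintro ⟨y, hy, rfl⟩
    exact ⟨y.2, congrArg Subtype.val hy⟩
  · rintro ⟨h1, h2⟩
    exact ⟨⟨x, h1⟩, Subtype.ext h2, rfl⟩

theorem ncard_orb {G Ω : Type*} [Group G] [MulAction G Ω] (S : Subgroup G) (ω : Ω) :
    Nat.card (orbit S ω) = (stabilizer G ω).relIndex S := by
  rw [Nat.card_coe_set_eq, ← index_stabilizer, relIndex]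
  rfl

/-- Let G be a finite group acting faithfully and transitively on a finite set Ω with fixity 2 (every non-identity element fixes at most two points, and some fixes exactly two). Let α ∈ Ω and S a Sylow 2-subgroup of G. Then one of the following holds: the stabilizer S_α of α in S is trivial; S is dihedral or semidihedral and either |S_α| = 2 or |S : S_α| = 2; |S| ≥ 4, S has exactly one orbit of size 2 on Ω, every other S-orbit is regular, and G has a normal subgroup of index 2 or of index |S| which is a Frobenius group; or S ≤ G_α. -/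
theorem result {G : Type*} [Group G] [Finite G] {Ω : Type*} [Fintype Ω] [MulAction G Ω] [FaithfulSMul G Ω] (htr : MulAction.IsPretransitive G Ω)
    (hfix : ∀ g : G, g ≠ 1 → Nat.card (MulAction.fixedBy Ω g) ≤ 2) (hex : ∃ g : G, g ≠ 1 ∧ Nat.card (MulAction.fixedBy Ω g) = 2) (α : Ω) (S : Sylow 2 G) :
    (S : Subgroup G) ⊓ MulAction.stabilizer G α = ⊥ ∨
    (((∃ n : ℕ, Nonempty (↥(S : Subgroup G) ≃* DihedralGroup n)) ∨ Cfsg.IsQuasiDihedral ↥(S : Subgroup G)) ∧
       (Nat.card ↥((S : Subgroup G) ⊓ MulAction.stabilizer G α) = 2 ∨ ((S : Subgroup G) ⊓ MulAction.stabilizer G α).relIndex (S : Subgroup G) = 2)) ∨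
    (4 ≤ Nat.card (S : Subgroup G) ∧
       (∃ ω : Ω, Nat.card (MulAction.orbit ↥(S : Subgroup G) ω) = 2 ∧
          ∀ ω' : Ω, ω' ∉ MulAction.orbit ↥(S : Subgroup G) ω → Nat.card (MulAction.orbit ↥(S : Subgroup G) ω') = Nat.card (S : Subgroup G)) ∧
       ∃ N : Subgroup G, N.Normal ∧ (N.index = 2 ∨ N.index = Nat.card (S : Subgroup G)) ∧ (∃ H : Subgroup ↥N, Cfsg.IsFrobeniusComplement H)) ∨
    (S : Subgroup G) ≤ MulAction.stabilizer G α := by
  classical
  have three : ∀ g : G, g ≠ 1 → ∀ a b c : Ω, g • a = a → g • b = b → g • c = c → a ≠ b →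
      c = a ∨ c = b := by
    intro g hg a b c ha hb hc hab
    by_contra h
    push Not at h
    have h1 : ({a, b, c} : Set Ω) ⊆ fixedBy Ω g := by
      rintro x (rfl | rfl | rfl) <;> assumption
    have h2 := Set.ncard_le_ncard h1
    rw [Set.ncard_eq_three.2 ⟨a, b, c, hab, h.1.symm, h.2.symm, rfl⟩] at h2
    have h3 := hfix g hg
    rw [Nat.card_coe_set_eq] at h3
    omega
  by_cases h1 : (S : Subgroup G) ⊓ stabilizer G α = ⊥
  · exact Or.inl h1
  by_cases h4 : (S : Subgroup G) ≤ stabilizer G α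
  · exact Or.inr (Or.inr (Or.inr h4))
  right
  set T := (S : Subgroup G) ⊓ stabilizer G α with hT
  have hTS : T < S := lt_of_le_of_ne inf_le_left fun h => h4 (h ▸ inf_le_right)
  obtain ⟨n, ⟨hnS, hnN⟩, hnT⟩ := SetLike.exists_of_lt (H3.lt_inf_normalizer_of_lt S.isPGroup' hTS)
  set β := n • α with hβ
  have hαβ : α ≠ β := fun h => hnT ⟨hnS, h.symm⟩
  have hTβ : ∀ t ∈ T, t • β = β := by
    intro t ht
    have h2 : n⁻¹ * t * n ∈ T := by
      have := (mem_normalizer_iff.1 (inv_mem hnN) t).1 ht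
      simpa using this
    have h3 : (n⁻¹ * t * n) • α = α := h2.2
    rw [hβ, ← mul_smul]
    nth_rewrite 2 [← h3]
    rw [← mul_smul]; congr 1; group
  have hfree : ∀ t ∈ T, ∀ ω, ω ≠ α → ω ≠ β → t • ω = ω → t = 1 := by
    intro t ht ω h2 h3 h5
    by_contra h6
    rcases three t h6 α β ω ht.2 (hTβ t ht) h5 hαβ with h | h
    exacts [h2 h, h3 h]
  obtain ⟨k, hk⟩ := IsPGroup.iff_card.1 S.isPGroup'
  obtain ⟨j, hj⟩ := IsPGroup.iff_card.1 (S.isPGroup'.to_le hTS.le)
  have hcard : Nat.card S = Nat.card T * T.relIndex S := H3.card_eq_card_mul_relIndex hTS.le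
  have hj0 : j ≠ 0 := by
    rintro rfl
    exact h1 (card_eq_one.1 (by simpa using hj))
  have hrel : T.relIndex S = (stabilizer G α).relIndex S := by rw [hT, inf_relIndex_left]
  have hβo : β ∈ orbit (S : Subgroup G) α := ⟨⟨n, hnS⟩, rfl⟩
  -- the centralizer of a point-fixing element
  have hcent : ∀ (t : G) (a : Ω) (C : Subgroup G), t ≠ 1 → t • a = a → C ≤ centralizer {t} →
      (stabilizer G a).relIndex C ≤ 2 := by
    intro t a C ht ha hC
    rw [← ncard_orb]
    refine le_trans (Nat.card_le_card_of_injective (Set.inclusion ?_) (Set.inclusion_injective _)) (hfix t ht)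
    rintro _ ⟨c, rfl⟩
    have h2 : (c : G) * t = t * c := mem_centralizer_singleton_iff.1 (hC c.2)
    change t • ((c : G) • a) = (c : G) • a
    rw [← mul_smul, ← h2, mul_smul, ha]
  by_cases h2 : T.relIndex S = 2
  swap
  · left
    obtain ⟨i, -, hi⟩ := (Nat.dvd_prime_pow Nat.prime_two).1 (hk ▸ relIndex_dvd_card T S)
    have hi0 : i ≠ 0 := by
      rintro rfl
      exact hTS.not_ge (relIndex_eq_one.1 (by simpa using hi))
    have hi1 : i ≠ 1 := by
      rintro rfl
      exact h2 (by simpa using hi)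
    have h3 := H2.Pm.card_dvd_ncard_of_free T (orbit (S : Subgroup G) α \ {α, β}) (by
      rintro g hg _ ⟨⟨s, rfl⟩, hs⟩
      refine ⟨⟨⟨g, hg.1⟩ * s, mul_smul _ _ _⟩, ?_⟩
      rintro (h | h)
      · exact hs (Or.inl (smul_left_cancel g (h.trans hg.2.symm)))
      · exact hs (Or.inr (smul_left_cancel g (h.trans (hTβ g hg).symm))))
      (fun g hg x hx h => hfree g hg x (fun h => hx.2 (Or.inl h)) (fun h => hx.2 (Or.inr h)) h)
    rw [Set.ncard_diff (by
      rintro x (rfl | rfl)
      exacts [mem_orbit_self _, hβo]), Set.ncard_pair hαβ, ← Nat.card_coe_set_eq, ncard_orb, ← hrel, hi, hj] at h3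
    have hj1 : j = 1 := by
      by_contra h
      have h5 : 2 ^ 2 ∣ 2 ^ i - 2 := (pow_dvd_pow 2 (by omega)).trans h3
      have h6 : 2 ^ 2 ∣ 2 ^ i := pow_dvd_pow 2 (by omega)
      have h7 : 2 ^ 2 ≤ 2 ^ i := Nat.pow_le_pow_right (by norm_num) (by omega)
      omega
    subst hj1
    refine ⟨?_, Or.inl (by simpa using hj)⟩
    obtain ⟨t, ht, ht1⟩ := (bot_or_exists_ne_one T).resolve_left h1
    have ht2 : orderOf t = 2 := by
      have h5 : orderOf t ∣ 2 := by simpa [hj] using orderOf_dvd_natCard T ht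
      exact ((Nat.dvd_prime Nat.prime_two).1 h5).resolve_left (by simpa using ht1)
    have hTz : T = zpowers t := (eq_of_le_of_card_ge (zpowers_le.2 ht) (by
      rw [hj, Nat.card_zpowers, ht2]; rfl)).symm
    set C := (S : Subgroup G) ⊓ centralizer {t} with hC
    have hTC : T ≤ C := by
      refine le_inf hTS.le ?_
      rw [hTz, zpowers_le]; exact mem_centralizer_singleton_iff.2 rfl
    have hnC : n ∈ C := by
      refine ⟨hnS, mem_centralizer_singleton_iff.2 ?_⟩
      have h5 : n * t * n⁻¹ ∈ T := (mem_normalizer_iff.1 hnN t).1 ht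
      rw [hTz, mem_zpowers_iff_mem_range_orderOf, ht2] at h5
      simp only [Finset.mem_image, Finset.mem_range] at h5
      obtain ⟨a, ha, h6⟩ := h5
      interval_cases a
      · exact absurd (by simpa using h6.symm) ht1
      · rw [pow_one] at h6
        nth_rewrite 2 [h6]; group
    have h5 : T.relIndex C ≤ 2 := by
      have : T.relIndex C = (stabilizer G α).relIndex C := by
        rw [← inf_relIndex_right T, ← inf_relIndex_right (stabilizer G α)]
        congr 1
        exact le_antisymm (inf_le_inf_right _ inf_le_right)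
          (le_inf (le_inf (inf_le_right.trans inf_le_left) inf_le_left) inf_le_right)
      rw [this]
      exact hcent t α C ht1 ht.2 inf_le_right
    have h6 : T.relIndex C ≠ 1 := fun h => hnT (relIndex_eq_one.1 h hnC)
    have h7 : T.relIndex C ≠ 0 := index_ne_zero_of_finite
    refine dih S.isPGroup' ⟨t, ht.1⟩ ((orderOf_mk _ _).trans ht2) ?_ ?_
    · rw [card_cent, ← hC, H3.card_eq_card_mul_relIndex hTC, hj, show T.relIndex C = 2 by omega]; rfl
    · intro h8
      rw [hcard, hj, hi] at h8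
      have h9 : 2 ^ 2 ≤ 2 ^ i := Nat.pow_le_pow_right (by norm_num) (by omega)
      omega
  have hi2 : (T.subgroupOf S).index = 2 := h2
  have hmul : ∀ a ∈ (S : Subgroup G), ∀ b ∈ (S : Subgroup G), a * b ∈ T ↔ (a ∈ T ↔ b ∈ T) :=
    fun a ha b hb => mul_mem_iff_of_index_two hi2 (a := ⟨a, ha⟩) (b := ⟨b, hb⟩)
  have hsw : ∀ s ∈ (S : Subgroup G), s ∉ T → s • α = β ∧ s • β = α := by
    intro s hs hsT
    constructor
    · have h3 : n⁻¹ * s ∈ T := (hmul _ (inv_mem hnS) _ hs).2 (by simp [hnT, hsT])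
      have h5 : (n⁻¹ * s) • α = α := h3.2
      rw [hβ]
      nth_rewrite 2 [← h5]
      rw [← mul_smul]; congr 1; group
    · have h3 : s * n ∈ T := (hmul _ hs _ hnS).2 (by simp [hnT, hsT])
      rw [hβ, ← mul_smul]; exact h3.2
  by_cases h3 : ∃ s ∈ (S : Subgroup G), s ∉ T ∧ ∃ γ : Ω, s • γ = γ
  · left
    refine ⟨?_, Or.inr h2⟩
    obtain ⟨s, hs, hsT, γ, hγ⟩ := h3
    have hγα : γ ≠ α := by
      rintro rfl
      exact hsT ⟨hs, hγ⟩
    have hγβ : γ ≠ β := by
      rintro rfl
      exact hαβ ((hsw s hs hsT).2.symm.trans hγ)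
    have hs1 : s ≠ 1 := by
      rintro rfl
      exact hsT T.one_mem
    have hs2 : orderOf s = 2 := orderOf_eq_prime (by
      rw [pow_two]
      exact hfree _ ((hmul s hs s hs).2 Iff.rfl) γ hγα hγβ (by rw [mul_smul, hγ, hγ])) hs1
    set C := (S : Subgroup G) ⊓ centralizer {s} with hC
    have hsC : s ∈ C := ⟨hs, mem_centralizer_singleton_iff.2 rfl⟩
    have h5 : Nat.card (T ⊓ C : Subgroup G) ≤ 2 := by
      refine le_trans ?_ (hcent s γ (T ⊓ C) hs1 hγ (inf_le_right.trans inf_le_right))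
      rw [H3.card_eq_card_inf_mul_relIndex (stabilizer G γ) (T ⊓ C)]
      have : stabilizer G γ ⊓ (T ⊓ C) = ⊥ :=
        eq_bot_iff.2 fun x hx => hfree x hx.2.1 γ hγα hγβ hx.1
      rw [this]; simp
    have hTN : (S : Subgroup G) ≤ normalizer (T : Set G) := by
      haveI := normal_of_index_eq_two hi2
      exact le_normalizer_of_normal_subgroupOf hTS.le
    have h6 : T ⊓ C ≠ ⊥ := fun h => H2.inf_centralizer_ne_bot S.isPGroup'.isNilpotent hTS.le hTN h1
      (eq_bot_iff.2 fun x hx => h.le ⟨hx.1, hx.1.1, mem_centralizer_singleton_iff.2 (hx.2 s hs).symm⟩)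
    have h7 : 1 < Nat.card (T ⊓ C : Subgroup G) := (one_lt_card_iff_ne_bot _).2 h6
    have h8 : T.relIndex C = 2 := by
      have h9 : T.relIndex C ≤ 2 := h2 ▸ relIndex_le_of_le_right inf_le_left index_ne_zero_of_finite
      have h10 : T.relIndex C ≠ 1 := fun h => hsT (relIndex_eq_one.1 h hsC)
      have h11 : T.relIndex C ≠ 0 := index_ne_zero_of_finite
      omega
    refine dih S.isPGroup' ⟨s, hs⟩ ((orderOf_mk _ _).trans hs2) ?_ ?_
    · rw [card_cent, ← hC, H3.card_eq_card_inf_mul_relIndex T C, h8]; omega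
    · intro h9
      obtain ⟨t, ht, ht1⟩ := (bot_or_exists_ne_one T).resolve_left h1
      refine ⟨⟨t, ht.1⟩, fun h => ht1 (congrArg Subtype.val h), fun h => hsT ?_, Subtype.ext ?_⟩
      · have : t = s := congrArg Subtype.val h
        exact this ▸ ht
      · have h10 : Nat.card T = 2 := by rw [hcard, h2] at h9; omega
        have := pow_card_eq_one' (G := T) (x := ⟨t, ht⟩)
        rw [h10] at this
        exact congrArg (fun z : T => (z : G)) this
  right; left
  push Not at h3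
  have hTi : ∀ s ∈ (S : Subgroup G), s ∈ T ↔ ∃ γ : Ω, s • γ = γ := fun s hs =>
    ⟨fun h => ⟨α, h.2⟩, fun ⟨γ, h⟩ => by_contra fun h' => h3 s hs h' γ h⟩
  refine ⟨?_, ⟨α, by rw [ncard_orb, ← hrel, h2], fun ω hω => ?_⟩, ?_⟩
  · rw [hcard, h2, hj]
    have : 2 ^ 1 ≤ 2 ^ j := Nat.pow_le_pow_right (by norm_num) (by omega)
    omega
  · rw [ncard_orb, H3.card_eq_card_inf_mul_relIndex (stabilizer G ω) S]
    have : stabilizer G ω ⊓ S = ⊥ := eq_bot_iff.2 fun x hx =>
      hfree x ((hTi x hx.2).2 ⟨ω, hx.1⟩) ω (fun h => hω (h ▸ mem_orbit_self _)) (fun h => hω (h ▸ hβo)) hx.1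
    rw [this]; simp
  have hfoc : commutator G ⊓ (S : Subgroup G) ≤ T := H3.commutator_inf_sylow_le S fun x hx g hg => by
    rw [hmul _ (inv_mem hx) _ hg, inv_mem_iff, hTi x hx, hTi _ hg]
    constructor
    · rintro ⟨γ, h⟩
      exact ⟨g • γ, by rw [mul_smul, mul_smul, inv_smul_smul, h]⟩
    · rintro ⟨γ, h⟩
      refine ⟨g⁻¹ • γ, ?_⟩
      rw [mul_smul, mul_smul] at h
      rw [eq_inv_smul_iff, h]
  set N := (commutator G ⊔ pResidual 2 G) ⊔ T with hN
  haveI hNn : N.Normal := Normal.of_commutator_le G (le_sup_left.trans le_sup_left)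
  have hSN : (S : Subgroup G) ⊓ N = T := by
    refine le_antisymm ?_ (le_inf hTS.le le_sup_right)
    rintro x ⟨hx, hxN⟩
    obtain ⟨a, ha, b, hb, rfl⟩ := mem_sup_of_normal_left.1 hxN
    have h5 : a ∈ (S : Subgroup G) := ((S : Subgroup G).mul_mem_cancel_right hb.1).1 hx
    have h6 : a ∈ (S : Subgroup G) ⊓ (commutator G ⊔ pResidual 2 G) := ⟨h5, ha⟩
    rw [H3.inf_commutator_sup_pResidual S.isPGroup'] at h6
    exact T.mul_mem (hfoc ⟨h6.2, h6.1⟩) hb
  have hNS : N ⊔ S = ⊤ := top_le_iff.1 ((H3.pResidual_sup_sylow S).ge.trans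
    (sup_le_sup_right (le_sup_right.trans le_sup_left) _))
  have hNi : N.index = 2 := by
    rw [← relIndex_top_right, ← hNS, relIndex_sup_left, ← inf_relIndex_left, hSN, h2]
  have hTN : T ≤ N := le_sup_right
  have hodd : ¬ 2 ∣ (stabilizer G α).relIndex N := fun h =>
    (hSN ▸ H3.sylowIn_inf_normal S N).not_dvd (h.trans (relIndex_dvd_of_le_left N inf_le_right))
  have heven : 2 ∣ (stabilizer G α).index := by
    rw [index_stabilizer_of_transitive]
    have h5 := (S.isPGroup'.to_le (zpowers_le.2 hnS)).card_modEq_card_fixedPoints Ω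
    have h6 : fixedPoints (zpowers n) Ω = ∅ :=
      Set.eq_empty_of_forall_notMem fun x hx => h3 n hnS hnT x (hx ⟨n, mem_zpowers n⟩)
    rw [h6] at h5
    simpa [Nat.modEq_zero_iff_dvd] using h5
  have hαN : stabilizer G α ≤ N := by
    intro x hx
    by_contra hxN
    apply hodd
    rw [← ncard_orb]
    rw [index_stabilizer_of_transitive] at heven
    have : orbit N α = Set.univ := Set.eq_univ_of_forall fun ω => by
      obtain ⟨g, rfl⟩ := exists_smul_eq G α ω
      by_cases hg : g ∈ N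
      · exact ⟨⟨g, hg⟩, rfl⟩
      · refine ⟨⟨g * x, (mul_mem_iff_of_index_two hNi).2 (by simp [hg, hxN])⟩, ?_⟩
        change (g * x) • α = g • α
        rw [mul_smul, hx]
    rw [this]; simpa using heven
  have hΩ : Nat.card Ω = (stabilizer G α).relIndex N * 2 := by
    rw [← hNi, relIndex_mul_index hαN, index_stabilizer_of_transitive]
  refine ⟨N, hNn, Or.inl hNi, (stabilizer G α).subgroupOf N, ?_, ?_, ?_⟩
  · intro h
    rw [subgroupOf_eq_bot, disjoint_iff] at h
    exact h1 (eq_bot_iff.2 fun x hx => h.le ⟨hx.2, hTN hx⟩)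
  · intro h
    rw [subgroupOf_eq_top] at h
    refine h1 (eq_bot_iff.2 fun x hx => eq_of_smul_eq_smul (α := Ω) fun ω => ?_)
    obtain ⟨g, rfl⟩ := exists_smul_eq G α ω
    have h5 : (g⁻¹ * x * g⁻¹⁻¹) • α = α := h (hNn.conj_mem x (hTN hx) g⁻¹)
    rw [inv_inv, mul_smul, mul_smul, inv_smul_eq_iff] at h5
    rw [h5, one_smul]
  intro g hg
  by_contra h5
  obtain ⟨K, hK, hKp⟩ := H2.exists_le_card_prime h5
  have hg' : α ≠ (g : G) • α := fun h => hg h.symm
  have hK1 : ∀ y ∈ K.map N.subtype, y ∈ N ∧ y • α = α ∧ y • (g : G) • α = (g : G) • α := by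
    rintro _ ⟨y, hy, rfl⟩
    refine ⟨y.2, (hK hy).1, ?_⟩
    have h6 : ((g⁻¹ * y * g : N) : G) • α = α := H3.mem_conj_smul.1 (hK hy).2
    rw [coe_mul, coe_mul, mul_smul, mul_smul, coe_inv, inv_smul_eq_iff] at h6
    exact h6
  have key : ∀ O : Set Ω, α ∈ O → (g : G) • α ∈ O → (∀ y ∈ N, ∀ x ∈ O, y • x ∈ O) →
      Nat.card K ∣ O.ncard - 2 := by
    intro O h6 h7 h8
    have h9 := H2.Pm.card_dvd_ncard_of_free (K.map N.subtype) (O \ {α, (g : G) • α}) (by
      rintro y hy x ⟨hx, hx'⟩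
      refine ⟨h8 y (hK1 y hy).1 x hx, ?_⟩
      rintro (h | h)
      · exact hx' (Or.inl (smul_left_cancel y (h.trans (hK1 y hy).2.1.symm)))
      · exact hx' (Or.inr (smul_left_cancel y (h.trans (hK1 y hy).2.2.symm)))) (by
      intro y hy x hx h
      by_contra h9
      exact hx.2 (three y h9 α _ x (hK1 y hy).2.1 (hK1 y hy).2.2 h hg'))
    rwa [Set.ncard_diff (by
      rintro x (rfl | rfl)
      exacts [h6, h7]), Set.ncard_pair hg', card_map_of_injective N.subtype_injective] at h9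
  have h6 := key Set.univ trivial trivial fun _ _ _ _ => trivial
  have h7 := key (orbit N α) (mem_orbit_self _) ⟨g, rfl⟩ (by
    rintro y hy _ ⟨x, rfl⟩
    exact ⟨⟨y, hy⟩ * x, mul_smul _ _ _⟩)
  have h8 : 2 ≤ (orbit N α).ncard := by
    rw [← Set.ncard_pair hg']
    refine Set.ncard_le_ncard ?_
    rintro x (rfl | rfl)
    exacts [mem_orbit_self _, ⟨g, rfl⟩]
  rw [← Nat.card_coe_set_eq, ncard_orb] at h7 h8
  rw [Set.ncard_univ, hΩ] at h6
  have h9 : Nat.card K ∣ 2 := by
    have h10 := Nat.dvd_sub h6 (dvd_mul_of_dvd_left h7 2)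
    rwa [show (stabilizer G α).relIndex N * 2 - 2 - ((stabilizer G α).relIndex N - 2) * 2 = 2 by omega] at h10
  rw [(Nat.prime_dvd_prime_iff_eq hKp Nat.prime_two).1 h9] at h7
  omega

end Cfsg.Agent.S3390
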