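import Cfsg.Statements.S3412
import Cfsg.Agent.H19.W6

set_option autoImplicit false
open Cfsg

namespace Cfsg.Agent.S3412

/-- Let H be a finite group whose commuting graph (vertices the non-identity elements, two joined when they commute) is isomorphic to that of PSL_3(3): there is a bijection between the non-identity elements of H and of PSL_3(3) under which two elements commute exactly when their images do. Then H ≅ PSL_3(3). -/
theorem result {H : Type*} [Group H] [Finite H]
    (f : {h : H // h ≠ 1} ≃ {g : Matrix.ProjectiveSpecialLinearGroup (Fin 3) (ZMod 3) // g ≠ 1})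
    (hf : ∀ x y : {h : H // h ≠ 1}, (x : H) * y = y * x ↔ ((f x) : Matrix.ProjectiveSpecialLinearGroup (Fin 3) (ZMod 3)) * (f y) = (f y) * (f x)) :
    Nonempty (H ≃* Matrix.ProjectiveSpecialLinearGroup (Fin 3) (ZMod 3)) := by
  classical
  let e := (Equiv.optionSubtypeNe 1).symm.trans (f.optionCongr.trans (Equiv.optionSubtypeNe 1))
  have h1 : e 1 = 1 := by simp [e]
  have h2 : ∀ (x : H) (h : x ≠ 1), e x = f ⟨x, h⟩ := fun x h => by
    simp [e, Equiv.optionSubtypeNe_symm_of_ne h]
  have he : ∀ x y : H, Commute x y ↔ Commute (e x) (e y) := fun x y => by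
    by_cases hx : x = 1
    · simp [hx, h1]
    by_cases hy : y = 1
    · simp [hy, h1]
    rw [h2 x hx, h2 y hy]
    exact hf ⟨x, hx⟩ ⟨y, hy⟩
  have hZ : Subgroup.center H19.L33.L = ⊥ := Subgroup.card_eq_one.mp (by
    rw [H12.card_center_SL, Nat.card_zmod]; decide)
  let i := (QuotientGroup.quotientBot.symm.trans (QuotientGroup.quotientMulEquivOfEq hZ.symm) :
    H19.L33.L ≃* Matrix.ProjectiveSpecialLinearGroup (Fin 3) (ZMod 3))
  exact H19.L33.iso (k := i.toEquiv.trans e.symm) (fun x y => (he _ _).trans (by
    simpa using ⟨fun h => h.of_map i.injective, fun h => h.map i⟩))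
    ((Nat.card_congr e).trans H19.card_psl33)

end Cfsg.Agent.S3412
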