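import Cfsg.Statements.S4084
import Cfsg.Agent.H26.PiPart

set_option autoImplicit false
open Cfsg

namespace Cfsg.Agent.S4084

theorem aux {G H : Type*} [Group G] [Finite G] [Group H] [Finite H] (e : G ≃ H)
    (he : ∀ x y : G, Commute x y ↔ Commute (e x) (e y))
    {p q : ℕ} (hp : p.Prime) (hq : q.Prime) (hpq : p ≠ q) (g : G) (hg : orderOf g = p * q) :
    ∃ h : H, orderOf h = p * q := by
  obtain ⟨A, -, ⟨hgA, hA⟩, hmax⟩ := Finite.exists_le_maximal
    (p := fun A : Subgroup G => g ∈ A ∧ ∀ a ∈ A, ∀ b ∈ A, Commute a b) (a := Subgroup.zpowers g)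
    ⟨Subgroup.mem_zpowers g, fun a ha b hb => H26.commute_of_mem_zpowers ha hb⟩
  have hself : ∀ x : G, (∀ a ∈ A, Commute a x) → x ∈ A := by
    intro x hx
    have h1 : ∀ y ∈ A ⊔ Subgroup.zpowers x, ∀ z, (∀ a ∈ A, Commute a z) → Commute x z → Commute y z := by
      intro y hy z h1 h2
      have : A ⊔ Subgroup.zpowers x ≤ Subgroup.centralizer ({z} : Set G) :=
        sup_le (fun a ha => Subgroup.mem_centralizer_singleton_iff.mpr (h1 a ha))
          (Subgroup.zpowers_le.mpr (Subgroup.mem_centralizer_singleton_iff.mpr h2))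
      exact Subgroup.mem_centralizer_singleton_iff.mp (this hy)
    have h2 := hmax (y := A ⊔ Subgroup.zpowers x) ⟨Subgroup.mem_sup_left hgA, fun a ha b hb =>
      h1 a ha b (fun c hc => (h1 b hb c (fun d hd => hA d hd c hc) (hx c hc).symm).symm)
        (h1 b hb x hx (Commute.refl x)).symm⟩ le_sup_left
    exact h2 (Subgroup.mem_sup_right (Subgroup.mem_zpowers x))
  set B := Subgroup.centralizer (e '' (A : Set G)) with hB
  have hmem : ∀ x : G, e x ∈ B ↔ x ∈ A := by
    intro x
    constructor
    · intro hx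
      exact hself x fun a ha => (he a x).mpr (hx _ ⟨a, ha, rfl⟩)
    · rintro hx _ ⟨a, ha, rfl⟩
      exact (he a x).mp (hA a ha x hx)
  have hcard : Nat.card A = Nat.card B := Nat.card_congr (e.subtypeEquiv fun x => (hmem x).symm)
  have hd : p * q ∣ Nat.card B := by
    rw [← hcard, ← hg]
    exact A.orderOf_dvd_natCard hgA
  have := Fact.mk hp
  have := Fact.mk hq
  obtain ⟨x, hx⟩ := exists_prime_orderOf_dvd_card' p ((dvd_mul_right p q).trans hd)
  obtain ⟨y, hy⟩ := exists_prime_orderOf_dvd_card' q ((dvd_mul_left q p).trans hd)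
  have hxy : Commute (x : H) y := by
    obtain ⟨a, ha⟩ := e.surjective x
    obtain ⟨b, hb⟩ := e.surjective y
    rw [← ha, ← hb, ← he]
    exact hA a ((hmem a).mp (ha ▸ x.2)) b ((hmem b).mp (hb ▸ y.2))
  rw [← Subgroup.orderOf_coe] at hx hy
  refine ⟨x * y, ?_⟩
  rw [hxy.orderOf_mul_eq_mul_orderOf_of_coprime (by rw [hx, hy]; exact (Nat.coprime_primes hp hq).mpr hpq),
    hx, hy]

/-- Let G and H be finite groups whose commuting graphs are isomorphic: there is a bijection e : G → H with x, y commuting exactly when e(x), e(y) commute. Then G and H have the same prime graph: for distinct primes p, q, G has an element of order pq if and only if H does (and #G = #H, so the prime divisors agree). -/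
theorem result {G H : Type*} [Group G] [Finite G] [Group H] [Finite H] (e : G ≃ H)
    (he : ∀ x y : G, Commute x y ↔ Commute (e x) (e y))
    {p q : ℕ} (hp : p.Prime) (hq : q.Prime) (hpq : p ≠ q) :
    (∃ g : G, orderOf g = p * q) ↔ (∃ h : H, orderOf h = p * q) := by
  constructor
  · rintro ⟨g, hg⟩
    exact aux e he hp hq hpq g hg
  · rintro ⟨g, hg⟩
    exact aux e.symm (fun x y => by rw [he]; simp) hp hq hpq g hg

end Cfsg.Agent.S4084
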