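import Cfsg.Statements.S3413
import Cfsg.Agent.H19.M11f
import Cfsg.Agent.H19.O7920
import Cfsg.Agent.S4084

set_option autoImplicit false
open Cfsg

namespace Cfsg.Agent.S3413
open H19 Subgroup

/-- Let H be a finite group whose commuting graph (vertices the non-identity elements, two joined when they commute) is isomorphic to that of the Mathieu group M_11: there is a bijection between the non-identity elements of H and of M_11 under which two elements commute exactly when their images do. Then H ≅ M_11. -/
theorem result {H : Type*} [Group H] [Finite H]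
    (f : {h : H // h ≠ 1} ≃ {g : ↥Cfsg.Spor.M11 // g ≠ 1})
    (hf : ∀ x y : {h : H // h ≠ 1}, (x : H) * y = y * x ↔ ((f x) : ↥Cfsg.Spor.M11) * (f y) = (f y) * (f x)) :
    Nonempty (H ≃* ↥Cfsg.Spor.M11) := by
  classical
  haveI : Fact (Nat.Prime 11) := ⟨by norm_num⟩
  have hM : Nat.card Spor.M11 = 7920 := (Nat.card_congr H16.sporM11.toEquiv).symm.trans H16.card_K11
  haveI := H16.simple_K11
  haveI := H16.sporM11.symm.isSimpleGroup
  let e := (Equiv.optionSubtypeNe 1).symm.trans (f.optionCongr.trans (Equiv.optionSubtypeNe 1))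
  have h1 : e 1 = 1 := by simp [e]
  have h2 : ∀ (x : H) (h : x ≠ 1), e x = f ⟨x, h⟩ := fun x h => by
    simp [e, Equiv.optionSubtypeNe_symm_of_ne h]
  have he : ∀ x y : H, Commute x y ↔ Commute (e x) (e y) := fun x y => by
    by_cases hx : x = 1
    · simp [hx, h1]
    by_cases hy : y = 1
    · simp [hy, h1]
    rw [h2 x hx, h2 y hy]
    exact hf ⟨x, hx⟩ ⟨y, hy⟩
  have hH := (Nat.card_congr e).trans hM
  haveI := (simple_of_no33 _ H hH dvd_rfl (by norm_num) fun x y hx hy hc => by
    obtain ⟨g, hg⟩ := S4084.aux e he (p := 11) (q := 3) (by norm_num) (by norm_num) (by norm_num) (x * y)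
      (by rw [hc.orderOf_mul_eq_mul_orderOf_of_coprime (by rw [hx, hy]; norm_num), hx, hy])
    obtain ⟨D⟩ := nonempty_MDat hM
    have := (D.c11 g (by rw [hg]; norm_num)).1
    omega).1
  exact isoM11_of_card hH

end Cfsg.Agent.S3413
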