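import Cfsg.Statements.S3493
import Cfsg.Agent.H1.ONS
import Cfsg.Agent.FT
import Cfsg.Agent.H21.Base5
import Cfsg.Agent.H2.Prim

set_option autoImplicit false
open Cfsg

namespace Cfsg.Agent.S3493

open Subgroup Cfsg.Agent.H20 Cfsg.Agent.H21 Cfsg.Agent.H2 Cfsg.Agent.H1 MulAction H2.Pm
open scoped Pointwise

section
variable {G Ω : Type*} [Group G] [Finite G] [MulAction G Ω] {N T : Subgroup G}

omit [Finite G] in
theorem epmax (h : EP G Ω) {a b : Ω} {K : Subgroup G} (h1 : stabilizer G a ⊓ stabilizer G b ≤ K)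
    (h2 : K ≤ stabilizer G a) : K ≤ stabilizer G b ∨ stabilizer G a ≤ K := by
  have := h a b
  have h3 : ∀ g ∈ stabilizer G a, ∀ k ∈ K, ∀ l ∈ K, k • b = g • l • b → g ∈ K := fun g hg k hk l hl e =>
    (mul_mem_cancel_left (inv_mem hk)).mp ((mul_mem_cancel_right hl).mp (h1 (mem_inf.mpr
      ⟨mul_mem (mul_mem (inv_mem (h2 hk)) hg) (h2 hl), by rw [mem_stabilizer_iff, mul_smul, mul_smul, ← e, inv_smul_smul]⟩)))
  refine (prim_block (G := stabilizer G a) (X := orbit (stabilizer G a) b) (B := {x | ∃ k ∈ K, k • b = x.1})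
    fun g x ⟨l, hl, e1⟩ ⟨k, hk, e2⟩ y ⟨m, hm, e3⟩ => ⟨g * m, mul_mem (h3 g g.2 k hk l hl (e1 ▸ e2)) hm,
      by rw [mul_smul, e3]; rfl⟩).imp (fun h4 k hk => ?_) fun h4 g hg => ?_
  · exact congrArg Subtype.val (h4 (x := ⟨k • b, ⟨k, h2 hk⟩, rfl⟩) ⟨k, hk, rfl⟩ (y := ⟨b, mem_orbit_self b⟩)
      ⟨1, one_mem K, one_smul _ _⟩)
  · obtain ⟨k, hk, e⟩ := h4.ge (Set.mem_univ ⟨g • b, ⟨g, hg⟩, rfl⟩)
    exact h3 g hg k hk 1 (one_mem K) (by rwa [one_smul])

theorem not_trans [FaithfulSMul G Ω] (h : EP G Ω) (a : Ω) (hT : Fac N T) {B : Subgroup G} (hB : B ≤ C⟦T⟧)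
    (ht : ∀ a b : Ω, ∃ g ∈ B, g • a = b) : False := by
  have reg : ∀ x ∈ T, ∀ y ∈ T, x • a = y • a → x = y := fun x hx y hy e => (inv_mul_eq_one.mp
    (eq_one_of_commute_trans ht (fun g hg => hB hg _ (mul_mem (inv_mem hy) hx)) (a := a)
      (by rw [mul_smul, e, inv_smul_smul]))).symm
  have lift : ∀ y ∈ T, ∃ k ∈ stabilizer G a, ∀ x ∈ T, k • x • a = (y * x * y⁻¹) • a := fun y hy => by
    obtain ⟨b, hb, e⟩ := ht (y • a) a
    refine ⟨b * y, by rwa [mem_stabilizer_iff, mul_smul], fun x hx => ?_⟩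
    nth_rw 2 [← e]
    rw [← mul_smul, ← mul_smul, ← mul_smul, hB hb _ (mul_mem (mul_mem hy hx) (inv_mem hy))]
    congr 1; group
  obtain ⟨u, hu, u2⟩ := exists_prime_order_mem Nat.prime_two (even_iff_two_dvd.mp
    (Nat.not_odd_iff_even.mp fun e => hT.not_sol (FT.solvable_of_odd e)))
  obtain ⟨s, ⟨hs, s2⟩, t, ⟨ht', t2⟩, e⟩ : ∃ s ∈ {y | y ∈ T ∧ orderOf y = 2}, ∃ t ∈ {y | y ∈ T ∧ orderOf y = 2},
      s * t ≠ t * s := by
    by_contra! e
    exact hT.na' (comm_of_le (hT.le_closure (by norm_num) hu u2) (isMulCommutative_closure e))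
  have inv : ∀ {s : G}, orderOf s = 2 → s⁻¹ = s := fun {s} e =>
    inv_eq_of_mul_eq_one_right (by rw [← sq, ← e, pow_orderOf_eq_one])
  have hx := mul_mem hs ht'
  have e1 : s⁻¹ * (s * t) * s⁻¹⁻¹ = (s * t)⁻¹ := by rw [mul_inv_rev, inv t2, inv_inv, inv_mul_cancel_left, inv s2]
  replace e : (s * t)⁻¹ ≠ s * t := by rw [mul_inv_rev, inv t2, inv s2]; exact e.symm
  generalize s * t = x at *
  rcases epmax h (a := a) (b := x • a) (K := stabilizer G a ⊓ stabilizer G ({x • a, x⁻¹ • a} : Set Ω))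
    (fun k hk => mem_inf.mpr ⟨hk.1, by
      have h1 : (k * x * k⁻¹) • a = x • a := by rw [mul_smul, inv_smul_eq_iff.mpr (Eq.symm hk.1), mul_smul]; exact hk.2
      have h2 : (k * x * k⁻¹)⁻¹ • a = x⁻¹ • a := by
        by_cases e : cj k T = T
        · rw [reg _ (e.le (conj_mem_cj.mpr hx)) _ hx h1]
        · rw [inv_smul_eq_iff, ← mul_smul, ← (hT.cj k).cent hT e (conj_mem_cj.mpr hx) _ (inv_mem hx), mul_smul, h1,
            inv_smul_smul]
      rw [conj_inv, mul_smul, inv_smul_eq_iff.mpr (Eq.symm hk.1), mul_smul] at h2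
      rw [mem_stabilizer_iff, Set.smul_set_insert, Set.smul_set_singleton, h2, show k • x • a = _ from hk.2]⟩)
    inf_le_left with h1 | h1
  · obtain ⟨k, hk, h2⟩ := lift s⁻¹ (inv_mem hs)
    have h3 := h2 x hx
    rw [e1] at h3
    refine e (reg _ (inv_mem hx) _ hx (h3.symm.trans (h1 (mem_inf.mpr ⟨hk, ?_⟩))))
    rw [mem_stabilizer_iff, Set.smul_set_insert, Set.smul_set_singleton, h3, h2 _ (inv_mem hx), ← conj_inv, e1, inv_inv,
      Set.pair_comm]
  · refine hT.na' ?_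
    rw [← (hT.eq_of_norm (zpowers_le.mpr hx) fun z hz => mem_norm_of_cj_le ?_).resolve_left
      (by rintro h; rw [zpowers_eq_bot.mp h] at e; simp at e)]
    · infer_instance
    obtain ⟨k, hk, h2⟩ := lift z hz
    have h3 := (mem_stabilizer_iff.mp (h1 hk).2).le (Set.smul_mem_smul_set (Set.mem_insert _ _))
    have h4 := mul_mem (mul_mem hz hx) (inv_mem hz)
    rw [h2 x hx] at h3
    rw [cj_zpowers, zpowers_le]
    rcases h3 with h3 | h3
    exacts [(reg _ h4 _ hx h3).symm ▸ mem_zpowers x, (reg _ h4 _ (inv_mem hx) h3).symm ▸ inv_mem (mem_zpowers x)]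

end

/-- An extremely primitive permutation group is of affine type or almost simple. Let a finite group G act faithfully and primitively on a finite set Ω with at least two points, in such a way that every point stabilizer acts primitively on each of its own orbits in Ω (an orbit of size one counts as primitive). Then either G has a non-trivial abelian normal subgroup whose elements other than the identity fix no point (affine type), or G has a non-abelian simple normal subgroup with trivial centralizer (almost simple). -/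
theorem result {G : Type*} [Group G] [Finite G] {Ω : Type*} [Fintype Ω] [MulAction G Ω] [FaithfulSMul G Ω] (hΩ : 2 ≤ Fintype.card Ω) (hprim : MulAction.IsPreprimitive G Ω) (hep : ∀ (α : Ω) (ω : Ω), MulAction.IsPreprimitive (MulAction.stabilizer G α) (MulAction.orbit (MulAction.stabilizer G α) ω)) :
    (∃ N : Subgroup G, N.Normal ∧ N ≠ ⊥ ∧ IsMulCommutative N ∧ ∀ ω : Ω, MulAction.stabilizer N ω = ⊥) ∨ (∃ T : Subgroup G, T.Normal ∧ IsSimpleGroup T ∧ ¬ IsMulCommutative T ∧ Subgroup.centralizer (T : Set G) = ⊥) := by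
  have := Fintype.one_lt_card_iff_nontrivial.mp hΩ
  obtain ⟨a, b, hab⟩ := exists_pair_ne Ω
  have : Nontrivial G := by
    obtain ⟨g, rfl⟩ := exists_smul_eq G a b
    exact ⟨1, g, fun e => hab (by rw [← e, one_smul])⟩
  obtain ⟨N, hN⟩ := exists_isMinNormal (G := G)
  have := hN.normal
  by_cases hc : IsMulCommutative N
  · obtain ⟨-, -, -, -, h3⟩ := prim_nilp (X := Ω) hN.ne_bot (by
      open scoped IsMulCommutative in exact CommGroup.isNilpotent)
    exact .inl ⟨N, this, hN.ne_bot, hc, fun a => (eq_bot_iff_forall _).2 fun n hn => Subtype.ext (h3 n n.2 a hn)⟩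
  obtain ⟨T, hT⟩ := exists_fac hN hc
  have hC : C⟦N⟧ = ⊥ := by_contra fun h => not_trans hep a hT (cent_anti hT.le)
    ((trans_subgroup_iff _).1 (normal_trans' _ h))
  by_cases e : T = N
  · subst e
    exact .inr ⟨T, this, hT.simple, hc, hC⟩
  obtain ⟨T', hT', e'⟩ := hT.exists_ne e
  exfalso
  have hst : ∀ {k : G} (x : G), k ∈ stabilizer G a → k • x • a = (k * x * k⁻¹) • a := fun x hk => by
    rw [mul_smul, inv_smul_eq_iff.mpr (Eq.symm hk), mul_smul]
  by_cases hL : stabilizer G a ⊓ N = ⊥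
  swap
  · have h1 : N ≤ T' ⊔ stabilizer G a ⊓ N := hT'.le_of_cj fun g x hx => by
      obtain ⟨k, hk, e⟩ := hT'.conj_stab (hT'.cj g) a
      obtain ⟨t, ht, rfl⟩ := mem_cj'.mp (e.le hx)
      obtain ⟨m, hm, e1⟩ := EP.orbit_eq hep hL inf_le_left (norm_inf le_normalizer le_normalizer_of_normal) (t • a) hk
      have h2 := conj_mem_of_norm (hT'.norm hm.2) ht
      rw [hst t hm.1, hst t hk] at e1
      rw [← mul_inv_cancel_left (m * t * m⁻¹) (k * t * k⁻¹)]
      exact mul_mem_sup h2 (mem_inf.mpr ⟨by rw [mem_stabilizer_iff, mul_smul, ← e1, inv_smul_smul],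
        mul_mem (inv_mem (hT'.le h2)) ((hT'.cj g).le hx)⟩)
    have h2 : ∀ b, ∃ t ∈ T', t • a = b := fun b => by
      obtain ⟨n, hn, rfl⟩ := hT.trans a b
      obtain ⟨t, ht, l, hl, rfl⟩ := (mem_sup_of_norm' (inf_le_right.trans hT'.norm)).mp (h1 hn)
      exact ⟨t, ht, by rw [mul_smul, show l • a = a from hl.1]⟩
    refine not_trans hep a hT (hT'.cent hT e') fun b c => ?_
    obtain ⟨s, hs, rfl⟩ := h2 b
    obtain ⟨t, ht, rfl⟩ := h2 c
    exact ⟨t * s⁻¹, mul_mem ht (inv_mem hs), by rw [mul_smul, inv_smul_smul]⟩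
  have hco := IsPreprimitive.isCoatom_stabilizer_of_isPreprimitive G a
  have hH : stabilizer G a ≠ ⊥ := fun e => hc (have := Fact.mk (prime_card_of_stab_eq_bot e)
    have : IsCyclic G := isCyclic_of_prime_card rfl
    comm_of_cyclic inferInstance)
  have h1 : ∀ x ∈ N, stabilizer G a ⊓ stabilizer G (x • a) = stabilizer G a ⊓ C₁⟦x⟧ := fun x hx =>
    le_antisymm (fun k hk => mem_inf.mpr ⟨hk.1, mem_cent1.mpr (mul_inv_eq_iff_eq_mul.mp (inv_mul_eq_one.mp (hL.le
      (mem_inf.mpr ⟨by rw [mem_stabilizer_iff, mul_smul, ← hst x hk.1, show k • x • a = _ from hk.2, inv_smul_smul],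
        mul_mem (inv_mem hx) (this.conj_mem x hx k)⟩))).symm)⟩) fun k hk => mem_inf.mpr ⟨hk.1, by
          rw [mem_stabilizer_iff, ← mul_smul, mem_cent1.mp hk.2, mul_smul, show k • a = a from hk.1]⟩
  have h2 : ∀ x ∈ N, stabilizer G a ≤ C₁⟦x⟧ → x = 1 := fun x hx e => hL.le (mem_inf.mpr ⟨(eq_of_stab_le hH
    ((le_inf le_rfl e).trans ((h1 x hx).ge.trans inf_le_right))).symm, hx⟩)
  have h3 : ∀ x ∈ N, ∀ y ∈ N, x ≠ 1 → Commute x y → (orderOf x).Coprime (orderOf y) →
      stabilizer G a ⊓ C₁⟦x⟧ ≤ C₁⟦y⟧ := fun x hx y hy x1 hxy co => by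
    have h4 : ∀ {x y : G}, Commute x y → (orderOf x).Coprime (orderOf y) → C₁⟦x * y⟧ ≤ C₁⟦x⟧ := fun {x y} hxy co => by
      obtain ⟨m, hm⟩ := exists_pow_eq_self_of_coprime co.symm
      refine cent1_le_cent1_of_mem_zpowers ⟨(orderOf y * m : ℕ), ?_⟩
      simp only [zpow_natCast]
      rw [pow_mul, hxy.mul_pow, pow_orderOf_eq_one, mul_one, hm]
    have h5 := h1 _ (mul_mem hx hy)
    refine (le_inf inf_le_left ((epmax hep (h5.le.trans (inf_le_inf_left _ (h4 hxy co))) inf_le_left).resolve_right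
      fun e => x1 (h2 x hx (e.trans inf_le_right)))).trans (h5.le.trans (inf_le_right.trans ?_))
    rw [hxy.eq]
    exact h4 hxy.symm co.symm
  obtain ⟨p, hp, hpd⟩ := exists_prime_dvd_card hT.ne
  obtain ⟨q, hq, hqd, hpq⟩ : ∃ q, q.Prime ∧ q ∣ ♯T ∧ q ≠ p := by
    by_contra! h
    have := Fact.mk hp
    exact hT.not_pgroup hp (isPi_singleton_iff.mp (isPi_iff.mpr h))
  have hord : ∀ {S r}, Fac N S → r.Prime → r ∣ ♯T → ∃ x ∈ S, orderOf x = r := fun hS hr hd => by
    obtain ⟨g, rfl⟩ := hT.conj hS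
    exact exists_prime_order_mem hr (by rwa [card_cj])
  have h4 : ∀ {S S' r r' x}, Fac N S → Fac N S' → S ≠ S' → r.Prime → r'.Prime → r ≠ r' → r' ∣ ♯T → x ∈ S →
      orderOf x = r → stabilizer G a ⊓ C₁⟦x⟧ ≤ C⟦S'⟧ := fun hS hS' e hr hr' e' hd hx ox => by
    obtain ⟨y, hy, oy⟩ := hord hS' hr' hd
    refine cent_symm ((hS'.le_closure hr'.ne_one hy oy).trans ((closure_le _).mpr fun z hz => le_cent1_iff.mp
      (h3 _ (hS.le hx) z (hS'.le hz.1) (fun e => hr.ne_one (by rw [← ox, e, orderOf_one]))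
        (hS.cent hS' e hx z hz.1).symm (by rw [ox, hz.2]; exact (Nat.coprime_primes hr hr').mpr e'))))
  obtain ⟨x, hx, ox⟩ := hord hT hp hpd
  obtain ⟨y, hy, oy⟩ := hord hT' hq hqd
  have h5 : stabilizer G a ⊓ stabilizer G (x • a) = ⊥ := by
    rw [h1 x (hT.le hx), eq_bot_iff, ← hC]
    refine cent_symm (hT.le_of_cj fun g => cent_symm ?_)
    by_cases e : T = cj g T
    · exact (le_inf inf_le_left ((h4 hT hT' e'.symm hp hq hpq.symm hqd hx ox).trans (cent_le_cent1 hy))).trans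
        (e ▸ h4 hT' hT e' hq hp hpq hpd hy oy)
    · exact h4 hT (hT.cj g) e hp hq hpq.symm hqd hx ox
  obtain ⟨X, hX, hs⟩ := exists_prime_subgroup_of_ne_bot hH
  have h6 : X = stabilizer G a := hX.antisymm ((epmax hep (h5.le.trans bot_le) hX).resolve_left fun e =>
    ne_bot_of_card_prime hs (eq_bot_iff.mpr ((le_inf hX e).trans h5.le)))
  have := Fact.mk hs
  have := Fact.mk hp
  have h7 := card_modEq_card_inf_centralizer (isPGroup_of_card_prime (A := X) rfl) (V := N) le_normalizer_of_normal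
  rw [show N ⊓ C⟦X⟧ = ⊥ from (eq_bot_iff_forall _).mpr fun x hx => h2 x hx.1 (h6 ▸ le_cent1_iff.mpr hx.2),
    card_bot] at h7
  obtain ⟨P, hP, h8⟩ := exists_inv_sylow p (A := X) (K := N) le_normalizer_of_normal
    (Nat.coprime_of_mul_modEq_one 1 (by rwa [mul_one])) (.inl (by
      have := isCyclic_of_card_prime hs
      infer_instance))
  have h9 := modular_left (.inr h8) hP.le
  rw [h6, hL, sup_bot_eq] at h9
  rcases eq_or_eq_top_of_coatom hco (le_sup_right : _ ≤ P ⊔ _) with e | e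
  · exact hP.ne_bot hp rfl (hpd.trans (card_dvd hT.le)) (by rw [← h9, e, hL])
  · exact hT.not_pgroup hp (hP.isPGroup.to_le (by rw [← h9, e, top_inf_eq]; exact hT.le))

end Cfsg.Agent.S3493
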