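import Cfsg.Statements.S3496
import Mathlib
import Cfsg.Agent.H2.EP
import Cfsg.Agent.H2.Carter

set_option autoImplicit false
open Cfsg

namespace Cfsg.Agent.S3496

open H2.Pm MulAction Subgroup

/-- The soluble extremely primitive groups. Let a finite solvable group G act faithfully and primitively on a finite set Ω with p ^ d points (p prime), with non-trivial point stabilizers each acting primitively on every one of its orbits. Then there is a prime q such that every orbit of a point stabilizer G_α other than {α} has exactly q points, q divides p ^ d − 1 but no p ^ i − 1 with 0 < i < d, and G_α has a normal subgroup T of order q with G_α generated by T and one further element and the order of G_α dividing q·d (so G_α is cyclic of order q, or an extension of T by a cyclic group of order dividing d). -/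
theorem result {G : Type*} [Group G] [Finite G] {Ω : Type*} [Fintype Ω] [MulAction G Ω] [FaithfulSMul G Ω] [Group.IsSolvable G] (p d : ℕ) (hp : p.Prime) (hcard : Fintype.card Ω = p ^ d)
    (hprim : MulAction.IsPreprimitive G Ω) (hH : ∀ α : Ω, MulAction.stabilizer G α ≠ ⊥) (hep : ∀ (α : Ω) (ω : Ω), MulAction.IsPreprimitive (MulAction.stabilizer G α) (MulAction.orbit (MulAction.stabilizer G α) ω)) (α : Ω) :
    ∃ q : ℕ, q.Prime ∧ (∀ ω : Ω, ω ≠ α → Nat.card (MulAction.orbit (MulAction.stabilizer G α) ω) = q) ∧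
      q ∣ p ^ d - 1 ∧ (∀ i : ℕ, 0 < i → i < d → ¬ q ∣ p ^ i - 1) ∧
      ∃ T : Subgroup G, T ≤ MulAction.stabilizer G α ∧ MulAction.stabilizer G α ≤ Subgroup.normalizer (T : Set G) ∧ Nat.card T = q ∧
        (∃ h : G, MulAction.stabilizer G α = T ⊔ Subgroup.zpowers h) ∧ Nat.card (MulAction.stabilizer G α) ∣ q * d := by
  have := Fact.mk hp
  have : Nontrivial (stabilizer G α) := (nontrivial_iff_ne_bot _).2 (hH α)
  have : Nontrivial G := (stabilizer G α).subtype_injective.nontrivial
  obtain ⟨N, hN, -⟩ := H2.exists_isMinNormal_of_isSolvable (G := G)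
  have := hN.normal
  have := hN.isMulCommutative_of_isSolvable inferInstance
  obtain ⟨-, -, -, ht, hr⟩ := prim_nilp (X := Ω) hN.ne_bot (H2.isNilpotent_of_isMulCommutative _)
  have hF := H1.fittingSubgroup_ne_bot (G := stabilizer G α) inferInstance
  obtain ⟨h1, -⟩ := EP.nilp hep hF (H1.isNilpotent_fittingSubgroup _)
  have hn : ∀ T : Subgroup (stabilizer G α), T.Normal →
      stabilizer G α ≤ normalizer ((T.map (stabilizer G α).subtype : Subgroup G) : Set G) :=
    fun T _ => by
      simpa [← MonoidHom.range_eq_map, normalizer_eq_top] using le_normalizer_map (H := T) (stabilizer G α).subtype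
  obtain ⟨F, _, _, e, e0, h2, h3, hA⟩ := exists_semilin ht hr hN.ne_bot α (hn _ inferInstance)
    (EP.irred hep ht hr (by rwa [Ne, map_eq_bot_iff_of_injective _ (subtype_injective _)])
      (map_subtype_le _) (hn _ inferInstance))
  have hF' : Fintype.card F = p ^ d := (Fintype.card_congr e).trans hcard
  have := charP_of_card_eq_prime_pow hF'
  let _ := ZMod.algebra F p
  have h4 : ∀ g : stabilizer G α, ∃ (m : F) (σ : F ≃ₐ[ZMod p] F), m ≠ 0 ∧
      ∀ x, (g : G) • e x = e (m * σ x) := fun g => by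
    obtain ⟨m, σ, hm, h⟩ := h2 g g.2
    refine ⟨m, AlgEquiv.ofRingEquiv (f := σ) fun x => ?_, hm, h⟩
    exact congrFun (congrArg DFunLike.coe (RingHom.ext_zmod (σ.toRingHom.comp (algebraMap _ _)) _)) x
  choose m σ hm h4 using h4
  have hmul : ∀ g k, m (g * k) = m g * σ g (m k) := fun g k => by
    have := h4 (g * k) 1
    rw [Subgroup.coe_mul, mul_smul, h4, h4] at this
    simpa using this.symm
  let φ : stabilizer G α →* (F ≃ₐ[ZMod p] F) := MonoidHom.mk' σ fun g k => by
    ext x
    have := h4 (g * k) x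
    rw [Subgroup.coe_mul, mul_smul, h4, h4, hmul, e.apply_eq_iff_eq, map_mul, ← mul_assoc] at this
    exact (mul_left_cancel₀ (mul_ne_zero (hm g) (by simpa using hm k)) this).symm
  have hσ : ∀ g ∈ φ.ker, σ g = 1 := fun g hg => hg
  let ψ : φ.ker →* Fˣ := MonoidHom.mk' (fun g => Units.mk0 _ (hm g)) fun g k => by
    ext; simp [hmul, hσ _ g.2]
  have hψ : Function.Injective ψ := (injective_iff_map_eq_one ψ).2 fun g hg => by
    have hg : m g = 1 := congrArg Units.val hg
    refine Subtype.ext (Subtype.ext (eq_of_smul_eq_smul (α := Ω) fun x => ?_))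
    obtain ⟨x, rfl⟩ := e.surjective x
    simp [h4, hg, hσ _ g.2]
  have hcyc : IsCyclic φ.ker := isCyclic_of_injective ψ hψ
  have h1α : e 1 ≠ α := e0 ▸ e.injective.ne one_ne_zero
  have hk0 : φ.ker ≠ ⊥ := by
    refine fun h0 => hF (le_bot_iff.1 (h0 ▸ fun g hg => AlgEquiv.ext fun x => ?_))
    obtain ⟨c, hc⟩ := hA g (mem_map_of_mem _ hg) g.2
    have h1 := hc 1
    have h2 := hc x
    rw [h4, e.apply_eq_iff_eq] at h1 h2
    rw [map_one, mul_one, mul_one] at h1
    exact mul_left_cancel₀ (hm g) (h1 ▸ h2)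
  obtain ⟨-, ⟨q, hq, h5⟩, -, h6, h7⟩ := EP.nilp hep hk0 (H2.isNilpotent_of_isMulCommutative _)
  have hkq : Nat.card φ.ker = q := by
    have := (nontrivial_iff_ne_bot _).2 hk0
    rw [← IsCyclic.exponent_eq_card]
    exact (hq.eq_one_or_self_of_dvd _ (Monoid.exponent_dvd_of_forall_pow_eq_one fun x =>
      Subtype.ext (h5 _ x.2))).resolve_left Monoid.one_lt_exponent.ne'
  have hd : Nat.card (F ≃ₐ[ZMod p] F) = d := by
    rw [IsGalois.card_aut_eq_finrank]
    have := Module.card_eq_pow_finrank (K := ZMod p) (V := F)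
    rw [ZMod.card, hF'] at this
    exact (Nat.pow_right_injective hp.two_le this).symm
  refine ⟨q, hq, fun ω hω => (h7 ω hω).trans hkq, by rwa [hkq, Nat.card_eq_fintype_card, hcard] at h6,
    fun i hi hid hqi => ?_, φ.ker.map (Subgroup.subtype _), map_subtype_le _, hn _ inferInstance,
    by rw [card_map_of_injective (subtype_injective _), hkq], ?_, ?_⟩
  · have hW : ∀ g : stabilizer G α, m g ^ p ^ i = m g := fun g => by
      obtain ⟨k, hk, e1⟩ := EP.orbit_eq hep (M := φ.ker.map (Subgroup.subtype _))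
        (by rwa [Ne, map_eq_bot_iff_of_injective _ (subtype_injective _)]) (map_subtype_le _)
        (hn _ inferInstance) (e 1) g.2
      obtain ⟨k, hk, rfl⟩ := hk
      rw [subtype_apply, h4, h4, map_one, map_one, mul_one, mul_one, e.apply_eq_iff_eq] at e1
      have h8 : ψ ⟨k, hk⟩ ^ (p ^ i - 1) = 1 := by
        rw [← map_pow, orderOf_dvd_iff_pow_eq_one.1 _, map_one]
        exact (hkq ▸ _root_.orderOf_dvd_natCard _).trans hqi
      have h8 : m k ^ (p ^ i - 1) = 1 := by simpa [ψ] using congrArg Units.val h8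
      rw [← e1, ← Nat.sub_add_cancel (Nat.one_le_pow i p hp.pos), pow_succ, h8, one_mul]
    rcases block_of_sub (G := G) (B := e '' {x | x ^ p ^ i = x}) (a := α) (by
      rintro g ⟨c, hc, hg⟩ _ ⟨y, hy, rfl⟩
      obtain ⟨s, -, hs⟩ := h3 c
      have h8 : s⁻¹ * g ∈ stabilizer G α := by
        rw [mem_stabilizer_iff, mul_smul, inv_smul_eq_iff, ← hg, ← e0, hs, zero_add]
      have h9 := h4 ⟨_, h8⟩ y
      rw [mul_smul, inv_smul_eq_iff, hs] at h9
      refine ⟨_, ?_, h9.symm⟩
      rw [Set.mem_setOf_eq] at hc hy ⊢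
      rw [add_pow_char_pow, mul_pow, hW, ← map_pow, hy, hc]) with h | h
    · exact h1α (h ⟨1, by simp, rfl⟩ ⟨0, zero_pow (pow_pos hp.pos i).ne', e0⟩)
    · have h8 : ∀ x : Fˣ, x ^ (p ^ i - 1) = 1 := fun x => by
        obtain ⟨y, hy, e1⟩ := (h ▸ Set.mem_univ (e x) : e x ∈ e '' {x | x ^ p ^ i = x})
        rw [e.injective e1, Set.mem_setOf_eq, ← Nat.sub_add_cancel (Nat.one_le_pow i p hp.pos),
          pow_succ] at hy
        ext; simpa using hy
      have h9 := Nat.le_of_dvd (Nat.sub_pos_of_lt (Nat.one_lt_pow hi.ne' hp.one_lt))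
        ((FiniteField.forall_pow_eq_one_iff F _).1 h8)
      have := Nat.pow_lt_pow_right hp.one_lt hid
      have := Nat.one_le_pow i p hp.pos
      omega
  · obtain ⟨⟨_, g, rfl⟩, hg⟩ := IsCyclic.exists_generator (α := φ.range)
    refine ⟨g, le_antisymm (fun x hx => ?_) (sup_le (map_subtype_le _) (zpowers_le_of_mem g.2))⟩
    obtain ⟨j, hj⟩ := hg ⟨_, ⟨x, hx⟩, rfl⟩
    have hj : φ g ^ j = φ ⟨x, hx⟩ := by simpa using congrArg Subtype.val hj
    have : x = (x * ((g : G) ^ j)⁻¹) * (g : G) ^ j := by simp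
    rw [this]
    refine mul_mem (mem_sup_left ⟨⟨x, hx⟩ * (g ^ j)⁻¹, ?_, by simp⟩) (mem_sup_right ⟨j, rfl⟩)
    simp [MonoidHom.mem_ker, hj]
  · rw [← φ.ker.card_mul_index, hkq, index_ker, ← hd]
    exact mul_dvd_mul_left _ (card_subgroup_dvd_card _)

end Cfsg.Agent.S3496
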