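import Cfsg.Statements.S3497
import Mathlib
import Cfsg.Agent.H2.EP
import Cfsg.Agent.H26.AutP

set_option autoImplicit false
open Cfsg

namespace Cfsg.Agent.S3497

open H2.Pm MulAction

/-- Restrictions on the point stabilizer of an extremely primitive group. Let a finite group G act faithfully and primitively on a finite set Ω with point stabilizers H = G_α whose order is neither 1 nor a prime, each acting primitively on every one of its orbits. Then H has trivial center, the Fitting subgroup F(H) is an elementary abelian p-group for some prime p, and if F(H) ≠ 1 has order p ^ e then p ^ e divides the number of points minus one and H / F(H) embeds in GL_e(p) (there is a homomorphism from H to GL_e(p) with kernel exactly F(H)). -/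
theorem result {G : Type*} [Group G] [Finite G] {Ω : Type*} [Fintype Ω] [MulAction G Ω] [FaithfulSMul G Ω] (hprim : MulAction.IsPreprimitive G Ω) (hep : ∀ (α : Ω) (ω : Ω), MulAction.IsPreprimitive (MulAction.stabilizer G α) (MulAction.orbit (MulAction.stabilizer G α) ω)) (α : Ω)
    (hH1 : MulAction.stabilizer G α ≠ ⊥) (hHp : ¬ (Nat.card (MulAction.stabilizer G α)).Prime) :
    Subgroup.center (MulAction.stabilizer G α) = ⊥ ∧
    IsMulCommutative (Cfsg.fittingSubgroup (MulAction.stabilizer G α)) ∧
    ∃ p e : ℕ, p.Prime ∧ Nat.card (Cfsg.fittingSubgroup (MulAction.stabilizer G α)) = p ^ e ∧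
      (∀ x ∈ Cfsg.fittingSubgroup (MulAction.stabilizer G α), x ^ p = 1) ∧
      (Cfsg.fittingSubgroup (MulAction.stabilizer G α) ≠ ⊥ →
        p ^ e ∣ Fintype.card Ω - 1 ∧
        ∃ φ : MulAction.stabilizer G α →* GL (Fin e) (ZMod p), φ.ker = Cfsg.fittingSubgroup (MulAction.stabilizer G α)) := by
  refine ⟨EP.center_eq_bot hep hHp, ?_⟩
  by_cases h0 : Cfsg.fittingSubgroup (stabilizer G α) = ⊥
  · rw [h0]
    exact ⟨inferInstance, 2, 0, Nat.prime_two, by simp, by simp, fun h => (h rfl).elim⟩
  obtain ⟨h1, ⟨p, hp, h2⟩, h3, h4, -⟩ := EP.nilp hep h0 (H1.isNilpotent_fittingSubgroup _)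
  have := Fact.mk hp
  obtain ⟨e, he⟩ := IsPGroup.iff_card.1 (H2.isPGroup_of_forall_pow_eq_one h2)
  refine ⟨h1, p, e, hp, he, h2, fun _ => ⟨by rwa [← he, ← Nat.card_eq_fintype_card], ?_⟩⟩
  obtain ⟨φ⟩ := H26.nonempty_mulAut_equiv_GL (V := Cfsg.fittingSubgroup (stabilizer G α))
    (fun x => Subtype.ext (h2 _ x.2)) he
  refine ⟨φ.toMonoidHom.comp MulAut.conjNormal, ?_⟩
  refine Eq.trans ?_ h3
  ext g
  simp only [MonoidHom.mem_ker, MonoidHom.comp_apply, MulEquiv.coe_toMonoidHom, map_eq_one_iff _ φ.injective,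
    Subgroup.mem_centralizer_iff]
  refine ⟨fun h x hx => ?_, fun h => MulEquiv.ext fun x => Subtype.ext ?_⟩
  · have := congrArg (fun f => (f ⟨x, hx⟩).1) h
    simp only [MulAut.conjNormal_apply, MulAut.one_apply] at this
    exact (mul_inv_eq_iff_eq_mul.1 this).symm
  · simp [← h _ x.2]

end Cfsg.Agent.S3497
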