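import Cfsg.Statements.S3501
import Mathlib
import Cfsg.Agent.H2.EP
import Cfsg.Agent.H4.Sharp2
import Cfsg.Agent.S0721
import Cfsg.Agent.H2.Carter

set_option autoImplicit false
open Cfsg

namespace Cfsg.Agent.S3501

open H2.Pm MulAction Subgroup
theorem conj_le {G : Type*} [Group G] [Finite G] (N : Subgroup G) [hN : N.Normal] {x y : G}
    (h : IsConj x y) (hle : N ⊓ centralizer {y} ≤ N ⊓ centralizer {x}) :
    N ⊓ centralizer {x} ≤ N ⊓ centralizer {y} := by
  obtain ⟨g, rfl⟩ := isConj_iff.1 h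
  refine (eq_of_le_of_card_ge hle ?_).ge
  rw [← H1.card_conj_smul g]
  refine card_le_of_le fun z hz => ?_
  rw [H1.mem_conj_smul] at hz
  refine ⟨by simpa [mul_assoc] using hN.conj_mem _ hz.1 g, mem_centralizer_singleton_iff.2 ?_⟩
  have := mem_centralizer_singleton_iff.1 hz.2
  calc _ = g * (g⁻¹ * z * g * x) * g⁻¹ := by group
    _ = _ := by rw [this]; group

theorem ord_eq {G : Type*} [Group G] {x y : G} (h : IsConj x y) : orderOf x = orderOf y := by
  obtain ⟨g, rfl⟩ := isConj_iff.1 h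
  exact ((MulAut.conj g).orderOf_eq x).symm

theorem pgroup_of_orderOf {T : Type*} [Group T] [Finite T]
    (h : ∀ x y : T, x ≠ 1 → y ≠ 1 → orderOf x = orderOf y) : Group.IsNilpotent T := by
  rcases subsingleton_or_nontrivial T with h0 | h0
  · infer_instance
  obtain ⟨p, hp, hd⟩ := Nat.exists_prime_and_dvd (Finite.one_lt_card (α := T)).ne'
  have := Fact.mk hp
  obtain ⟨x, hx⟩ := exists_prime_orderOf_dvd_card' p hd
  refine IsPGroup.isNilpotent (p := p) fun y => ⟨1, ?_⟩
  by_cases hy : y = 1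
  · simp [hy]
  · rw [pow_one, ← hx, h x y (by rintro rfl; exact hp.one_lt.ne (by simpa using hx)) hy,
      pow_orderOf_eq_one]

/-- Let a finite group G act faithfully and primitively on a finite set Ω with at least two points, and suppose G is not almost simple (it has no non-abelian simple normal subgroup with trivial centralizer). Then the derangements of G form a single conjugacy class if and only if G is sharply 2-transitive (2-transitive, and no non-identity element fixes two points). -/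
theorem result {G : Type*} [Group G] [Finite G] {Ω : Type*} [Fintype Ω] [MulAction G Ω] [FaithfulSMul G Ω] (hΩ : 2 ≤ Fintype.card Ω) (hprim : MulAction.IsPreprimitive G Ω) (hnas : ¬ ∃ T : Subgroup G, T.Normal ∧ IsSimpleGroup T ∧ ¬ IsMulCommutative T ∧ Subgroup.centralizer (T : Set G) = ⊥) :
    Nat.card {c : ConjClasses G // ∃ g : G, ConjClasses.mk g = c ∧ ∀ ω : Ω, g • ω ≠ ω} = 1 ↔ (MulAction.IsMultiplyPretransitive G Ω 2 ∧ ∀ g : G, g ≠ 1 → ∀ a b : Ω, a ≠ b → g • a = a → g • b ≠ b) := by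
  classical
  have : Nontrivial Ω := Fintype.one_lt_card_iff_nontrivial.1 hΩ
  obtain ⟨a, b, hab⟩ := exists_pair_ne Ω
  rw [Nat.card_eq_one_iff_unique]
  refine ⟨fun ⟨hs, _⟩ => ?_, fun ⟨h2, h1⟩ => ?_⟩
  swap
  · obtain ⟨M, -, -, hM, h3, h4, -⟩ := H4.exists_sharp2_kernel (mt_two_iff.1 h2)
      fun g a b hab ha hb => by_contra fun hg => h1 g hg a b hab ha hb
    refine ⟨⟨?_⟩, ?_⟩
    · rintro ⟨_, x, rfl, hx⟩ ⟨_, y, rfl, hy⟩
      obtain ⟨g, h5, h6⟩ := mt_two_iff.1 h2 a (x • a) a (y • a) (hx a).symm (hy a).symm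
      refine Subtype.ext (ConjClasses.mk_eq_mk_iff_isConj.2 (isConj_iff.2 ⟨g, ?_⟩))
      refine eq_of_regular (N := M) (fun n hn c hc => ((h3 n).1 hn).resolve_right fun h => h c hc)
        (hM.conj_mem _ ((h3 x).2 (Or.inr hx)) g) ((h3 y).2 (Or.inr hy)) (a := a) ?_
      rw [mul_smul, mul_smul, inv_smul_eq_iff.2 h5.symm, h6]
    · obtain ⟨l, hl, e⟩ := h4 a b
      exact ⟨⟨_, l, rfl, ((h3 l).1 hl).resolve_left fun h => hab (by simpa [h] using e)⟩⟩
  have hc : ∀ x y : G, (∀ c : Ω, x • c ≠ c) → (∀ c : Ω, y • c ≠ c) → IsConj x y := fun x y hx hy =>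
    ConjClasses.mk_eq_mk_iff_isConj.1 (congrArg Subtype.val (hs.elim ⟨_, x, rfl, hx⟩ ⟨_, y, rfl, hy⟩))
  have : Nontrivial G := by
    obtain ⟨g, hg⟩ := exists_smul_eq G a b
    exact ⟨g, 1, fun h => hab (by simpa [h] using hg)⟩
  obtain ⟨N, hN⟩ := H2.exists_isMinNormal (G := G)
  have hNn := hN.normal
  have ht := (trans_subgroup_iff N).1 (normal_trans' (X := Ω) N hN.ne_bot)
  by_cases hr : ∀ n ∈ N, ∀ c : Ω, n • c = c → n = 1
  · have hd : ∀ n ∈ N, n ≠ 1 → ∀ c : Ω, n • c ≠ c := fun n hn h1 c h => h1 (hr n hn c h)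
    obtain ⟨hcm, -⟩ := prim_nilp (X := Ω) hN.ne_bot (pgroup_of_orderOf fun x y hx hy => by
      rw [← orderOf_coe, ← orderOf_coe]
      exact ord_eq (hc _ _ (hd _ x.2 (by simpa using hx)) (hd _ y.2 (by simpa using hy))))
    refine ⟨mt_succ' (k := 1) (s₀ := {a}) (is_one_pretransitive_iff.2 inferInstance) rfl
      fun b c hb hc' => ?_, fun g hg a b hab ha hb => ?_⟩
    · obtain ⟨n, hn, rfl⟩ := ht a b
      obtain ⟨m, hm, rfl⟩ := ht a c
      obtain ⟨g, rfl⟩ := isConj_iff.1 (hc _ _ (hd n hn (by rintro rfl; simp at hb))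
        (hd m hm (by rintro rfl; simp at hc')))
      obtain ⟨l, hl, e⟩ := ht a (g • a)
      have e' : (l⁻¹ * g) • a = a := by rw [mul_smul, ← e, inv_smul_smul]
      refine ⟨l⁻¹ * g, by simpa using e', ?_⟩
      have : (l⁻¹ * g) * n * (l⁻¹ * g)⁻¹ = g * n * g⁻¹ := by
        calc _ = l⁻¹ * (g * n * g⁻¹ * l) := by group
          _ = _ := by rw [H2.mul_comm_of_mem hm hl, inv_mul_cancel_left]
      rw [← this, mul_smul _ _ a, inv_smul_eq_iff.2 e'.symm, mul_smul _ n]
    · obtain ⟨n, hn, h⟩ := exists_derangement ht hab ha hb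
      obtain ⟨m, hm, e⟩ := ht a b
      obtain ⟨u, hu⟩ := isConj_iff.1 (hc m _ (hd m hm (by rintro rfl; exact hab (by simpa using e))) h)
      exact hg (hr g ((N.mul_mem_cancel_left hn).1 (hu ▸ hNn.conj_mem m hm u)) a ha)
  exfalso
  have hC : centralizer (N : Set G) = ⊥ := by
    by_contra h0
    exact hr fun n hn c h => eq_one_of_commute_trans
      ((trans_subgroup_iff _).1 (normal_trans' (X := Ω) _ h0)) (fun g hg => hg n hn) h
  have hna : ¬ IsMulCommutative N := fun _ => hN.ne_bot (le_bot_iff.1 (hC ▸ N.le_centralizer))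
  obtain ⟨T, _, m, hT, hm, ⟨e⟩⟩ := S0721.result N hN.ne_bot hN.min
  have : Finite T := Finite.of_surjective (fun n => e n ⟨0, hm⟩) fun t => ⟨e.symm fun _ => t, by simp⟩
  have hTa : ¬ IsMulCommutative T := fun h => hna ⟨⟨fun x y => e.injective (by
    ext i; simp [mul_comm' (e x i)])⟩⟩
  have hm2 : 1 < m := by
    by_contra h
    obtain rfl : m = 1 := by omega
    exact hnas ⟨N, hNn, (e.trans (MulEquiv.piUnique _)).isSimpleGroup, hna, hC⟩
  let i : Fin m := ⟨0, hm⟩
  let j : Fin m := ⟨1, hm2⟩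
  have hij : i ≠ j := by simp [i, j]
  let π : N →* T := (Pi.evalMonoidHom _ i).comp e.toMonoidHom
  have hder : ∀ n : N, (∀ u : N, ((u⁻¹ * n * u : N) : G) • a ≠ a) → ∀ c : Ω, (n : G) • c ≠ c :=
    fun n h c hc => by
      obtain ⟨u, hu, rfl⟩ := ht a c
      exact h ⟨u, hu⟩ (by simp [mul_smul, hc])
  by_cases hP : (stabilizer N a).map π = ⊤
  · let s : T →* N := e.symm.toMonoidHom.comp (MonoidHom.mulSingle (fun _ => T) i)
    have hs : ∀ (u : N) t, u * s t * u⁻¹ = s (π u * t * (π u)⁻¹) := fun u t => e.injective (by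
      ext k
      by_cases hk : k = i <;> simp [s, π, hk])
    have hn : ((stabilizer N a).comap s).Normal := ⟨fun t ht u => by
      obtain ⟨k, hk, rfl⟩ := (hP ▸ mem_top u : u ∈ (stabilizer N a).map π)
      rw [mem_comap, ← hs]
      exact mul_mem (mul_mem hk ht) (inv_mem hk)⟩
    have hsi : Function.Injective s := fun x y h => by
      simpa using congrFun (e.symm.injective h) i
    rcases hn.eq_bot_or_eq_top with h | h
    · have hd : ∀ t, t ≠ 1 → ∀ c : Ω, (s t : G) • c ≠ c := fun t h1 => hder _ fun u hu => h1 (by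
        have : π u⁻¹ * t * (π u⁻¹)⁻¹ ∈ (stabilizer N a).comap s := by
          rw [mem_comap, ← hs, inv_inv]; exact hu
        simpa only [h, mem_bot, conj_eq_one_iff] using this)
      have := pgroup_of_orderOf (T := T) fun x y hx hy => by
        rw [← orderOf_injective s hsi, ← orderOf_injective s hsi, ← orderOf_coe, ← orderOf_coe]
        exact ord_eq (hc _ _ (hd _ hx) (hd _ hy))
      exact hTa ⟨⟨IsSimpleGroup.comm_iff_isSolvable.2 inferInstance⟩⟩
    · obtain ⟨t, h1⟩ := exists_ne (1 : T)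
      refine h1 (hsi (Subtype.ext (eq_of_smul_eq_smul (α := Ω) fun c => ?_)))
      obtain ⟨u, hu, rfl⟩ := ht a c
      have : π ⟨u, hu⟩⁻¹ * t * (π ⟨u, hu⟩⁻¹)⁻¹ ∈ (stabilizer N a).comap s := h ▸ mem_top _
      rw [mem_comap, ← hs, inv_inv] at this
      have : (u⁻¹ * s t * u) • a = a := this
      simpa [mul_smul, inv_smul_eq_iff] using this
  · obtain ⟨t, ht'⟩ := exists_not_conj_mem hP
    have h1 : t ≠ 1 := by rintro rfl; exact ht' 1 (by simp)
    have hd : ∀ f : Fin m → T, f i = t → ∀ c : Ω, (e.symm f : G) • c ≠ c := fun f hf =>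
      hder _ fun u hu => ht' (π u) ⟨_, hu, by simp [π, hf]⟩
    obtain ⟨v, hv⟩ : ∃ v, v * t ≠ t * v := by
      by_contra! h
      rcases (inferInstance : (center T).Normal).eq_bot_or_eq_top with h2 | h2
      · exact h1 (mem_bot.1 (h2 ▸ mem_center_iff.2 h))
      · exact hTa ⟨⟨fun x y => mem_center_iff.1 (h2 ▸ mem_top y) x⟩⟩
    have hcm : ∀ (z : N) f, (z : G) ∈ centralizer {(e.symm f : G)} ↔ ∀ k, e z k * f k = f k * e z k :=
      fun z f => by
        rw [mem_centralizer_singleton_iff, ← Subgroup.coe_mul, ← Subgroup.coe_mul, Subtype.coe_inj,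
          ← e.apply_eq_iff_eq, funext_iff]
        simp
    have := conj_le N (hc _ _ (hd (Pi.mulSingle i t) (by simp)) (hd (fun _ => t) rfl)) (by
      rintro z ⟨hz, h⟩
      refine ⟨hz, (hcm ⟨z, hz⟩ _).2 fun k => ?_⟩
      by_cases hk : k = i
      · simpa [hk] using (hcm ⟨z, hz⟩ _).1 h i
      · simp [hk])
    have := @this (e.symm (Pi.mulSingle j v)) ⟨Subtype.property _, (hcm _ _).2 fun k => by
        by_cases hk : k = i
        · simp [hk, hij]
        · simp [hk]⟩
    exact hv (by simpa using (hcm _ _).1 this.2 j)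

end Cfsg.Agent.S3501
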