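import Cfsg.Statements.S3532
import Cfsg.Agent.H26.FrobSpec
import Cfsg.Agent.S2475

set_option autoImplicit false
open Cfsg

namespace Cfsg.Agent.S3532


/-- Let q ≥ 4 be a prime power and L = PSL(2,q). There is a finite solvable group with the same set of element orders as L × L (so L × L is not determined by its spectrum). -/
theorem result {F : Type*} [Field F] [Fintype F] (hF : 4 ≤ Fintype.card F) :
    ∃ (H : Type) (_ : Group H) (_ : Finite H), Group.IsSolvable H ∧
      Set.range (orderOf : H → ℕ) = Set.range (orderOf : Matrix.ProjectiveSpecialLinearGroup (Fin 2) F × Matrix.ProjectiveSpecialLinearGroup (Fin 2) F → ℕ) := by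
  obtain ⟨p, hc⟩ := CharP.exists F
  have hp := CharP.char_is_prime F p
  have := Fact.mk hp
  obtain ⟨n, -, hq⟩ := FiniteField.card F p
  have hs := S2475.result p hF
  set q := Fintype.card F with hqd
  set d := Nat.gcd 2 (q - 1) with hd
  have hpq : p ∣ q := hq ▸ dvd_pow_self p n.ne_zero
  have d1 : d ∣ q - 1 := Nat.gcd_dvd_right _ _
  have d2 : d ∣ q + 1 := by
    rw [show q + 1 = q - 1 + 2 by omega]; exact dvd_add d1 (Nat.gcd_dvd_left _ _)
  have dpos : 0 < d := Nat.gcd_pos_of_pos_left _ (by norm_num)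
  have c1 : ((q - 1) / d).Coprime p := by
    refine Nat.Coprime.coprime_dvd_left (Nat.div_dvd_of_dvd d1) (Nat.Coprime.coprime_dvd_right hpq ?_)
    rw [show q = q - 1 + 1 by omega]; simp
  have c2 : ((q + 1) / d).Coprime p :=
    Nat.Coprime.coprime_dvd_left (Nat.div_dvd_of_dvd d2) (Nat.Coprime.coprime_dvd_right hpq (by simp))
  obtain ⟨X, _, _, sX, hX, -⟩ := H26.exists_frob_cyc hp c1
    (Nat.div_pos (Nat.le_of_dvd (by omega) d1) dpos).ne'
  obtain ⟨Y, _, _, sY, hY, -⟩ := H26.exists_frob_cyc hp c2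
    (Nat.div_pos (Nat.le_of_dvd (by omega) d2) dpos).ne'
  refine ⟨X × Y, inferInstance, inferInstance, inferInstance, ?_⟩
  ext m
  simp only [H19.spec_prod, hX, hY, hs, Set.mem_setOf_eq]
  generalize (q - 1) / d = B
  generalize (q + 1) / d = C
  constructor
  · rintro ⟨a, ha, b, hb, rfl⟩
    exact ⟨a, by tauto, b, by tauto, rfl⟩
  · rintro ⟨a, ha, b, hb, rfl⟩
    rcases ha with ha | ha | ha <;> rcases hb with hb | hb | hb
    · exact ⟨a, .inl ha, b, .inl hb, rfl⟩
    · exact ⟨b, .inr hb, a, .inl ha, Nat.lcm_comm _ _⟩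
    · exact ⟨a, .inl ha, b, .inr hb, rfl⟩
    · exact ⟨a, .inr ha, b, .inl hb, rfl⟩
    · exact ⟨_, .inr (Nat.lcm_dvd ha hb), 1, .inl (one_dvd _), (Nat.lcm_one_right _).symm⟩
    · exact ⟨a, .inr ha, b, .inr hb, rfl⟩
    · exact ⟨b, .inl hb, a, .inr ha, Nat.lcm_comm _ _⟩
    · exact ⟨b, .inr hb, a, .inr ha, Nat.lcm_comm _ _⟩
    · exact ⟨1, .inl (one_dvd _), _, .inr (Nat.lcm_dvd ha hb), (Nat.lcm_one_left _).symm⟩

end Cfsg.Agent.S3532
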