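import Cfsg.Statements.S3554
import Cfsg.Agent.H19.Der
import Cfsg.Agent.H21.Base3

set_option autoImplicit false
open Cfsg

namespace Cfsg.Agent.S3554

open Cfsg.Agent.H19 MulAction Subgroup

/-- Let G act faithfully and transitively on a finite set and suppose G has a non-trivial cyclic normal subgroup. Then some element of G of prime order fixes no point. -/
theorem result {G Ω : Type*} [Group G] [Finite G] [MulAction G Ω] [FaithfulSMul G Ω] [Finite Ω]
    (htrans : MulAction.IsPretransitive G Ω) (C : Subgroup G) (hC : C.Normal) (hC1 : C ≠ ⊥) (hcyc : IsCyclic ↥C) :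
    ∃ g : G, (orderOf g).Prime ∧ ∀ ω : Ω, g • ω ≠ ω := by
  obtain ⟨p, hp, hd⟩ := Nat.exists_prime_and_dvd (mt card_eq_one.mp hC1)
  haveI := Fact.mk hp
  obtain ⟨x, hx⟩ := exists_prime_orderOf_dvd_card' p hd
  rw [← orderOf_coe] at hx
  haveI : (zpowers x.1).Normal := normalizer_eq_top_iff.mp (top_le_iff.mp
    (H21.norm_of_le_cyclic hcyc (zpowers_le.mpr x.2) le_normalizer_of_normal))
  refine ⟨x, hx ▸ hp, fun ω e => hp.ne_one ?_⟩
  rw [← hx, zpowers_eq_bot.mp (stabilizer_normal_eq_bot (zpowers_le.mpr e)), orderOf_one]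

end Cfsg.Agent.S3554
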