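import Cfsg.Statements.S3555


set_option autoImplicit false
open Cfsg

namespace Cfsg.Agent.S3555

open MulAction Finset
open scoped Pointwise

theorem frob_of {G Ω : Type*} [Group G] [Finite G] [MulAction G Ω] [FaithfulSMul G Ω] [Finite Ω] [Nonempty Ω]
    [IsPretransitive G Ω] (hinv : ∀ g : G, (∀ ω : Ω, g • ω ≠ ω) → g * g = 1) {g : G} {a b : Ω} (hab : a ≠ b)
    (ha : g • a = a) (hb : g • b = b) : g = 1 := by
  classical
  have := Fintype.ofFinite G
  have := Fintype.ofFinite Ω
  let f : G → ℤ := fun g => ∑ a : Ω, if g • a = a then 1 else 0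
  have f0 : ∀ g, f g = (univ.filter fun a : Ω => g • a = a).card := fun g => by simp [f]
  have h1 : ∑ g, f g = Fintype.card G := by
    have := sum_card_fixedBy_eq_card_orbits_mul_card_group G Ω
    have h := (pretransitive_iff_unique_quotient_of_nonempty G Ω).1 inferInstance
    obtain ⟨h⟩ := h
    rw [Fintype.card_unique, one_mul] at this
    rw [← this]
    push_cast
    exact sum_congr rfl fun g _ => by rw [f0, Fintype.card_subtype]; rfl
  have h2 : ∑ g : G, ∑ a : Ω, ∑ b : Ω, (if (∀ ω : Ω, g • ω ≠ ω) ∧ g • a = b then 1 else 0 : ℤ) ≤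
      ∑ g : G, ∑ a : Ω, ∑ b : Ω, (if a ≠ b ∧ g • a = a ∧ g • b = b then 1 else 0 : ℤ) := by
    rw [sum_comm, sum_comm (s := (univ : Finset G))]
    refine sum_le_sum fun a _ => ?_
    rw [sum_comm, sum_comm (s := (univ : Finset G))]
    refine sum_le_sum fun b _ => ?_
    simp only [sum_boole, Nat.cast_le]
    rcases (univ.filter fun g : G => (∀ ω : Ω, g • ω ≠ ω) ∧ g • a = b).eq_empty_or_nonempty with h | ⟨t, ht⟩
    · simp [h]
    simp only [mem_filter, mem_univ, true_and] at ht
    refine card_le_card_of_injOn (t * ·) (fun s hs => ?_) (mul_right_injective t).injOn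
    simp only [coe_filter, mem_univ, true_and, Set.mem_ofPred_eq] at hs ⊢
    refine ⟨fun e => ht.1 a (e ▸ ht.2), ?_, ?_⟩
    · rw [mul_smul, hs.2, ← ht.2, ← mul_smul, hinv t ht.1, one_smul]
    · rw [mul_smul, ← ht.2, ht.2, ← hs.2, ← mul_smul s, hinv s hs.1, one_smul, hs.2, ht.2]
  have h3 : ∀ g : G, ∑ a : Ω, ∑ b : Ω, (if a ≠ b ∧ g • a = a ∧ g • b = b then 1 else 0 : ℤ) = f g * (f g - 1) :=
    fun g => by
      rw [mul_sub, mul_one, sum_mul_sum, ← sum_sub_distrib]
      refine sum_congr rfl fun a _ => ?_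
      rw [← sum_erase_add _ _ (mem_univ a), ← sum_erase_add _ _ (mem_univ a), add_sub_assoc]
      congr 1
      · exact sum_congr rfl fun b hb => by
          by_cases h : g • a = a <;> simp [h, (mem_erase.1 hb).1.symm]
      · by_cases h : g • a = a <;> simp [h]
  let u : G → ℤ := fun g => if ∀ ω : Ω, g • ω ≠ ω then 0 else (f g - 1) * (Fintype.card Ω - f g)
  have h4 : ∀ g : G, ∑ a : Ω, ∑ b : Ω, (if (∀ ω : Ω, g • ω ≠ ω) ∧ g • a = b then 1 else 0 : ℤ) =
      u g - (f g - 1) * (Fintype.card Ω - f g) := fun g => by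
    by_cases h : ∀ ω : Ω, g • ω ≠ ω
    · have : f g = 0 := sum_eq_zero fun a _ => if_neg (h a)
      simp [u, h, this]
    · simp only [u, h, false_and, if_false]; simp
  have h5 : ∀ g, 0 ≤ u g := fun g => by
    simp only [u]
    split_ifs with h
    · rfl
    · push Not at h
      obtain ⟨a, ha⟩ := h
      rw [f0]
      exact mul_nonneg (sub_nonneg.2 (by exact_mod_cast card_pos.2 ⟨a, by simpa using ha⟩))
        (sub_nonneg.2 (by exact_mod_cast card_le_univ _))
  simp only [h3, h4] at h2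
  have h6 : ∑ g, u g ≤ 0 := by
    have : ∑ g, (f g * (f g - 1) + (f g - 1) * (Fintype.card Ω - f g)) = Fintype.card Ω * (∑ g, f g - Fintype.card G) := by
      rw [← card_univ (α := G), cast_card, ← sum_sub_distrib, mul_sum]
      exact sum_congr rfl fun g _ => by ring
    rw [h1, sum_add_distrib] at this
    rw [sum_sub_distrib] at h2
    linarith
  have h7 := (sum_eq_zero_iff_of_nonneg fun g _ => h5 g).1 (h6.antisymm (sum_nonneg fun g _ => h5 g)) g (mem_univ g)
  simp only [u, if_neg (show ¬ ∀ ω : Ω, g • ω ≠ ω from fun h => h a ha), f0] at h7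
  rcases mul_eq_zero.1 h7 with h | h
  · have : 1 < (univ.filter fun a : Ω => g • a = a).card := one_lt_card.2 ⟨a, by simpa using ha, b, by simpa using hb, hab⟩
    omega
  · have : (univ.filter fun a : Ω => g • a = a) = univ := eq_univ_of_card _ (by omega)
    exact eq_of_smul_eq_smul fun a : Ω => by
      simpa using (show a ∈ univ.filter fun a : Ω => g • a = a from by rw [this]; exact mem_univ a)

/-- Let G act faithfully and transitively on a finite set and suppose every element of G fixing no point is an involution. Then either G is an elementary abelian 2-group, or G is a Frobenius group whose Frobenius kernel is an elementary abelian 2-group: G has a Frobenius complement H, and the elements lying in no conjugate of H, together with the identity, pairwise commute and square to the identity. -/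
theorem result {G Ω : Type*} [Group G] [Finite G] [MulAction G Ω] [FaithfulSMul G Ω] [Finite Ω]
    (htrans : MulAction.IsPretransitive G Ω) (hinv : ∀ g : G, (∀ ω : Ω, g • ω ≠ ω) → orderOf g = 2) :
    (IsMulCommutative G ∧ ∀ g : G, g ^ 2 = 1) ∨
    (∃ H : Subgroup G, Cfsg.IsFrobeniusComplement H ∧
      (∀ x ∈ Cfsg.frobeniusKernel H, x ^ 2 = 1) ∧
      ∀ x ∈ Cfsg.frobeniusKernel H, ∀ y ∈ Cfsg.frobeniusKernel H, x * y = y * x) := by
  rcases isEmpty_or_nonempty Ω with h0 | h0
  · simpa using hinv 1 fun ω => isEmptyElim ω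
  have h1 : ∀ g : G, (∀ ω : Ω, g • ω ≠ ω) → g * g = 1 := fun g h => by rw [← sq, ← hinv g h, pow_orderOf_eq_one]
  have h2 : ∀ x y : G, x * x = 1 → y * y = 1 → (x * y) * (x * y) = 1 → x * y = y * x := fun x y hx hy h => by
    rw [eq_inv_of_mul_eq_one_left h, mul_inv_rev, ← eq_inv_of_mul_eq_one_left hx, ← eq_inv_of_mul_eq_one_left hy]
  obtain ⟨a⟩ := h0
  have := Nonempty.intro a
  have h3 : ∀ x g : G, x ∈ MulAut.conj g • stabilizer G a ↔ x • g • a = g • a := fun x g => by
    rw [← mem_stabilizer_iff, stabilizer_smul_eq_stabilizer_map_conj]; rfl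
  have h4 : ∀ x ∈ frobeniusKernel (stabilizer G a), x = 1 ∨ ∀ ω : Ω, x • ω ≠ ω := fun x hx =>
    hx.imp_right fun h ω e => by
      obtain ⟨g, rfl⟩ := exists_smul_eq G a ω
      exact h g ((h3 x g).2 e)
  have h5 : ∀ x ∈ frobeniusKernel (stabilizer G a), x * x = 1 := fun x hx => (h4 x hx).elim (by simp +contextual) (h1 x)
  by_cases h : stabilizer G a = ⊥
  · have h6 : ∀ x : G, x * x = 1 := fun x => h5 x (or_iff_not_imp_left.2 fun hx g e => hx (by simpa [h] using e))
    exact Or.inl ⟨⟨⟨fun x y => h2 x y (h6 x) (h6 y) (h6 _)⟩⟩, fun g => by rw [sq, h6]⟩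
  refine Or.inr ⟨stabilizer G a, ⟨h, fun e => h (eq_bot_iff.2 fun x _ => eq_of_smul_eq_smul fun ω : Ω => ?_),
    fun g hg => eq_bot_iff.2 fun x hx => frob_of h1 (fun e => hg e.symm) hx.1 ((h3 x g).1 hx.2)⟩,
    fun x hx => by rw [sq, h5 x hx], fun x hx y hy => h2 x y (h5 x hx) (h5 y hy) ?_⟩
  · obtain ⟨g, rfl⟩ := exists_smul_eq G a ω
    have k : ∀ g : G, g • a = a := fun g => (e ▸ Subgroup.mem_top g : g ∈ stabilizer G a)
    rw [k g, k, k]
  · rcases h4 x hx with rfl | hx'
    · rw [one_mul, h5 y hy]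
    rcases h4 y hy with rfl | hy'
    · rw [mul_one, h5 x hx]
    by_cases e : ∀ ω : Ω, (x * y) • ω ≠ ω
    · exact h1 _ e
    push Not at e
    obtain ⟨ω, e⟩ := e
    have e1 : x • ω = y • ω := by rw [← e, ← mul_smul, ← mul_assoc, h5 x hx, one_mul, e]
    rw [frob_of h1 (hy' ω) (by rw [← mul_smul, mul_assoc, h5 y hy, mul_one, e1]) e, mul_one]

end Cfsg.Agent.S3555
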