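import Cfsg.Statements.S3556
import Cfsg.Agent.H1.ONS

set_option autoImplicit false
open Cfsg

namespace Cfsg.Agent.S3556

open Subgroup Cfsg.Agent.H20 Cfsg.Agent.H21 Cfsg.Agent.H2 Cfsg.Agent.H1 MulAction H2.Pm

/-- Let G act faithfully and primitively on a finite set with at least two points, and suppose that for some fixed prime p every element of G fixing no point has order a power of p. Then G is of affine type (it has a regular normal subgroup that is an elementary abelian r-group for some prime r) or almost simple (it has a non-abelian simple normal subgroup with trivial centralizer). -/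
theorem result {G Ω : Type*} [Group G] [Finite G] [MulAction G Ω] [FaithfulSMul G Ω] [Finite Ω]
    (hprim : MulAction.IsPreprimitive G Ω) (hΩ : 2 ≤ Nat.card Ω) (p : ℕ) (hp : p.Prime)
    (hder : ∀ g : G, (∀ ω : Ω, g • ω ≠ ω) → ∃ k : ℕ, orderOf g = p ^ k) :
    (∃ (N : Subgroup G) (r : ℕ), r.Prime ∧ N.Normal ∧ Cfsg.IsElementaryAbelian r N ∧
      MulAction.IsPretransitive N Ω ∧ ∀ a : Ω, MulAction.stabilizer N a = ⊥) ∨
    (∃ T : Subgroup G, T.Normal ∧ IsSimpleGroup ↥T ∧ ¬ IsMulCommutative ↥T ∧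
      Subgroup.centralizer (T : Set G) = ⊥) := by
  have := Finite.one_lt_card_iff_nontrivial.mp hΩ
  obtain ⟨a, b, hab⟩ := exists_pair_ne Ω
  have : Nontrivial G := by
    obtain ⟨g, rfl⟩ := exists_smul_eq G a b
    exact ⟨1, g, fun e => hab (by rw [← e, one_smul])⟩
  obtain ⟨N, hN⟩ := exists_isMinNormal (G := G)
  have := hN.normal
  by_cases hc : IsMulCommutative N
  · obtain ⟨-, ⟨r, hr, h1⟩, -, h2, h3⟩ := prim_nilp (X := Ω) hN.ne_bot (by
      open scoped IsMulCommutative in exact CommGroup.isNilpotent)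
    exact .inl ⟨N, r, hr, this, ⟨hc, h1⟩, (trans_subgroup_iff N).2 h2, fun a =>
      (eq_bot_iff_forall _).2 fun n hn => Subtype.ext (h3 n n.2 a hn)⟩
  obtain ⟨T, hT⟩ := exists_fac hN hc
  have hsemi : ¬ ∀ t ∈ T, ∀ a : Ω, t • a = a → t = 1 := fun h => hT.not_pgroup hp fun t => by
    by_cases e : (t : G) = 1
    · exact ⟨0, Subtype.ext (by simpa using e)⟩
    · obtain ⟨k, hk⟩ := hder t fun ω h1 => e (h t t.2 ω h1)
      exact ⟨k, Subtype.ext (by rw [coe_pow, ← hk, pow_orderOf_eq_one, coe_one])⟩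
  by_cases e : T = N
  · subst e
    exact .inr ⟨T, this, hT.simple, hc, by_contra fun h => hsemi fun t ht a => hT.semi h ht⟩
  obtain ⟨T', hT', e'⟩ := hT.exists_ne e
  have key : ∀ x ∈ N, ∀ b : Ω, x • b = b → ∃ n ∈ N, n⁻¹ * x * n ∈ stabilizer G a ⊓ N := fun x hx b e => by
    obtain ⟨n, hn, rfl⟩ := hT.trans a b
    exact ⟨n, hn, mem_inf.mpr ⟨by rw [mem_stabilizer_iff, mul_smul, mul_smul, e, inv_smul_smul],
      mul_mem (mul_mem (inv_mem hn) hx) hn⟩⟩
  exfalso
  by_cases h1 : T ≤ (stabilizer G a ⊓ N) ⊔ C⟦T⟧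
  · have h2 := (hT.inf_or_le inf_le_right h1).resolve_right fun e => hT.not_le_stab a (e.trans inf_le_left)
    refine hsemi fun t ht b e => ?_
    obtain ⟨n, hn, h3⟩ := key t (hT.le ht) b e
    simpa [mul_assoc, inv_mul_eq_one] using h2.le ⟨h3, conj_mem_of_norm' (hT.norm hn) ht⟩
  obtain ⟨t, ht⟩ := exists_not_conj_mem (subgroupOf_eq_top.not.mpr h1)
  have h2 : ∀ s ∈ T', ∃ k, orderOf (t * s) = p ^ k := fun s hs => hder _ fun b e => by
    obtain ⟨n, hn, h3⟩ := key _ (mul_mem (hT.le t.2) (hT'.le hs)) b e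
    obtain ⟨u, hu, c, hc', rfl⟩ := hT.dec hn
    refine ht ⟨u, hu⟩ ((mul_mem_cancel_right (mem_sup_right (hT'.cent hT e' (conj_mem_of_norm' (hT'.norm hn) hs)))).mp ?_)
    convert mem_sup_left h3 using 1
    have := hc' _ (conj_mem_of_norm' (le_normalizer hu) t.2)
    calc _ = c⁻¹ * (c * (u⁻¹ * t * u)) * ((u * c)⁻¹ * s * (u * c)) := by simp
      _ = _ := by rw [← this]; group
  refine hT'.not_pgroup hp fun s => ?_
  obtain ⟨k, hk⟩ := h2 s s.2
  obtain ⟨l, hl⟩ := h2 1 (one_mem _)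
  refine ⟨k + l, Subtype.ext ?_⟩
  have h3 : Commute (t : G) s := hT'.cent hT e' s.2 t t.2
  have h4 : ((t : G) * s) ^ p ^ (k + l) = 1 := by rw [pow_add, pow_mul, ← hk, pow_orderOf_eq_one, one_pow]
  rwa [h3.mul_pow, pow_add, mul_comm, pow_mul, ← hl, mul_one, pow_orderOf_eq_one, one_pow, one_mul, ← mul_one (t : G), hl,
    mul_comm, ← pow_add] at h4

end Cfsg.Agent.S3556
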