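import Cfsg.Statements.S3557
import Mathlib
import Cfsg.Agent.H2.EP

set_option autoImplicit false
open Cfsg

namespace Cfsg.Agent.S3557

open H2.Pm MulAction Subgroup
theorem lemA {P Ω : Type*} [Group P] [Finite P] [MulAction P Ω] [Finite Ω] {p : ℕ} [Fact p.Prime]
    (hP : IsPGroup p P) (N : Subgroup P) [hN : N.Normal] (b : Ω) (h : ¬ N ≤ stabilizer P b) :
    ∃ w ∈ N, ∀ x ∈ orbit P b, w • x ≠ x ∧ w ^ p • x = x ∧ ∀ g : P, g • w • x = w • g • x := by
  let f := toPermHom P (orbit P b)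
  have h0 : N.map f ≠ ⊥ := fun e => h fun n hn => by
    have := (e ▸ mem_map_of_mem f hn : f n ∈ (⊥ : Subgroup _))
    exact congrArg (fun σ : Equiv.Perm (orbit P b) => (σ ⟨b, mem_orbit_self b⟩).1) (mem_bot.1 this)
  have h1 := H2.inf_centralizer_ne_bot_of_isPGroup ((hP.to_subgroup N).map f)
    ((hP.to_subgroup ⊤).map f) ((map_mono le_normalizer_of_normal).trans (le_normalizer_map f)) h0
  obtain ⟨⟨x, ⟨w, hw, rfl⟩, hc⟩, hx⟩ := exists_prime_orderOf_dvd_card' p
    ((((hP.to_subgroup N).map f).to_inf_left.card_eq_or_dvd).resolve_left (mt card_eq_one.1 h1))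
  rw [← orderOf_coe] at hx
  refine ⟨w, hw, fun x hx' => ⟨fun e => ?_, ?_, fun g => ?_⟩⟩
  · have := eq_one_of_commute_trans (A := map f ⊤) (fun a b => by
      obtain ⟨g, hg⟩ := exists_smul_eq P a b
      exact ⟨f g, mem_map_of_mem f trivial, hg⟩) (fun g hg => (hc g hg).symm) (a := ⟨x, hx'⟩)
      (Subtype.ext e)
    exact (Fact.out : p.Prime).one_lt.ne (by simpa [this] using hx)
  · have := pow_orderOf_eq_one (f w)
    rw [hx, ← map_pow] at this
    exact congrArg (fun σ : Equiv.Perm (orbit P b) => (σ ⟨x, hx'⟩).1) this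
  · exact congrArg (fun σ : Equiv.Perm (orbit P b) => (σ ⟨x, hx'⟩).1)
      (hc (f g) (mem_map_of_mem f trivial))

theorem main {G Ω : Type*} [Group G] [Finite G] [MulAction G Ω] [FaithfulSMul G Ω] [Finite Ω]
    {p : ℕ} [hp : Fact p.Prime] (hcl : ∀ σ : Equiv.Perm Ω,
      (∀ a b : Ω, ∃ g : G, σ a = g • a ∧ σ b = g • b) → ∃ g : G, ∀ a : Ω, σ a = g • a)
    {P : Subgroup G} (hP : IsPGroup p P) {a b : Ω} (ha : (stabilizer P a).index = p ^ 2)
    (hb : (stabilizer P b).index = p ^ 2) (hab : ∀ x, x ∈ orbit P a ↔ x ∉ orbit P b)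
    (hK : (toPermHom P (orbit P b)).ker ≠ ⊥) : ∃ g : G, (orderOf g).Prime ∧ ∀ ω : Ω, g • ω ≠ ω := by
  classical
  set K := (toPermHom P (orbit P b)).ker
  have hKb : ∀ k ∈ K, ∀ x ∈ orbit P b, k • x = x := fun k hk x hx =>
    congrArg (fun σ : Equiv.Perm (orbit P b) => (σ ⟨x, hx⟩).1) hk
  have hKa : ¬ K ≤ stabilizer P a := fun h => hK ((eq_bot_iff_forall _).2 fun k hk =>
    eq_of_smul_eq_smul (α := Ω) fun x => by
      by_cases hx : x ∈ orbit P b
      · rw [hKb k hk x hx, one_smul]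
      · obtain ⟨g, rfl⟩ := (hab x).2 hx
        have := h ((inferInstance : K.Normal).conj_mem' k hk g)
        rw [mem_stabilizer_iff, mul_smul, mul_smul, inv_smul_eq_iff] at this
        simpa using this)
  obtain ⟨z, hz, hz'⟩ := lemA hP K a hKa
  have h1 : (K ⊔ stabilizer P a).index ∣ p := by
    obtain ⟨i, hi, h⟩ := (Nat.dvd_prime_pow hp.out).1
      (ha ▸ index_dvd_of_le (le_sup_right : stabilizer P a ≤ K ⊔ stabilizer P a))
    have : i ≠ 2 := by
      rintro rfl
      exact hKa (le_sup_left.trans (eq_of_le_of_index_le le_sup_right (by rw [h, ha])).ge)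
    rw [h]
    exact (pow_dvd_pow p (by omega)).trans (pow_one p).dvd
  have hn : (K ⊔ stabilizer P a).Normal := by
    rcases (Nat.dvd_prime hp.out).1 h1 with h | h
    · exact normal_of_index_eq_one h
    · obtain ⟨n, hn⟩ := IsPGroup.iff_card.1 hP
      refine normal_of_index_eq_minFac_card (by
        rw [h, hn, hp.out.pow_minFac]
        rintro rfl
        have := index_dvd_card (K ⊔ stabilizer P a)
        rw [h, hn] at this
        exact hp.out.one_lt.ne' (Nat.dvd_one.1 this))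
  obtain ⟨w, hw, hw'⟩ := lemA hP (K ⊔ stabilizer P a) b fun h => by
    have := Nat.le_of_dvd hp.out.pos ((hb ▸ index_dvd_of_le h).trans h1)
    nlinarith [hp.out.one_lt]
  let σ : Equiv.Perm Ω := Equiv.Perm.ofSubtype (toPermHom P (orbit P b) w)
  have hσ1 : ∀ x ∈ orbit P b, σ x = w • x := fun x hx => Equiv.Perm.ofSubtype_apply_of_mem _ hx
  have hσ2 : ∀ x ∉ orbit P b, σ x = x := fun x hx => Equiv.Perm.ofSubtype_apply_of_not_mem _ hx
  have key : ∀ x ∉ orbit P b, ∀ y ∈ orbit P b, ∃ g : G, σ x = g • x ∧ σ y = g • y := by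
    intro x hx y hy
    obtain ⟨g, rfl⟩ := (hab x).2 hx
    obtain ⟨k, hk, s, hs, e⟩ := mem_sup_of_normal_left.1 (hn.conj_mem' w hw g)
    refine ⟨(g * s * g⁻¹ : P), (hσ2 _ hx).trans (conj_mem_stab (G := P) hs).symm, ?_⟩
    rw [hσ1 y hy]
    have : w = (g * k * g⁻¹) * (g * s * g⁻¹) := by
      calc w = g * (g⁻¹ * w * g) * g⁻¹ := by group
        _ = _ := by rw [← e]; group
    rw [this, mul_smul]
    exact hKb _ ((inferInstance : K.Normal).conj_mem k hk g) _ (mapsTo_smul_orbit _ _ hy)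
  obtain ⟨s, hs⟩ := hcl σ fun x y => by
    by_cases hx : x ∈ orbit P b <;> by_cases hy : y ∈ orbit P b
    · exact ⟨w, hσ1 x hx, hσ1 y hy⟩
    · exact (key y hy x hx).imp fun _ h => h.symm
    · exact key x hx y hy
    · exact ⟨1, by simp [hσ2 x hx], by simp [hσ2 y hy]⟩
  have h2 : ∀ x ∈ orbit P b, (s * z) • x = w • x := fun x hx => by
    rw [mul_smul, ← hs, show (z : G) • x = x from hKb z hz x hx, hσ1 x hx]
  have h3 : ∀ x ∉ orbit P b, (s * z) • x = z • x := fun x hx => by
    rw [mul_smul, ← hs]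
    exact hσ2 _ ((hab _).1 (mapsTo_smul_orbit z _ ((hab x).2 hx)))
  have h4 : ∀ x : Ω, (s * z) • x ≠ x := fun x => by
    by_cases hx : x ∈ orbit P b
    · rw [h2 x hx]; exact (hw' x hx).1
    · rw [h3 x hx]; exact (hz' x ((hab x).2 hx)).1
  refine ⟨s * z, ?_, h4⟩
  rw [orderOf_eq_prime (p := p) (eq_of_smul_eq_smul (α := Ω) fun x => ?_)
    fun e => h4 a (by rw [e, one_smul])]
  · exact hp.out
  rw [one_smul]
  by_cases hx : x ∈ orbit P b
  · have : ∀ n : ℕ, (s * z) ^ n • x = w ^ n • x := fun n => by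
      induction n with
      | zero => simp
      | succ n ih => rw [pow_succ', pow_succ', mul_smul, ih, h2 _ (mapsTo_smul_orbit _ _ hx), mul_smul]
    rw [this, (hw' x hx).2.1]
  · have : ∀ n : ℕ, (s * z) ^ n • x = z ^ n • x := fun n => by
      induction n with
      | zero => simp
      | succ n ih => rw [pow_succ', pow_succ', mul_smul, ih,
          h3 _ ((hab _).1 (mapsTo_smul_orbit _ _ ((hab x).2 hx))), mul_smul]
    rw [this, (hz' x ((hab x).2 hx)).2.1]

/-- Let G act faithfully and transitively on a finite set with 2p² points, p a prime, and suppose G is 2-closed: every permutation of the set which, on each ordered pair of points, agrees with some element of G, is itself induced by an element of G. Then some element of G of prime order fixes no point. -/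
theorem result {G Ω : Type*} [Group G] [Finite G] [MulAction G Ω] [FaithfulSMul G Ω] [Finite Ω]
    (htrans : MulAction.IsPretransitive G Ω) (p : ℕ) (hp : p.Prime) (hcard : Nat.card Ω = 2 * p ^ 2)
    (hcl : ∀ σ : Equiv.Perm Ω, (∀ a b : Ω, ∃ g : G, σ a = g • a ∧ σ b = g • b) → ∃ g : G, ∀ a : Ω, σ a = g • a) :
    ∃ g : G, (orderOf g).Prime ∧ ∀ ω : Ω, g • ω ≠ ω := by
  have := Fact.mk hp
  obtain ⟨P, hP, hPi⟩ : ∃ P : Subgroup G, IsPGroup p P ∧ ¬ p ∣ P.index :=
    (inferInstance : Nonempty (Sylow p G)).elim fun P => ⟨P, P.2, P.not_dvd_index⟩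
  have h2 := hp.two_le
  have : Nontrivial Ω := Finite.one_lt_card_iff_nontrivial.1 (by nlinarith)
  obtain ⟨a⟩ : Nonempty Ω := inferInstance
  have hdvd : ∀ x : Ω, p ^ 2 ∣ (stabilizer P x).index := fun x => by
    have h1 : (stabilizer G x).index ∣ (stabilizer P x).index * P.index := by
      rw [show stabilizer P x = (stabilizer G x).subgroupOf P from rfl, ← relIndex,
        ← inf_relIndex_right, relIndex_mul_index inf_le_right]
      exact index_dvd_of_le inf_le_left
    rw [index_stabilizer_of_transitive, hcard] at h1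
    exact (Nat.Coprime.pow_left 2 (hp.coprime_iff_not_dvd.2 hPi)).dvd_of_dvd_mul_right
      ((dvd_mul_left _ _).trans h1)
  have hne : ∀ x : Ω, ¬ ⊤ ≤ stabilizer P x := fun x h => by
    have := Nat.le_of_dvd one_pos (index_eq_one.2 (top_le_iff.1 h) ▸ hdvd x)
    nlinarith
  have fin : ∀ w : P, w ^ p = 1 → (∀ x : Ω, w • x ≠ x) →
      ∃ g : G, (orderOf g).Prime ∧ ∀ ω : Ω, g • ω ≠ ω := fun w h1 h2 =>
    ⟨w, by rwa [orderOf_coe, orderOf_eq_prime h1 fun e => h2 a (by rw [e, one_smul])], h2⟩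
  obtain ⟨w, -, hw⟩ := lemA hP ⊤ a (hne a)
  by_cases ht : ∀ x, x ∈ orbit P a
  · exact fin w (eq_of_smul_eq_smul (α := Ω) fun x => by rw [(hw x (ht x)).2.1, one_smul])
      fun x => (hw x (ht x)).1
  push Not at ht
  obtain ⟨b, hb⟩ := ht
  have hdis : Disjoint (orbit P a) (orbit P b) := Set.disjoint_left.2 fun x h1 h2 =>
    hb (orbit_eq_iff.2 h1 ▸ orbit_eq_iff.2 h2 ▸ mem_orbit_self b)
  have h3 := Set.ncard_le_card (orbit P a ∪ orbit P b)
  rw [Set.ncard_union_eq hdis, ← index_stabilizer, ← index_stabilizer, hcard] at h3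
  have h4 := Nat.le_of_dvd (Nat.pos_of_ne_zero index_ne_zero_of_finite) (hdvd a)
  have h5 := Nat.le_of_dvd (Nat.pos_of_ne_zero index_ne_zero_of_finite) (hdvd b)
  have hab : ∀ x, x ∈ orbit P a ↔ x ∉ orbit P b := fun x => ⟨fun h => Set.disjoint_left.1 hdis h, fun h =>
    (Set.eq_univ_iff_forall.1 ((Set.eq_univ_iff_ncard (orbit P a ∪ orbit P b)).2 (by
      rw [Set.ncard_union_eq hdis, ← index_stabilizer, ← index_stabilizer]; omega)) x).resolve_right h⟩
  by_cases hK : (toPermHom P (orbit P b)).ker = ⊥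
  swap
  · exact main hcl hP (by omega) (by omega) hab hK
  by_cases hK' : (toPermHom P (orbit P a)).ker = ⊥
  swap
  · exact main (a := b) hcl hP (by omega) (by omega) (fun x => by rw [hab, not_not]) hK'
  have inj : ∀ g : P, (∀ x ∈ orbit P a, g • x = x) → g = 1 := fun g h =>
    mem_bot.1 (hK' ▸ Equiv.ext fun x => Subtype.ext (h x x.2))
  refine fin w (inj _ fun x hx => (hw x hx).2.1) fun x hx => ?_
  have hxb : x ∈ orbit P b := by_contra fun h => (hw x ((hab x).2 h)).1 hx
  have : w ∈ (toPermHom P (orbit P b)).ker := Equiv.ext fun y => Subtype.ext (by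
    obtain ⟨g, hg⟩ : y.1 ∈ orbit P x := by rw [orbit_eq_iff.2 hxb]; exact y.2
    have := inj (g⁻¹ * w⁻¹ * g * w) fun u hu => by
      rw [mul_smul, mul_smul, (hw u hu).2.2, mul_smul]; simp
    have : g * w = w * g := by
      calc g * w = w * g * (g⁻¹ * w⁻¹ * g * w) := by group
        _ = _ := by rw [this, mul_one]
    change w • y.1 = y.1
    rw [← hg]
    change w • g • x = g • x
    rw [← mul_smul, ← this, mul_smul, hx])
  rw [hK, mem_bot] at this
  exact (hw a (mem_orbit_self a)).1 (by rw [this, one_smul])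

end Cfsg.Agent.S3557
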