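import Cfsg.Statements.S3592
import Cfsg.Agent.H19.M11f
import Cfsg.Agent.H19.O7920
import Cfsg.Agent.H9.Uniserial

set_option autoImplicit false
open Cfsg

namespace Cfsg.Agent.S3592

open H19 Subgroup Finset

theorem count {G : Type*} [Group G] [Finite G] [IsSimpleGroup G] (hG : Nat.card G = 7920) (n : ℕ) :
    Nat.card {g : G // orderOf g = n} ≤ 1 ∨ Nat.card {g : G // orderOf g = n} = 165 ∨
      Nat.card {g : G // orderOf g = n} = 440 ∨ 495 ≤ Nat.card {g : G // orderOf g = n} := by
  classical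
  haveI := Fintype.ofFinite G
  obtain ⟨D⟩ := nonempty_MDat hG
  obtain ⟨u, v, hu, hv, h⟩ := D.exists_uv hG
  rw [Nat.card_eq_fintype_card, Fintype.card_subtype]
  rcases (univ.filter fun g : G => orderOf g = n).eq_empty_or_nonempty with e | ⟨g, hg⟩
  · simp [e]
  obtain rfl := (mem_filter.mp hg).2
  have h1 := card_le_card (show cl g ⊆ univ.filter fun a : G => orderOf a = orderOf g from
    fun a ha => mem_filter.mpr ⟨mem_univ _, (orderOf_isConj (mem_cl.mp ha)).symm⟩)
  have h2 := cc_mul_cl g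
  rw [hG] at h2
  rcases D.cases g with e | e | e | e | e | e
  · left; simp only [e, orderOf_one, orderOf_eq_one_iff]; exact card_le_one.mpr (by simp)
  · rw [(D.c11 g (e ▸ dvd_rfl)).2] at h2; omega
  · rw [(D.c5 g (e ▸ dvd_rfl)).2] at h2; omega
  · refine Or.inr (Or.inr (Or.inl ?_))
    rw [← (D.T3_val hG).1, D.ord3 hG e]
    exact congrArg _ (ext fun a => ⟨fun f => MDat.mem3 (mem_filter.mp f).2,
      fun f => mem_filter.mpr ⟨mem_univ _, D.ord3 hG f⟩⟩)
  · by_cases f : IsConj u g
    · refine Or.inr (Or.inl ?_)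
      rw [← (D.ccu hG hu hv h).2.1, ← orderOf_isConj f, hu]
      exact congrArg _ (ext fun a => ⟨fun f => mem_cl.mpr (D.conj2 hG hu hv h (mem_filter.mp f).2),
        fun f => mem_filter.mpr ⟨mem_univ _, (orderOf_isConj (mem_cl.mp f)).symm.trans hu⟩⟩)
    · have := Nat.mul_le_mul_right (cl g).card
        (Nat.le_of_dvd (by norm_num) (D.ccR hG hu hv h (mem_RR.mpr ⟨e, f⟩)))
      omega
  · rw [D.cc5 hG hu hv h e] at h2; omega

/-- Let M be the Mathieu group M₁₁ (order 7920). If a finite group G has the same order as M and the same set of values of the function 'number of elements of order n' (taken over the element orders n that occur), then G is isomorphic to M. -/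
theorem result {G : Type*} [Group G] [Finite G]
    (hcard : Nat.card G = Nat.card ↥Cfsg.Spor.M11)
    (hnse : {c : ℕ | 0 < c ∧ ∃ n : ℕ, c = Nat.card {g : G // orderOf g = n}} =
      {c : ℕ | 0 < c ∧ ∃ n : ℕ, c = Nat.card {g : ↥Cfsg.Spor.M11 // orderOf g = n}}) :
    Nonempty (G ≃* ↥Cfsg.Spor.M11) := by
  classical
  haveI : Fact (Nat.Prime 11) := ⟨by norm_num⟩
  haveI : Fact (Nat.Prime 3) := ⟨by norm_num⟩
  haveI := Fintype.ofFinite G
  have hM : Nat.card Spor.M11 = 7920 := (Nat.card_congr H16.sporM11.toEquiv).symm.trans H16.card_K11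
  rw [hM] at hcard
  haveI := H16.simple_K11
  haveI := H16.sporM11.symm.isSimpleGroup
  have hn : ¬ 11 ^ 2 ∣ Nat.card G := by rw [hcard]; norm_num
  haveI := (simple_of_no33 _ G hcard dvd_rfl (by norm_num) fun x y hx hy hc => by
    obtain ⟨K, hK⟩ := exists_PO hx hn
    have h1 := H9.card_orderOf_eq_prime (L := G) (p := 11)
    rw [hK.card_subgroups] at h1
    have h2 : Nat.card (NN x) * sN x = 7920 := hcard ▸ card_mul_index _
    obtain ⟨-, n, h3⟩ := (Set.ext_iff.mp hnse (Nat.card {g : G // orderOf g = 11})).mp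
      ⟨Nat.card_pos_iff.mpr ⟨⟨⟨x, hx⟩⟩, inferInstance⟩, 11, rfl⟩
    have h4 := count hM n
    have h5 := (by decide +kernel : ∀ d ∈ dv 7920, d % 11 = 1 → d = 1 ∨ d = 12 ∨ d = 45 ∨ d = 144) _
      (mem_dv (by norm_num) (Dvd.intro_left _ h2))
      (by rw [sN_eq_card hx hn]; exact card_sylow_modEq_one 11 G)
    have h6 := hy ▸ orderOf_dvd_natCard _ (mem_normalizer_of_commute hx hc)
    obtain e : sN x = 144 := by omega
    rw [e] at h2
    unfold NN at h2
    omega).1
  exact isoM11_of_card hcard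

end Cfsg.Agent.S3592
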