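import Cfsg.Statements.S3619
import Mathlib
import Cfsg.Agent.H2.Jord

set_option autoImplicit false
open Cfsg

namespace Cfsg.Agent.S3619

open H2.Pm MulAction Subgroup
open scoped Pointwise

/-- Let G act faithfully on a finite set in such a way that every non-trivial normal subgroup of G is transitive (G is quasiprimitive). Let Γ be a subset with more than one point and not the whole set, such that the pointwise stabilizer of the complement of Γ acts transitively on Γ (a Jordan set). If that pointwise stabilizer acts primitively on Γ, then G is k-fold transitive where k is one more than the number of points outside Γ (the Jordan set is a trivial one). -/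
theorem result {G Ω : Type*} [Group G] [Finite G] [MulAction G Ω] [FaithfulSMul G Ω] [Finite Ω]
    (hqp : ∀ N : Subgroup G, N.Normal → N ≠ ⊥ → MulAction.IsPretransitive ↥N Ω)
    (Γ : Set Ω) (hΓ1 : 1 < Γ.ncard) (hΓ2 : Γ.ncard < Nat.card Ω)
    (hJ : MulAction.IsPretransitive ↥(fixingSubgroup G Γᶜ) ↥(SubMulAction.ofFixingSubgroup G Γᶜ))
    (hJp : MulAction.IsPreprimitive ↥(fixingSubgroup G Γᶜ) ↥(SubMulAction.ofFixingSubgroup G Γᶜ)) :
    MulAction.IsMultiplyPretransitive G Ω (Nat.card Ω - Γ.ncard + 1) := by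
  have hJ' : ∀ a ∈ Γ, ∀ b ∈ Γ, ∃ g : G, (∀ z ∉ Γ, g • z = z) ∧ g • a = b := fun a ha b hb => by
    obtain ⟨g, hg⟩ := hJ.1 ⟨a, fun h => h ha⟩ ⟨b, fun h => h hb⟩
    exact ⟨g, (mem_fixingSubgroup_iff G).1 g.2, congrArg Subtype.val hg⟩
  obtain ⟨c, hc, d, hd, hcd⟩ := (Set.one_lt_ncard (Set.toFinite _)).1 hΓ1
  obtain ⟨g, hg, rfl⟩ := hJ' c hc d hd
  have hg1 : g ≠ 1 := fun h => hcd (by rw [h, one_smul])
  have : IsPretransitive G Ω := ⟨fun a b => by
    obtain ⟨k, -, hk⟩ := (trans_subgroup_iff _).1 (hqp ⊤ inferInstance fun h =>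
      hg1 (mem_bot.1 (h ▸ mem_top g))) a b
    exact ⟨k, hk⟩⟩
  have hp : IsPreprimitive G Ω := ⟨fun {B} hB => by
    refine (Set.subsingleton_or_nontrivial B).imp_right fun ⟨x, hx, y, hy, hxy⟩ => ?_
    obtain ⟨k, rfl⟩ := exists_smul_eq G c x
    have hC := hB.translate k⁻¹
    have hcC : c ∈ k⁻¹ • B := Set.mem_inv_smul_set_iff.2 hx
    have h1 : Γ ⊆ k⁻¹ • B := by
      rcases prim_fix hJp (B := Γ ∩ k⁻¹ • B) (fun x hx h => h hx.1) (fun u hu x hx hx' y hy =>
        ⟨by_contra fun h => h (by rw [smul_left_cancel u (hu _ h)]; exact hy.1),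
          hC.smul_eq_of_mem hx.2 hx'.2 ▸ Set.smul_mem_smul_set hy.2⟩) with h | h
      · intro w hw
        obtain ⟨u, hu, rfl⟩ := hJ' c hc w hw
        have hy' : k⁻¹ • y ∈ k⁻¹ • B := Set.smul_mem_smul_set hy
        have := hu (k⁻¹ • y) fun e => hxy (by rw [h ⟨hc, hcC⟩ ⟨e, hy'⟩, smul_inv_smul])
        exact hC.smul_eq_of_mem hy' (this.symm ▸ hy') ▸ Set.smul_mem_smul_set hcC
      · exact fun w hw => (h w fun e => e hw).2
    let N : Subgroup G := (toPermHom G (orbit G B)).ker
    have hgN : g ∈ N := Equiv.ext fun ⟨_, u, rfl⟩ => Subtype.ext (by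
      change g • u • B = u • B
      by_cases h : u • k • c ∈ Γ
      · have h2 := Set.smul_mem_smul_set (a := u) hx
        have h3 : u • B = k⁻¹ • B := hB.smul_eq_smul_of_nonempty ⟨_, h2, h1 h⟩
        exact h3 ▸ hC.smul_eq_of_mem hcC (h1 hd)
      · exact (hB.translate u).smul_eq_of_mem (Set.smul_mem_smul_set hx)
          ((hg _ h).symm ▸ Set.smul_mem_smul_set hx))
    refine Set.eq_univ_of_forall fun w => ?_
    obtain ⟨n, hn, rfl⟩ := (trans_subgroup_iff _).1 (hqp N inferInstance fun h =>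
      hg1 (mem_bot.1 (h ▸ hgN))) (k • c) w
    have : n • B = B := congrArg (fun σ : Equiv.Perm (orbit G B) => (σ ⟨B, mem_orbit_self B⟩).1) hn
    exact this ▸ Set.smul_mem_smul_set hx⟩
  have hc := Set.ncard_add_ncard_compl Γ
  have := (hp.isMultiplyPreprimitive (s := Γᶜ) (n := Nat.card Ω - Γ.ncard - 1) (by omega) (by omega)
    hJp).isMultiplyPretransitive
  rwa [show Nat.card Ω - Γ.ncard - 1 + 2 = Nat.card Ω - Γ.ncard + 1 by omega] at this

end Cfsg.Agent.S3619
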