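import Cfsg.Statements.S3634
import Cfsg.Agent.H1.Frobenius
import Cfsg.Agent.H1.SylowIn
import Cfsg.Agent.H9.Basic
-- import your own Cfsg.Agent.* helpers here

set_option autoImplicit false
open Cfsg

namespace Cfsg.Agent.S3634

open Cfsg.Agent.H1 Subgroup

theorem ex {G : Type*} [Group G] [Finite G] {a b : G} (h : Commute a b) {s t : ℕ} (hs : s ∣ orderOf a)
    (ht : t ∣ orderOf b) (hc : s.Coprime t) : ∃ x : G, orderOf x = s * t := by
  have h1 := orderOf_pow_orderOf_div (orderOf_pos a).ne' hs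
  have h2 := orderOf_pow_orderOf_div (orderOf_pos b).ne' ht
  exact ⟨_, by rw [(h.pow_pow _ _).orderOf_mul_eq_mul_orderOf_of_coprime (by rwa [h1, h2]), h1, h2]⟩

theorem dvd_ord {G : Type*} [Group G] {p : ℕ} [Fact p.Prime] {P : Subgroup G} (hP : IsPGroup p P) {x : G}
    (hx : x ∈ P) (h1 : x ≠ 1) : p ∣ orderOf x := by
  obtain ⟨k, hk⟩ := hP.exists_orderOf_eq_pow ⟨x, hx⟩
  rw [orderOf_mk] at hk
  rcases k with _ | k
  · exact absurd (orderOf_eq_one_iff.1 hk) h1
  · exact hk ▸ dvd_pow_self p k.succ_ne_zero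


/-- Let G be a finite group with normal subgroups K ≤ M, and let p, q, r be distinct primes with p dividing the order of K, q dividing the order of M/K and r dividing the order of G/M. Then p, q, r are not pairwise non-adjacent in the prime graph of G: G has an element of order pq, pr or qr. -/
theorem result {G : Type*} [Group G] [Finite G] (K M : Subgroup G) [K.Normal] [M.Normal] (hKM : K ≤ M)
    (p q r : ℕ) (hp : p.Prime) (hq : q.Prime) (hr : r.Prime) (hpq : p ≠ q) (hpr : p ≠ r) (hqr : q ≠ r)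
    (hpK : p ∣ Nat.card ↥K) (hqM : q ∣ Nat.card ↥M / Nat.card ↥K) (hrG : r ∣ Nat.card G / Nat.card ↥M) :
    (∃ x : G, orderOf x = p * q) ∨ (∃ x : G, orderOf x = p * r) ∨ (∃ x : G, orderOf x = q * r) := by
  haveI := Fact.mk hp
  haveI := Fact.mk hq
  haveI := Fact.mk hr
  have e1 : Nat.card M / Nat.card K = K.relIndex M := by
    rw [← H9.card_mul_relIndex hKM, Nat.mul_div_cancel_left _ Nat.card_pos]
  have e2 : Nat.card G / Nat.card M = M.index := by
    rw [← M.card_mul_index, Nat.mul_div_cancel_left _ Nat.card_pos]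
  rw [e1] at hqM
  rw [e2] at hrG
  obtain ⟨P, hP⟩ := exists_isSylowIn p K
  have h1 := hP.sup_normalizer_inf hKM le_normalizer_of_normal
  have h2 := hP.sup_normalizer_inf le_top le_normalizer_of_normal
  rw [inf_top_eq] at h2
  rw [← h1, relIndex_sup_left] at hqM
  obtain ⟨Q, hQ⟩ := exists_isSylowIn q (normalizer (P : Set G) ⊓ M)
  have h3 := hQ.sup_normalizer_inf (L := normalizer (P : Set G)) inf_le_left
    (le_trans (le_inf le_normalizer le_normalizer_of_normal) (inf_normalizer_le_normalizer_inf))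
  have h4 : M ⊔ (normalizer (Q : Set G) ⊓ normalizer (P : Set G)) = ⊤ := by
    rw [eq_top_iff, ← h2]
    refine sup_le (hKM.trans le_sup_left) (h3.ge.trans (sup_le_sup_right inf_le_right _))
  rw [← relIndex_top_right, ← h4, relIndex_sup_left] at hrG
  obtain ⟨⟨y, hy⟩, ho⟩ := exists_prime_orderOf_dvd_card' r (hrG.trans (relIndex_dvd_card _ _))
  rw [orderOf_mk] at ho
  have hP0 := hP.ne_bot hpK
  have hQ0 := hQ.ne_bot (hqM.trans (relIndex_dvd_card _ _))
  have hA : Q ⊔ zpowers y ≤ normalizer (P : Set G) :=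
    sup_le (hQ.le.trans inf_le_left) (zpowers_le.2 hy.2)
  obtain ⟨n, hn⟩ := IsPGroup.iff_card.1 hQ.isPGroup
  by_cases h : ∀ a ∈ Q ⊔ zpowers y, a ≠ 1 → P ⊓ centralizer {a} = ⊥
  · obtain ⟨k, hk, hk1, hc⟩ := exists_commute_of_fpf hP0 hA h hQ0 le_sup_left
      (mem_sup_right (mem_zpowers y)) hy.1 (ho ▸ hr)
      (by rw [ho, hn]; exact ((Nat.coprime_primes hr hq).2 hqr.symm).pow_right n)
    exact Or.inr (Or.inr (ex hc (dvd_ord hQ.isPGroup hk hk1) ho.symm.dvd ((Nat.coprime_primes hq hr).2 hqr)))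
  · push Not at h
    obtain ⟨a, ha, ha1, h⟩ := h
    obtain ⟨⟨x, hx⟩, hx1⟩ := ne_bot_iff_exists_ne_one.1 h
    have hc : Commute x a := mem_centralizer_singleton_iff.1 hx.2
    have h5 := dvd_ord hP.isPGroup hx.1 fun e => hx1 (Subtype.ext e)
    obtain ⟨s, hs, hd⟩ := Nat.exists_prime_and_dvd (mt orderOf_eq_one_iff.1 ha1)
    have h6 := H9.card_sup_mul_card_inf' (zpowers_le.2 hy.1)
    have h7 := (hd.trans (orderOf_dvd_natCard _ ha)).trans (Dvd.intro _ h6)
    rw [hn, Nat.card_zpowers, ho] at h7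
    rcases hs.dvd_mul.1 h7 with h8 | h8
    · obtain rfl := (Nat.prime_dvd_prime_iff_eq hs hq).1 (hs.dvd_of_dvd_pow h8)
      exact Or.inl (ex hc h5 hd ((Nat.coprime_primes hp hq).2 hpq))
    · obtain rfl := (Nat.prime_dvd_prime_iff_eq hs hr).1 h8
      exact Or.inr (Or.inl (ex hc h5 hd ((Nat.coprime_primes hp hr).2 hpr)))

end Cfsg.Agent.S3634
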