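import Cfsg.Statements.S3662
import Cfsg.Agent.H19.F2M
import Cfsg.Agent.S1077
import Cfsg.Agent.S1078
import Cfsg.Agent.S1059

set_option autoImplicit false
open Cfsg

namespace Cfsg.Agent.S3662

open Cfsg.Agent.H19 Cfsg.Agent.H16 Cfsg.Lie

/-- The root elements in the six-dimensional representation. -/
def TL : List ℕ := [
  0x8000000040000000200000001000000008000000040000000200000001000000008000000040000000200000001,
  0x8080000040400000202000001010000008000000040000000200000001000000008000000040000000200000001,
  0x80c0000040800000203000001020000008000000040000000200000001000000008000000040000000200000001,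
  0x8040000040c00000201000001030000008000000040000000200000001000000008000000040000000200000001,
  0x8000000040000000200000001000000008000000040000000200000001000000008000000040000000200000001,
  0x8200000041000000200000001000000008200000041000000200000001000000008000000040000000200000001,
  0x8300000042000000200000001000000008300000042000000200000001000000008000000040000000200000001,
  0x8100000043000000200000001000000008100000043000000200000001000000008000000040000000200000001,
  0x8000000040000000200000001000000008000000040000000200000001000000008000000040000000200000001,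
  0x8020000040100000220000001100000008800000044000000200000001000000008000000040000000200000001,
  0x8010000040300000230000001200000008c00000048000000200000001000000008000000040000000200000001,
  0x803000004020000021000000130000000840000004c000000200000001000000008000000040000000200000001,
  0x8000000040000000200000001000000008000000040000000200000001000000008000000040000000200000001,
  0x8800000044000000208000001040000008000000040000000220000001100000008000000040000000200000001,
  0x8c000000480000002040000010c0000008000000040000000230000001200000008000000040000000200000001,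
  0x840000004c00000020c000001080000008000000040000000210000001300000008000000040000000200000001,
  0x8000000040000000200000001000000008000000040000000200000001000000008000000040000000200000001,
  0xa00000005000000020000000100000000a00000005000000020000000100000000a000000050000000200000001,
  0xb00000006000000020000000100000000900000007000000020000000100000000b000000060000000200000001,
  0x900000007000000020000000100000000b000000060000000200000001000000009000000070000000200000001,
  0x8000000040000000200000001000000008000000040000000200000001000000008000000040000000200000001,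
  0x8000000040000000280000001400000008000000040000000280000001400000008000000040000000200000001,
  0x80000000400000002c00000018000000080000000400000002c0000001800000008000000040000000200000001,
  0x8000000040000000240000001c00000008000000040000000240000001c00000008000000040000000200000001,
  0x8000000040000000200000001000000008000000040000000200000001000000008000000040000000200000001,
  0x8000000040000000200000001000000028000000140000000200000001000000028000000140000000200000001,
  0x8000000040000000200000001000000038000000240000000200000001000000038000000240000000200000001,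
  0x8000000040000000200000001000000018000000340000000200000001000000018000000340000000200000001,
  0x8000000040000000200000001000000008000000040000000200000001000000008000000040000000200000001,
  0x8000000040000000a00000005000000008000000040000000a00000005000000008000000040000000a00000005,
  0x8000000040000000e0000000900000000800000004000000060000000d000000008000000040000000e00000009,
  0x800000004000000060000000d000000008000000040000000e0000000900000000800000004000000060000000d,
  0x8000000040000000200000001000000008000000040000000200000001000000008000000040000000200000001,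
  0x8000000040000000200000001000000088000000440000000200000001000000208000001040000002200000011,
  0x80000000400000002000000010000000c8000000840000000200000001000000108000003040000003200000021,
  0x8000000040000000200000001000000048000000c40000000200000001000000308000002040000001200000031,
  0x8000000040000000200000001000000008000000040000000200000001000000008000000040000000200000001,
  0x8000000040000000200000001000000008000000040000002200000011000000088000000440000080200000401,
  0x80000000400000002000000010000000080000000400000032000000210000000c8000000840000040200000c01,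
  0x8000000040000000200000001000000008000000040000001200000031000000048000000c400000c0200000801,
  0x8000000040000000200000001000000008000000040000000200000001000000008000000040000000200000001,
  0x8000000040000000200000001000000008000000040000008200000041000000008000000040000008200000041,
  0x800000004000000020000000100000000800000004000000c20000008100000000800000004000000c200000081,
  0x80000000400000002000000010000000080000000400000042000000c10000000080000000400000042000000c1,
  0x8000000040000000200000001000000008000000040000000200000001000000008000000040000000200000001,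
  0x8000000040000000200000001000000008000000040000000200000001000000808000004040000020200000101,
  0x8000000040000000200000001000000008000000040000000200000001000000c08000008040000030200000201,
  0x800000004000000020000000100000000800000004000000020000000100000040800000c040000010200000301]

noncomputable def on : ℕ := 0x8000000040000000200000001000000008000000040000000200000001000000008000000040000000200000001

noncomputable def mu (a b : ℕ) : ℕ := mulB 12 0x10000000100000001000000010000000100000001000000010000000100000001000000010000000100000001 a b

noncomputable def ev (l : List ℕ) : ℕ :=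
  List.rec (motive := fun _ => ℕ) on (fun k _ ih => force ih (mu (TL.getD k on))) l

noncomputable def fm (a b : ℕ) : ℕ := get 2 0x9c78e400 (4 * a + b)

noncomputable def fp (a i : ℕ) : ℕ := Nat.rec (motive := fun _ => ℕ) 1 (fun _ ih => fm ih a) i

theorem mB_mu (a b : ℕ) : mB 12 (mu a b) = mB 12 a * mB 12 b :=
  mB_mul (by norm_num) (by decide +kernel) a b

theorem mB_on : mB 12 on = 1 := by
  rw [show on = dig 32 12 fun k => 2 ^ k by decide +kernel, mB_one (by norm_num)]

theorem sq_TL (k : ℕ) : mB 12 (TL.getD k on) * mB 12 (TL.getD k on) = 1 := by
  by_cases h : k < 48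
  · rw [← mB_mu, ← mB_on, (by decide +kernel : ∀ k < 48, mu (TL.getD k on) (TL.getD k on) = on) k h]
  · rw [List.getD_eq_default _ _ (not_lt.mp h), mB_on, mul_one]

noncomputable irreducible_def gen (k : ℕ) : GL (Fin 12) (ZMod 2) := ⟨_, _, sq_TL k, sq_TL k⟩

theorem prod_gen (l : List ℕ) : (l.map gen).prod.val = mB 12 (ev l) := by
  induction l with
  | nil => exact mB_on.symm
  | cons k l ih =>
    rw [List.map_cons, List.prod_cons, Units.val_mul, ih, gen_def]
    exact (mB_mu _ _).symm.trans (congrArg _ (force_eq _ _).symm)

theorem R1 : ∀ r < 12, ∀ a < 4, ∀ b < 4, ev [4 * r + a, 4 * r + b] = ev [4 * r + (a ^^^ b)] := by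
  decide +kernel

set_option synthInstance.maxSize 1000 in
theorem R2 : ∀ r < 12, ∀ s < 12, s ≠ r → s ≠ chevG2.neg r → ∀ a < 4, ∀ b < 4,
    ev [4 * s + b, 4 * r + a] = ev ((4 * r + a) :: (4 * s + b) :: (chevG2.commTerms r s).map fun c =>
      4 * c.1 + fm (fm (c.2.1 % 2).toNat (fp a c.2.2.1)) (fp b c.2.2.2)) := by
  decide +kernel

noncomputable def hw (r a : ℕ) : List ℕ := [4 * r + a, 4 * chevG2.neg r + fm a a, 4 * r + a,
  4 * r + 1, 4 * chevG2.neg r + 1, 4 * r + 1]

theorem R3 : ∀ r < 12, ∀ a < 4, ∀ b < 4, a ≠ 0 → b ≠ 0 →
    ev (hw r a ++ hw r b) = ev (hw r (fm a b)) := by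
  decide +kernel

theorem exists_enc {F : Type*} [Field F] [Fintype F] (hF : Fintype.card F = 4) :
    ∃ (c : F → ℕ) (d : ℕ → F), (∀ t, c t < 4) ∧ (∀ a < 4, c (d a) = a) ∧ (∀ t, c t = 0 → t = 0) ∧
      c 0 = 0 ∧ c 1 = 1 ∧ (∀ s t, c (s + t) = c s ^^^ c t) ∧ ∀ s t, c (s * t) = fm (c s) (c t) := by
  classical
  haveI : CharP F 2 := charP_of_card_eq_prime_pow (p := 2) (f := 2) hF
  obtain ⟨w, hw⟩ : ∃ w : F, w ∉ ({0, 1} : Finset F) := Finset.exists_mem_notMem_of_card_lt_card
    (t := Finset.univ) (Finset.card_le_two.trans_lt (by simp [hF])) |>.imp fun _ h => h.2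
  simp only [Finset.mem_insert, Finset.mem_singleton, not_or] at hw
  have h2 : (2 : F) = 0 := CharTwo.two_eq_zero
  have h3 := FiniteField.pow_card_sub_one_eq_one w hw.1
  rw [hF] at h3
  have h4 : w * w = w + 1 := mul_left_cancel₀ (sub_ne_zero.mpr hw.2) (by
    linear_combination h3 + (1 - w ^ 2) * h2)
  have h5 : w + 1 ≠ 0 := fun h => hw.2 (by linear_combination h - h2)
  let e := Equiv.ofBijective (![0, 1, w, w + 1] : Fin 4 → F)
    ((Fintype.bijective_iff_injective_and_card _).mpr ⟨fun i j => by
      fin_cases i <;> fin_cases j <;> simp [hw.1, hw.2, h5, Ne.symm hw.1, Ne.symm hw.2, h5.symm],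
      by simp [hF]⟩)
  have he : ∀ (i : Fin 4) (t : F) (a : ℕ), ![0, 1, w, w + 1] i = t → i.val = a →
      (e.symm t).val = a := fun i t a h1 h2 => by rw [← h1, ← h2]; exact congrArg _ (e.symm_apply_apply i)
  refine ⟨fun t => e.symm t, fun a => e (Fin.ofNat 4 a), fun t => (e.symm t).2, fun a ha => ?_,
    fun t ht => ?_, he 0 _ _ rfl rfl, he 1 _ _ rfl rfl, fun s t => ?_, fun s t => ?_⟩
  · simpa using ha
  · rw [← e.apply_symm_apply t, Fin.ext (b := 0) ht]; rfl
  · obtain ⟨i, rfl⟩ := e.surjective s
    obtain ⟨j, rfl⟩ := e.surjective t
    simp only [Equiv.symm_apply_apply]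
    refine he ⟨i ^^^ j, Nat.xor_lt_two_pow (n := 2) i.2 j.2⟩ _ _ ?_ rfl
    fin_cases i <;> fin_cases j <;> simp [e, add_assoc, add_comm, add_left_comm, CharTwo.add_self_eq_zero,
      CharTwo.add_cancel_left]
  · obtain ⟨i, rfl⟩ := e.surjective s
    obtain ⟨j, rfl⟩ := e.surjective t
    simp only [Equiv.symm_apply_apply]
    refine he (![![0, 0, 0, 0], ![0, 1, 2, 3], ![0, 2, 3, 1], ![0, 3, 1, 2]] i j) _ _ ?_
      (by revert i j; decide +kernel)
    fin_cases i <;> fin_cases j <;> simp [e]
    exacts [h4.symm, by linear_combination -h4 - w * h2, by linear_combination -h4 - w * h2,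
      by linear_combination -h4 - (w + 1) * h2]

theorem exists_rep {F : Type*} [Field F] [Fintype F] (hF : Fintype.card F = 4) :
    ∃ ψ : chevG2.SteinbergGroup F →* GL (Fin 12) (ZMod 2), ∀ l : List ℕ, ∃ g,
      (ψ g).val = mB 12 (ev l) := by
  obtain ⟨c, d, c4, cd, c0', c0, c1, ca, cm⟩ := exists_enc hF
  haveI : CharP F 2 := charP_of_card_eq_prime_pow (p := 2) (f := 2) hF
  let f : FreeGroup (Fin chevG2.nroots × F) →* GL (Fin 12) (ZMod 2) :=
    FreeGroup.lift fun x => gen (4 * x.1 + c x.2)
  have h1 : ∀ r t, f (chevG2.stX r t) = gen (4 * r + c t) := fun r t => by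
    rw [ChevalleyDatum.stX]
    split_ifs with h
    · exact FreeGroup.lift_apply_of
    · rw [gen_def]
      refine Units.ext (mB_on.symm.trans (congrArg _ (List.getD_eq_default _ _ ?_).symm))
      change ¬ r < 12 at h
      change 48 ≤ _
      omega
  have h2 : ∀ w, f (chevG2.stWord w) = ((w.map fun x => 4 * x.1 + c x.2).map gen).prod := fun w => by
    simp only [ChevalleyDatum.stWord, map_list_prod, List.map_map, Function.comp_def, h1]
  have h3 : ∀ {l l' : List ℕ}, ev l = ev l' → (l.map gen).prod = (l'.map gen).prod := fun h =>
    Units.ext (by rw [prod_gen, prod_gen, h])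
  have cp : ∀ t i, c (t ^ i) = fp (c t) i := fun t i => by
    induction i with
    | zero => rw [pow_zero, c1]; rfl
    | succ i ih => rw [pow_succ, cm, ih]; rfl
  have cz : ∀ z : ℤ, c z = (z % 2).toNat := fun z => by
    rw [CharP.intCast_eq_intCast_mod F 2]
    rcases Int.emod_two_eq_zero_or_one z with h | h <;> simp [h, c0, c1]
  have ch : ∀ r t, t ≠ 0 → f (chevG2.stH r t) = ((hw r (c t)).map gen).prod := fun r t ht => by
    have h := FiniteField.pow_card_sub_one_eq_one t ht
    rw [hF] at h
    rw [ChevalleyDatum.stH, h2]
    simp [ChevalleyDatum.hWord, ChevalleyDatum.nWord, hw, CharTwo.neg_eq, c1, ← cm,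
      inv_eq_of_mul_eq_one_right (show t * (t * t) = 1 by linear_combination h)]
  refine ⟨PresentedGroup.toGroup (f := fun x => gen (4 * x.1 + c x.2)) ?_, fun l =>
    ⟨PresentedGroup.mk _ (chevG2.stWord (l.map fun k => (k / 4, d (k % 4)))), ?_⟩⟩
  · rintro _ ((⟨r, s, t, hr, rfl⟩ | ⟨r, s, t, u, hr, hs, e1, e2, rfl⟩) | ⟨r, s, t, hr, hs, ht, rfl⟩)
    · have := h3 (R1 r hr _ (c4 s) _ (c4 t))
      change f _ = 1
      rw [map_mul, map_mul, map_inv, h1, h1, h1, ca, mul_inv_eq_one]
      simpa only [List.map_cons, List.map_nil, List.prod_cons, List.prod_nil, mul_one] using this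
    · have := h3 (R2 r hr s hs e1 e2 _ (c4 t) _ (c4 u))
      change f _ = 1
      rw [map_mul, map_mul, map_mul, map_mul, map_inv, map_inv, map_inv, h1, h1, h2, mul_inv_eq_one,
        mul_assoc, mul_assoc, inv_mul_eq_iff_eq_mul, inv_mul_eq_iff_eq_mul]
      simpa only [ChevalleyDatum.commWord, List.map_map, Function.comp_def, cm, cp, cz, CharTwo.neg_eq,
        List.map_cons, List.map_nil, List.prod_cons, List.prod_nil, mul_one] using this
    · have := h3 (R3 r hr _ (c4 s) _ (c4 t) (mt (c0' s) hs) (mt (c0' t) ht))
      change f _ = 1
      rw [map_mul, map_mul, map_inv, ch _ _ hs, ch _ _ ht, ch _ _ (mul_ne_zero hs ht), cm, ← this,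
        List.map_append, List.prod_append, mul_inv_cancel]
  · refine (congrArg Units.val (h2 _)).trans ((prod_gen _).trans ?_)
    simp [Function.comp_def, cd _ (Nat.mod_lt _ (by norm_num)), Nat.div_add_mod]

theorem ev_rep (l : List ℕ) (k : ℕ) : mB 12 (ev (List.replicate k l).flatten) = mB 12 (ev l) ^ k := by
  rw [← prod_gen, ← prod_gen, List.map_flatten, List.prod_flatten, ← Units.val_pow_eq_pow_val]
  simp


/-- The prime graph of a finite group has the prime divisors of its order as vertices, two distinct primes p, q being joined when the group has an element of order pq; two groups have the same prime graph when they have the same prime divisors and the same joined pairs. Let F be the field with 4 elements and L the Chevalley group of type G₂ over F. There are finite groups of arbitrarily large order with the same prime graph as L. -/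
theorem result {F : Type*} [Field F] [Fintype F] (hF : Fintype.card F = 4) (N : ℕ) :
    ∃ (H : Type) (_ : Group H) (_ : Finite H), N < Nat.card H ∧
      ((∀ p : ℕ, p.Prime → (p ∣ Nat.card ↥(Cfsg.Lie.chevG2.group F) ↔ p ∣ Nat.card H)) ∧
      (∀ p q : ℕ, p.Prime → q.Prime → p ≠ q → ((∃ g : ↥(Cfsg.Lie.chevG2.group F), orderOf g = p * q) ↔ (∃ g : H, orderOf g = p * q)))) := by
  obtain ⟨θ, h1, h2, -⟩ := S1077.result (K := F) chevG2 (by simp)
  rw [S1078.result chevG2 (by simp), MonoidHom.ker_eq_bot_iff] at h2
  let e := MulEquiv.ofBijective θ ⟨h2, h1⟩
  have hc : Nat.card (chevG2.SteinbergGroup F) = 251596800 :=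
    (Nat.card_congr e.toEquiv).trans (S1059.result hF)
  haveI : Finite (chevG2.SteinbergGroup F) := Nat.finite_of_card_ne_zero (by omega)
  obtain ⟨ψ, hψ⟩ := exists_rep hF
  letI := DistribMulAction.compHom (Fin 12 → ZMod 2) ψ
  have h3 : ∀ (l : List ℕ) (s : ℕ) (i j i' j' : Fin 12), s.Prime → s ≠ 2 →
      ev (List.replicate (2 * s) l).flatten = on →
      (get 32 (ev (List.replicate s l).flatten) j).testBit i ≠ (get 32 on j).testBit i →
      (get 32 (ev (List.replicate 2 l).flatten) j').testBit i' ≠ (get 32 on j').testBit i' →
      ∃ x : chevG2.SteinbergGroup F, orderOf x = 2 * s := fun l s i j i' j' hs h2 e1 e2 e3 => by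
    obtain ⟨g, hg⟩ := hψ l
    have : ∀ k, ψ g ^ k = 1 ↔ mB 12 (ev (List.replicate k l).flatten) = mB 12 on := fun k => by
      rw [ev_rep, mB_on, ← hg, Units.ext_iff, Units.val_pow_eq_pow_val, Units.val_one]
    refine exists_orderOf_of_dvd (g := g) (Dvd.dvd.trans (Eq.dvd (Eq.symm ?_)) (orderOf_map_dvd ψ g))
    refine orderOf_eq_of_pow_and_pow_div_prime (by have := hs.pos; omega) ((this _).mpr (by rw [e1]))
      fun p hp hd => ?_
    rcases hp.dvd_mul.mp hd with h | h
    · rw [(Nat.prime_dvd_prime_iff_eq hp Nat.prime_two).mp h, Nat.mul_div_cancel_left _ two_pos, Ne, this]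
      exact mB_ne i j e2
    · rw [(Nat.prime_dvd_prime_iff_eq hp hs).mp h, Nat.mul_div_cancel _ hs.pos, Ne, this]
      exact mB_ne i' j' e3
  have h4 : ∀ (l : List ℕ) (s a : ℕ), s.Prime → ¬ s ^ 2 ∣ 251596800 →
      ev (List.replicate s l).flatten = on → mu a (ev l ^^^ on) = on →
      ∀ g : chevG2.SteinbergGroup F, orderOf g = s → ∀ v : Fin 12 → ZMod 2, g • v = v → v = 0 :=
    fun l s a hs h2 e1 e2 y hy v hv => by
    obtain ⟨g, hg⟩ := hψ l
    refine fpf_of_sylow hs (hc ▸ h2) g (fun v => ?_) (fun v (hv : (ψ g).val.mulVec v = v) => ?_) hy hv
    · change (ψ (g ^ s)).val.mulVec v = v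
      rw [map_pow, Units.val_pow_eq_pow_val, hg, ← ev_rep, e1, mB_on, Matrix.one_mulVec]
    · rw [← Matrix.one_mulVec v, ← mB_on, ← e2, mB_mu, mB_xor, mB_on, ← Matrix.mulVec_mulVec,
        Matrix.add_mulVec, ← hg, hv, Matrix.one_mulVec, CharTwo.add_self_eq_zero, Matrix.mulVec_zero]
  obtain ⟨K, _, _, h5, h6⟩ := exists_large_sameGraph_aff (G := chevG2.SteinbergGroup F)
    (V := Fin 12 → ZMod 2) Nat.prime_two (fun v => by simp [two_smul, CharTwo.add_self_eq_zero])
    (by rw [hc]; norm_num) (fun s g v hs h2 hg hv e => by
      have h7 : s ∈ Nat.primeFactors 251596800 :=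
        Nat.mem_primeFactors.mpr ⟨hs, hg ▸ hc ▸ orderOf_dvd_natCard g, by norm_num⟩
      rw [show Nat.primeFactors 251596800 = {2, 3, 5, 7, 13} by decide +kernel] at h7
      simp only [Finset.mem_insert, Finset.mem_singleton] at h7
      rcases h7 with rfl | rfl | rfl | rfl | rfl
      · exact absurd rfl h2
      · exact h3 [47, 7, 29] 3 2 0 5 2 hs h2 (by decide +kernel) (by decide +kernel) (by decide +kernel)
      · exact h3 [6, 10, 42] 5 1 4 0 0 hs h2 (by decide +kernel) (by decide +kernel) (by decide +kernel)
      · exact absurd (h4 [9, 30, 26] 7 0x91c0000073800000243000001c20000003100000023000000240000001c00000001000000030000080000000400 hs (by norm_num)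
          (by decide +kernel) (by decide +kernel) g hg v e) hv
      · exact absurd (h4 [3, 19, 10, 42] 13 0x8100000043000000d4800000bc40000008100000043000001040000030c0000014c000003c80000000c00000008 hs (by norm_num)
          (by decide +kernel) (by decide +kernel) g hg v e) hv) N
  exact ⟨K, inferInstance, inferInstance, Nat.card_eq_fintype_card (α := K) ▸ h5,
    (SameGraph.of_equiv e).symm.trans h6⟩

end Cfsg.Agent.S3662
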