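import Cfsg.Statements.S3664
import Cfsg.Agent.H16.O7c
import Cfsg.Agent.S2474
import Cfsg.Agent.H12.Transport
import Cfsg.Agent.H12.SBridge

set_option autoImplicit false
open Cfsg

namespace Cfsg.Agent.S3664

/-- The prime graph of a finite group has the prime divisors of its order as vertices, two distinct primes p, q being joined when the group has an element of order pq; two groups have the same prime graph when they have the same prime divisors and the same joined pairs. Let F be the field with 3 elements and L = PSp(6,F). There are finite groups of arbitrarily large order with the same prime graph as L (a prime graph shared by the orthogonal groups Ω₇(3) and PΩ⁺₈(3)). -/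
theorem result {F : Type*} [Field F] [Fintype F] (hF : Fintype.card F = 3) (N : ℕ) :
    ∃ (H : Type) (_ : Group H) (_ : Finite H), N < Nat.card H ∧
      ((∀ p : ℕ, p.Prime → (p ∣ Nat.card (Cfsg.PSp 3 F) ↔ p ∣ Nat.card H)) ∧
      (∀ p q : ℕ, p.Prime → q.Prime → p ≠ q → ((∃ g : (Cfsg.PSp 3 F), orderOf g = p * q) ↔ (∃ g : H, orderOf g = p * q)))) := by
  have : Fact (Nat.Prime 3) := ⟨Nat.prime_three⟩
  have e := H12.pspCongr 3 (ZMod.ringEquivOfPrime F Nat.prime_three hF)
  have h1 := H16.O7.gt
  have h2 := H16.Sz3.gt
  have := H19.finite_aff (G := H16.Sz3.A) (V := H16.Sz3.V)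
  have hc : Nat.card (PSp 3 F) = Nat.card H16.O7.K := by
    have := Subgroup.card_eq_card_quotient_mul_card_subgroup (Subgroup.center (Matrix.symplecticGroup (Fin 3) F))
    rw [H12.card_sp, H12.card_center_sp, Nat.card_eq_fintype_card (α := F), hF] at this
    rw [H16.O7.card]
    simp [H12.spOrd, Finset.prod_range_succ] at this
    change _ = Nat.card (PSp 3 F) * 2 at this
    omega
  refine H19.exists_large_sameGraph' (H := H19.Aff H16.Sz3.A H16.Sz3.V) ⟨fun p hp => by rw [hc, h1.1 p hp, h2.1 p hp],
    fun p q hp hq hne => ?_⟩ H19.hasElemNormal_aff N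
  rw [h2.2 p q hp hq hne, ← h1.2 p q hp hq hne]
  exact ((Set.ext_iff.mp (H19.spec_congr e) _).symm.trans
    (S2474.result (F := ZMod 3) (by simp; decide) 3 le_rfl p q hp hq hne).symm).trans (Set.ext_iff.mp (H19.spec_congr H16.O7.eqv) _)

end Cfsg.Agent.S3664
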