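import Cfsg.Statements.S3668
import Cfsg.Agent.DG6.O
import Cfsg.Agent.DG6.R
import Cfsg.Agent.DG6.U3
import Cfsg.Agent.DG6.G2
import Cfsg.Agent.DG6.G1

set_option autoImplicit false
open Cfsg

namespace Cfsg.Agent.S3668

set_option synthInstance.maxSize 2000 in
theorem num : ∀ n ∈ [60, 168, 360, 504, 660, 1092, 2448, 2520, 3420, 4080, 5616], ∃ p ∈ [5, 7, 11, 13, 17, 19],
    p.Prime ∧ p ∣ n ∧ ¬ p ^ 2 ∣ n ∧ ((∀ q ∈ n.primeFactorsList, ∀ k < 13, 0 < k → q ^ k ∣ n → q ^ k % p ≠ 1) ∨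
      (∀ r ∈ n.primeFactorsList, r = p ∨ r = 2 ∨ r = 3) ∧
        ∀ q ∈ n.primeFactorsList, ∀ k < 13, 0 < k → q ^ k % p = 1 → ¬ q ^ k * q ∣ n) ∧
    ∀ m ∈ [60, 168, 360, 504, 660, 1092, 2448, 2520, 3420, 4080, 5616], m ∣ n → p ∣ m → m = n ∨
      (p = 5 ∧ n = 360 ∧ m = 60) ∨ (p = 7 ∧ n = 504 ∧ m = 168) ∨ p = 5 ∧ n = 2520 ∧ (m = 60 ∨ m = 360) := by
  decide +kernel

/-- The character degree graph of a finite group has as vertices the primes dividing some irreducible complex character degree, two distinct primes being joined when their product divides some irreducible character degree; two groups have the same character degree graph when they have the same vertices and the same joined pairs. Let S be a finite non-abelian simple group of order less than 6000. If a finite group G has the same order as S and the same character degree graph as S, then G is isomorphic to S. -/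
theorem result {S : Type*} [Group S] [Finite S] [IsSimpleGroup S] (hS : ¬ IsMulCommutative S)
    (hlt : Nat.card S < 6000) {G : Type*} [Group G] [Finite G] (hcard : Nat.card G = Nat.card S) (hΓ : Cfsg.degreePrimes G = Cfsg.degreePrimes S ∧ Cfsg.degreeGraph G = Cfsg.degreeGraph S) :
    Nonempty (G ≃* S) := by
  have hL := DG6.ords hS hlt
  obtain ⟨r1, r2, r3⟩ := DG6.rho hS hL
  rw [← hcard, ← hΓ.1] at r1
  rw [← hcard, ← hΓ.2] at r2 r3
  have dv : ∀ {d}, d ∣ Nat.card G → IsPrimePow d → ∃ q ∈ (Nat.card G).primeFactorsList, ∃ k < 13,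
      0 < k ∧ q ^ k = d ∧ d.minFac = q := fun h e => by
    obtain ⟨q, k, hq, hk, rfl⟩ := (isPrimePow_nat_iff _).1 e
    have := (Nat.pow_le_pow_left hq.two_le k).trans (Nat.le_of_dvd Nat.card_pos h)
    exact ⟨q, (Nat.mem_primeFactorsList Nat.card_pos.ne').2 ⟨hq, (dvd_pow_self q hk.ne').trans h⟩, k,
      (Nat.pow_lt_pow_iff_right one_lt_two).1 (by omega), hk, rfl, hq.pow_minFac hk.ne'⟩
  obtain ⟨p, -, hp, h1, h2, hq, hm⟩ := num _ (hcard ▸ hL)
  obtain ⟨T, hn, hs, hc, h3⟩ := DG6.sect hp h1 h2 r1 (hq.imp (fun h d e f => by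
      obtain ⟨q, a, k, b, c, rfl, -⟩ := dv e f; exact h q a k b c e)
    fun h => ⟨fun r e f => h.1 r ((Nat.mem_primeFactorsList Nat.card_pos.ne').2 ⟨e, f⟩), fun d e f g => by
      obtain ⟨q, a, k, b, c, rfl, i⟩ := dv e f; rw [i]; exact h.2 q a k b c g⟩)
  have h4 : Nat.card (G ⧸ pPrimeCore p G) ∣ Nat.card G := (pPrimeCore p G).index_dvd_card
  have h5 := T.card_subgroup_dvd_card
  have h6 := Nat.le_of_dvd Nat.card_pos (h5.trans h4)
  rcases hm _ (DG6.ords hc (by omega)) (h5.trans h4) h3 with e | ⟨rfl, e, f⟩ | ⟨rfl, e, f⟩ | ⟨rfl, e, f⟩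
  · have h7 := Nat.le_of_dvd Nat.card_pos h4
    have h8 := Nat.le_of_dvd Nat.card_pos h5
    obtain rfl := T.eq_top_of_card_eq (by omega)
    have h9 := (pPrimeCore p G).card_eq_card_quotient_mul_card_subgroup
    rw [show Nat.card (G ⧸ pPrimeCore p G) = Nat.card G by omega, left_eq_mul₀ Nat.card_pos.ne'] at h9
    haveI : IsSimpleGroup G := (Subgroup.topEquiv.trans ((QuotientGroup.quotientMulEquivOfEq
      (Subgroup.eq_bot_of_card_eq _ h9)).trans QuotientGroup.quotientBot)).symm.isSimpleGroup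
    by_cases h : Nat.card S = 5616
    · exact ⟨(DG6.psl33 (hcard.trans h)).some.trans (DG6.psl33 h).some.symm⟩
    · exact DG6.uniq hL h hcard
  · exact (DG6.g360 e T f (r2 e).1 (r2 e).2).elim
  · exact (DG6.g504 e T f (r3 e)).elim
  · exact (DG6.g2520 e T f (r1 7 (by norm_num) (by rw [e]; norm_num))).elim

end Cfsg.Agent.S3668
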