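import Cfsg.Statements.S3680
import Mathlib
import Cfsg.Agent.H2.EP
import Cfsg.Agent.S0721
import Cfsg.Agent.S0550
import Cfsg.Agent.H2.Carter

set_option autoImplicit false
open Cfsg

namespace Cfsg.Agent.S3680

open H2.Pm MulAction Subgroup
theorem sup_equiv {G : Type*} [Group G] {A B : Subgroup G} (h : B ≤ centralizer (A : Set G))
    (hd : A ⊓ B = ⊥) : Nonempty ((A ⊔ B : Subgroup G) ≃* A × B) := by
  let f : A × B →* G := A.subtype.noncommCoprod B.subtype fun a b => h b.2 a a.2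
  have hf : Function.Injective f := (injective_iff_map_eq_one f).2 fun ⟨a, b⟩ e => by
    have e : (a : G) * b = 1 := e
    have : (a : G) ∈ A ⊓ B := ⟨a.2, eq_inv_of_mul_eq_one_left e ▸ B.inv_mem b.2⟩
    rw [hd, mem_bot] at this
    rw [this, one_mul] at e
    exact Prod.ext (Subtype.ext this) (Subtype.ext e)
  refine ⟨(MulEquiv.subgroupCongr ?_).trans (MonoidHom.ofInjective hf).symm⟩
  exact ((MonoidHom.noncommCoprod_range _ _ _).trans (by rw [range_subtype, range_subtype])).symm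

/-- The socle of a finite primitive permutation group. Let a finite group G act faithfully and primitively on a set Ω, and let N be the subgroup generated by the minimal normal subgroups of G. Then either N is an elementary abelian p-group for some prime p and acts regularly on Ω (transitively with trivial point stabilizers), or N is isomorphic to a direct product of m ≥ 1 copies of a non-abelian simple group. -/
theorem result {G Ω : Type*} [Group G] [Finite G] [MulAction G Ω] [FaithfulSMul G Ω] [Finite Ω]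
    (hprim : MulAction.IsPreprimitive G Ω) (N : Subgroup G)
    (hN : N = sSup {V : Subgroup G | V.Normal ∧ V ≠ ⊥ ∧ ∀ M : Subgroup G, M.Normal → M ≤ V → M = ⊥ ∨ M = V}) :
    (∃ p : ℕ, p.Prime ∧ IsMulCommutative N ∧ (∀ x : N, x ^ p = 1) ∧
      MulAction.IsPretransitive N Ω ∧ ∀ ω : Ω, MulAction.stabilizer N ω = ⊥) ∨
    (∃ (T : Type) (_ : Group T) (m : ℕ), 1 ≤ m ∧ IsSimpleGroup T ∧ ¬ IsMulCommutative T ∧ Nonempty (N ≃* (Fin m → T))) := by
  rcases subsingleton_or_nontrivial G with hG | hG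
  · obtain rfl : N = ⊥ := Subsingleton.elim _ _
    refine Or.inl ⟨2, Nat.prime_two, inferInstance, fun x => Subsingleton.elim _ _, ⟨fun a b => ?_⟩,
      fun _ => Subsingleton.elim _ _⟩
    obtain ⟨g, rfl⟩ := exists_smul_eq G a b
    exact ⟨1, by rw [Subsingleton.elim g 1, one_smul, one_smul]⟩
  obtain ⟨M, hM⟩ := H2.exists_isMinNormal (G := G)
  have := hM.normal
  have hMN : ∀ V, H2.IsMinNormal V → V ≤ N := fun V hV => hN ▸ le_sSup ⟨hV.1, hV.2, hV.3⟩
  have hle : ∀ K, (∀ V, H2.IsMinNormal V → V ≤ K) → N ≤ K := fun K h =>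
    hN ▸ sSup_le fun V hV => h V ⟨hV.1, hV.2.1, hV.2.2⟩
  have hc : ∀ V, H2.IsMinNormal V → V ≠ M → V ≤ centralizer (M : Set G) := fun V hV h => by
    have := hV.normal
    exact commutator_eq_bot_iff_le_centralizer.1
      (le_bot_iff.1 (hV.inf_eq_bot_of_ne hM h ▸ commutator_le_inf V M))
  by_cases hab : IsMulCommutative M
  · obtain ⟨-, ⟨p, hp, h1⟩, h2, h3, h4⟩ := prim_nilp (X := Ω) hM.ne_bot
      (H2.isNilpotent_of_isMulCommutative _)
    obtain rfl : N = M := le_antisymm (hle M fun V hV => by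
      by_cases h : V = M
      · exact h.le
      · exact h2 ▸ hc V hV h) (hMN M hM)
    exact Or.inl ⟨p, hp, hab, fun x => Subtype.ext (h1 _ x.2), (trans_subgroup_iff _).2 h3,
      fun ω => (eq_bot_iff_forall _).2 fun x hx => Subtype.ext (h4 _ x.2 ω hx)⟩
  obtain ⟨T, _, m, hT, hm, ⟨e⟩⟩ := S0721.result M hM.ne_bot hM.min
  have hTa : ¬ IsMulCommutative T := fun h => hab ⟨⟨fun x y => e.injective (by
    ext i; simp [mul_comm' (e x i)])⟩⟩
  refine Or.inr ⟨T, inferInstance, ?_⟩
  by_cases hu : ∀ V, H2.IsMinNormal V → V = M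
  · obtain rfl : N = M := le_antisymm (hle M fun V hV => (hu V hV).le) (hMN M hM)
    exact ⟨m, hm, hT, hTa, ⟨e⟩⟩
  push Not at hu
  obtain ⟨V, hV, hVM⟩ := hu
  have := hV.normal
  obtain ⟨g, hg⟩ := exists_ne (1 : G)
  have := nontrivial_of_ne_one (X := Ω) hg
  obtain ⟨a⟩ : Nonempty Ω := inferInstance
  obtain ⟨-, h1, -, -, -, ⟨f⟩, -⟩ := S0550.result (stabilizer G a)
    (IsPreprimitive.isCoatom_stabilizer_of_isPreprimitive G a) (by
      by_contra h
      obtain ⟨b, hb⟩ := exists_ne a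
      obtain ⟨n, hn, rfl⟩ := (trans_subgroup_iff _).1 (normal_trans' (X := Ω) _ h) a b
      exact hb (normalCore_le _ hn)) M V hM.ne_bot hV.ne_bot hM.min hV.min hVM.symm
  obtain rfl : N = M ⊔ V := le_antisymm (hle _ fun W hW => by
    by_cases h : W = M
    · exact h.le.trans le_sup_left
    · exact (h1 ▸ hc W hW h).trans le_sup_right) (sup_le (hMN M hM) (hMN V hV))
  obtain ⟨φ⟩ := sup_equiv h1.ge (hM.inf_eq_bot_of_ne hV hVM.symm)
  refine ⟨m + m, by omega, hT, hTa, ⟨(φ.trans (e.prodCongr (f.symm.trans e))).trans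
    (MulEquiv.trans (MulEquiv.symm ⟨Equiv.sumArrowEquivProdArrow _ _ _, fun _ _ => rfl⟩)
      (MulEquiv.arrowCongr finSumFinEquiv (MulEquiv.refl T)))⟩⟩

end Cfsg.Agent.S3680
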