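import Cfsg.Statements.S3687
import Cfsg.Agent.H23.Sub2

set_option autoImplicit false
open Cfsg

namespace Cfsg.Agent.S3687

/-- Let a finite group G act faithfully and primitively on a set Ω, let a and b be points such that the orbit Δ of b under the stabilizer H of a has d ≥ 6 elements, and suppose that the permutation group induced by H on Δ contains the alternating group of Δ (the image of H in the symmetric group of Δ has index at most 2) while H does not act faithfully on Δ. Then either H induces exactly the alternating group of Δ and H is isomorphic to the direct product of the alternating groups of degrees d and d - 1; or H induces the full symmetric group of Δ and H is isomorphic to one of: the direct product of the symmetric groups of degrees d and d - 1, the direct product of the symmetric group of degree d with the alternating group of degree d - 1, or the subgroup of the direct product of the symmetric groups of degrees d and d - 1 consisting of the pairs of permutations with equal signs. -/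
theorem result {G Ω : Type*} [Group G] [Finite G] [MulAction G Ω] [FaithfulSMul G Ω] [Finite Ω]
    (hprim : MulAction.IsPreprimitive G Ω) (a b : Ω) (d : ℕ) (hd : Nat.card (MulAction.orbit (MulAction.stabilizer G a) b) = d) (h6 : 6 ≤ d)
    (halt : (MulAction.toPermHom (MulAction.stabilizer G a) (MulAction.orbit (MulAction.stabilizer G a) b)).range.index ≤ 2)
    (hunf : ¬ Function.Injective (MulAction.toPermHom (MulAction.stabilizer G a) (MulAction.orbit (MulAction.stabilizer G a) b))) :
    ((MulAction.toPermHom (MulAction.stabilizer G a) (MulAction.orbit (MulAction.stabilizer G a) b)).range.index = 2 ∧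
      Nonempty (MulAction.stabilizer G a ≃* alternatingGroup (Fin d) × alternatingGroup (Fin (d - 1)))) ∨
    ((MulAction.toPermHom (MulAction.stabilizer G a) (MulAction.orbit (MulAction.stabilizer G a) b)).range = ⊤ ∧
      (Nonempty (MulAction.stabilizer G a ≃* Equiv.Perm (Fin d) × Equiv.Perm (Fin (d - 1))) ∨
       Nonempty (MulAction.stabilizer G a ≃* Equiv.Perm (Fin d) × alternatingGroup (Fin (d - 1))) ∨
       Nonempty (MulAction.stabilizer G a ≃* ((Equiv.Perm.sign.comp (MonoidHom.fst (Equiv.Perm (Fin d)) (Equiv.Perm (Fin (d - 1))))) *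
         (Equiv.Perm.sign.comp (MonoidHom.snd (Equiv.Perm (Fin d)) (Equiv.Perm (Fin (d - 1)))))).ker))) := by
  obtain ⟨h, hk⟩ := H2.TW.am_stab hd (by omega)
  have i := (MulAction.toPermHom (MulAction.stabilizer G a)
    (MulAction.orbit (MulAction.stabilizer G a) b)).range.index_mul_card
  rw [Nat.card_perm, hd, ← Subgroup.index_ker, H2.TW.ker_eq] at i
  have i0 := Subgroup.index_ne_zero_of_finite (H := (MulAction.toPermHom (MulAction.stabilizer G a)
    (MulAction.orbit (MulAction.stabilizer G a) b)).range)
  obtain ⟨θ, t1, t2, t3, t4⟩ := H23U.struct h hk h6 (i.ge.trans (Nat.mul_le_mul_right _ halt)) fun e =>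
    hunf ((MonoidHom.ker_eq_bot_iff _).1 (by rw [H2.TW.ker_eq, e, Subgroup.bot_subgroupOf]))
  have iso : ∀ R, θ.range = R → Nonempty (MulAction.stabilizer G a ≃* R) := fun R e =>
    ⟨(MonoidHom.ofInjective t1).trans (MulEquiv.subgroupCongr e)⟩
  have c1 := H23U.alt_card (by omega : 5 ≤ d)
  have c2 := H23U.alt_card (by omega : 5 ≤ d - 1)
  have l1 : alternatingGroup _ ≤ ((MonoidHom.fst _ _).comp θ).range := fun x hx =>
    let ⟨y, e⟩ := t2 (x := (x, 1)) ⟨hx, one_mem _⟩; ⟨y, congrArg Prod.fst e⟩
  have l2 : alternatingGroup _ ≤ ((MonoidHom.snd _ _).comp θ).range := fun x hx =>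
    let ⟨y, e⟩ := t2 (x := (1, x)) ⟨one_mem _, hx⟩; ⟨y, congrArg Prod.snd e⟩
  replace i : _ * Subgroup.relIndex _ _ = _ := i
  rcases halt.eq_or_lt with e | e
  · rw [e] at i
    have e1 := Subgroup.eq_of_le_of_card_ge l1 (by omega)
    have e2 := Subgroup.eq_of_le_of_card_ge l2 (by
      refine Nat.le_of_mul_le_mul_right (Nat.le_of_mul_le_mul_left ?_ two_pos) (by omega : 0 < d)
      rw [← mul_assoc 2 _ d, ← mul_assoc 2 _ d, c2, mul_comm _ d, mul_comm _ d,
        Nat.mul_factorial_pred (by omega : d ≠ 0), ← i, mul_comm d, mul_assoc]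
      exact Nat.mul_le_mul_left _ t4)
    obtain ⟨f⟩ := iso _ (le_antisymm (by
      rintro _ ⟨y, rfl⟩
      exact ⟨e1.ge ⟨y, rfl⟩, e2.ge ⟨y, rfl⟩⟩) t2)
    exact .inl ⟨e, ⟨f.trans (Subgroup.prodEquiv _ _)⟩⟩
  · replace e := (Nat.le_of_lt_succ e).antisymm (Nat.pos_of_ne_zero i0)
    rw [e, one_mul] at i
    obtain ⟨_, ⟨y, rfl⟩, k⟩ := SetLike.not_le_iff_exists.1 (show ¬ ((MonoidHom.fst _ _).comp θ).range ≤
      alternatingGroup _ from fun k => by
        have := Subgroup.card_le_of_le k
        have := Nat.factorial_pos d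
        omega)
    refine .inr ⟨Subgroup.index_eq_one.1 e, (H23U.cls t2 ⟨y, rfl⟩
      ((Int.units_eq_one_or _).resolve_left k)).imp (fun e => ?_) (Or.imp (fun e => ?_) (iso _))⟩
    · obtain ⟨f⟩ := iso _ e
      exact ⟨f.trans Subgroup.topEquiv⟩
    · obtain ⟨f⟩ := iso _ e
      exact ⟨f.trans ((Subgroup.prodEquiv _ _).trans (Subgroup.topEquiv.prodCongr (MulEquiv.refl _)))⟩

end Cfsg.Agent.S3687
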