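import Cfsg.Statements.S3713
import Cfsg.Agent.H6.SpX
-- import your own Cfsg.Agent.* helpers here

set_option autoImplicit false
open Cfsg

namespace Cfsg.Agent.S3713

open Cfsg.Agent.H6.Sp Cfsg.Agent.H14 Cfsg.Agent.H28 Cfsg.Agent.H12 Cfsg.Agent.L0 Subgroup

open scoped MatrixGroups

theorem graph {G G0 H : Type*} [Group G] [Group G0] [Group H] (f : G →* G0) {T : Subgroup G0} (Ψ : T →* H) :
    ∃ M : Subgroup (H × G), (∀ y ∈ M, MonoidHom.snd _ _ y = 1 → y = 1) ∧ ∀ g (hg : f g ∈ T), (Ψ ⟨f g, hg⟩, g) ∈ M := by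
  refine ⟨((Ψ.comp ((f.comp (T.comap f).subtype).codRestrict T fun x => x.2)).prod (T.comap f).subtype).range, ?_,
    fun g hg => ⟨⟨g, hg⟩, rfl⟩⟩
  rintro _ ⟨x, rfl⟩ h
  rw [show x = 1 from Subtype.ext h, map_one]

theorem mem_of_fix {n : ℕ} {K : Type*} [Field K] {T : Subgroup (SpG n K)} {i j : Fin n} (hij : i ≠ j)
    (h1 : ∀ t, X (.inl i) (.inl i) t ∈ T) (h2 : ∀ t, X (.inl i) (.inl j) t ∈ T) (h3 : ∀ t, X (.inl j) (.inl j) t ∈ T)
    {g : SpG n K} (a1 : ∀ k, g.1 (ee (.inl k)) = ee (.inl k)) (a2 : ∀ k, k ≠ i → k ≠ j → g.1 (ee (.inr k)) = ee (.inr k)) :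
    g ∈ T := by
  have key : ∀ k, g.1 (ee (.inr k)) = ee (.inr k) + g.1 (ee (.inr k)) (.inl i) • (ee (.inl i) : Idx n → K) +
      g.1 (ee (.inr k)) (.inl j) • (ee (.inl j) : Idx n → K) := fun k => by
    ext z
    rcases z with l | l
    · by_cases e : l = i
      · simp [e, hij]
      by_cases e' : l = j
      · simp [e', hij.symm]
      have := UG_map g (ee (.inr l)) (ee (.inr k))
      rw [a2 l e e'] at this
      simpa [B_ee, sg, e, e'] using this
    · have := UG_map g (ee (.inl l)) (ee (.inr k))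
      rw [a1 l] at this
      simpa [B_ee, sg] using this
  have sy := UG_map g (ee (.inr i)) (ee (.inr j))
  rw [key i, key j] at sy
  simp [B_ee, sg, hij, hij.symm] at sy
  have : g = X (.inl i) (.inl i) (g.1 (ee (.inr i)) (.inl i)) * X (.inl i) (.inl j) (g.1 (ee (.inr i)) (.inl j)) *
      X (.inl j) (.inl j) (g.1 (ee (.inr j)) (.inl j)) := Sp_ext fun z => by
    simp only [UG_mul_apply, X, Y_self_apply, Y_apply (a := .inl i) (b := .inl j) hij]
    rcases z with l | l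
    · simp [a1]
    by_cases e : l = i
    · subst e
      conv_lhs => rw [key]
      simp [eps, sg, hij.symm]
      module
    by_cases e' : l = j
    · subst e'
      conv_lhs => rw [key, show g.1 (ee (.inr l)) (.inl i) = g.1 (ee (.inr i)) (.inl l) by linear_combination sy]
      simp [eps, sg, hij]
      module
    · simp [a2 l e e', Ne.symm e, Ne.symm e']
  exact this ▸ mul_mem (mul_mem (h1 _) (h2 _)) (h3 _)

theorem exists_emb {n : ℕ} {K : Type*} [Field K] {j : Fin n} {g : SpG n K} (h : ∀ z, ix z ≠ j → g.1 (ee z) = ee z) :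
    ∃ A, emb j A = g := by
  let ι : Fin 1 ↪ Fin n := ⟨fun _ => j, fun _ _ _ => Subsingleton.elim ..⟩
  obtain ⟨g', rfl⟩ := exists_jm ι (g := g) fun z hz => h z fun e => hz ⟨0, e.symm⟩
  have := gen_top (M := (emb (K := K) (0 : Fin 1)).range) (fun l A => ⟨A, by rw [Subsingleton.elim l 0]⟩) fun i j e => by omega
  obtain ⟨A, rfl⟩ : g' ∈ (emb (K := K) (0 : Fin 1)).range := this ▸ mem_top g'
  exact ⟨A, (jm_emb ι 0 A).symm⟩


/-- A presentation of the symplectic group as the universal completion of an amalgam of small subgroups. Let F be a field with more than two elements, n ≥ 2, and Sp the group of 2n × 2n matrices over F preserving the standard alternating form, acting on column vectors; write e_k, f_k for the standard basis vectors of the two halves (a hyperbolic basis). For each k let S_k be the subgroup of Sp fixing e_l and f_l for all l ≠ k (a copy of SL(2, F) on the plane of e_k, f_k), and for each i with i + 1 < n let M_i be the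 subgroup fixing every e_l and fixing f_l for all l other than i, i+1 (an abelian group isomorphic to the additive group of F³). Then Sp is the universal completion of the amalgam formed by the S_k, the M_i and the subgroups generated by two of them: for every group H and homomorphisms σ_k : S_k → H, μ_i : M_i → H such that for each pair of these subgroups some homomorphism on the subgroup they generate restricts to the given ones, there is exactly one homomorphism Sp → H restricting to every σ_k and μ_i. -/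
theorem result
    (F : Type*) [Field F] (hF : ∃ a : F, a ≠ 0 ∧ a ≠ 1) (n : ℕ) (hn : 2 ≤ n)
    (S M : Fin n → Subgroup ↥(Matrix.symplecticGroup (Fin n) F))
    (hS : ∀ j : Fin n, S j = Subgroup.closure {A : ↥(Matrix.symplecticGroup (Fin n) F) | ∀ k : Fin n, k ≠ j →
      ((A : ↥(Matrix.symplecticGroup (Fin n) F)) : Matrix (Fin n ⊕ Fin n) (Fin n ⊕ Fin n) F).mulVec (Pi.single (Sum.inl k) (1 : F)) = (Pi.single (Sum.inl k) (1 : F)) ∧ ((A : ↥(Matrix.symplecticGroup (Fin n) F)) : Matrix (Fin n ⊕ Fin n) (Fin n ⊕ Fin n) F).mulVec (Pi.single (Sum.inr k) (1 : F)) = (Pi.single (Sum.inr k) (1 : F))})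
    (hM : ∀ i : Fin n, (i : ℕ) + 1 < n → M i = Subgroup.closure {A : ↥(Matrix.symplecticGroup (Fin n) F) |
      (∀ k : Fin n, ((A : ↥(Matrix.symplecticGroup (Fin n) F)) : Matrix (Fin n ⊕ Fin n) (Fin n ⊕ Fin n) F).mulVec (Pi.single (Sum.inl k) (1 : F)) = (Pi.single (Sum.inl k) (1 : F))) ∧
        ∀ k : Fin n, (k : ℕ) ≠ i → (k : ℕ) ≠ (i : ℕ) + 1 → ((A : ↥(Matrix.symplecticGroup (Fin n) F)) : Matrix (Fin n ⊕ Fin n) (Fin n ⊕ Fin n) F).mulVec (Pi.single (Sum.inr k) (1 : F)) = (Pi.single (Sum.inr k) (1 : F))})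
    {H : Type*} [Group H] (σ : ∀ j : Fin n, ↥(S j) →* H) (μ : ∀ i : Fin n, ↥(M i) →* H)
    (hSS : ∀ j l : Fin n, j ≠ l → ∃ Ψ : ↥(S j ⊔ S l) →* H,
      (∀ (g : ↥(Matrix.symplecticGroup (Fin n) F)) (hg : g ∈ S j), Ψ ⟨g, Subgroup.mem_sup_left hg⟩ = σ j ⟨g, hg⟩) ∧
        (∀ (g : ↥(Matrix.symplecticGroup (Fin n) F)) (hg : g ∈ S l), Ψ ⟨g, Subgroup.mem_sup_right hg⟩ = σ l ⟨g, hg⟩))
    (hMM : ∀ i i' : Fin n, i ≠ i' → (i : ℕ) + 1 < n → (i' : ℕ) + 1 < n → ∃ Ψ : ↥(M i ⊔ M i') →* H,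
      (∀ (g : ↥(Matrix.symplecticGroup (Fin n) F)) (hg : g ∈ M i), Ψ ⟨g, Subgroup.mem_sup_left hg⟩ = μ i ⟨g, hg⟩) ∧
        (∀ (g : ↥(Matrix.symplecticGroup (Fin n) F)) (hg : g ∈ M i'), Ψ ⟨g, Subgroup.mem_sup_right hg⟩ = μ i' ⟨g, hg⟩))
    (hMS : ∀ i j : Fin n, (i : ℕ) + 1 < n → ∃ Ψ : ↥(M i ⊔ S j) →* H,
      (∀ (g : ↥(Matrix.symplecticGroup (Fin n) F)) (hg : g ∈ M i), Ψ ⟨g, Subgroup.mem_sup_left hg⟩ = μ i ⟨g, hg⟩) ∧
        (∀ (g : ↥(Matrix.symplecticGroup (Fin n) F)) (hg : g ∈ S j), Ψ ⟨g, Subgroup.mem_sup_right hg⟩ = σ j ⟨g, hg⟩)) :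
    ∃! Φ : ↥(Matrix.symplecticGroup (Fin n) F) →* H,
      (∀ (j : Fin n) (g : ↥(Matrix.symplecticGroup (Fin n) F)) (hg : g ∈ S j), Φ g = σ j ⟨g, hg⟩) ∧
        (∀ (i : Fin n), (i : ℕ) + 1 < n → ∀ (g : ↥(Matrix.symplecticGroup (Fin n) F)) (hg : g ∈ M i), Φ g = μ i ⟨g, hg⟩) := by
  let e := (spEquiv (Fin n) F).symm
  have mS : ∀ j A, e (emb j A) ∈ S j := fun j A => hS j ▸ subset_closure fun k hk => by
    simp only [e, spEquiv_symm_mulVec]
    exact ⟨emb_fix _ _ hk, emb_fix _ _ hk⟩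
  have mM : ∀ {i j : Fin n}, j.val = i.val + 1 → ∀ {p q : Fin n}, p = i ∨ p = j → q = i ∨ q = j → ∀ t,
      e (X (.inl p) (.inl q) t) ∈ M i := fun {i j} h p q hp hq t => hM i (by omega) ▸ subset_closure (by
    simp only [e, spEquiv_symm_mulVec, Set.mem_setOf_eq]
    refine ⟨fun k => Y_fix (by simp) (by simp) _, fun k h1 h2 => Y_fix ?_ ?_ _⟩ <;> simp [Pi.single_apply, Fin.ext_iff] at * <;>
      omega)
  let σ' : Fin n → SL(2, F) →* H := fun j => (σ j).comp ((e.toMonoidHom.comp (emb j)).codRestrict _ (mS j))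
  have hσ : ∀ j A, σ' j A = σ j ⟨e (emb j A), mS j A⟩ := fun _ _ => rfl
  let μ' : Fin n → Fin n → F → H := fun i j t =>
    if h : j.val = i.val + 1 then μ i ⟨_, mM h (.inl rfl) (.inr rfl) t⟩ else 1
  have hμ : ∀ i j h t, μ' i j t = μ i ⟨_, mM (i := i) (j := j) h (.inl rfl) (.inr rfl) t⟩ := fun i j h t => dif_pos h
  have cm : ∀ {T : Subgroup _} (Ψ : T →* H) {g h : SpG n F} (hg : e g ∈ T) (hh : e h ∈ T), Commute g h →
      Commute (Ψ ⟨_, hg⟩) (Ψ ⟨_, hh⟩) := fun Ψ g h hg hh c =>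
    Commute.map (x := ⟨_, hg⟩) (y := ⟨_, hh⟩) (Subtype.ext (c.map e).eq) Ψ
  have cs : ∀ (i k : Fin n), i.val + 1 < n → ∀ g h h', σ k ⟨g, h⟩ = μ i ⟨g, h'⟩ := fun i k hi g h h' => by
    obtain ⟨Ψ, b1, b2⟩ := hMS i k hi
    rw [← b1, ← b2]
  have ss : ∀ i j, i ≠ j → ∀ A B, Commute (σ' i A) (σ' j B) := fun i j h A B => by
    obtain ⟨Ψ, b1, b2⟩ := hSS i j h
    rw [hσ, hσ, ← b1, ← b2]
    exact cm Ψ _ _ (emb_comm h A B)
  let D : AD n F H :=
    { σ := σ'
      μ := μ'
      ss := ss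
      mm := fun i j k l h h' t u => by
        rw [hμ _ _ h, hμ _ _ h']
        by_cases c : i = k
        · subst c; exact cm _ _ _ (X_ll ..)
        obtain ⟨Ψ, b1, b2⟩ := hMM i k c (by omega) (by omega)
        rw [← b1, ← b2]
        exact cm Ψ _ _ (X_ll ..)
      ms := fun i j k h h1 h2 t A => by
        obtain ⟨Ψ, b1, b2⟩ := hMS i k (by omega)
        rw [hμ _ _ h, hσ, ← b1, ← b2]
        exact cm Ψ _ _ (emb_X_comm k A (a := .inl i) (b := .inl j) (by simp) h1.symm h2.symm t).symm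
      r2 := fun i j h => by
        have hij : i ≠ j := fun h => by subst h; omega
        have key : ∀ k l : Fin 2, k ≠ l → ∃ N : Subgroup (H × SpG 2 F), (∀ y ∈ N, MonoidHom.snd _ _ y = 1 → y = 1) ∧
            (∀ p, p ≠ k → ∀ A, (σ' (two hij p)).prod (emb p) A ∈ N) ∧ (∀ t, (σ' (two hij k)).prod (emb k) (X2 t) ∈ N) ∧
            ∀ p q : Fin 2, q.val = p.val + 1 → ∀ t, (μ' i j t, X (.inl p) (.inl q) t) ∈ N := fun k l hkl => by
          obtain ⟨Ψ, b1, b2⟩ := hMS i (two hij l) (by omega)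
          obtain ⟨N, n1, n2⟩ := graph (e.toMonoidHom.comp (jm (two hij))) Ψ
          refine ⟨N, n1, fun p hp A => ?_, fun t => ?_, fun p q hpq t => ?_⟩
          · obtain rfl : p = l := by omega
            have := n2 (emb p A) (mem_sup_right (by simpa [jm_emb] using mS _ A))
            simp only [MulEquiv.toMonoidHom_eq_coe, MonoidHom.comp_apply, MonoidHom.coe_coe, jm_emb] at this
            rwa [b2 _ (mS _ _)] at this
          · have c : two hij k = i ∨ two hij k = j := by fin_cases k <;> simp [two]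
            have c' : e (emb (two hij k) (X2 t)) ∈ M i := emb_X2 (two hij k) t ▸ mM h c c t
            have := n2 (emb k (X2 t)) (mem_sup_left (by simpa [jm_emb] using c'))
            simp only [MulEquiv.toMonoidHom_eq_coe, MonoidHom.comp_apply, MonoidHom.coe_coe, jm_emb] at this
            rwa [b1 _ c', ← cs i _ (by omega) _ (mS _ _)] at this
          · obtain ⟨rfl, rfl⟩ : p = 0 ∧ q = 1 := by omega
            have c : jm (two hij) (X (.inl 0) (.inl 1) t) = X (.inl i) (.inl j) t := jm_X _ (by simp) _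
            have := n2 (X (.inl 0) (.inl 1) t) (mem_sup_left (by simpa [c] using mM h (.inl rfl) (.inr rfl) t))
            simp only [MulEquiv.toMonoidHom_eq_coe, MonoidHom.comp_apply, MonoidHom.coe_coe, c] at this
            rwa [b1 _ (mM h (.inl rfl) (.inr rfl) t), ← hμ _ _ h] at this
        obtain ⟨N, m1, m2, m3, m4⟩ := key 0 1 (by simp)
        obtain ⟨N', n1, n2, n3, n4⟩ := key 1 0 (by simp)
        obtain ⟨Θ, h1, h2⟩ := exists_sec3 le_rfl (MonoidHom.snd _ _) (fun p => (σ' (two hij p)).prod (emb p))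
          (fun p q t => (μ' i j t, X (.inl p) (.inl q) t)) (fun _ _ => rfl) (fun _ _ _ _ => rfl) (i := 0) (j := 1) rfl rfl
          m1 n1 m2 m3 m4 n2 n3 n4 (Prod.ext (ss _ _ hij _ _) (emb_comm (by simp) _ _))
        exact ⟨(MonoidHom.fst _ _).comp Θ, fun A => congrArg Prod.fst (h1 0 A), fun A => congrArg Prod.fst (h1 1 A),
          fun t => congrArg Prod.fst (h2 0 1 rfl t)⟩ }
  obtain ⟨Φ, h1, h2⟩ := D.exists_lift hF hn
  refine ⟨Φ.comp e.symm.toMonoidHom, ⟨fun j g hg => ?_, fun i hi g hg => ?_⟩, fun Ψ ⟨b1, b2⟩ => ?_⟩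
  · obtain ⟨A, rfl⟩ : g ∈ (e.toMonoidHom.comp (emb j)).range := by
      refine (closure_le _).2 (fun g hg => ?_) (hS j ▸ hg)
      obtain ⟨A, hA⟩ := exists_emb (j := j) (g := e.symm g) (by
        rintro (k | k) hk
        exacts [(hg k hk).1, (hg k hk).2])
      exact ⟨A, by simp [hA]⟩
    simpa using! h1 j A
  · let j : Fin n := ⟨i + 1, hi⟩
    let T := ((Φ.comp (e.symm.toMonoidHom.comp (M i).subtype)).eqLocus (μ i)).map (M i).subtype
    have k1 : ∀ p, p = i ∨ p = j → ∀ t, X (.inl p) (.inl p) t ∈ T.comap e.toMonoidHom := fun p hp t =>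
      ⟨⟨_, mM (j := j) rfl hp hp t⟩, by
        have c := mS p (X2 t)
        have := h1 p (X2 t)
        simp only [D, hσ, emb_X2] at this c
        exact (congrArg Φ (e.symm_apply_apply _)).trans (this.trans (cs i p hi _ c _)), rfl⟩
    have : g ∈ T := by
      refine (closure_le _).2 (fun g hg => ?_) (hM i hi ▸ hg)
      simpa using mem_of_fix (T := T.comap e.toMonoidHom) (i := i) (j := j) (by simp [j, Fin.ext_iff]) (k1 _ (.inl rfl))
        (fun t => ⟨⟨_, mM (j := j) rfl (.inl rfl) (.inr rfl) t⟩, 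
          (congrArg Φ (e.symm_apply_apply _)).trans ((h2 i j rfl t).trans (hμ i j rfl t)), rfl⟩) (k1 _ (.inr rfl))
        (g := e.symm g) hg.1 fun k c c' => hg.2 k (by simpa [Fin.ext_iff] using c) (by simpa [Fin.ext_iff] using c')
    obtain ⟨x, hx, rfl⟩ := this
    exact hx
  · have := gen_top (M := (Ψ.comp e.toMonoidHom).eqLocus Φ) (fun l A => (b1 l _ (mS l A)).trans (h1 l A).symm)
      fun i j h t => (b2 i (by omega) _ (mM h (.inl rfl) (.inr rfl) t)).trans ((h2 i j h t).trans (hμ i j h t)).symm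
    ext g
    exact (congrArg Ψ (e.apply_symm_apply g).symm).trans (show e.symm g ∈ (Ψ.comp e.toMonoidHom).eqLocus Φ from this ▸ mem_top _)

end Cfsg.Agent.S3713
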