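import Cfsg.Statements.S3716
import Cfsg.Agent.H19.N9d
import Cfsg.Agent.H26.SylNum
import Cfsg.Agent.H26.AutP

set_option autoImplicit false
open Cfsg

namespace Cfsg.Agent.S3716

/-- Let G be a finite group with an elementary abelian Sylow 3-subgroup M of order 9 which is self-centralizing (C_G(M) = M), let N = N_G(M), and suppose C_G(g) ≤ N for every nonidentity g ∈ M. If the Sylow 2-subgroups of N are dihedral of order 8, then G is not simple. -/
theorem result {G : Type*} [Group G] [Finite G] (M : Sylow 3 G) (hM9 : Nat.card ↥(M : Subgroup G) = 9)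
    (hMel : ∀ m ∈ (M : Subgroup G), m ^ 3 = 1)
    (hCM : Subgroup.centralizer ((M : Subgroup G) : Set G) = (M : Subgroup G))
    (N : Subgroup G) (hN : N = Subgroup.normalizer ((M : Subgroup G) : Set G))
    (hCg : ∀ g ∈ (M : Subgroup G), g ≠ 1 → Subgroup.centralizer ({g} : Set G) ≤ N)
    (hS : ∀ S : Sylow 2 ↥N, Nonempty (↥(S : Subgroup ↥N) ≃* DihedralGroup 4)) :
    ¬ IsSimpleGroup G := by
  subst hN
  haveI : IsMulCommutative (M : Subgroup G) := Subgroup.le_centralizer_iff_isMulCommutative.1 hCM.ge
  obtain ⟨S⟩ : Nonempty (Sylow 2 (Subgroup.normalizer ((M : Subgroup G) : Set G))) := inferInstance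
  obtain ⟨e⟩ := hS S
  have h1 := H26.relIndex_centralizer_dvd_card_mulAut (M : Subgroup G)
  rw [H26.card_mulAut_of_elementary (p := 3) (r := 2) (fun x => Subtype.ext (hMel x x.2)) hM9,
    hCM] at h1
  have h2 : ¬ 3 ∣ (M : Subgroup G).relIndex (Subgroup.normalizer ((M : Subgroup G) : Set G)) :=
    fun h => M.not_dvd_index (h.trans (Dvd.intro _
      (Subgroup.relIndex_mul_index Subgroup.le_normalizer)))
  have h3 := ((M : Subgroup G).subgroupOf (Subgroup.normalizer ((M : Subgroup G) : Set G))
    ).index_mul_card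
  rw [Nat.card_congr (Subgroup.subgroupOfEquivOfLe Subgroup.le_normalizer).toEquiv, hM9] at h3
  have h4 := (S : Subgroup (Subgroup.normalizer ((M : Subgroup G) : Set G))).index_mul_card
  rw [Nat.card_congr e.toEquiv, DihedralGroup.nat_card] at h4
  have h5 := S.not_dvd_index
  obtain ⟨f, h⟩ := H19.N9.exists_md8 hM9 hMel ⟨fun a ha b hb => congrArg Subtype.val
    (mul_comm' (⟨a, ha⟩ : (M : Subgroup G)) ⟨b, hb⟩), rfl, hCg⟩ hCM.le (by
      rw [← h3] at h4 ⊢
      change _ * 9 ≤ 72
      unfold Subgroup.relIndex at h1 h2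
      generalize Subgroup.index (Subgroup.subgroupOf (M : Subgroup G) _) = k at *
      have := Nat.le_of_dvd (by decide) h1
      simp only [Finset.prod_range_succ, Finset.prod_range_zero] at h1 this
      interval_cases k <;> omega)
    (((Subgroup.subtype _).comp (Subgroup.subtype _)).comp e.symm.toMonoidHom)
    (((Subgroup.subtype_injective _).comp (Subgroup.subtype_injective _)).comp e.symm.injective)
    fun _ => Subtype.prop _
  exact h.not_simple

end Cfsg.Agent.S3716
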