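import Cfsg.Statements.S3726
import Cfsg.Agent.L0.CF3

set_option autoImplicit false
open Cfsg

namespace Cfsg.Agent.S3726

open Cfsg.Agent.L0


/-- Let a finite group G act faithfully and 2-transitively on a finite set Ω, and suppose there is an involution t of G, fixing exactly i points, such that every non-identity element of the centralizer of t also fixes exactly i points. Then G is isomorphic to PSL₂(q) for some finite field of order q, or to a Suzuki group Sz(q) (q = 2^(2m+1) ≥ 8), or G has a normal subgroup acting regularly on Ω. -/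
theorem result {G Ω : Type*} [Group G] [Finite G] [Fintype Ω] [MulAction G Ω] [FaithfulSMul G Ω]
    (h2 : MulAction.IsMultiplyPretransitive G Ω 2) (i : ℕ) (t : G) (ht : orderOf t = 2)
    (hti : Nat.card {x : Ω // t • x = x} = i)
    (hC : ∀ g : G, Commute g t → g ≠ 1 → Nat.card {x : Ω // g • x = x} = i) :
    (∃ (F : Type) (_ : Field F) (_ : Fintype F), Nonempty (G ≃* Matrix.ProjectiveSpecialLinearGroup (Fin 2) F)) ∨
    Cfsg.Lie.IsoSuzuki G ∨
    (∃ R : Subgroup G, R.Normal ∧ (∀ x y : Ω, ∃ r ∈ R, r • x = y) ∧ ∀ x : Ω, ∀ r ∈ R, r • x = x → r = 1) := by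
  have h : CF G Ω i t := ⟨fun g hg => eq_of_smul_eq_smul (α := Ω) (by simpa using hg),
    fun _ _ _ _ => MulAction.is_two_pretransitive_iff.1 h2, ht, fun g e e' => hC g e e'⟩
  by_cases hr : CF.NR G Ω
  swap
  · exact Or.inr (Or.inr (not_not.1 hr))
  rcases le_or_gt i 1 with hi | hi
  · exact (h.small hi hr h2).imp_right Or.inl
  obtain ⟨a, b, ha, hb, hab⟩ := (Set.one_lt_ncard_iff (s := MulAction.fixedBy Ω t)).1 ((h.fix t rfl h.ne).symm ▸ hi)
  exact Or.inl (h.big hr hab ha hb)

end Cfsg.Agent.S3726
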