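import Cfsg.Statements.S3728
import Cfsg.Agent.H25.SzMax
import Cfsg.Agent.S0048
import Cfsg.Agent.H3.PGroup1

set_option autoImplicit false
open Cfsg

namespace Cfsg.Agent.S3728

open Subgroup Cfsg.Agent.H20 Cfsg.Agent.H21 Cfsg.Agent.H25

/-- Let q = 2^(2m+1) with m ≥ 1 and let G be a finite group whose set of orders of maximal subgroups equals that of the Suzuki group Sz(q). Then G is isomorphic to Sz(q). -/
theorem result {G : Type*} [Group G] [Finite G] {F : Type*} [Field F] [Fintype F] (m : ℕ) (hm : 1 ≤ m)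
    (hF : Fintype.card F = 2 ^ (2 * m + 1))
    (h : {k : ℕ | ∃ M : Subgroup G, IsCoatom M ∧ k = Nat.card ↥M} = {k : ℕ | ∃ M : Subgroup ↥(Cfsg.Lie.Sz F (2 ^ (m + 1))), IsCoatom M ∧ k = Nat.card ↥M}) :
    Nonempty (G ≃* ↥(Cfsg.Lie.Sz F (2 ^ (m + 1)))) := by
  haveI := H15.Sz.charP_two hF
  have hq := Nat.card_eq_fintype_card.trans hF
  let M := H15.Sz.lieModel hm hF
  haveI := M.finite
  haveI := M.isSimpleGroup
  have hS := M.card_G
  rw [hq] at hS
  have ev : Even (2 ^ (2 * m + 1)) := by rw [pow_succ]; simp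
  have odd1 : Odd ((2 ^ (2 * m + 1)) ^ 2 + 1) := (ev.pow_of_ne_zero two_ne_zero).add_one
  have big : 8 ≤ 2 ^ (2 * m + 1) := H15.Sz.eight_le hm
  have odd2 : Odd (2 ^ (2 * m + 1) - 1) := Nat.Even.sub_odd (by omega) ev odd_one
  have cop := cop_sq_add_one ev (by omega)
  have h1 : ∀ X : Subgroup G, IsCoatom X → ∃ Y : Subgroup (Lie.Sz F (2 ^ (m + 1))), IsCoatom Y ∧ ♯X = ♯Y :=
    fun X hX => h.subset ⟨X, hX, rfl⟩
  have h2 : ∀ Y : Subgroup (Lie.Sz F (2 ^ (m + 1))), IsCoatom Y → ∃ X : Subgroup G, IsCoatom X ∧ ♯Y = ♯X :=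
    fun X hX => h.superset ⟨X, hX, rfl⟩
  have h2S : 2 ∣ Nat.card (Lie.Sz F (2 ^ (m + 1))) := by
    rw [hS]; exact (((ev.pow_of_ne_zero two_ne_zero).mul_right _).mul_right _).two_dvd
  have hd : Nat.card (Lie.Sz F (2 ^ (m + 1))) ∣ Nat.card G := by
    refine (Nat.dvd_iff_prime_pow_dvd_dvd _ _).2 fun p k hp hk => ?_
    haveI := Fact.mk hp
    obtain ⟨K, hK⟩ := Sylow.exists_subgroup_card_pow_prime p hk
    obtain ⟨Y, hY, k1⟩ := (eq_top_or_exists_le_coatom K).resolve_left fun e => by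
      rw [e, card_top'] at hK
      obtain rfl := (Nat.prime_dvd_prime_iff_eq Nat.prime_two hp).1 (Nat.prime_two.dvd_of_dvd_pow (hK ▸ h2S))
      have := ((Nat.coprime_two_right.2 odd2).pow_right k).eq_one_of_dvd (by rw [← hK, hS]; exact dvd_mul_left _ _)
      omega
    obtain ⟨X, -, e⟩ := h2 Y hY
    exact (hK ▸ card_dvd k1).trans (e ▸ card_dvd_card X)
  have h3 : ¬ 3 ∣ Nat.card G := fun k => by
    haveI := Fact.mk Nat.prime_three
    obtain ⟨K, hK⟩ := Sylow.exists_subgroup_card_pow_prime (G := G) 3 (n := 1) k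
    obtain ⟨X, hX, k1⟩ := (eq_top_or_exists_le_coatom K).resolve_left fun e => by
      rw [e, card_top'] at hK
      exact absurd (hK ▸ h2S.trans hd) (by norm_num)
    obtain ⟨Y, -, e⟩ := h1 X hX
    exact M.not_three_dvd hq ((hK ▸ card_dvd k1).trans (e ▸ card_dvd_card Y))
  obtain ⟨M1, m1, e1⟩ := h2 _ M.isCoatom_stab
  rw [M.card_stab, hq] at e1
  obtain ⟨M2, m2, e2⟩ : ∃ X : Subgroup G, IsCoatom X ∧ ♯X ∣ 4 * ((2 ^ (2 * m + 1)) ^ 2 + 1) := by
    obtain ⟨X, k1, k2⟩ := sz_small_max hm hF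
    obtain ⟨e⟩ := sz_equiv hF hF M (H15.Sz.ovModel hm hF) rfl rfl
    obtain ⟨Y, k3, k4⟩ := h2 _ ((OrderIso.isCoatom_iff e.mapSubgroup X).2 k1)
    exact ⟨Y, k3, by rw [← k4]; exact (card_map_of_injective (f := e.toMonoidHom) e.injective).symm ▸ k2⟩
  have s1 : Group.IsSolvable M1 := by
    by_contra k
    have k1 := (dvd_of_not_sol (fun k => h3 (k.trans (card_dvd_card _))) k).1
    rw [← e1] at k1
    have := Nat.dvd_gcd (five_dvd_sq_add_one m) ((Nat.Coprime.pow_right _ (Nat.Coprime.pow_right _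
      (by norm_num))).dvd_of_dvd_mul_left k1)
    rw [cop] at this
    omega
  have s2 : Group.IsSolvable M2 := by
    by_contra k
    have k1 := (dvd_of_not_sol (fun k => h3 (k.trans (card_dvd_card _))) k).2.trans e2
    exact absurd (((Nat.coprime_two_left.2 odd1).pow_left 6).dvd_of_dvd_mul_right k1) (by norm_num)
  have g4 : ∀ n, n ∣ ♯M1 → n ∣ ♯M2 → n ∣ 4 := fun n k1 k2 => by
    refine Nat.Coprime.dvd_of_dvd_mul_right (Nat.Coprime.coprime_dvd_left k1 ?_) (k2.trans e2)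
    rw [← e1]
    exact Nat.Coprime.mul_left (((Nat.coprime_two_left.2 odd1).pow_left _).pow_left _) cop.symm
  have hG : ¬ Group.IsSolvable G := fun k => by
    obtain ⟨p, e, hp, -, k1⟩ := S0048.result M2 m2
    have k2 : Nat.card G ∣ 4 * ((2 ^ (2 * m + 1)) ^ 2 + 1) * p ^ e := by
      rw [← M2.card_mul_index, ← k1]; exact Nat.mul_dvd_mul_right e2 _
    have k3 := hd.trans k2
    rw [hS] at k3
    obtain rfl : 2 = p := by
      have k4 : 2 ^ 2 * 2 ∣ 4 * ((2 ^ (2 * m + 1)) ^ 2 + 1) * p ^ e := by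
        refine Dvd.dvd.trans (Dvd.dvd.mul_right (Dvd.dvd.mul_right ?_ _) _) k3
        rw [← pow_mul]; exact pow_dvd_pow 2 (show 3 ≤ _ by omega)
      rw [mul_assoc] at k4
      exact (Nat.prime_dvd_prime_iff_eq Nat.prime_two hp.nat_prime).1 (Nat.prime_two.dvd_of_dvd_pow
        ((Nat.coprime_two_left.2 odd1).dvd_of_dvd_mul_left (Nat.dvd_of_mul_dvd_mul_left (by norm_num) k4)))
    have := (Nat.Coprime.mul_right (Nat.Coprime.mul_right ((Nat.coprime_two_right.2 odd2).pow_right 2) cop.symm)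
      ((Nat.coprime_two_right.2 odd2).pow_right e)).eq_one_of_dvd ((dvd_mul_left _ _).trans k3)
    omega
  have hA : ∀ X : Subgroup G, IsCoatom X → X.index ≠ 2 := fun X hX k => by
    obtain ⟨Y, hY, e⟩ := h1 X hX
    rw [← X.card_mul_index, k, e, ← Y.card_mul_index] at hd
    have k1 := (Nat.dvd_prime Nat.prime_two).1 (Nat.dvd_of_mul_dvd_mul_left (card_pos Y) hd)
    rcases k1 with k1 | k1
    · exact hY.1 (index_eq_one.1 k1)
    · rcases (Y.normal_of_index_eq_two k1).eq_bot_or_eq_top with k2 | k2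
      · rw [k2, index_bot, hS] at k1
        have := Nat.le_of_dvd two_pos (Dvd.intro_left _ k1)
        omega
      · exact hY.1 k2
  have hsol : ∀ K : Subgroup G, K.Normal → K ≠ ⊤ → Group.IsSolvable K := fun K hK k => by
    by_contra k1
    have key : ∀ X : Subgroup G, IsCoatom X → Group.IsSolvable X → K.index ∣ ♯X := fun X hX hs => by
      have : X ⊔ K = ⊤ := hX.2 _ (left_lt_sup.2 fun k2 => k1 (H15.Sz.solv_of_le k2 hs))
      rw [← relIndex_top_right, ← this, relIndex_sup_right]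
      exact relIndex_dvd_card _ _
    obtain ⟨n, -, hn⟩ := (Nat.dvd_prime_pow Nat.prime_two (m := 2)).1 (g4 _ (key _ m1 s1) (key _ m2 s2))
    haveI := Fact.mk Nat.prime_two
    haveI : Nontrivial (G ⧸ K) := QuotientGroup.nontrivial_iff.2 k
    obtain ⟨C, hC, -⟩ := (eq_top_or_exists_le_coatom (⊥ : Subgroup (G ⧸ K))).resolve_left bot_ne_top
    exact hA _ (isCoatom_comap_of_surjective (QuotientGroup.mk'_surjective K) hC) (by
      rw [index_comap_of_surjective _ (QuotientGroup.mk'_surjective K)]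
      exact H3.index_eq_of_isCoatom (IsPGroup.of_card hn) hC)
  obtain ⟨R, ⟨hR, hR1⟩, hmax⟩ := wellFounded_gt.has_min {R : Subgroup G | R.Normal ∧ R ≠ ⊤} ⟨⊥, inferInstance, fun e =>
    hG (by haveI := subsingleton_iff_bot_eq_top.1 e; haveI := (Subgroup.subsingleton_iff).1 this; infer_instance)⟩
  have sR := hsol R hR hR1
  have hq' : ¬ Group.IsSolvable (G ⧸ R) := fun k =>
    hG (solvable_of_ker_le_range R.subtype (QuotientGroup.mk' R) (by simp))
  have r4 : ♯R ∣ 4 := by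
    have key : ∀ X : Subgroup G, IsCoatom X → Group.IsSolvable X → R ≤ X := fun X hX hs => by
      by_contra k
      have : X ⊔ R = ⊤ := hX.2 _ (left_lt_sup.2 k)
      refine hq' (solvable_of_surjective (f := (QuotientGroup.mk' R).comp X.subtype) fun y => ?_)
      obtain ⟨y, rfl⟩ := QuotientGroup.mk'_surjective R y
      obtain ⟨x, hx, r, hr, rfl⟩ := mem_sup_of_normal_right.1 (this.symm ▸ mem_top y)
      exact ⟨⟨x, hx⟩, by simp [hr]⟩
    exact g4 _ (card_dvd (key _ m1 s1)) (card_dvd (key _ m2 s2))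
  haveI : Nontrivial (G ⧸ R) := QuotientGroup.nontrivial_iff.2 hR1
  haveI : IsSimpleGroup (G ⧸ R) := ⟨fun N hN => by
    by_contra k
    push Not at k
    refine hmax (N.comap (QuotientGroup.mk' R)) ⟨inferInstance, fun e => k.2 ?_⟩ (lt_of_le_of_ne
      (fun x hx => by simp [(QuotientGroup.eq_one_iff x).2 hx]) fun e => k.1 ?_)
    · rw [← map_comap_eq_self_of_surjective (QuotientGroup.mk'_surjective R) N, e]
      exact map_top_of_surjective _ (QuotientGroup.mk'_surjective R)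
    · rw [← map_comap_eq_self_of_surjective (QuotientGroup.mk'_surjective R) N, ← e]
      simp⟩
  obtain ⟨F', _, _, _, m', hF', M', hm', e'⟩ := exists_szModel (H4S.sz_of_three (G := G ⧸ R)
    (fun k => hq' (isSolvable_of_comm fun a b => k.is_comm.comm a b)) fun k => h3 (k.trans (R.card_quotient_dvd_card)))
  have hq1 := Nat.card_eq_fintype_card.trans hF'
  have ev' : Even (2 ^ (2 * m' + 1)) := by rw [pow_succ]; simp
  have odd1' : Odd ((2 ^ (2 * m' + 1)) ^ 2 + 1) := (ev'.pow_of_ne_zero two_ne_zero).add_one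
  have odd2' : Odd (2 ^ (2 * m' + 1) - 1) := Nat.Even.sub_odd Nat.one_le_two_pow ev' odd_one
  obtain ⟨j, hj, hj'⟩ := (Nat.dvd_prime_pow Nat.prime_two (m := 2)).1 r4
  have k1 : 2 ^ ((2 * m + 1) * 2) ∣ 2 ^ (j + (2 * m' + 1) * 2) := by
    rw [R.card_eq_card_quotient_mul_card_subgroup, M'.card_G, hq1, hj', hS] at hd
    have := ((dvd_mul_right _ _).mul_right _).trans hd
    rw [← pow_mul, mul_comm _ (2 ^ j), mul_assoc, ← mul_assoc (2 ^ j), ← pow_mul, ← pow_add] at this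
    exact ((Nat.coprime_two_left.2 (by rw [pow_mul]; exact odd1'.mul odd2')).pow_left _).dvd_of_dvd_mul_right this
  have k2 : 2 ^ (j + (2 * m' + 1) * 2) ∣ 2 ^ ((2 * m + 1) * 2) := by
    obtain ⟨Y, -, e⟩ := h1 _ (isCoatom_comap_of_surjective (QuotientGroup.mk'_surjective R) M'.isCoatom_stab)
    have k3 := card_dvd_card Y
    rw [← e, hS, H1.card_comap_mk', M'.card_stab, hq1, hj', mul_assoc _ (_ + 1), ← pow_mul, ← pow_mul] at k3
    refine ((Nat.coprime_two_left.2 (by rw [pow_mul]; exact odd1.mul odd2)).pow_left _).dvd_of_dvd_mul_right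
      (Dvd.dvd.trans ?_ k3)
    rw [pow_add]
    exact ⟨2 ^ (2 * m' + 1) - 1, by ring⟩
  have k3 := Nat.dvd_antisymm k1 k2
  rw [Nat.pow_right_inj (by norm_num)] at k3
  obtain rfl : m = m' := by omega
  obtain rfl : j = 0 := by omega
  obtain rfl := eq_bot_of_card hj'
  obtain ⟨e⟩ := sz_equiv hF hF' M M' rfl e'
  exact ⟨QuotientGroup.quotientBot.symm.trans e⟩

end Cfsg.Agent.S3728
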