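import Cfsg.Statements.S3730
import Cfsg.Agent.GW.II
import Cfsg.Agent.S3322

set_option autoImplicit false
open Cfsg

namespace Cfsg.Agent.S3730

open Subgroup Cfsg.Agent.GW

/-- Let G be a nontrivial finite group with no nontrivial solvable normal subgroup, such that for every cyclic subgroup X of even order and every nontrivial subgroup Y of X one has N_G(X) = N_G(Y) (every nontrivial subgroup of a cyclic subgroup of even order has the same normalizer as the whole cyclic subgroup). Then G is isomorphic to PSL(2, q) or to PGL(2, q) for some prime power q > 3. -/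
theorem result
    {G : Type*} [Group G] [Finite G] [Nontrivial G]
    (hss : ∀ N : Subgroup G, N.Normal → Group.IsSolvable ↥N → N = ⊥)
    (hii : ∀ X : Subgroup G, IsCyclic ↥X → Even (Nat.card ↥X) → ∀ Y : Subgroup G, Y ≤ X → Y ≠ ⊥ →
      Subgroup.normalizer (X : Set G) = Subgroup.normalizer (Y : Set G)) :
    ∃ (F : Type) (_ : Field F) (_ : Fintype F), 3 < Fintype.card F ∧
      (Nonempty (G ≃* Matrix.ProjectiveSpecialLinearGroup (Fin 2) F) ∨
        Nonempty (G ≃* Matrix.ProjGenLinGroup (Fin 2) F)) := by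
  have top : ∀ N : Subgroup G, N = ⊤ → ¬ Group.IsSolvable N := fun N e h =>
    bot_ne_top ((hss N (e ▸ inferInstance) h).symm.trans e)
  have hns : ¬ Group.IsSolvable G := fun _ => top ⊤ rfl inferInstance
  have hZ := hss (center G) inferInstance (H1.isSolvable_of_isMulCommutative _)
  have Z : ∀ t : G, orderOf t = 2 → ∃ g, g * t * g⁻¹ ∈ centralizer {t} ∧ g * t * g⁻¹ ≠ t :=
    fun t ht => by_contra fun h => H11.ne_one_of_orderOf_two ht (mem_bot.1 (hZ ▸
      H6.mem_center_of_isolated (hss _ inferInstance (solvable_of_odd odd_oddCore)) ht fun g e =>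
        by_contra fun h1 => h ⟨g, H11.mem_cent1.2 e.eq.symm, h1⟩))
  have H : II G := fun x t y g ht t2 hy y1 => by
    have h1 := hii (zpowers x) inferInstance (H11.even_card_of_invol ht t2)
    rw [← nm_iff, ← h1 _ (zpowers_le.2 hy) (zpowers_ne_bot.2 y1), h1 _ (zpowers_le.2 ht)
      (zpowers_ne_bot.2 (H11.ne_one_of_orderOf_two t2)), nm_iff,
      H11.mem_zpowers_invol (H11.mul_self_of_orderOf_two t2), H11.mem_cent1, mul_inv_eq_iff_eq_mul,
      mul_inv_eq_iff_eq_mul]
    exact or_iff_right (by simpa using H11.ne_one_of_orderOf_two t2)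
  obtain ⟨j, hj, r, r2⟩ := H.exists_rich Z (Nat.not_odd_iff_even.1 fun h => hns (FT.solvable_of_odd h))
  obtain ⟨g, h1, h2⟩ := Z j hj
  have hV := H11.isKleinFour_closure ((H11.orderOf_conj g j).trans hj) hj h2 (H11.mem_cent1.1 h1)
  rcases H.cases Z hj r r2 with ⟨A, h3, h4⟩ | h3
  · obtain ⟨N, _, h5, F, _, _, h6, h7⟩ := S3322.result _ A h3 h4 (hV.card_four ▸ card_dvd_of_le
      (closure_pair_le h1 (H11.mem_cent1.2 rfl))) r2 hns
    obtain rfl := hss N inferInstance (by
      obtain ⟨S, hS⟩ := H11.exists_isSylIn 2 N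
      refine (nil2_of_cyclic hS ?_).solvable
      obtain ⟨n, hn⟩ := IsPGroup.iff_card.1 hS.pg
      have h8 := card_dvd_of_le hS.le
      refine isCyclic_of_card_dvd_prime (p := 2) (hn ▸ ?_)
      rcases n with _ | _ | n
      · simp
      · simp
      · have : 4 ∣ Nat.card N := dvd_trans ⟨2 ^ n, by ring⟩ (hn ▸ h8)
        rcases h5 with ⟨m, h⟩ | ⟨_, ⟨m, rfl⟩, h⟩ <;> omega)
    exact ⟨F, _, _, h6, h7.imp (fun ⟨e⟩ => ⟨QuotientGroup.quotientBot.symm.trans e⟩)
      fun ⟨e⟩ => ⟨QuotientGroup.quotientBot.symm.trans e⟩⟩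
  obtain ⟨S, hS⟩ := (H11.klein_isPGroup hV).exists_le_sylow
  have hA := H25.AI.of_sylow h3 (H21.sylowOf_top S) (fun _ => klein_not_cyclic hV
    (isCyclic_of_le hS)) fun h => by
      have := hss _ (normalizer_eq_top_iff.1 h) (H1.isSolvable_of_isPGroup S.isPGroup')
      exact H11.ne_one_of_orderOf_two hj (mem_bot.1 (this ▸ hS right_mem_pair))
  obtain ⟨F, _, _, hF, e⟩ := hA.psl_of_center hZ (H21.sylowOf_top S)
  exact ⟨F, _, _, hF ▸ hV.card_four.ge.trans (card_le_of_le hS), Or.inl e⟩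

end Cfsg.Agent.S3730
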