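import Cfsg.Statements.S3805
import Cfsg.Agent.H19.N9c

set_option autoImplicit false
open Cfsg

namespace Cfsg.Agent.S3805

/-- Let G be a finite group whose Sylow 3-subgroup T is elementary abelian of order 9 and self-centralizing, with N_G(T)/T a Klein four-group, and suppose that the centralizer of every nonidentity element of T lies in N_G(T). Then T is normal in G. -/
theorem result {G : Type*} [Group G] [Finite G]
    (T : Sylow 3 G) (hT : Cfsg.IsElementaryAbelian 3 (T : Subgroup G)) (hcard : Nat.card T = 9)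
    (hC : Subgroup.centralizer ((T : Subgroup G) : Set G) = T)
    [hn : ((T : Subgroup G).subgroupOf (Subgroup.normalizer ((T : Subgroup G) : Set G))).Normal]
    (hK : IsKleinFour (↥(Subgroup.normalizer ((T : Subgroup G) : Set G)) ⧸
      (T : Subgroup G).subgroupOf (Subgroup.normalizer ((T : Subgroup G) : Set G))))
    (hloc : ∀ t ∈ (T : Subgroup G), t ≠ 1 →
      Subgroup.centralizer ({t} : Set G) ≤ Subgroup.normalizer ((T : Subgroup G) : Set G)) :
    Subgroup.normalizer ((T : Subgroup G) : Set G) = ⊤ := by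
  obtain ⟨e⟩ := IsKleinFour.nonempty_mulEquiv (G₂ := DihedralGroup 2) (G₁ := _ ⧸
    (T : Subgroup G).subgroupOf (Subgroup.normalizer ((T : Subgroup G) : Set G)))
  obtain ⟨c, θ, inj, hθ⟩ := H19.N9.exists_sec hcard rfl e (by rw [DihedralGroup.nat_card]; decide)
  have k : ∀ a b c d, a * b = c * d → θ a * θ b = θ c * θ d := fun a b c d h => by
    rw [← map_mul, h, map_mul]
  have k1 : ∀ a, a * a = 1 → θ a * θ a = 1 := fun a h => by rw [← map_mul, h, map_one]
  obtain ⟨f, h⟩ := H19.N9.exists_md4 hcard hT.2 ⟨fun a ha b hb => congrArg Subtype.val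
    (hT.1.1.1 ⟨a, ha⟩ ⟨b, hb⟩), rfl, hloc⟩ hC.le (by rw [c, DihedralGroup.nat_card])
    (hθ (.sr 0)) (hθ (.r 1)) (k1 _ (by decide)) (k1 _ (by decide)) (k _ _ _ _ (by decide))
    ((map_ne_one_iff _ inj).2 (by decide)) ((map_ne_one_iff _ inj).2 (by decide))
    (inj.ne (by decide))
  exact h.se.norm.trans (h.v4 hT.2)

end Cfsg.Agent.S3805
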