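import Cfsg.Statements.S3806
import Cfsg.Agent.L0.MC2

set_option autoImplicit false
open Cfsg

namespace Cfsg.Agent.S3806

open Subgroup Cfsg.Agent.H9 Cfsg.Agent.L0
open scoped commutatorElement


/-- Let p be a prime and S a finite p-group of order pⁿ (n ≥ 2) of maximal nilpotency class n − 1 whose sectional p-rank is exactly k (every section has p-rank at most k, and some section has p-rank k). If p ≥ k + 2 then the order of S is at most p^(2k). -/
theorem result {S : Type*} [Group S] [Finite S] (p : ℕ) [Fact p.Prime] (hS : IsPGroup p S) [Group.IsNilpotent S]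
    (n : ℕ) (hn : 2 ≤ n) (hcard : Nat.card S = p ^ n) (hmax : Group.nilpotencyClass S = n - 1)
    (k : ℕ) (hk : 1 ≤ k) (hsr : Cfsg.SectionalPRankLE p k S ∧ ¬ Cfsg.SectionalPRankLE p (k - 1) S)
    (hpk : k + 2 ≤ p) : Nat.card S ≤ p ^ (2 * k) := by
  rw [hcard]
  refine Nat.pow_le_pow_right (Fact.out : p.Prime).pos (not_lt.1 fun c => ?_)
  have h := MaxClass.of_class hcard hmax (by omega)
  have key : ∀ i j, i ≤ j → ⁅gam S i, gam S i⁆ ≤ gam S j → (∀ x ∈ gam S i, x ^ p ∈ gam S j) →
      Nat.card (gam S i) ≤ p ^ k * Nat.card (gam S j) := fun i j h1 h2 h3 => by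
    have := hsr.1 (gam S i) ((gam S j).subgroupOf _) ⊤ ⟨⟨fun a b => Subtype.ext ?_⟩⟩ fun a _ => ?_
    · rw [← H24.card_mul_relIndex (gam_anti h1), mul_comm]
      exact Nat.mul_le_mul_right _ (card_top.symm.trans_le this)
    · obtain ⟨⟨a⟩, -⟩ := a
      obtain ⟨⟨b⟩, -⟩ := b
      exact commutatorElement_eq_one_iff_mul_comm.1
        ((QuotientGroup.eq_one_iff ⁅a, b⁆).2 (h2 (commutator_mem_commutator a.2 b.2)))
    · obtain ⟨a⟩ := a
      exact (QuotientGroup.eq_one_iff (a ^ p)).2 (h3 a a.2)
  have p1 := (Fact.out : p.Prime).one_lt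
  rcases hk.eq_or_lt with rfl | h2
  · have := key 0 1 (by omega) le_rfl fun x _ => mc_pow_one h x
    rw [h.card_lcs le_rfl (by omega), ← pow_add, gam, Subgroup.lowerCentralSeries_zero, card_top, hcard,
      Nat.pow_le_pow_iff_right p1] at this
    omega
  · have := key (k - 1) (2 * k) (by omega) ((mc_cm_self h (by omega)).trans (gam_anti (by omega))) fun x hx =>
      gam_anti (by omega) (mc_up h (by omega) hx)
    rw [h.card_lcs (by omega) (by omega), h.card_lcs (by omega) (by omega), ← pow_add,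
      Nat.pow_le_pow_iff_right p1] at this
    omega

end Cfsg.Agent.S3806
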