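import Cfsg.Statements.S3807
import Cfsg.Agent.H25.AbIdx

set_option autoImplicit false
open Cfsg

namespace Cfsg.Agent.S3807

open Subgroup Cfsg.Agent.H20 Cfsg.Agent.H21 Cfsg.Agent.H25

/-- Let S be a non-abelian finite p-group with an abelian subgroup A of index p. Then [S : Z(S)] = p·#[S,S], and either [S,S] has order p, S/Z(S) is elementary abelian of order p², and S has exactly p + 1 abelian subgroups of index p; or [S,S] has order at least p² and A is the only abelian subgroup of index p in S. -/
theorem result {S : Type*} [Group S] [Finite S] (p : ℕ) [Fact p.Prime] (hS : IsPGroup p S) (hna : ¬ IsMulCommutative S)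
    (A : Subgroup S) (hA : IsMulCommutative ↥A) (hAi : A.index = p) :
    (Subgroup.center S).index = p * Nat.card (commutator S) ∧
      ((Nat.card (commutator S) = p ∧ Cfsg.IsElementaryAbelian p (⊤ : Subgroup (S ⧸ Subgroup.center S)) ∧
          Nat.card (S ⧸ Subgroup.center S) = p ^ 2 ∧
          Nat.card {B : Subgroup S // IsMulCommutative ↥B ∧ B.index = p} = p + 1) ∨
        (p ^ 2 ≤ Nat.card (commutator S) ∧ ∀ B : Subgroup S, IsMulCommutative ↥B → B.index = p → B = A)) := by
  have hp : p.Prime := Fact.out
  have h1 := index_center_of_ab_index hS hna hA hAi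
  refine ⟨h1, ?_⟩
  obtain ⟨k, hk⟩ := IsPGroup.iff_card.mp (hS.to_subgroup (_root_.commutator S))
  have h2 := sq_dvd_index_center hS hna
  have hk1 : 1 ≤ k := by
    rw [h1, hk, ← pow_succ'] at h2
    have := (Nat.pow_dvd_pow_iff_le_right hp.one_lt).mp h2
    omega
  rcases hk1.eq_or_lt with rfl | hk2
  · left
    rw [pow_one] at hk
    have hq : Nat.card (S ⧸ center S) = p ^ 2 := by rw [← index_eq_card, h1, hk, pow_two]
    have hnc : ¬ IsCyclic (S ⧸ center S) := fun h => hna (comm_of_cyclic_quot_center le_rfl h)
    refine ⟨hk, ⟨comm_top_iff.mpr ⟨⟨IsPGroup.commutative_of_card_eq_prime_sq hq⟩⟩, fun a _ => ?_⟩, hq, ?_⟩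
    · obtain ⟨j, hj, e⟩ := (Nat.dvd_prime_pow hp).mp (hq ▸ orderOf_dvd_natCard a)
      rcases hj.eq_or_lt with rfl | hj
      · exact absurd (isCyclic_of_orderOf_eq_card a (by rw [e, hq])) hnc
      · rw [← orderOf_dvd_iff_pow_eq_one, e]
        calc p ^ j ∣ p ^ 1 := pow_dvd_pow p (by omega)
          _ = p := pow_one p
    · rw [← H9.card_subgroups_of_card_sq hq hnc]
      have hs := QuotientGroup.mk'_surjective (center S)
      have h3 : ∀ H : Subgroup (S ⧸ center S), Nat.card H = p ↔ H.index = p := by
        intro H
        have := H.card_mul_index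
        rw [hq, pow_two] at this
        constructor
        · intro h; rw [h] at this; exact Nat.eq_of_mul_eq_mul_left hp.pos this
        · intro h; rw [h] at this; exact Nat.eq_of_mul_eq_mul_right hp.pos this
      have := card_over_normal (center S) (fun B => B.index = p)
      simp only [index_comap_of_surjective _ hs, ← h3] at this
      rw [← this]
      refine Nat.card_congr (Equiv.subtypeEquivRight fun B => ⟨fun h => ⟨center_le_of_ab_index hna h.1 h.2, h.2⟩,
        fun h => ⟨?_, h.2⟩⟩)
      haveI := normal_of_index_p hS h.2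
      have hN : B ≤ N⟦center S⟧ := le_top.trans (NormalIn.of_normal _).2
      apply comm_of_quo_cyclic (N := center S)
      · exact le_inf h.1 (by rw [← cent_top]; exact cent_anti le_top)
      · apply isCyclic_of_card_prime
        have h4 := relIndex_mul_index h.1
        rw [h1, hk, h.2] at h4
        rw [card_quo hN, Nat.eq_of_mul_eq_mul_right hp.pos h4]
        exact hp
  · right
    refine ⟨hk ▸ Nat.pow_le_pow_right hp.pos hk2, fun B hB hBi => ?_⟩
    by_contra hne
    have h3 := index_dvd_of_le (inf_le_center_of_ab_index hA hAi hB hBi hne)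
    have h4 := Nat.le_of_dvd (Nat.pos_of_ne_zero index_ne_zero_of_finite) h3
    have h5 := index_inf_le (H := A) (K := B)
    rw [h1, hk, hAi, hBi] at *
    have h6 := Nat.le_of_mul_le_mul_left (h4.trans h5) hp.pos
    have : p ^ 1 < p ^ k := Nat.pow_lt_pow_right hp.one_lt hk2
    rw [pow_one] at this
    omega

end Cfsg.Agent.S3807
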