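import Cfsg.Statements.S3808
import Cfsg.Agent.H25.AbIdx

set_option autoImplicit false
open Cfsg

namespace Cfsg.Agent.S3808

open Subgroup Cfsg.Agent.H20 Cfsg.Agent.H21 Cfsg.Agent.H25

/-- Let S be a finite p-group with an extraspecial subgroup Q of index p. Then either Z(S) = Z(Q), or S = Q·Z(S) and Z(S) has order p². -/
theorem result {S : Type*} [Group S] [Finite S] (p : ℕ) [Fact p.Prime] (hS : IsPGroup p S) (Q : Subgroup S) (hQ : Cfsg.IsExtraspecial p ↥Q) (hQi : Q.index = p) :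
    Subgroup.center S = (Subgroup.center ↥Q).map Q.subtype ∨
      (Q ⊔ Subgroup.center S = ⊤ ∧ Nat.card (Subgroup.center S) = p ^ 2) := by
  have hp : p.Prime := Fact.out
  haveI := normal_of_index_p hS hQi
  have hc : ♯(Q ⊓ C⟦Q⟧) = p := by rw [← map_center, card_map_subtype, hQ.2]
  have hn : Q ⊓ C⟦Q⟧ ⊴ ⊤ := (NormalIn.of_normal Q).center
  have h1 := inf_cent_ne_bot_of_pgroup (hS.to_subgroup _) (hS.to_subgroup ⊤) hn.2
    (ne_bot_of_card_prime (hc ▸ hp))
  have h2 := eq_of_le_of_card_prime (hc ▸ hp) inf_le_left h1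
  rw [cent_top] at h2
  have h3 : Q ⊓ center S = Q ⊓ C⟦Q⟧ :=
    le_antisymm (inf_le_inf_left _ (by rw [← cent_top]; exact cent_anti le_top))
      (le_inf inf_le_left (h2 ▸ inf_le_right))
  rcases eq_or_eq_top_of_index_prime hQi (le_sup_left : Q ≤ Q ⊔ center S) with h | h
  · left
    rw [map_center, ← h3, inf_eq_right.mpr (h ▸ le_sup_right)]
  · right
    refine ⟨h, ?_⟩
    rw [← card_inf_mul_relIndex Q (center S), h3, hc, ← relIndex_sup_left, h, relIndex_top_right, hQi, pow_two]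

end Cfsg.Agent.S3808
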