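import Cfsg.Statements.S3809
import Cfsg.Agent.H25.AbIdx
import Cfsg.Agent.S0095

set_option autoImplicit false
open Cfsg

namespace Cfsg.Agent.S3809

open Subgroup Cfsg.Agent.H20 Cfsg.Agent.H21 Cfsg.Agent.H25

/-- Let S be a finite p-group with an extraspecial subgroup of index p. Then S has order p^(2+2n) for some n ≥ 1, derived length at most 3, and exponent dividing p³. -/
theorem result {S : Type*} [Group S] [Finite S] (p : ℕ) [Fact p.Prime] (hS : IsPGroup p S) (Q : Subgroup S) (hQ : Cfsg.IsExtraspecial p ↥Q) (hQi : Q.index = p) :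
    (∃ n : ℕ, 1 ≤ n ∧ Nat.card S = p ^ (2 + 2 * n)) ∧ derivedSeries S 3 = ⊥ ∧ ∀ x : S, x ^ (p ^ 3) = 1 := by
  have hp : p.Prime := Fact.out
  haveI := normal_of_index_p hS hQi
  obtain ⟨n, hn, e⟩ := S0095.result hQ
  refine ⟨⟨n, hn, by rw [← Q.card_mul_index, e, hQi]; ring⟩, ?_, fun x => ?_⟩
  · have h1 : derivedSeries S 1 ≤ Q := by
      rw [derivedSeries_one]
      exact Subgroup.Normal.quotient_commutative_iff_commutator_le.mp
        (haveI := isCyclic_of_prime_card (α := S ⧸ Q) hQi; IsCyclic.isMulCommutative)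
    have h2 : derivedSeries S 2 ≤ Q ⊓ C⟦Q⟧ := by
      rw [← map_center, ← hQ.1.2.2, _root_.commutator_def, map_commutator, map_top_subtype]
      exact commutator_mono h1 h1
    rw [derivedSeries_succ, commg_eq_bot]
    exact le_cent_of_comm (comm_center Q) h2 h2
  · have h1 : x ^ p ∈ Q := hQi ▸ pow_index_mem Q x
    have h2 := H1.pow_mem_frattini hQ.1.1 ⟨_, h1⟩
    rw [hQ.1.2.1] at h2
    have h3 := pow_card_eq_one' (x := (⟨_, h2⟩ : center Q))
    rw [hQ.2] at h3
    have h4 := congrArg (fun z : center Q => ((z : Q) : S)) h3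
    simp only [SubgroupClass.coe_pow, OneMemClass.coe_one] at h4
    rw [← h4, ← pow_mul, ← pow_mul]; congr 1; ring

end Cfsg.Agent.S3809
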