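import Cfsg.Statements.S3810
import Cfsg.Agent.H25.AbIdx

set_option autoImplicit false
open Cfsg

namespace Cfsg.Agent.S3810

open Subgroup Cfsg.Agent.H20 Cfsg.Agent.H21 Cfsg.Agent.H25

/-- Let S be a finite p-group with an extraspecial subgroup of index p. Then S has an abelian subgroup of index p if and only if S has order p⁴. -/
theorem result {S : Type*} [Group S] [Finite S] (p : ℕ) [Fact p.Prime] (hS : IsPGroup p S) (Q : Subgroup S) (hQ : Cfsg.IsExtraspecial p ↥Q) (hQi : Q.index = p) :
    (∃ A : Subgroup S, IsMulCommutative ↥A ∧ A.index = p) ↔ Nat.card S = p ^ 4 := by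
  have hp : p.Prime := Fact.out
  haveI := normal_of_index_p hS hQi
  have hna : ¬ IsMulCommutative Q := by
    intro h
    have h1 : _root_.commutator Q = ⊥ := by
      rw [_root_.commutator_def, commg_eq_bot, ← comm_iff_le_cent, comm_top_iff]; exact h
    have := hQ.2
    rw [← hQ.1.2.2, h1, card_bot] at this
    exact hp.one_lt.ne this
  constructor
  · rintro ⟨A, hA, hi⟩
    haveI := normal_of_index_p hS hi
    have h1 : (A.subgroupOf Q).index = p := by
      have h2 : A.relIndex Q ∣ p := hi ▸ relIndex_dvd_index_of_normal A Q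
      rcases (Nat.dvd_prime hp).mp h2 with h | h
      · exact absurd (comm_of_le (relIndex_eq_one.mp h) hA) hna
      · exact h
    have h2 := index_center_of_ab_index hQ.1.1 hna (A := A.subgroupOf Q) inferInstance h1
    rw [← Q.card_mul_index, ← (center Q).card_mul_index, h2, hQ.1.2.2, hQ.2, hQi]; ring
  · intro h
    obtain ⟨B, hB, e⟩ := exists_comm_card_cube hS h.ge
    refine ⟨B, hB, ?_⟩
    have := B.card_mul_index
    rw [e, h, pow_succ p 3] at this
    exact Nat.eq_of_mul_eq_mul_left (pow_pos hp.pos 3) this

end Cfsg.Agent.S3810
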