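import Cfsg.Statements.S3820
import Cfsg.Agent.H10.Basic

set_option autoImplicit false
open Cfsg

namespace Cfsg.Agent.S3820

/-- Call a subgroup H of G pronormal if H and gHg⁻¹ are conjugate inside ⟨H, gHg⁻¹⟩ for every g ∈ G. Let S ≤ H ≤ G be subgroups of a finite group with S pronormal in G (for instance S a Sylow subgroup). Then H is pronormal in G if and only if H and gHg⁻¹ are conjugate inside ⟨H, gHg⁻¹⟩ for every g ∈ N_G(S). In particular H is pronormal whenever N_G(S) ≤ H. -/
theorem result {G : Type*} [Group G] [Finite G] (S H : Subgroup G) (hSH : S ≤ H)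
    (hS : Cfsg.IsPronormal S) :
    Cfsg.IsPronormal H ↔
      ∀ g ∈ Subgroup.normalizer (S : Set G), ∃ w ∈ H ⊔ H.map (MulAut.conj g).toMonoidHom,
        H.map (MulAut.conj g).toMonoidHom = H.map (MulAut.conj w).toMonoidHom := by
  constructor
  · intro h g _
    exact h g
  · intro h g
    obtain ⟨x, hx, hxg⟩ := hS g
    have hle : S ⊔ S.map (MulAut.conj g).toMonoidHom ≤ H ⊔ H.map (MulAut.conj g).toMonoidHom :=
      sup_le_sup hSH (Subgroup.map_mono hSH)
    have hxH := hle hx
    obtain ⟨w, hw, hwg⟩ := h (x⁻¹ * g) (by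
      rw [H10.mem_normalizer_iff_conj_eq, ← H10.conj_conj, hxg, H10.conj_inv_conj])
    have hw' : w ∈ H ⊔ H.map (MulAut.conj g).toMonoidHom := by
      refine (sup_le le_sup_left ?_ : _ ≤ H ⊔ H.map (MulAut.conj g).toMonoidHom) hw
      rw [← H10.conj_conj]
      exact H10.conj_le_of_mem le_sup_right (Subgroup.le_normalizer (Subgroup.inv_mem _ hxH))
    refine ⟨x * w, Subgroup.mul_mem _ hxH hw', ?_⟩
    rw [← H10.conj_conj, ← hwg, H10.conj_conj, mul_inv_cancel_left]

end Cfsg.Agent.S3820
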