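import Cfsg.Statements.S3824
import Cfsg.Agent.H2.Kegel

set_option autoImplicit false
open Cfsg

namespace Cfsg.Agent.S3824

/-- Every finite group having an abelian subgroup whose index is a power of 2 is solvable. -/
theorem result {G : Type*} [Group G] [Finite G]
    (A : Subgroup G) (hA : IsMulCommutative A) (hidx : ∃ k : ℕ, A.index = 2 ^ k) : Group.IsSolvable G := by
  obtain ⟨k, hk⟩ := hidx
  obtain ⟨P⟩ : Nonempty (Sylow 2 G) := inferInstance
  refine H2.kegel_wielandt (A := A) (B := P) ⟨⟨1, by
    rw [upperCentralSeries_one, eq_top_iff]; exact fun x _ => Subgroup.mem_center_iff.2 fun y => hA.is_comm.comm y x⟩⟩ P.isPGroup'.isNilpotent (H2.fac_of_coprime_index ?_)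
  rw [hk]
  exact Nat.Coprime.pow_left _ ((Nat.Prime.coprime_iff_not_dvd Nat.prime_two).2 P.not_dvd_index)

end Cfsg.Agent.S3824
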