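import Cfsg.Statements.S3835
import Cfsg.Agent.H25.DLen
import Cfsg.Agent.L0.Qd
import Cfsg.Agent.H9.Involves

set_option autoImplicit false
open Cfsg

namespace Cfsg.Agent.S3835

open Subgroup Cfsg.Agent.H25 Cfsg.Agent.L0 Cfsg.Agent.H9
open scoped commutatorElement

/-- Let p be an odd prime and n a natural number. The alternating group of degree n has a subgroup isomorphic to Qd(p) (the natural semidirect product of an elementary abelian group of order p² by SL₂(p)) if and only if n ≥ p²; and if n < p² then Qd(p) is not even involved in it. -/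
theorem result {p : ℕ} [Fact p.Prime] (hp : p ≠ 2) (n : ℕ) : ((∃ H : Subgroup (alternatingGroup (Fin n)), Nonempty (↥H ≃* ↥(Cfsg.qd p))) ↔ p ^ 2 ≤ n) ∧ (n < p ^ 2 → ¬ Cfsg.Involves ↥(Cfsg.qd p) ↥(alternatingGroup (Fin n))) := by
  have hp' : p.Prime := Fact.out
  have h2 : n < p ^ 2 → ¬ Cfsg.Involves ↥(Cfsg.qd p) ↥(alternatingGroup (Fin n)) := by
    intro hn h
    obtain ⟨K, β, hβ⟩ := involves_iff.mp h
    obtain ⟨S⟩ : Nonempty (Sylow p K) := inferInstance
    have h1 : derivedSeries S 1 = ⊥ := derived_eq_bot_of_perm S.isPGroup'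
      ((Subgroup.subtype _).comp (K.subtype.comp (Subgroup.subtype _)))
      (Subtype.val_injective.comp (Subtype.val_injective.comp Subtype.val_injective)) (by simpa using hn)
    refine derived_ne_bot_sylow (S.mapSurjective hβ) isPGroup_qdU _ (subtype_injective _) (k := 1) ?_ ?_
    · intro e
      have h3 : ⁅(⟨heis 1 0 0, by simp [mem_qdU, heis]⟩ : qdU p), ⟨heis 0 1 0, by simp [mem_qdU, heis]⟩⁆ ∈
        derivedSeries (qdU p) 1 := commutator_mem_commutator (mem_top _) (mem_top _)
      rw [e, mem_bot, commutatorElement_eq_one_iff_mul_comm, Subtype.ext_iff] at h3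
      have := congrArg (fun x => qe x 0 2) h3
      simp [qe_mul, heis, qe20, qe21, qe22] at this
    · change derivedSeries ((S : Subgroup K).map β) 1 = ⊥
      rw [← map_derivedSeries_eq (β.subgroupMap_surjective (S : Subgroup K)), h1, Subgroup.map_bot]
  refine ⟨⟨fun ⟨H, ⟨e⟩⟩ => not_lt.mp fun hn => h2 hn (involves_iff.mpr ⟨H, e, e.surjective⟩), fun hn => ?_⟩, h2⟩
  letI : MulAction (qd p) (ZMod p × ZMod p) :=
    { smul := fun x v => (qe x 0 0 * v.1 + qe x 0 1 * v.2 + qe x 0 2, qe x 1 0 * v.1 + qe x 1 1 * v.2 + qe x 1 2)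
      one_smul := fun v => by
        change (_, _) = v
        simp
      mul_smul := fun x y v => by
        change (_, _) = (_ * (_ * _ + _ * _ + _) + _ * (_ * _ + _ * _ + _) + _,
          _ * (_ * _ + _ * _ + _) + _ * (_ * _ + _ * _ + _) + _)
        simp only [qe_mul, qe20, qe21, qe22]
        ext <;> ring }
  have hs : ∀ (x : qd p) (v : ZMod p × ZMod p), x • v = (qe x 0 0 * v.1 + qe x 0 1 * v.2 + qe x 0 2,
    qe x 1 0 * v.1 + qe x 1 1 * v.2 + qe x 1 2) := fun _ _ => rfl
  haveI : FaithfulSMul (qd p) (ZMod p × ZMod p) := ⟨fun {x y} h => by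
    have a1 := h (0, 0)
    have a2 := h (1, 0)
    have a3 := h (0, 1)
    simp only [hs, Prod.mk.injEq, mul_zero, mul_one, zero_add, add_zero] at a1 a2 a3
    rw [a1.1, a1.2, add_left_inj, add_left_inj] at a2 a3
    exact qd_ext a2.1 a3.1 a1.1 a2.2 a3.2 a1.2⟩
  obtain ⟨ι⟩ : Nonempty (ZMod p × ZMod p ↪ Fin n) := Function.Embedding.nonempty_of_card_le (by
    simpa [sq] using hn)
  let f := (Equiv.Perm.viaEmbeddingHom ι).comp (MulAction.toPermHom (qd p) (ZMod p × ZMod p))
  have hf : Function.Injective f := (Equiv.Perm.viaEmbeddingHom_injective ι).comp MulAction.toPerm_injective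
  have odd : ∀ u : ℤˣ, u ^ p = 1 → u = 1 := fun u hu => by
    rcases Int.units_eq_one_or u with rfl | rfl
    · rfl
    · rwa [(hp'.odd_of_ne_two hp).neg_one_pow] at hu
  have hA : ∀ x, f x ∈ alternatingGroup (Fin n) := fun x => by
    obtain ⟨c, A, rfl⟩ := exists_qd_eq x
    rw [map_mul]
    refine mul_mem (odd _ ?_) ?_
    · rw [← map_pow, ← map_pow, ← map_pow, show c ^ p = 1 from by
        rw [← ofAdd_toAdd c, ← ofAdd_nsmul]; ext i; simp]
      simp
    · refine Matrix.SL2.transvection_induction (fun A => f (qdLHom p A) ∈ alternatingGroup (Fin n))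
        (fun i j hij c => odd _ ?_) (fun A B hA hB => by rw [map_mul, map_mul]; exact mul_mem hA hB) A
      have : ∀ m : ℕ, Matrix.SpecialLinearGroup.transvection hij c ^ m =
          Matrix.SpecialLinearGroup.transvection hij ((m : ZMod p) * c) := fun m => by
        induction m with
        | zero => simp
        | succ m ih => rw [pow_succ, ih, ← Matrix.SpecialLinearGroup.transvection_add]; simp [add_mul]
      rw [← map_pow, ← map_pow, ← map_pow, this]
      simp
  exact ⟨(f.codRestrict _ hA).range, ⟨(MonoidHom.ofInjective (f := f.codRestrict _ hA)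
    fun a b h => hf (congrArg Subtype.val h)).symm⟩⟩

end Cfsg.Agent.S3835
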