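import Cfsg.Statements.S3841
import Cfsg.Agent.H25.SEmod2

set_option autoImplicit false
open Cfsg

namespace Cfsg.Agent.S3841

open Subgroup Cfsg.Agent.H20 Cfsg.Agent.H21 Cfsg.Agent.H25

/-- Let G be a finite group with a strongly embedded subgroup (a proper subgroup of even order meeting each of its conjugates by outside elements in a group of odd order), S a Sylow 2-subgroup of G, and V a finite-dimensional vector space over the field with two elements on which G acts linearly and faithfully through ρ. If S has order 2ᵏ then dim V ≥ 2k; and if Z(S) is elementary abelian of order 2ⁿ then for every nonidentity s ∈ S the image of ρ(s) − 1 has dimension at least n. -/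
theorem result {G : Type*} [Group G] [Finite G] (H : Subgroup G) (hH : Cfsg.IsStronglyEmbedded H) (S : Sylow 2 G) {V : Type*} [AddCommGroup V] [Module (ZMod 2) V] [Module.Finite (ZMod 2) V] (ρ : Representation (ZMod 2) G V) (hρ : Function.Injective ρ) : (∀ k : ℕ, Nat.card ↥(S : Subgroup G) = 2 ^ k → 2 * k ≤ Module.finrank (ZMod 2) V) ∧ ∀ n : ℕ, (∀ z ∈ (S : Subgroup G) ⊓ Subgroup.centralizer ((S : Subgroup G) : Set G), z ^ 2 = 1) → Nat.card ↥((S : Subgroup G) ⊓ Subgroup.centralizer ((S : Subgroup G) : Set G)) = 2 ^ n → ∀ s ∈ (S : Subgroup G), s ≠ 1 → n ≤ Module.finrank (ZMod 2) ↥(LinearMap.range (ρ s - 1)) := by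
  constructor
  · intro k hk
    by_cases h2 : BS.Two G
    · refine (big_of_se hH h2 (j := (S : Subgroup G).index) ?_ (by rw [← hk, card_mul_index])).1.le_finrank hρ
      rw [← Nat.not_even_iff_odd, even_iff_two_dvd]
      exact S.not_dvd_index
    · exact le_finrank_of_not_two hH h2 hρ S hk
  · intro n hZ hn s hs h1
    by_cases h2 : BS.Two G
    · obtain ⟨k, j, hj, hk⟩ := Nat.exists_eq_two_pow_mul_odd (Nat.card_pos (α := G)).ne'
      obtain ⟨u, hu, h3⟩ := ((big_of_se hH h2 hj hk).2 _ n (fun x hx => by rw [← pow_two, hZ x hx]) hn).le_cdim hρ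
      obtain ⟨m, hm⟩ := exists_invol_pow S.isPGroup' hs h1
      obtain ⟨v, h4, h5⟩ := H11.SE.exists_invol_not_mem hH
      obtain ⟨t, h6, h7⟩ := H11.SE.exists_invol_mem hH
      obtain ⟨g, hg⟩ := isConj_iff.mp ((S1225.result H hH v h5 h4 t t h7 h6 h7 h6).2 _ _ hm hu)
      rw [← hg, cdim_conj] at h3
      have := cdim_pow_le (ρ := ρ) s m
      change n ≤ cdim ρ s
      omega
    · refine le_trans ?_ (cdim_pos hρ h1)
      by_contra hlt
      obtain ⟨x, hx, hx1⟩ := H11.exists_mem_ne_of_card
        (V := (S : Subgroup G) ⊓ centralizer ((S : Subgroup G) : Set G)) {1} (by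
          rw [hn, Finset.card_singleton]; exact Nat.one_lt_two_pow (by omega))
      classical
      obtain ⟨y, hy, hy1⟩ := H11.exists_mem_ne_of_card
        (V := (S : Subgroup G) ⊓ centralizer ((S : Subgroup G) : Set G)) {1, x} (by
          rw [hn]
          exact lt_of_le_of_lt Finset.card_le_two
            (lt_of_lt_of_le (by norm_num : 2 < 2 ^ 2) (Nat.pow_le_pow_right two_pos (by omega))))
      simp only [Finset.mem_insert, Finset.mem_singleton, not_or] at hx1 hy1
      exact h2 ⟨x, y, hx1, hy1.1, Ne.symm hy1.2, by rw [← pow_two, hZ x hx], by rw [← pow_two, hZ y hy],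
        hy.2 x hx.1⟩

end Cfsg.Agent.S3841
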