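import Cfsg.Statements.S3869
import Cfsg.Agent.H25.MinClosed

set_option autoImplicit false
open Cfsg

namespace Cfsg.Agent.S3869

open Subgroup Cfsg.Agent.H20 Cfsg.Agent.H21 Cfsg.Agent.H25

/-- Let p and q be distinct primes and G a finite non-abelian group with a normal elementary abelian q-subgroup A that is a minimal normal subgroup of G and has index p. Then A has order q^e with e the multiplicative order of q modulo p, and G is minimal non-p-closed: its Sylow p-subgroups are not normal, while in every proper subgroup and in every proper quotient of G the Sylow p-subgroups are normal. -/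
theorem result {G : Type*} [Group G] [Finite G] {p q : ℕ} [Fact p.Prime] (hq : q.Prime) (hpq : q ≠ p)
    (hna : ¬ IsMulCommutative G) (A : Subgroup G) [A.Normal] (hA : Cfsg.IsElementaryAbelian q A) (hidx : A.index = p)
    (hmin : ∀ B : Subgroup G, B.Normal → B ≤ A → B = ⊥ ∨ B = A) :
    Nat.card ↥A = q ^ orderOf (q : ZMod p) ∧ ¬ Cfsg.IsPClosed p G ∧ (∀ H : Subgroup G, H ≠ ⊤ → Cfsg.IsPClosed p ↥H) ∧
      ∀ (N : Subgroup G) [N.Normal], N ≠ ⊥ → Cfsg.IsPClosed p (G ⧸ N) := by
  have hp : p.Prime := Fact.out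
  haveI := Fact.mk hq
  have hAn : A ⊴ ⊤ := NormalIn.of_normal A
  have hAp : ¬ p ∣ ♯A := (isPi_compl_singleton_iff hp).1 (isPi_of_isPGroup (isPGroup_of_elem hA) hpq)
  have hsup : ∀ H : Subgroup G, ¬ H ≤ A → A ⊔ H = ⊤ := fun H h => by
    rcases (Nat.dvd_prime hp).1 (hidx ▸ index_dvd_of_le (le_sup_left : A ≤ A ⊔ H)) with h1 | h1
    · exact index_eq_one.1 h1
    · have := relIndex_mul_index (le_sup_left : A ≤ A ⊔ H)
      rw [h1, hidx, mul_eq_right₀ hp.ne_zero, relIndex_eq_one] at this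
      exact absurd (le_sup_right.trans this) h
  have hrel : ∀ H : Subgroup G, A.relIndex H ∣ p := fun H => hidx ▸ relIndex_dvd_index_of_normal A H
  have hpg : ∀ H : Subgroup G, A ⊓ H = ⊥ → ♯H ∣ p := fun H h => by
    have := card_inf_mul_relIndex A H
    rw [h, card_bot, one_mul] at this
    exact this ▸ hrel H
  have hcent : ∀ H : Subgroup G, A ⊓ H = ⊥ → H ≤ C⟦A⟧ → H ≤ A := fun H h1 h2 => by
    by_contra h3
    refine hna (comm_top_iff.1 (hsup H h3 ▸ comm_sup hA.1 ?_ (cent_symm h2)))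
    rcases (Nat.dvd_prime hp).1 (hpg H h1) with h | h
    · exact absurd (eq_bot_of_card h ▸ bot_le) h3
    · exact comm_of_cyclic (isCyclic_of_card_prime (h ▸ hp))
  have hnorm : ∀ W H : Subgroup G, W ≤ A → ¬ H ≤ A → H ≤ N⟦W⟧ → W = ⊥ ∨ W = A := fun W H h1 h2 h3 =>
    hmin W (normalIn_top_iff.1 ⟨le_top, (hsup H h2).ge.trans (sup_le (le_norm_of_comm hA.1 le_rfl h1) h3)⟩) h1
  obtain ⟨x, hx⟩ := exists_prime_orderOf_dvd_card' p (hidx ▸ A.index_dvd_card)
  have hxA : ¬ zpowers x ≤ A := fun h => hAp (hx ▸ orderOf_dvd_card_of_mem (zpowers_le.1 h))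
  have hx1 : A ⊓ zpowers x = ⊥ := by
    rw [inf_comm]; exact (prime_inf_eq_bot_or_le (by rwa [Nat.card_zpowers, hx])).resolve_right hxA
  have hxc : x ∉ C⟦A⟧ := fun h => hxA (hcent _ hx1 (zpowers_le.2 h))
  refine ⟨card_eq_pow_orderOf_of_irr_prime hp hA (hAn.norm (mem_top x)) (by rw [← hx, pow_orderOf_eq_one]; exact one_mem _)
    hxc fun W hW h => hnorm W _ hW hxA (zpowers_le.2 h), fun h => ?_, fun H hH => ?_, fun N _ hN => ?_⟩
  · obtain ⟨S, h1, h2⟩ := isPClosed_iff_top.1 h
    refine hxc (cent_of_coprime (le_top.trans hAn.norm) (le_top.trans h2.norm) (coprime_of_isPGroup_ne (Hall.isPGroup h1)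
      (isPGroup_of_elem hA) hpq.symm) (zpowers_le.1 (Hall.pgroup_le_of_norm h1 (isPGroup_of_card_prime ?_) le_top
        (Or.inl (le_top.trans h2.norm)))))
    rw [Nat.card_zpowers, hx]
  · by_cases h : H ≤ A
    · exact isPClosed_of_not_dvd fun h1 => hAp (h1.trans (card_dvd h))
    rcases hnorm (A ⊓ H) H inf_le_left h (norm_inf (le_top.trans hAn.norm) (le_norm_self H)) with h1 | h1
    · exact isPClosed_of_isPGroup (IsPGroup.of_card_dvd_pow (n := 1) (by simpa using hpg H h1))
    · exact absurd (by rw [← hsup H h, sup_eq_right.2 (inf_eq_left.1 h1)]) hH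
  · rcases hmin (A ⊓ N) inferInstance inf_le_left with h | h
    · exact absurd (by rw [← h, inf_eq_right.2 (hcent N h (cent_of_disjoint (le_top.trans hAn.norm)
        (le_top.trans (NormalIn.of_normal N).norm) (by rwa [inf_comm])))]) hN
    · exact isPClosed_of_isPGroup (IsPGroup.of_card_dvd_pow (n := 1) (by
        simpa [← hidx, index] using index_dvd_of_le (inf_eq_left.1 h)))

end Cfsg.Agent.S3869
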