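import Cfsg.Statements.S3870
import Cfsg.Agent.H25.TISyl

set_option autoImplicit false
open Cfsg

namespace Cfsg.Agent.S3870

open Subgroup

/-- Let G be a finite simple group whose Sylow p-subgroups are not normal but such that every proper subgroup of G has a normal Sylow p-subgroup. Then any two distinct Sylow p-subgroups of G intersect trivially, and for every Sylow p-subgroup P the normalizer of every non-identity subgroup of P lies in the normalizer of P. -/
theorem result {G : Type*} [Group G] [Finite G] [IsSimpleGroup G] {p : ℕ} [Fact p.Prime]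
    (hnc : ¬ Cfsg.IsPClosed p G) (hsub : ∀ H : Subgroup G, H ≠ ⊤ → Cfsg.IsPClosed p ↥H) :
    (∀ P Q : Sylow p G, P ≠ Q → (P : Subgroup G) ⊓ (Q : Subgroup G) = ⊥) ∧
      ∀ (P : Sylow p G) (R : Subgroup G), R ≤ P → R ≠ ⊥ →
        Subgroup.normalizer (R : Set G) ≤ Subgroup.normalizer ((P : Subgroup G) : Set G) := by
  have hTI : ∀ (n : ℕ) (P Q : Sylow p G), P ≠ Q → ((P : Subgroup G) ⊓ Q).index = n →
      (P : Subgroup G) ⊓ (Q : Subgroup G) = ⊥ := by
    intro n
    induction n using Nat.strong_induction_on with
    | _ n ih =>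
    intro P Q hPQ hn
    by_contra hne
    set D := (P : Subgroup G) ⊓ Q with hD
    have hDp : IsPGroup p D := P.isPGroup'.to_le inf_le_left
    have hN : normalizer (D : Set G) ≠ ⊤ := by
      intro h
      have hDn : D.Normal := normalizer_eq_top_iff.1 h
      rcases hDn.eq_bot_or_eq_top with h1 | h1
      · exact hne h1
      · apply hnc
        intro R
        have : (R : Subgroup G) = ⊤ := (R.is_maximal' (h1 ▸ hDp) le_top).symm
        rw [this]; infer_instance
    obtain ⟨S⟩ : Nonempty (Sylow p (normalizer (D : Set G))) := inferInstance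
    have hSn := hsub _ hN S
    have hS := H1.isSylowIn_map_subtype S
    obtain ⟨T, hT⟩ := hS.isPGroup.exists_le_sylow
    have key : ∀ R : Sylow p G, D < R → R = T := by
      intro R hR
      by_contra hRT
      have h1 := H1.lt_normalizer_inf_of_isNilpotent R.isPGroup'.isNilpotent hR
      have h2 : normalizer (D : Set G) ⊓ R ≤ T :=
        (hS.le_of_le_normalizer' inf_le_left (R.isPGroup'.to_le inf_le_right)
          (inf_le_left.trans (H10.le_normalizer_map_subtype _))).trans hT
      have h3 : D < (R : Subgroup G) ⊓ T := h1.trans_le (le_inf inf_le_right h2)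
      have h4 := ih _ (hn ▸ index_strictAnti h3) R T hRT rfl
      rw [h4] at h3
      exact not_lt_bot h3
    have hP : D < P := lt_of_le_of_ne inf_le_left fun h =>
      hPQ (Sylow.ext (P.is_maximal' Q.isPGroup' (h ▸ inf_le_right)).symm)
    have hQ : D < Q := lt_of_le_of_ne inf_le_right fun h =>
      hPQ (Sylow.ext (Q.is_maximal' P.isPGroup' (h ▸ inf_le_left)))
    exact hPQ ((key P hP).trans (key Q hQ).symm)
  refine ⟨fun P Q h => hTI _ P Q h rfl, fun P R hR hR0 g hg => ?_⟩
  by_contra h
  have h1 := hTI _ P (g • P) (fun h1 => h (Sylow.smul_eq_iff_mem_normalizer.1 h1.symm)) rfl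
  apply hR0
  rw [eq_bot_iff, ← h1]
  refine le_inf hR fun x hx => H26.mem_smul_sylow.2 (hR ?_)
  exact H1.conj_mem_of_le_normalizer' le_rfl hg hx

end Cfsg.Agent.S3870
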