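import Cfsg.Statements.S3872
import Cfsg.Agent.H21.Base5
import Cfsg.Agent.H9.MaxClass
import Cfsg.Agent.H9.Regular
import Cfsg.Agent.H1.Quaternion

set_option autoImplicit false
open Cfsg

namespace Cfsg.Agent.S3872

open Subgroup Cfsg.Agent.H20 Cfsg.Agent.H21

/-- Say that a finite group is p-exponent closed when its elements of order dividing p form a subgroup. Let G be a finite p-group that is not p-exponent closed, but all of whose proper subgroups and proper quotients are. Then G is generated by two elements, has nilpotency class at least p, has exponent p², has cyclic center, and has order at least p^(p+1). -/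
theorem result {G : Type*} [Group G] [Finite G] {p : ℕ} [Fact p.Prime] (hG : IsPGroup p G)
    (hnc : ¬ (∃ H : Subgroup G, (H : Set G) = {g : G | g ^ p = 1})) (hsub : ∀ K : Subgroup G, K ≠ ⊤ → (∃ H : Subgroup ↥K, (H : Set ↥K) = {g : ↥K | g ^ p = 1}))
    (hquo : ∀ (N : Subgroup G) [N.Normal], N ≠ ⊥ → (∃ H : Subgroup (G ⧸ N), (H : Set (G ⧸ N)) = {g : (G ⧸ N) | g ^ p = 1})) :
    (∃ x y : G, Subgroup.closure ({x, y} : Set G) = ⊤) ∧ (⊤ : Subgroup G).lowerCentralSeries (p - 1) ≠ ⊥ ∧
      Monoid.exponent G = p ^ 2 ∧ IsCyclic ↥(Subgroup.center G) ∧ p ^ (p + 1) ≤ Nat.card G := by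
  have hp : p.Prime := Fact.out
  obtain ⟨x, y, hx, hy, hw⟩ : ∃ x y : G, x ^ p = 1 ∧ y ^ p = 1 ∧ (x * y) ^ p ≠ 1 := by
    by_contra h
    push Not at h
    exact hnc ⟨⟨⟨⟨{g | g ^ p = 1}, fun {a b} => h a b⟩, one_pow p⟩,
      fun {a} ha => show a⁻¹ ^ p = 1 by rw [inv_pow, show a ^ p = 1 from ha, inv_one]⟩, rfl⟩
  have mx := H9.left_mem_closure_pair x y
  have my := H9.right_mem_closure_pair x y
  have gen : closure ({x, y} : Set G) = ⊤ := by
    by_contra h
    obtain ⟨H, hH⟩ := hsub _ h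
    exact hw (congrArg Subtype.val (hH.le (H.mul_mem (x := ⟨x, mx⟩) (y := ⟨y, my⟩) (hH.ge (Subtype.ext hx))
      (hH.ge (Subtype.ext hy)))))
  have cl : (⊤ : Subgroup G).lowerCentralSeries (p - 1) ≠ ⊥ := fun h => by
    have r := H9.reg1_of_class_lt hG h
    have := (r.omega 1).mul_mem (r.mem_omega.2 (by rwa [pow_one] : x ^ p ^ 1 = 1)) (r.mem_omega.2 (by rwa [pow_one] : y ^ p ^ 1 = 1))
    exact hw (by simpa using r.mem_omega.1 this)
  have q : ∀ (N : Subgroup G) [N.Normal], N ≠ ⊥ → ∀ g : G, g ^ p ∈ N := fun N _ h g => by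
    obtain ⟨H, hH⟩ := hquo N h
    have : ⊤ ≤ H.comap (QuotientGroup.mk' N) := gen ▸ H9.closure_pair_le
      (hH.ge (show (QuotientGroup.mk' N x) ^ p = 1 by rw [← map_pow, hx, map_one]))
      (hH.ge (show (QuotientGroup.mk' N y) ^ p = 1 by rw [← map_pow, hy, map_one]))
    exact (QuotientGroup.eq_one_iff _).1 (hH.le (this (mem_top g)))
  have lt : ∀ {A B : Subgroup G}, A < B → p * ♯A ≤ ♯B := fun {A B} h => by
    obtain ⟨a, ha⟩ := IsPGroup.iff_card.1 (hG.to_subgroup A)
    obtain ⟨b, hb⟩ := IsPGroup.iff_card.1 (hG.to_subgroup B)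
    have := card_lt h
    rw [ha, hb] at this ⊢
    rw [← pow_succ']
    exact Nat.pow_le_pow_right hp.pos ((Nat.pow_lt_pow_iff_right hp.one_lt).1 this)
  have l2 : ∀ k, (⊤ : Subgroup G).lowerCentralSeries (k + 1) ≠ ⊥ →
      p ^ (k + 2) * ♯((⊤ : Subgroup G).lowerCentralSeries (k + 1)) ≤ Nat.card G := fun k => by
    induction k with
    | zero => exact fun h => H9.sq_mul_card_commutator_le hG fun c => h (lowerCentralSeries_one_eq_bot_iff.2 c)
    | succ k ih =>
      intro h
      have h1 : (⊤ : Subgroup G).lowerCentralSeries (k + 1) ≠ ⊥ := fun e =>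
        h (by rw [Subgroup.lowerCentralSeries_succ, e, commutator_bot_left])
      refine le_trans ?_ (ih h1)
      rw [pow_succ, mul_assoc]
      exact Nat.mul_le_mul_left _ (lt (commg_lt_of_nil (hG.to_subgroup ⊤).isNilpotent le_top
        (normalizer_eq_top _).ge h1))
  have l3 : p ^ (p + 1) ≤ Nat.card G := by
    obtain ⟨k, rfl⟩ := Nat.exists_eq_add_of_le' hp.two_le
    refine le_trans ?_ (l2 k cl)
    rw [pow_succ]
    have := lt (bot_lt_iff_ne_bot.2 cl)
    rw [card_bot, mul_one] at this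
    exact Nat.mul_le_mul_left _ this
  refine ⟨⟨x, y, gen⟩, cl, ?_, ?_, l3⟩
  · obtain ⟨N, _, -, hN⟩ := H3.exists_normal_le_card_eq hG ⊤ 1 (by
      rw [card_top]; exact (Nat.pow_le_pow_right hp.pos (by omega)).trans l3)
    obtain ⟨i, hi, e⟩ := (Nat.dvd_prime_pow hp).1 (Monoid.exponent_dvd_of_forall_pow_eq_one (G := G) (n := p ^ 2)
      fun g => by
        have := q N (fun e => by rw [e, card_bot, pow_one] at hN; exact hp.one_lt.ne hN) g
        have := congrArg Subtype.val (pow_card_eq_one' (x := (⟨_, this⟩ : N)))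
        rwa [hN, pow_one, coe_pow, ← pow_mul, ← sq] at this)
    rw [e]
    by_contra h
    refine hw (Monoid.exponent_dvd_iff_forall_pow_eq_one.1 ?_ _)
    rw [e]
    simpa using pow_dvd_pow p (show i ≤ 1 by by_contra h'; exact h (by rw [show i = 2 by omega]))
  · have z : ∀ a ∈ center G, a ≠ 1 → a ^ p = 1 → zpowers ((x * y) ^ p) = zpowers a := fun a ha a1 h => by
      have : (zpowers a).Normal := ⟨fun n hn g => by
        rwa [mem_center_iff.1 (zpowers_le.2 ha hn) g, mul_inv_cancel_right]⟩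
      have := Fact.mk (show (♯(zpowers a)).Prime by rwa [Nat.card_zpowers, orderOf_eq_prime h a1])
      exact ((zpowers_le.2 (q _ (zpowers_ne_bot.2 a1) _)).lt_or_eq.resolve_left fun l => by
        have := lt l
        have := lt (bot_lt_iff_ne_bot.2 (zpowers_ne_bot.2 hw))
        rw [Nat.card_zpowers a, orderOf_eq_prime h a1, card_bot] at *
        nlinarith [hp.two_le])
    refine H1.isCyclic_subgroup_of_unique_order_p (hG.to_subgroup _) fun a ha b hb h1 h2 => ?_
    by_cases b1 : b = 1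
    · exact b1 ▸ one_mem _
    rw [← z a ha (fun e => hp.one_lt.ne (by rw [← h1, e, orderOf_one])) (h1 ▸ pow_orderOf_eq_one a), z b hb b1 h2]
    exact mem_zpowers b

end Cfsg.Agent.S3872
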