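import Cfsg.Statements.S3873
import Cfsg.Agent.H25.MinClosed

set_option autoImplicit false
open Cfsg

namespace Cfsg.Agent.S3873

open Subgroup Cfsg.Agent.H20 Cfsg.Agent.H21 Cfsg.Agent.H25

theorem closed_iff {G : Type*} [Group G] [Finite G] {p : ℕ} [hp : Fact p.Prime]
    (h : ∀ g : G, IsPiElt {p} g → g ^ p = 1) :
    (∃ H : Subgroup G, (H : Set G) = {g : G | g ^ p = 1}) ↔ IsPClosed p G := by
  have h1 : ∀ g : G, g ^ p = 1 → IsPiElt {p} g := fun g hg =>
    ((PiNat.prime_iff (π := {p}) hp.out).2 rfl).of_dvd (orderOf_dvd_of_pow_eq_one hg)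
  rw [isPClosed_iff_top]
  refine ⟨fun ⟨H, hH⟩ => ?_, fun ⟨S, h2, h3⟩ => ⟨S, Set.ext fun g => ⟨fun hg => h g ((Hall.isPi h2).elt hg),
    fun hg => Hall.mem_of_normalIn h2 h3 (mem_top g) (h1 g hg)⟩⟩⟩
  have h2 : ∀ g, g ∈ H ↔ g ^ p = 1 := fun g => by rw [← SetLike.mem_coe, hH]; rfl
  refine ⟨H, sylowOf_of_max (isPi_of_forall_elt fun g hg => h1 g ((h2 g).1 hg)).isPGroup le_top fun Q hQ h3 _ =>
    le_antisymm (fun g hg => (h2 g).2 (h g ((isPi_singleton_iff.2 hQ).elt hg))) h3,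
    le_top, fun g _ => mem_norm_of_forall fun x hx => (h2 _).2 ?_⟩
  rw [conj_pow, (h2 x).1 hx, mul_one, mul_inv_cancel]

/-- Say that a finite group is p-exponent closed when its elements of order dividing p form a subgroup. Let G be a finite group that is not p-exponent closed, but all of whose proper subgroups and proper quotients are, and suppose G is neither simple nor a p-group. Then there is a prime q ≠ p such that G has order p · q^e, where e is the multiplicative order of q modulo p, and G has a normal elementary abelian subgroup of order q^e that is a minimal normal subgroup of G. -/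
theorem result {G : Type*} [Group G] [Finite G] {p : ℕ} [Fact p.Prime]
    (hnc : ¬ (∃ H : Subgroup G, (H : Set G) = {g : G | g ^ p = 1})) (hsub : ∀ K : Subgroup G, K ≠ ⊤ → (∃ H : Subgroup ↥K, (H : Set ↥K) = {g : ↥K | g ^ p = 1}))
    (hquo : ∀ (N : Subgroup G) [N.Normal], N ≠ ⊥ → (∃ H : Subgroup (G ⧸ N), (H : Set (G ⧸ N)) = {g : (G ⧸ N) | g ^ p = 1}))
    (hns : ¬ IsSimpleGroup G) (hnp : ¬ IsPGroup p G) :
    ∃ q : ℕ, q.Prime ∧ q ≠ p ∧ Nat.card G = p * q ^ orderOf (q : ZMod p) ∧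
      ∃ A : Subgroup G, A.Normal ∧ Nat.card ↥A = q ^ orderOf (q : ZMod p) ∧ Cfsg.IsElementaryAbelian q A ∧
        ∀ B : Subgroup G, B.Normal → B ≤ A → B = ⊥ ∨ B = A := by
  have hp : p.Prime := Fact.out
  obtain ⟨N, hN, h0, h1⟩ : ∃ N : Subgroup G, N.Normal ∧ N ≠ ⊥ ∧ N ≠ ⊤ := by
    by_contra! h
    haveI : Nontrivial G := by
      by_contra h'
      haveI := not_nontrivial_iff_subsingleton.1 h'
      exact hnp fun g => ⟨0, Subsingleton.elim _ _⟩
    exact hns ⟨fun N hN => or_iff_not_imp_left.2 (h N hN)⟩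
  obtain ⟨A, hA, hAN⟩ := exists_minNormal_le (H := ⊤) h0 (normalIn_top_iff.2 hN).norm
  have hAn : A ⊴ ⊤ := ⟨le_top, hA.2.1⟩
  haveI := hAn.normal
  have hE : ∀ K : Subgroup G, K ≠ ⊤ → ∃ E : Subgroup G, ∀ g, g ∈ E ↔ g ∈ K ∧ g ^ p = 1 := fun K hK => by
    obtain ⟨H, hH⟩ := hsub K hK
    refine ⟨H.map K.subtype, fun g => ⟨?_, fun ⟨h2, h3⟩ => ⟨⟨g, h2⟩, hH ▸ Subtype.ext h3, rfl⟩⟩⟩
    rintro ⟨y, hy, rfl⟩
    exact ⟨y.2, congrArg Subtype.val (hH ▸ hy : y ∈ {g : K | g ^ p = 1})⟩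
  have hq : ∀ g : G, g ^ p ∈ A := by
    obtain ⟨L, hL⟩ := hquo A hA.1
    have h2 : ∀ g, g ∈ L.comap (QuotientGroup.mk' A) ↔ g ^ p ∈ A := fun g => by
      rw [mem_comap, ← SetLike.mem_coe, hL, Set.mem_setOf_eq, ← map_pow, QuotientGroup.mk'_apply,
        QuotientGroup.eq_one_iff]
    by_contra h
    obtain ⟨E, h3⟩ := hE (L.comap (QuotientGroup.mk' A)) fun h3 => h fun g => (h2 g).1 (h3 ▸ mem_top g)
    exact hnc ⟨E, Set.ext fun g => (h3 g).trans ⟨fun h => h.2, fun h => ⟨(h2 g).2 (h ▸ one_mem A), h⟩⟩⟩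
  have hAp : IsPi {p}ᶜ A := by
    obtain ⟨E, h2⟩ := hE A (ne_top_of_le_ne_top h1 hAN)
    rcases hA.eq_bot_or_eq (W := E) (fun g hg => ((h2 g).1 hg).1) (fun g _ => mem_norm_of_forall fun x hx =>
      (h2 _).2 ⟨hAn.conj_mem (mem_top g) ((h2 x).1 hx).1, by
        rw [conj_pow, ((h2 x).1 hx).2, mul_one, mul_inv_cancel]⟩) with h | h
    · refine (isPi_compl_singleton_iff hp).2 fun h3 => ?_
      obtain ⟨x, hx, h4⟩ := exists_prime_order_mem hp h3
      have h5 := (h2 x).2 ⟨hx, h4 ▸ pow_orderOf_eq_one x⟩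
      rw [h, Subgroup.mem_bot] at h5
      rw [h5, orderOf_one] at h4
      exact hp.one_lt.ne h4
    · exact absurd (fun g => ⟨2, by rw [pow_two, pow_mul]; exact ((h2 _).1 (h ▸ hq g)).2⟩) hnp
  have hexp : ∀ g : G, IsPiElt {p} g → g ^ p = 1 := fun g hg => piElt_eq_one (piElt_pow hg p) (hAp.elt (hq g))
  refine min_non_pClosed (fun h => hnc ((closed_iff hexp).2 h)) (fun H hH => (closed_iff fun g hg => ?_).1 (hsub H hH))
    (fun M _ hM => (closed_iff fun g hg => ?_).1 (hquo M hM)) hns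
  · exact Subtype.ext (hexp g (piElt_map H.subtype hg))
  · obtain ⟨x, -, h2, rfl⟩ := exists_piElt_lift (H := ⊤) (QuotientGroup.mk' M)
      (by rw [map_top_of_surjective _ (QuotientGroup.mk'_surjective M)]; trivial) hg
    rw [← map_pow, hexp x h2, map_one]

end Cfsg.Agent.S3873
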