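import Cfsg.Statements.S3875
import Cfsg.Agent.H25.MinClosed
import Cfsg.Agent.H19.BTc
import Cfsg.Agent.H12.Torus
import Cfsg.Agent.H21.Hol
import Cfsg.Agent.H25.Powell

set_option autoImplicit false
open Cfsg

namespace Cfsg.Agent.S3875

open Subgroup Cfsg.Agent.H20 Cfsg.Agent.H21 Cfsg.Agent.H25
open scoped MatrixGroups

theorem mem_of_pow {G : Type*} [Group G] [Finite G] {p : ℕ} [hp : Fact p.Prime] {S : Subgroup G}
    (h1 : SylowOf p S ⊤) (h2 : S ⊴ ⊤) {x : G} (hx : x ^ p = 1) : x ∈ S :=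
  Hall.mem_of_normalIn h1 h2 (mem_top x)
    (((PiNat.prime_iff (π := {p}) hp.out).2 rfl).of_dvd (orderOf_dvd_of_pow_eq_one hx))

theorem psl_not_closed (p : ℕ) [hp : Fact p.Prime] (hp2 : p ≠ 2) : ¬ IsPClosed p PSL(2, ZMod p) := fun h => by
  obtain ⟨S, h1, h2⟩ := isPClosed_iff_top.1 h
  let u : SL(2, ZMod p) := ⟨!![1, 1; 0, 1], by simp [Matrix.det_fin_two]⟩
  let l : SL(2, ZMod p) := ⟨!![1, 0; -1, 1], by simp [Matrix.det_fin_two]⟩
  have hu : ∀ n : ℕ, (u ^ n).1 = !![1, (n : ZMod p); 0, 1] := fun n => by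
    induction n with
    | zero => simp [Matrix.one_fin_two]
    | succ n ih => rw [pow_succ, Matrix.SpecialLinearGroup.coe_mul, ih]; simp [u, add_comm]
  have hl : ∀ n : ℕ, (l ^ n).1 = !![1, 0; -(n : ZMod p), 1] := fun n => by
    induction n with
    | zero => simp [Matrix.one_fin_two]
    | succ n ih => rw [pow_succ, Matrix.SpecialLinearGroup.coe_mul, ih]; simp [l, add_comm]
  have h3 : (u : PSL(2, ZMod p)) ∈ S := mem_of_pow h1 h2 (by
    rw [← QuotientGroup.mk_pow, show u ^ p = 1 from Subtype.ext (by simp [hu, Matrix.one_fin_two])]; rfl)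
  have h4 : (l : PSL(2, ZMod p)) ∈ S := mem_of_pow h1 h2 (by
    rw [← QuotientGroup.mk_pow, show l ^ p = 1 from Subtype.ext (by simp [hl, Matrix.one_fin_two])]; rfl)
  have h5 : (u * l * u).1 = !![0, 1; -1, 0] := by
    rw [Matrix.SpecialLinearGroup.coe_mul, Matrix.SpecialLinearGroup.coe_mul]; simp [u, l]
  have h6 : ((u * l * u : SL(2, ZMod p)) : PSL(2, ZMod p)) ^ 2 = 1 := by
    rw [← QuotientGroup.mk_pow, H12.psl2_mk_eq_one_iff]
    refine Or.inr (Subtype.ext ?_)
    rw [pow_two, Matrix.SpecialLinearGroup.coe_mul, h5]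
    ext i j
    fin_cases i <;> fin_cases j <;> simp
  have h7 : ((u * l * u : SL(2, ZMod p)) : PSL(2, ZMod p)) = 1 :=
    piElt_eq_one ((Hall.isPi h1).elt (mul_mem (mul_mem h3 h4) h3))
      (((PiNat.prime_iff (π := {p}ᶜ) Nat.prime_two).2 hp2.symm).of_dvd (orderOf_dvd_of_pow_eq_one h6))
  rcases H12.psl2_mk_eq_one_iff.1 h7 with h | h <;>
    simpa [h5] using congrArg (fun g : SL(2, ZMod p) => g.1 0 1) h

theorem exists_affine (p : ℕ) [hp : Fact p.Prime] (m : ℕ) (hm : IsPrimePow m) (hm1 : m % p = 1) :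
    ∃ (H : Type) (_ : Group H) (_ : Finite H), Nat.card H = p * m ∧ ¬ IsPClosed p H := by
  obtain ⟨q, k, hq, hk, rfl⟩ := (isPrimePow_nat_iff m).1 hm
  haveI := Fact.mk hq
  have hF : Nat.card (GaloisField q k) = q ^ k := GaloisField.card q k hk.ne'
  obtain ⟨ζ, hζ⟩ := exists_prime_orderOf_dvd_card' (G := (GaloisField q k)ˣ) p (by
    rw [Nat.card_units, hF]
    exact (Nat.modEq_iff_dvd' (Nat.one_le_pow _ _ hq.pos)).1 (by
      rw [Nat.ModEq, hm1, Nat.mod_eq_of_lt hp.out.one_lt]))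
  let φ : zpowers ζ →* MulAut (Multiplicative (GaloisField q k)) :=
    (MulAutMultiplicative _).symm.toMonoidHom.comp ((DistribMulAction.toAddAut _ _).comp (zpowers ζ).subtype)
  refine ⟨Hol φ, inferInstance, inferInstance, ?_, fun h => ?_⟩
  · rw [Nat.card_congr SemidirectProduct.equivProd, Nat.card_prod, Nat.card_zpowers, hζ, mul_comm]
    exact congrArg _ hF
  obtain ⟨S, h1, h2⟩ := isPClosed_iff_top.1 h
  have hL : (⊤ : Subgroup _).map (Hol.l φ) ⊴ ⊤ :=
    ⟨le_top, Hol.l_sup_r.ge.trans (sup_le (le_norm_self _) (Hol.le_norm_top _))⟩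
  have h3 := cent_of_coprime (le_top.trans hL.norm) (le_top.trans h2.norm) (coprime_of_isPGroup (Hall.isPGroup h1) (by
    rw [Hol.card_l_top, show Nat.card (Multiplicative (GaloisField q k)) = q ^ k from hF, Nat.Coprime,
      Nat.gcd_comm, Nat.gcd_rec, hm1, Nat.gcd_one_left]))
  have h4 : Hol.r φ ⟨ζ, mem_zpowers ζ⟩ ∈ S := mem_of_pow h1 h2 (by
    rw [← map_pow, show (⟨ζ, mem_zpowers ζ⟩ : zpowers ζ) ^ p = 1 from Subtype.ext (hζ ▸ pow_orderOf_eq_one ζ), map_one])
  have h5 := (Hol.comm_iff φ).1 (mem_cent.1 (h3 h4) _ (mem_map_of_mem _ (mem_top (Multiplicative.ofAdd 1))))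
  have h6 : ζ = 1 := Units.ext (by simpa [φ, Units.smul_def] using congrArg Multiplicative.toAdd h5)
  rw [h6, orderOf_one] at hζ
  exact hp.out.one_lt.ne hζ

/-- Let p be an odd prime and let m be the least prime power congruent to 1 modulo p. Then the least order of a finite group whose Sylow p-subgroups are not normal is the smaller of p · m and p(p² − 1)/2: every finite group whose Sylow p-subgroups are not normal has at least that order, and some group of exactly that order has non-normal Sylow p-subgroups. -/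
theorem result (p : ℕ) [Fact p.Prime] (hp : p ≠ 2) (m : ℕ) (hm : IsPrimePow m) (hm1 : m % p = 1)
    (hleast : ∀ k : ℕ, IsPrimePow k → k % p = 1 → m ≤ k) :
    (∀ (H : Type) [Group H] [Finite H], ¬ Cfsg.IsPClosed p H → min (p * m) (p * (p ^ 2 - 1) / 2) ≤ Nat.card H) ∧
      ∃ (H : Type) (_ : Group H) (_ : Finite H), Nat.card H = min (p * m) (p * (p ^ 2 - 1) / 2) ∧ ¬ Cfsg.IsPClosed p H := by
  have hp' : p.Prime := Fact.out
  have h3 : 3 ≤ p := hp'.two_le.lt_of_ne hp.symm
  have hg : Nat.gcd 2 (p - 1) = 2 := Nat.gcd_eq_left (hp'.even_sub_one hp).two_dvd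
  refine ⟨fun H _ _ h => ?_, ?_⟩
  · induction hn : Nat.card H using Nat.strong_induction_on generalizing H with
    | _ n ih =>
    subst hn
    by_cases h1 : ∃ K : Subgroup H, K ≠ ⊤ ∧ ¬ IsPClosed p K
    · obtain ⟨K, h1, h2⟩ := h1
      exact (ih _ (card_top' (G := H) ▸ card_lt h1.lt_top) K _ inferInstance h2 rfl).trans K.card_le_card_group
    by_cases h2 : ∃ (N : Subgroup H) (_ : N.Normal), N ≠ ⊥ ∧ ¬ IsPClosed p (H ⧸ N)
    · obtain ⟨N, _, h2, h4⟩ := h2
      exact (ih _ (card_quot_lt N h2) _ _ inferInstance h4 rfl).trans (card_quot_lt N h2).le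
    push Not at h1 h2
    by_cases hs : IsSimpleGroup H
    · refine (min_le_right _ _).trans ?_
      have hc : ¬ IsCyclic H := fun hc => h fun P => normalIn_top_iff.1 (NormalIn.of_comm (comm_of_cyclic
        (cyclic_top_iff.2 hc)) le_top)
      rcases le_or_gt (p ^ 3) (Nat.card H) with h4 | h4
      · refine (Nat.div_le_self _ _).trans (le_trans ?_ h4)
        rw [pow_succ' p 2]
        exact Nat.mul_le_mul_left p (Nat.sub_le _ _)
      rcases S0999.result hc p hp' (by_contra fun h5 => h (isPClosed_of_not_dvd h5)) h4 with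
        ⟨F, _, _, hF, -, e⟩ | e
      · rw [← H19.card_of_PSL hF e, hg, Nat.mul_div_cancel_left _ two_pos]
      · rw [(H19.card_of_PSL_even e).1]
        obtain ⟨_, _, _, _, _, _, h5, -⟩ := e
        obtain ⟨k, rfl⟩ : ∃ k, p = k + 5 := ⟨p - 5, by
          have : p ≠ 4 := fun h => by rw [h] at hp'; norm_num at hp'
          omega⟩
        refine Nat.div_le_of_le_mul ?_
        rw [show (k + 5) ^ 2 - 1 = (k + 4) * (k + 6) from (Nat.sub_eq_of_eq_add (by ring)),
          show k + 5 - 1 = k + 4 from rfl, show k + 5 - 2 = k + 3 from rfl]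
        nlinarith [Nat.zero_le (k * k * k), Nat.zero_le (k * k)]
    · obtain ⟨q, hq, hqp, h4, -⟩ := min_non_pClosed h h1 h2 hs
      refine (min_le_left _ _).trans (h4 ▸ Nat.mul_le_mul_left p (hleast _ ?_ ?_))
      · have h5 : (q : ZMod p) ≠ 0 := by
          rw [Ne, ZMod.natCast_eq_zero_iff, Nat.prime_dvd_prime_iff_eq hp' hq]; exact hqp.symm
        exact hq.isPrimePow.pow (Nat.pos_of_dvd_of_pos (ZMod.orderOf_dvd_card_sub_one h5) (by omega)).ne'
      · have := pow_orderOf_eq_one (q : ZMod p)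
        rwa [← Nat.cast_pow, ← Nat.cast_one, ZMod.natCast_eq_natCast_iff', Nat.mod_eq_of_lt hp'.one_lt] at this
  rcases le_total (p * m) (p * (p ^ 2 - 1) / 2) with h | h
  · rw [min_eq_left h]; exact exists_affine p m hm hm1
  · refine ⟨PSL(2, ZMod p), inferInstance, inferInstance, ?_, psl_not_closed p hp⟩
    rw [min_eq_right h, ← H12.card_PSL2 (ZMod.card p), hg, Nat.mul_div_cancel_left _ two_pos]

end Cfsg.Agent.S3875
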