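import Cfsg.Statements.S3889
import Cfsg.Agent.H1.Basic
import Cfsg.Agent.H25.Cyc

set_option autoImplicit false
open Cfsg

namespace Cfsg.Agent.S3889

open Subgroup

/-- A finite abelian group that is the union of a family of proper subgroups any two of which intersect trivially is elementary abelian: its exponent is a prime. -/
theorem result {G : Type*} [CommGroup G] [Finite G] (𝓑 : Set (Subgroup G)) (hprop : ∀ B ∈ 𝓑, B ≠ ⊤)
    (hcov : ∀ g : G, ∃ B ∈ 𝓑, g ∈ B) (hdisj : ∀ B ∈ 𝓑, ∀ C ∈ 𝓑, B ≠ C → B ⊓ C = ⊥) :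
    (Monoid.exponent G).Prime := by
  obtain ⟨B, hB, -⟩ := hcov 1
  have hex : ∀ B ∈ 𝓑, ∃ y, y ∉ B := fun B hB => by
    by_contra h
    push Not at h
    exact hprop B hB (eq_top_iff.2 fun y _ => h y)
  have hdvd : ∀ B ∈ 𝓑, ∀ x ∈ B, x ≠ 1 → ∀ y, y ∉ B → orderOf y ∣ orderOf x ∧ orderOf x ∣ orderOf y := by
    intro B hB x hx hx1 y hy
    obtain ⟨C, hC, hyC⟩ := hcov y
    obtain ⟨D, hD, hxy⟩ := hcov (x * y)
    have hBC : B ≠ C := fun h => hy (h ▸ hyC)
    have hBD : B ≠ D := fun h => hy ((B.mul_mem_cancel_left hx).1 (h ▸ hxy))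
    have hCD : C ≠ D := fun h => hx1 (by
      have h1 : x ∈ C := (C.mul_mem_cancel_right hyC).1 (h ▸ hxy)
      rw [← mem_bot, ← hdisj B hB C hC hBC]; exact ⟨hx, h1⟩)
    constructor
    · rw [orderOf_dvd_iff_pow_eq_one, ← mem_bot, ← hdisj C hC D hD hCD]
      refine ⟨pow_mem hyC _, ?_⟩
      have := pow_mem hxy (orderOf x)
      rwa [mul_pow, pow_orderOf_eq_one, one_mul] at this
    · rw [orderOf_dvd_iff_pow_eq_one, ← mem_bot, ← hdisj B hB D hD hBD]
      refine ⟨pow_mem hx _, ?_⟩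
      have := pow_mem hxy (orderOf y)
      rwa [mul_pow, pow_orderOf_eq_one, mul_one] at this
  obtain ⟨y, hy⟩ := hex B hB
  have hy1 : y ≠ 1 := by rintro rfl; exact hy (one_mem _)
  have : Nontrivial G := ⟨⟨y, 1, hy1⟩⟩
  obtain ⟨p, hp, hd⟩ := Nat.exists_prime_and_dvd (Finite.one_lt_card (α := G)).ne'
  have : Fact p.Prime := ⟨hp⟩
  obtain ⟨x, hx⟩ := exists_prime_orderOf_dvd_card' p hd
  have hx1 : x ≠ 1 := by rintro rfl; rw [orderOf_one] at hx; exact hp.one_lt.ne hx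
  obtain ⟨C, hC, hxC⟩ := hcov x
  obtain ⟨w, hw⟩ := hex C hC
  have hall : ∀ g : G, g ^ p = 1 := by
    intro g
    rw [← orderOf_dvd_iff_pow_eq_one, ← hx]
    by_cases hg1 : g = 1
    · simp [hg1]
    by_cases hg : g ∈ C
    · exact (hdvd C hC g hg hg1 w hw).2.trans (hdvd C hC x hxC hx1 w hw).1
    · exact (hdvd C hC x hxC hx1 g hg).1
  rwa [Nat.dvd_antisymm (Monoid.exponent_dvd_of_forall_pow_eq_one hall)
    (hx ▸ Monoid.order_dvd_exponent x)]

end Cfsg.Agent.S3889
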