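import Cfsg.Statements.S3891
import Cfsg.Agent.H25.Cover2

set_option autoImplicit false
open Cfsg

namespace Cfsg.Agent.S3891

open Subgroup Cfsg.Agent.H20 Cfsg.Agent.H21 Cfsg.Agent.H25

/-- A cover of a group is a finite set of proper subgroups whose union is the whole group; it is minimal when no cover has fewer members, and nilpotent when all its members are nilpotent. Let G be a finite group with trivial center admitting a nilpotent minimal cover, and let P be a non-normal Sylow p-subgroup of G that is cyclic, or abelian but not elementary abelian. Then the centralizer of P is nilpotent and the normalizer of P is the unique maximal subgroup of G containing the centralizer of P. -/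
theorem result {G : Type*} [Group G] [Finite G] (hZ : Subgroup.center G = ⊥) (𝓐 : Finset (Subgroup G))
    (h𝓐 : ((∀ A ∈ 𝓐, A ≠ ⊤) ∧ (∀ g : G, ∃ A ∈ 𝓐, g ∈ A)) ∧ (∀ 𝓑 : Finset (Subgroup G), (∀ A ∈ 𝓑, A ≠ ⊤) ∧ (∀ g : G, ∃ A ∈ 𝓑, g ∈ A) → 𝓐.card ≤ 𝓑.card) ∧ (∀ A ∈ 𝓐, Group.IsNilpotent ↥A)) {p : ℕ} [Fact p.Prime] (P : Sylow p G)
    (hP : IsCyclic ↥(P : Subgroup G) ∨ (IsMulCommutative ↥(P : Subgroup G) ∧ ¬ Cfsg.IsElementaryAbelian p (P : Subgroup G)))
    (hnn : ¬ (P : Subgroup G).Normal) :
    Group.IsNilpotent ↥(Subgroup.centralizer ((P : Subgroup G) : Set G)) ∧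
      IsCoatom (Subgroup.normalizer ((P : Subgroup G) : Set G)) ∧
      ∀ M : Subgroup G, IsCoatom M → Subgroup.centralizer ((P : Subgroup G) : Set G) ≤ M →
        M = Subgroup.normalizer ((P : Subgroup G) : Set G) := by
  have h : NMC 𝓐 := ⟨hZ, h𝓐.1, h𝓐.2.1, h𝓐.2.2⟩
  have hS := sylowOf_top P
  have hab : IsMulCommutative (P : Subgroup G) := by
    rcases hP with h1 | h1
    · exact comm_of_cyclic h1
    · exact h1.1
  have hc : IsCyclic (P : Subgroup G) ∨ ¬ IsElementaryAbelian p (P : Subgroup G) := hP.imp id fun h => h.2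
  have h1 : (P : Subgroup G) ≠ ⊥ := by intro e; apply hnn; rw [e]; infer_instance
  have h0 := h.cent_cj_mem hS hab h1 hc 1
  rw [cj_one] at h0
  refine ⟨h.h3 _ h0, h.isCoatom_norm hS hab hnn hc, fun M hM hle => ?_⟩
  have := h.le_norm hS hab h1 hc hM.1 hle
  rcases this.lt_or_eq with h2 | h2
  · exact absurd (hM.2 _ h2) (h.isCoatom_norm hS hab hnn hc).1
  · exact h2

end Cfsg.Agent.S3891
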