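import Cfsg.Statements.S3892
import Cfsg.Agent.H25.CoverGL

set_option autoImplicit false
open Cfsg

namespace Cfsg.Agent.S3892

open Equiv H25

theorem fix_lemma {G Ω : Type*} [Group G] [Finite G] [Finite Ω] [MulAction G Ω] {p : ℕ}
    [hp : Fact p.Prime] {x : G} (hx : ∃ k, x ^ p ^ k = 1) (hfix : Nat.card {a : Ω // x • a = a} < p)
    {M A : Subgroup G} (hA : Group.IsNilpotent A) (hxA : x ∈ A)
    (h1 : ∀ s ∈ A, (∀ a : Ω, x • a = a → s • a = a) → s ∈ M)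
    (h2 : ∀ t ∈ A, x * t = t * x → t ∈ M) : A ≤ M := by
  intro g hg
  obtain ⟨s, t, hs, ht, hk, hto, hst⟩ := H3.exists_p_part p g
  rw [hst]
  have hsA := Subgroup.zpowers_le.mpr hg hs
  have htA := Subgroup.zpowers_le.mpr hg ht
  refine Subgroup.mul_mem _ (h1 s hsA ?_)
    (h2 t htA (commute_of_nilpotent_of_pow hA hxA htA hx hto))
  obtain ⟨Q, hQ, hle⟩ := H3.exists_sylowIn_le (isPGroup_zpowers_of_pow hx)
    (Subgroup.zpowers_le.mpr hxA)
  have hsQ := mem_sylowIn_of_nilpotent hQ hA hsA hk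
  have e1 := hQ.isPGroup.card_modEq_card_fixedPoints Ω
  have e2 := (isPGroup_zpowers_of_pow hx).card_modEq_card_fixedPoints Ω
  have e3 : MulAction.fixedPoints (Subgroup.zpowers x) Ω = {a | x • a = a} := by
    ext a
    refine ⟨fun h => h ⟨x, Subgroup.mem_zpowers x⟩, fun h y => ?_⟩
    exact Subgroup.zpowers_le.mpr (show x ∈ MulAction.stabilizer G a from h) y.2
  have e4 : MulAction.fixedPoints Q Ω ⊆ {a | x • a = a} := fun a h =>
    h ⟨x, hle (Subgroup.mem_zpowers x)⟩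
  rw [e3] at e2
  have e5 := Set.ncard_le_ncard e4
  have e6 : (MulAction.fixedPoints Q Ω).ncard = {a : Ω | x • a = a}.ncard :=
    Nat.ModEq.eq_of_lt_of_lt (e1.symm.trans e2) (e5.trans_lt hfix) hfix
  have e7 := Set.eq_of_subset_of_ncard_le e4 e6.ge
  intro a ha
  exact (e7.ge ha) ⟨s, hsQ⟩

theorem pow_lemma {G : Type*} [Group G] [Finite G] {p : ℕ}
    [hp : Fact p.Prime] {x : G} (hx : ∃ k, x ^ p ^ k = 1)
    {M A : Subgroup G} (hA : Group.IsNilpotent A) (hxA : x ∈ A)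
    (h1 : ∀ s, (∃ k, s ^ p ^ k = 1) → s ∈ M)
    (h2 : ∀ t ∈ A, x * t = t * x → t ∈ M) : A ≤ M := by
  intro g hg
  obtain ⟨s, t, hs, ht, hk, hto, hst⟩ := H3.exists_p_part p g
  rw [hst]
  have htA := Subgroup.zpowers_le.mpr hg ht
  exact Subgroup.mul_mem _ (h1 s hk) (h2 t htA (commute_of_nilpotent_of_pow hA hxA htA hx hto))

theorem mul_lemma {G : Type*} [Group G] [Finite G] {p : ℕ}
    [hp : Fact p.Prime] {x y : G} (hx : ∃ k, x ^ p ^ k = 1) (hy : ∃ k, y ^ p ^ k = 1)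
    {A : Subgroup G} (hA : Group.IsNilpotent A) (hxA : x ∈ A) (hyA : y ∈ A) :
    ∃ k, orderOf (x⁻¹ * y) = p ^ k := by
  obtain ⟨Q, hQ⟩ := H3.exists_sylowIn p A
  have h := Q.mul_mem (Q.inv_mem (mem_sylowIn_of_nilpotent hQ hA hxA hx))
    (mem_sylowIn_of_nilpotent hQ hA hyA hy)
  obtain ⟨k, hk⟩ := IsPGroup.iff_orderOf.mp hQ.isPGroup ⟨_, h⟩
  exact ⟨k, by rw [← hk, Subgroup.orderOf_mk]⟩

theorem sign_of_pow {n p : ℕ} (hp : Odd p) (s : Perm (Fin n)) (h : ∃ k, s ^ p ^ k = 1) :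
    s ∈ alternatingGroup (Fin n) := by
  obtain ⟨k, hk⟩ := h
  have := congrArg Perm.sign hk
  rw [map_pow, map_one] at this
  rw [Perm.mem_alternatingGroup]
  rcases Int.units_eq_one_or (Perm.sign s) with h | h
  · exact h
  · rw [h, (Odd.pow hp).neg_one_pow] at this
    exact absurd this (by decide)

def fixStab {α : Type*} (x : Perm α) : Subgroup (Perm α) where
  carrier := {g | ∀ a, x (g a) = g a ↔ x a = a}
  mul_mem' := fun {g h} hg hh a => (hg (h a)).trans (hh a)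
  one_mem' := fun _ => Iff.rfl
  inv_mem' := fun {g} hg a => by simpa using (hg (g⁻¹ a)).symm

theorem big (n : ℕ) (hn : 6 ≤ n) {G : Type*} [Group G] (φ : G →* Perm (Fin n))
    (hφ : ∀ σ : Perm (Fin n), Perm.sign σ = 1 → ∃ g, φ g = σ) :
    ¬ ∃ 𝓐 : Finset (Subgroup G), ((∀ A ∈ 𝓐, A ≠ ⊤) ∧ (∀ g : G, ∃ A ∈ 𝓐, g ∈ A)) ∧
      (∀ 𝓑 : Finset (Subgroup G), (∀ A ∈ 𝓑, A ≠ ⊤) ∧ (∀ g : G, ∃ A ∈ 𝓑, g ∈ A) →
        𝓐.card ≤ 𝓑.card) ∧ (∀ A ∈ 𝓐, Group.IsNilpotent A) := by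
  obtain ⟨p, hp, h1, h2⟩ := Nat.exists_prime_lt_and_le_two_mul (n / 2) (by omega)
  have := Fact.mk hp
  have hodd : Odd p := hp.odd_of_ne_two (by omega)
  have hpn : p < n := by obtain ⟨k, hk⟩ := hodd; omega
  obtain ⟨x, hx⟩ := (Perm.exists_with_cycleType_iff (α := Fin n) (m := {p})).mpr
    ⟨by simp; omega, by simpa using hp.two_le⟩
  have ho : orderOf x = p := by rw [← Perm.lcm_cycleType, hx]; simp
  have hxp : ∃ k, x ^ p ^ k = 1 := ⟨1, by rw [pow_one, ← ho, pow_orderOf_eq_one]⟩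
  have hfix : Nat.card {a : Fin n // x • a = a} = n - p := by
    have := Perm.card_fixedPoints x
    rw [hx, Multiset.sum_singleton, Fintype.card_fin, ← Nat.card_eq_fintype_card] at this
    exact this
  have hnil : ∀ A : Subgroup (Perm (Fin n)), Group.IsNilpotent A → x ∈ A → A ≤ fixStab x := by
    intro A hA hxA
    refine fix_lemma (Ω := Fin n) hxp (by omega) hA hxA (fun s _ hs a => ⟨fun h => ?_, fun h => ?_⟩)
      fun t _ ht a => ?_
    · have h3 : s (s a) = s a := hs _ h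
      rw [← s.injective h3]; exact h
    · have h3 : s a = a := hs _ h
      rwa [h3]
    · have h3 : x (t a) = t (x a) := congrArg (fun f : Perm (Fin n) => f a) ht
      rw [h3, t.injective.eq_iff]
  obtain ⟨a, ha⟩ : ∃ a, x a ≠ a := by
    by_contra h
    push Not at h
    have : x = 1 := Equiv.ext h
    rw [this, orderOf_one] at ho
    exact hp.ne_one ho.symm
  obtain ⟨⟨w, hw⟩⟩ : Nonempty {a : Fin n // x • a = a} :=
    (Nat.card_pos_iff.mp (by omega)).1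
  have hw' : x w = w := hw
  have hxa : x (x a) ≠ x a := fun h => ha (x.injective h)
  have hs : swap a (x a) ∈ fixStab x := by
    intro b
    rw [swap_apply_def]
    split_ifs with e1 e2
    · rw [e1]; exact iff_of_false hxa ha
    · rw [e2]; exact iff_of_false ha hxa
    · rfl
  have hyp : ∃ k, (swap a (x a) * x * (swap a (x a))⁻¹) ^ p ^ k = 1 := by
    obtain ⟨k, hk⟩ := hxp
    exact ⟨k, by rw [conj_pow, hk, mul_one, mul_inv_cancel]⟩
  obtain ⟨x', hx'⟩ := hφ x (sign_of_pow hodd x hxp)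
  obtain ⟨y', hy'⟩ := hφ _ (sign_of_pow hodd _ hyp)
  refine no_nilpotent_min_cover x' y' ((fixStab x).comap φ) (fun h => ?_)
    (fun A hA h => Subgroup.map_le_iff_le_comap.mp
      (hnil _ (H1.isNilpotent_map φ hA) ⟨x', h, hx'⟩))
    (fun A hA h => Subgroup.map_le_iff_le_comap.mp
      (le_of_nilpotent_conj hs hnil _ (H1.isNilpotent_map φ hA) ⟨y', h, hy'⟩)) fun A hA h3 h4 => ?_
  · have haw : a ≠ w := fun e => ha (e ▸ hw')
    obtain ⟨z, hz⟩ := hφ (swap a w * swap a (x a)) (by simp [haw, ha.symm])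
    have h3 : φ z ∈ fixStab x := (h ▸ Subgroup.mem_top z : z ∈ (fixStab x).comap φ)
    have h4 := h3 (x a)
    rw [hz] at h4
    simp [hw', ha] at h4
  · obtain ⟨k, hk⟩ := mul_lemma hxp hyp (H1.isNilpotent_map φ hA) ⟨x', h3, hx'⟩ ⟨y', h4, hy'⟩
    have e : x⁻¹ * (swap a (x a) * x * (swap a (x a))⁻¹) = swap a (x⁻¹ a) * swap a (x a) := by
      have := swap_apply_apply x⁻¹ a (x a)
      rw [inv_inv, show x⁻¹ (x a) = a by simp, swap_comm] at this
      rw [this, swap_inv]; group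
    have h5 : x⁻¹ a ≠ x a := by
      intro h
      have h6 : (x ^ 2) a = a := by rw [sq, Perm.mul_apply, ← h]; simp
      have h7 : x ∈ Subgroup.zpowers (x ^ 2) := by
        rw [mem_zpowers_pow_iff, ho]
        exact Nat.coprime_two_left.mpr hodd
      exact ha (Subgroup.zpowers_le.mpr (show x ^ 2 ∈ MulAction.stabilizer (Perm (Fin n)) a from h6)
        h7)
    rw [e, (Perm.isThreeCycle_swap_mul_swap_same (fun h => ha (by
      conv_lhs => rw [h]
      simp)) ha.symm h5).orderOf] at hk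
    have h8 := (hp.eq_one_or_self_of_dvd 3 ((Nat.prime_three.dvd_of_dvd_pow hk.dvd)))
    omega

theorem sym (n p : ℕ) [hp : Fact p.Prime] (hodd : Odd p) (x y : Perm (Fin n)) (hn : 2 ≤ n)
    (hx : x ^ p = 1) (hy : y ^ p = 1) (h1 : ∀ t, x * t = t * x → Perm.sign t = 1)
    (h2 : ∀ t, y * t = t * y → Perm.sign t = 1) (q : ℕ) (hq : q.Prime) (hqp : q ≠ p)
    (h3 : (x⁻¹ * y) ^ q = 1) (h4 : x⁻¹ * y ≠ 1) :
    ¬ ∃ 𝓐 : Finset (Subgroup (Perm (Fin n))), ((∀ A ∈ 𝓐, A ≠ ⊤) ∧ (∀ g, ∃ A ∈ 𝓐, g ∈ A)) ∧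
      (∀ 𝓑 : Finset (Subgroup (Perm (Fin n))), (∀ A ∈ 𝓑, A ≠ ⊤) ∧ (∀ g, ∃ A ∈ 𝓑, g ∈ A) →
        𝓐.card ≤ 𝓑.card) ∧ (∀ A ∈ 𝓐, Group.IsNilpotent A) := by
  have hx' : ∃ k, x ^ p ^ k = 1 := ⟨1, by rwa [pow_one]⟩
  have hy' : ∃ k, y ^ p ^ k = 1 := ⟨1, by rwa [pow_one]⟩
  refine no_nilpotent_min_cover x y (alternatingGroup (Fin n)) (fun h => ?_)
    (fun A hA h => pow_lemma hx' hA h (sign_of_pow hodd) fun t _ => h1 t)
    (fun A hA h => pow_lemma hy' hA h (sign_of_pow hodd) fun t _ => h2 t) fun A hA h5 h6 => ?_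
  · have : Nontrivial (Fin n) := Fin.nontrivial_iff_two_le.mpr hn
    have := alternatingGroup.index_eq_two (α := Fin n)
    rw [h] at this
    simp at this
  · obtain ⟨k, hk⟩ := mul_lemma hx' hy' hA h5 h6
    have := Fact.mk hq
    rw [orderOf_eq_prime h3 h4] at hk
    exact hqp ((Nat.prime_dvd_prime_iff_eq hq hp.out).mp (hq.dvd_of_dvd_pow hk.dvd))

theorem c4a : ∀ t : Perm (Fin 4), (swap 0 1 * swap 0 2) * t = t * (swap 0 1 * swap 0 2) →
    Perm.sign t = 1 := by decide +kernel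
theorem c4b : ∀ t : Perm (Fin 4), (swap 0 1 * swap 0 3) * t = t * (swap 0 1 * swap 0 3) →
    Perm.sign t = 1 := by decide +kernel
theorem c5a : ∀ t : Perm (Fin 5), (swap 0 1 * swap 0 2 * swap 0 3 * swap 0 4) * t =
    t * (swap 0 1 * swap 0 2 * swap 0 3 * swap 0 4) → Perm.sign t = 1 := by decide +kernel
theorem c5b : ∀ t : Perm (Fin 5), (swap 0 1 * swap 0 2 * swap 0 4 * swap 0 3) * t =
    t * (swap 0 1 * swap 0 2 * swap 0 4 * swap 0 3) → Perm.sign t = 1 := by decide +kernel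
theorem c5c : ∀ t : Perm (Fin 5), (swap 0 1 * swap 0 2) * t =
    t * (swap 0 1 * swap 0 2) → Perm.sign t = 1 → t 4 = 4 := by decide +kernel
theorem c5d : ∀ t : Perm (Fin 5), (swap 0 1 * swap 2 3) * t =
    t * (swap 0 1 * swap 2 3) → t 4 = 4 := by decide +kernel

theorem alt5 :
    ¬ ∃ 𝓐 : Finset (Subgroup (alternatingGroup (Fin 5))), ((∀ A ∈ 𝓐, A ≠ ⊤) ∧ (∀ g, ∃ A ∈ 𝓐, g ∈ A)) ∧
      (∀ 𝓑 : Finset (Subgroup (alternatingGroup (Fin 5))),
        (∀ A ∈ 𝓑, A ≠ ⊤) ∧ (∀ g, ∃ A ∈ 𝓑, g ∈ A) →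
        𝓐.card ≤ 𝓑.card) ∧ (∀ A ∈ 𝓐, Group.IsNilpotent A) := by
  let x : alternatingGroup (Fin 5) := ⟨swap 0 1 * swap 2 3, by
    rw [Perm.mem_alternatingGroup]; decide⟩
  let y : alternatingGroup (Fin 5) := ⟨swap 0 1 * swap 0 2, by
    rw [Perm.mem_alternatingGroup]; decide⟩
  let z : alternatingGroup (Fin 5) := ⟨swap 0 1 * swap 0 4, by
    rw [Perm.mem_alternatingGroup]; decide⟩
  have hx : ∃ k, x ^ 2 ^ k = 1 := ⟨1, Subtype.ext (by decide)⟩
  have hy : ∃ k, y ^ 3 ^ k = 1 := ⟨1, Subtype.ext (by decide)⟩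
  have := Fact.mk Nat.prime_three
  refine no_nilpotent_min_cover x y (MulAction.stabilizer _ (4 : Fin 5)) (fun h => ?_)
    (fun A hA h => fix_lemma (Ω := Fin 5) hx ?_ hA h (fun s _ hs => hs 4 (by decide))
      fun t _ ht => c5d t (congrArg Subtype.val ht))
    (fun A hA h => fix_lemma (Ω := Fin 5) hy ?_ hA h (fun s _ hs => hs 4 (by decide))
      fun t _ ht => c5c t (congrArg Subtype.val ht) t.2) fun A hA h1 h2 => ?_
  · have : z ∈ MulAction.stabilizer _ (4 : Fin 5) := h ▸ Subgroup.mem_top z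
    exact absurd (MulAction.mem_stabilizer_iff.mp this) (by decide)
  · rw [Nat.card_eq_fintype_card]; decide
  · rw [Nat.card_eq_fintype_card]; decide
  · have h3 := commute_of_nilpotent_of_pow hA h1 h2 hx (by
      obtain ⟨k, hk⟩ := hy
      exact Nat.Coprime.coprime_dvd_left (orderOf_dvd_of_pow_eq_one hk)
        (Nat.Coprime.pow_left k (by decide)))
    exact absurd (congrArg Subtype.val h3) (by decide)

/-- A cover of a group is a finite set of proper subgroups whose union is the whole group; it is minimal when no cover has fewer members, and nilpotent when all its members are nilpotent. The alternating groups of degree at least 5 and the symmetric groups of degree at least 4 have no nilpotent minimal cover. -/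
theorem result (n : ℕ) :
    (5 ≤ n → ¬ ∃ 𝓐 : Finset (Subgroup ↥(alternatingGroup (Fin n))), ((∀ A ∈ 𝓐, A ≠ ⊤) ∧ (∀ g : ↥(alternatingGroup (Fin n)), ∃ A ∈ 𝓐, g ∈ A)) ∧ (∀ 𝓑 : Finset (Subgroup ↥(alternatingGroup (Fin n))), (∀ A ∈ 𝓑, A ≠ ⊤) ∧ (∀ g : ↥(alternatingGroup (Fin n)), ∃ A ∈ 𝓑, g ∈ A) → 𝓐.card ≤ 𝓑.card) ∧ (∀ A ∈ 𝓐, Group.IsNilpotent ↥A)) ∧
    (4 ≤ n → ¬ ∃ 𝓐 : Finset (Subgroup (Equiv.Perm (Fin n))), ((∀ A ∈ 𝓐, A ≠ ⊤) ∧ (∀ g : (Equiv.Perm (Fin n)), ∃ A ∈ 𝓐, g ∈ A)) ∧ (∀ 𝓑 : Finset (Subgroup (Equiv.Perm (Fin n))), (∀ A ∈ 𝓑, A ≠ ⊤) ∧ (∀ g : (Equiv.Perm (Fin n)), ∃ A ∈ 𝓑, g ∈ A) → 𝓐.card ≤ 𝓑.card) ∧ (∀ A ∈ 𝓐, Group.IsNilpotent ↥A)) := by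
  constructor
  · intro hn
    rcases hn.eq_or_lt with rfl | hn
    · exact alt5
    · exact big n hn (alternatingGroup (Fin n)).subtype fun σ h => ⟨⟨σ, h⟩, rfl⟩
  · intro hn
    rcases hn.eq_or_lt with rfl | hn
    · have := Fact.mk Nat.prime_three
      exact sym 4 3 (by decide) (swap 0 1 * swap 0 2) (swap 0 1 * swap 0 3)⁻¹ (by decide)
        (by decide) (by decide) c4a (fun t ht => c4b t (Commute.inv_left_iff.mp ht)) 2
        Nat.prime_two (by decide) (by decide) (by decide)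
    rcases (show 5 ≤ n from hn).eq_or_lt with rfl | hn
    · have := Fact.mk Nat.prime_five
      exact sym 5 5 (by decide) _ _ (by decide) (by decide) (by decide) c5a c5b 3
        Nat.prime_three (by decide) (by decide) (by decide)
    · exact big n hn (MonoidHom.id _) fun σ _ => ⟨σ, rfl⟩

end Cfsg.Agent.S3892
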