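import Cfsg.Statements.S3893
import Cfsg.Agent.H25.Cover

set_option autoImplicit false
open Cfsg

namespace Cfsg.Agent.S3893

open Matrix Cfsg.Lie

theorem mem_Sp4_iff {F : Type*} [Field F] {g : GL (Fin 4) F} :
    g ∈ Sp4 F ↔ ∀ u v : Fin 4 → F, altForm4 ((g : Matrix (Fin 4) (Fin 4) F) *ᵥ u)
      ((g : Matrix (Fin 4) (Fin 4) F) *ᵥ v) = altForm4 u v := Iff.rfl

theorem altForm4_def {F : Type*} [Field F] (u v : Fin 4 → F) :
    altForm4 u v = u 0 * v 3 + u 1 * v 2 + u 2 * v 1 + u 3 * v 0 := rfl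

theorem star4_eq {F : Type*} [Field F] (g : Matrix (Fin 4) (Fin 4) F) :
    star4 g = !![g 0 0 * g 1 1 - g 1 0 * g 0 1, g 0 0 * g 1 2 - g 1 0 * g 0 2,
        g 0 1 * g 1 3 - g 1 1 * g 0 3, g 0 2 * g 1 3 - g 1 2 * g 0 3;
      g 0 0 * g 2 1 - g 2 0 * g 0 1, g 0 0 * g 2 2 - g 2 0 * g 0 2,
        g 0 1 * g 2 3 - g 2 1 * g 0 3, g 0 2 * g 2 3 - g 2 2 * g 0 3;
      g 1 0 * g 3 1 - g 3 0 * g 1 1, g 1 0 * g 3 2 - g 3 0 * g 1 2,
        g 1 1 * g 3 3 - g 3 1 * g 1 3, g 1 2 * g 3 3 - g 3 2 * g 1 3;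
      g 2 0 * g 3 1 - g 3 0 * g 2 1, g 2 0 * g 3 2 - g 3 0 * g 2 2,
        g 2 1 * g 3 3 - g 3 1 * g 2 3, g 2 2 * g 3 3 - g 3 2 * g 2 3] := by
  ext i j
  fin_cases i <;> fin_cases j <;> rfl

theorem mem_Sz_of {F : Type*} [Field F] {e : ℕ} {g : GL (Fin 4) F} (h1 : g ∈ Sp4 F)
    (h2 : star4 (g : Matrix (Fin 4) (Fin 4) F) =
      (g : Matrix (Fin 4) (Fin 4) F).map (fun x => x ^ e)) : g ∈ Sz F e :=
  Subgroup.subset_closure ⟨h1, h2⟩

theorem Sz_le {F : Type*} [Field F] {e : ℕ} : Sz F e ≤ Sp4 F :=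
  (Subgroup.closure_le _).mpr fun _ h => h.1

theorem perm_aux : ∀ σ : Fin 4 → Fin 4, (∀ j, ∃ i, σ i = j ∧ σ i.rev = j.rev) →
    ∀ i, σ (σ (σ (σ i))) = i := by decide +kernel

def Mon {F : Type*} [Field F] (σ : Fin 4 → Fin 4) (g : Matrix (Fin 4) (Fin 4) F) : Prop :=
  ∀ i j, g i j ≠ 0 → σ i = j

theorem Mon.mul {F : Type*} [Field F] {σ τ : Fin 4 → Fin 4} {g h : Matrix (Fin 4) (Fin 4) F}
    (hg : Mon σ g) (hh : Mon τ h) : Mon (fun i => τ (σ i)) (g * h) := by
  intro i j hij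
  rw [Matrix.mul_apply] at hij
  obtain ⟨k, -, hk⟩ := Finset.exists_ne_zero_of_sum_ne_zero hij
  change τ (σ i) = j
  rw [hg i k (left_ne_zero_of_mul hk), hh k j (right_ne_zero_of_mul hk)]

theorem comm_diag_of_mon {F : Type*} [Field F] {g : Matrix (Fin 4) (Fin 4) F}
    (hg : Mon (fun i => i) g) (d : Fin 4 → F) : g * diagonal d = diagonal d * g := by
  ext i j
  rw [Matrix.mul_diagonal, Matrix.diagonal_mul]
  by_cases h : g i j = 0
  · simp [h]
  · rw [← hg i j h, mul_comm]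

theorem mon_of_comm_diag {F : Type*} [Field F] {g : Matrix (Fin 4) (Fin 4) F} {d : Fin 4 → F}
    (hd : Function.Injective d) (h : g * diagonal d = diagonal d * g) : Mon (fun i => i) g := by
  intro i j hij
  have := congrFun (congrFun h i) j
  rw [Matrix.mul_diagonal, Matrix.diagonal_mul, mul_comm] at this
  exact (hd (mul_right_cancel₀ hij this)).symm

theorem pow_four_mon {F : Type*} [Field F] {g : GL (Fin 4) F} (hg : g ∈ Sp4 F) {d : Fin 4 → F}
    (hd : Function.Injective d) {y : Matrix (Fin 4) (Fin 4) F} (hy : Mon (fun i => i) y)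
    (h : (g : Matrix (Fin 4) (Fin 4) F) * diagonal d = y * g) :
    Mon (fun i => i) ((g ^ 4 : GL (Fin 4) F) : Matrix (Fin 4) (Fin 4) F) := by
  classical
  set X := (g : Matrix (Fin 4) (Fin 4) F) with hX
  have h1 : ∀ i j, X i j ≠ 0 → d j = y i i := by
    intro i j hij
    have := congrFun (congrFun h i) j
    rw [Matrix.mul_diagonal, Matrix.mul_apply, Finset.sum_eq_single i (fun k _ hk => by
      by_contra hne
      exact hk (hy i k (left_ne_zero_of_mul hne)).symm) (by simp), mul_comm] at this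
    exact mul_right_cancel₀ hij this
  let σ : Fin 4 → Fin 4 := fun i => if h : ∃ j, X i j ≠ 0 then h.choose else i
  have hσ : Mon σ X := by
    intro i j hij
    have hex : ∃ j, X i j ≠ 0 := ⟨j, hij⟩
    simp only [σ, dif_pos hex]
    exact hd ((h1 i _ hex.choose_spec).trans (h1 i j hij).symm)
  have h2 : ∀ j, ∃ i, σ i = j ∧ σ i.rev = j.rev := by
    intro j
    have h3 := mem_Sp4_iff.mp hg (Pi.single j 1) (Pi.single j.rev 1)
    have h4 : altForm4 (Pi.single j 1 : Fin 4 → F) (Pi.single j.rev 1) = 1 := by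
      rw [altForm4_def]
      fin_cases j <;> simp [Fin.rev]
    rw [h4, altForm4_def, ← hX] at h3
    simp only [Matrix.mulVec_single_one, Matrix.col_apply] at h3
    by_contra hcon
    push Not at hcon
    have h5 : ∀ i : Fin 4, X i j * X i.rev j.rev = 0 := by
      intro i
      by_contra hne
      exact hcon i (hσ _ _ (left_ne_zero_of_mul hne)) (hσ _ _ (right_ne_zero_of_mul hne))
    have e0 : X 0 j * X 3 j.rev = 0 := h5 0
    have e1 : X 1 j * X 2 j.rev = 0 := h5 1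
    have e2 : X 2 j * X 1 j.rev = 0 := h5 2
    have e3 : X 3 j * X 0 j.rev = 0 := h5 3
    rw [e0, e1, e2, e3] at h3
    simp at h3
  have h6 := ((hσ.mul hσ).mul hσ).mul hσ
  have h7 : ((g ^ 4 : GL (Fin 4) F) : Matrix (Fin 4) (Fin 4) F) = X * X * X * X := by
    rw [Units.val_pow_eq_pow_val, ← hX]; simp only [pow_succ, pow_zero, one_mul]
  rw [h7]
  intro i j hij
  rw [← h6 i j hij]
  exact (perm_aux σ h2 i).symm

theorem inj4 {F : Type*} {a b c d : F} (h1 : a ≠ b) (h2 : a ≠ c) (h3 : a ≠ d) (h4 : b ≠ c)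
    (h5 : b ≠ d) (h6 : c ≠ d) : Function.Injective (![a, b, c, d] : Fin 4 → F) := by
  intro i j hij
  fin_cases i <;> fin_cases j <;> simp at hij ⊢ <;> first | contradiction | exact absurd hij.symm ‹_›

def XX {F : Type*} [Field F] (a b : F) (ha0 : a ≠ 0) (hb0 : b ≠ 0) : GL (Fin 4) F :=
  ⟨diagonal ![a, b, b⁻¹, a⁻¹], diagonal ![a⁻¹, b⁻¹, b, a], by
    rw [diagonal_mul_diagonal, ← diagonal_one]; congr 1; ext i; fin_cases i <;> simp [ha0, hb0], by
    rw [diagonal_mul_diagonal, ← diagonal_one]; congr 1; ext i; fin_cases i <;> simp [ha0, hb0]⟩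

theorem XX_mem {F : Type*} [Field F] {a b : F} (ha0 : a ≠ 0) (hb0 : b ≠ 0) {e : ℕ} (he0 : e ≠ 0)
    (hab : a ^ e = a * b) (hbe : b ^ e = a * b⁻¹) : XX a b ha0 hb0 ∈ Sz F e := by
  refine mem_Sz_of (mem_Sp4_iff.mpr fun u v => ?_) ?_
  · simp only [altForm4_def, XX, mulVec_diagonal]
    simp
    field_simp
  · rw [star4_eq]
    ext i j
    fin_cases i <;> fin_cases j <;> simp [XX, he0, hab, hbe, mul_comm]

def UU (F : Type*) [Field F] [CharP F 2] : GL (Fin 4) F :=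
  ⟨!![1, 0, 0, 0; 0, 1, 0, 0; 1, 0, 1, 0; 1, 1, 0, 1],
    !![1, 0, 0, 0; 0, 1, 0, 0; 1, 0, 1, 0; 1, 1, 0, 1], by
      ext i j; fin_cases i <;> fin_cases j <;>
        simp [Matrix.mul_apply, Fin.sum_univ_four, CharTwo.add_self_eq_zero], by
      ext i j; fin_cases i <;> fin_cases j <;>
        simp [Matrix.mul_apply, Fin.sum_univ_four, CharTwo.add_self_eq_zero]⟩

theorem UU_mem {F : Type*} [Field F] [CharP F 2] {e : ℕ} (he0 : e ≠ 0) : UU F ∈ Sz F e := by
  have h2 : (2 : F) = 0 := CharTwo.two_eq_zero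
  refine mem_Sz_of (mem_Sp4_iff.mpr fun u v => ?_) ?_
  · simp only [altForm4_def, UU, mulVec, dotProduct, Fin.sum_univ_four]
    simp
    linear_combination (u 0 * v 0 + u 0 * v 1 + u 1 * v 0) * h2
  · rw [star4_eq]
    ext i j
    fin_cases i <;> fin_cases j <;> simp [UU, he0, CharTwo.neg_eq]

def WW (F : Type*) [Field F] : GL (Fin 4) F :=
  ⟨!![0, 0, 0, 1; 0, 0, 1, 0; 0, 1, 0, 0; 1, 0, 0, 0],
    !![0, 0, 0, 1; 0, 0, 1, 0; 0, 1, 0, 0; 1, 0, 0, 0], by
      ext i j; fin_cases i <;> fin_cases j <;> simp [Matrix.mul_apply, Fin.sum_univ_four], by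
      ext i j; fin_cases i <;> fin_cases j <;> simp [Matrix.mul_apply, Fin.sum_univ_four]⟩

theorem WW_mem {F : Type*} [Field F] [CharP F 2] {e : ℕ} (he0 : e ≠ 0) : WW F ∈ Sz F e := by
  refine mem_Sz_of (mem_Sp4_iff.mpr fun u v => ?_) ?_
  · simp only [altForm4_def, WW, mulVec, dotProduct, Fin.sum_univ_four]
    simp
    ring
  · rw [star4_eq]
    ext i j
    fin_cases i <;> fin_cases j <;> simp [WW, he0, CharTwo.neg_eq]

/-- A cover of a group is a finite set of proper subgroups whose union is the whole group; it is minimal when no cover has fewer members, and nilpotent when all its members are nilpotent. The Suzuki groups Sz(q), q = 2^(2m+1) with m ≥ 1, have no nilpotent minimal cover. -/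
theorem result {F : Type*} [Field F] [Fintype F] (m : ℕ) (hm : 1 ≤ m) (hF : Fintype.card F = 2 ^ (2 * m + 1)) :
    ¬ ∃ 𝓐 : Finset (Subgroup ↥(Cfsg.Lie.Sz F (2 ^ (m + 1)))), ((∀ A ∈ 𝓐, A ≠ ⊤) ∧ (∀ g : ↥(Cfsg.Lie.Sz F (2 ^ (m + 1))), ∃ A ∈ 𝓐, g ∈ A)) ∧ (∀ 𝓑 : Finset (Subgroup ↥(Cfsg.Lie.Sz F (2 ^ (m + 1)))), (∀ A ∈ 𝓑, A ≠ ⊤) ∧ (∀ g : ↥(Cfsg.Lie.Sz F (2 ^ (m + 1))), ∃ A ∈ 𝓑, g ∈ A) → 𝓐.card ≤ 𝓑.card) ∧ (∀ A ∈ 𝓐, Group.IsNilpotent ↥A) := by
  classical
  have hch : CharP F 2 := by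
    obtain ⟨p, hp, k, hpp, hk⟩ := FiniteField.card' F
    have : p = 2 := by
      have h1 : p ∣ 2 ^ (2 * m + 1) := by
        rw [← hF, hk]; exact dvd_pow_self p k.ne_zero
      exact (Nat.prime_dvd_prime_iff_eq hpp Nat.prime_two).mp (hpp.dvd_of_dvd_pow h1)
    exact this ▸ hp
  have h2 : (2 : F) = 0 := CharTwo.two_eq_zero
  set e := 2 ^ (m + 1) with he
  have he0 : e ≠ 0 := by positivity
  have hθ : ∀ a : F, (a ^ e) ^ e = a ^ 2 := by
    intro a
    have := FiniteField.pow_card a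
    rw [hF] at this
    rw [← pow_mul, he, ← pow_add, show m + 1 + (m + 1) = (2 * m + 1) + 1 by ring, pow_succ, pow_mul,
      this]
  obtain ⟨a, ha0, ha1⟩ : ∃ a : F, a ≠ 0 ∧ a ≠ 1 := by
    by_contra hcon
    push Not at hcon
    have h1 : (Finset.univ : Finset F) ⊆ {0, 1} := fun x _ => by
      by_cases h : x = 0
      · simp [h]
      · simp [hcon x h]
    have h3 := (Finset.card_le_card h1).trans Finset.card_le_two
    rw [Finset.card_univ, hF] at h3
    have : 2 ^ 3 ≤ 2 ^ (2 * m + 1) := Nat.pow_le_pow_right two_pos (by omega)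
    omega
  have hsq : ∀ c : F, c ^ 2 = 1 → c = 1 := fun c hc => by
    rcases mul_self_eq_one_iff.mp (sq c ▸ hc) with h | h
    · exact h
    · rw [h, CharTwo.neg_eq]
  set b := a ^ e / a with hb
  have hb0 : b ≠ 0 := div_ne_zero (pow_ne_zero _ ha0) ha0
  have hab : a ^ e = a * b := by rw [hb]; field_simp
  have hbe : b ^ e = a * b⁻¹ := by
    rw [hb, div_pow, hθ, hab]; field_simp
  have n1 : a ≠ b := by
    intro h
    have h3 : a ^ e = a * a⁻¹ := by conv_lhs => rw [h, hbe, ← h]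
    rw [hab, ← h, mul_inv_cancel₀ ha0, ← sq] at h3
    exact ha1 (hsq a h3)
  have n2 : a ≠ b⁻¹ := by
    intro h
    have h3 : a ^ e = 1 := by rw [hab, h, inv_mul_cancel₀ hb0]
    have h4 := hθ a
    rw [h3, one_pow] at h4
    exact ha1 (hsq a h4.symm)
  have n3 : a ≠ a⁻¹ := by
    intro h
    refine ha1 (hsq a ?_)
    rw [sq]; nth_rewrite 2 [h]; exact mul_inv_cancel₀ ha0
  have n4 : b ≠ b⁻¹ := by
    intro h
    have h3 : b = 1 := by
      refine hsq b ?_
      rw [sq]; nth_rewrite 2 [h]; exact mul_inv_cancel₀ hb0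
    rw [h3, one_pow, inv_one, mul_one] at hbe
    exact ha1 hbe.symm
  let d : Fin 4 → F := ![a, b, b⁻¹, a⁻¹]
  have hd : Function.Injective d := by
    have n5 : b ≠ a⁻¹ := fun h => n2 (by rw [h, inv_inv])
    have n6 : b⁻¹ ≠ a⁻¹ := fun h => n1 (inv_injective h).symm
    exact inj4 n1 n2 n3 n4 n5 n6
  let X : GL (Fin 4) F := XX a b ha0 hb0
  have hX : X ∈ Sz F e := XX_mem ha0 hb0 he0 hab hbe
  let U : GL (Fin 4) F := UU F
  have hU : U ∈ Sz F e := UU_mem he0
  let W : GL (Fin 4) F := WW F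
  have hW : W ∈ Sz F e := WW_mem he0
  let v : Fin 4 → F := Pi.single 3 1
  have hv : v ≠ 0 := fun h => by simpa [v] using congrFun h 3
  let x : Sz F e := ⟨X, hX⟩
  let u : Sz F e := ⟨U, hU⟩
  let M : Subgroup (Sz F e) := (H25.lineStab v).subgroupOf _
  have hM : M ≠ ⊤ := by
    intro h
    have h3 : (⟨W, hW⟩ : Sz F e) ∈ M := h ▸ Subgroup.mem_top _
    obtain ⟨c, -, hc⟩ := H25.mem_lineStab.mp (Subgroup.mem_subgroupOf.mp h3)
    have := congrFun hc 0
    simp [W, WW, v] at this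
  have huM : u ∈ M := Subgroup.mem_subgroupOf.mpr (H25.mem_lineStab_of_smul hv (c := 1) (by
    ext i; fin_cases i <;> simp [u, U, UU, v]))
  have hcent : ∀ g : Sz F e, g ∈ Subgroup.centralizer ({x} : Set (Sz F e)) ↔
      Mon (fun i => i) ((g : GL (Fin 4) F) : Matrix (Fin 4) (Fin 4) F) := by
    intro g
    rw [Subgroup.mem_centralizer_singleton_iff]
    constructor
    · intro h
      exact mon_of_comm_diag hd (congrArg (fun z : Sz F e =>
        ((z : GL (Fin 4) F) : Matrix (Fin 4) (Fin 4) F)) h)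
    · intro h
      exact Subtype.ext (Units.ext (comm_diag_of_mon h d))
  have hCM : Subgroup.centralizer ({x} : Set (Sz F e)) ≤ M := by
    intro g hg
    rw [hcent] at hg
    refine Subgroup.mem_subgroupOf.mpr (H25.mem_lineStab_of_smul hv
      (c := ((g : GL (Fin 4) F) : Matrix (Fin 4) (Fin 4) F) 3 3) ?_)
    ext i
    by_cases hi : i = 3
    · simp [v, hi]
    · have : ((g : GL (Fin 4) F) : Matrix (Fin 4) (Fin 4) F) i 3 = 0 := by
        by_contra hne; exact hi (hg i 3 hne)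
      simp [v, hi, this]
  have hxo : (orderOf x).Coprime 2 := by
    have h3 : x ^ (Fintype.card F - 1) = 1 := by
      refine Subtype.ext (Units.ext ?_)
      simp only [x, X, XX, SubgroupClass.coe_pow, Units.val_pow_eq_pow_val, diagonal_pow]
      rw [OneMemClass.coe_one, Units.val_one, ← diagonal_one]
      congr 1
      ext i
      refine FiniteField.pow_card_sub_one_eq_one _ ?_
      fin_cases i <;> simp [ha0, hb0]
    refine Nat.Coprime.coprime_dvd_left (orderOf_dvd_of_pow_eq_one h3) ?_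
    rw [Nat.coprime_two_right, hF]
    exact Nat.Even.sub_odd Nat.one_le_two_pow (by simp [Nat.even_pow]) odd_one
  have hnil : ∀ A : Subgroup (Sz F e), Group.IsNilpotent A → x ∈ A →
      A ≤ Subgroup.centralizer ({x} : Set (Sz F e)) := by
    intro A hA hxA
    refine H25.le_of_nilpotent_of_normalizer hA fun n hn hnN => ?_
    obtain ⟨s, t, hs, ht, hk, hto, hst⟩ := H3.exists_p_part 2 n
    rw [hst]
    refine Subgroup.mul_mem _ (Subgroup.mem_centralizer_singleton_iff.mpr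
      (H25.commute_of_nilpotent_of_pow hA (Subgroup.zpowers_le.mpr hn hs) hxA hk hxo)) ?_
    have htN := Subgroup.zpowers_le.mpr hnN ht
    have h3 := ((Subgroup.mem_normalizer_iff.mp htN x).mp
      ⟨hxA, Subgroup.mem_centralizer_singleton_iff.mpr rfl⟩).2
    have h4 : t ^ 4 ∈ Subgroup.centralizer ({x} : Set (Sz F e)) := by
      rw [hcent]
      refine pow_four_mon (Sz_le t.2) hd ((hcent _).mp h3) ?_
      exact congrArg (fun z : Sz F e => ((z : GL (Fin 4) F) : Matrix (Fin 4) (Fin 4) F))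
        (show t * x = t * x * t⁻¹ * t by group)
    have h5 : t ∈ Subgroup.zpowers (t ^ 4) := by
      rw [mem_zpowers_pow_iff, Nat.gcd_comm]
      exact Nat.Coprime.pow_right 2 hto
    exact Subgroup.zpowers_le.mpr h4 h5
  refine H25.no_nilpotent_min_cover x (u * x * u⁻¹) M hM
    (fun A hA hxA => (hnil A hA hxA).trans hCM)
    (H25.le_of_nilpotent_conj huM fun A hA hxA => (hnil A hA hxA).trans hCM) fun A hA hxA hy => ?_
  have h3 := (hcent _).mp (hnil A hA hxA hy) 2 0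
  have h4 : (((u * x * u⁻¹ : Sz F e) : GL (Fin 4) F) : Matrix (Fin 4) (Fin 4) F) 2 0 = a + b⁻¹ := by
    change ((U : Matrix (Fin 4) (Fin 4) F) * diagonal d * U.inv) 2 0 = _
    rw [Matrix.mul_apply]
    simp only [Matrix.mul_diagonal, Fin.sum_univ_four]
    simp [U, UU, d]
  rw [h4] at h3
  refine absurd (h3 fun h => n2 ?_) (by decide)
  rwa [← CharTwo.sub_eq_add, sub_eq_zero] at h

end Cfsg.Agent.S3893
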