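import Cfsg.Statements.S3894
import Cfsg.Agent.H25.CoverGL

set_option autoImplicit false
open Cfsg

namespace Cfsg.Agent.S3894

open Matrix H25

section Shift
variable {F : Type*} [Field F] {n : ℕ}

def NN (F : Type*) [Field F] (f : Fin n → ℕ) : Matrix (Fin n) (Fin n) F :=
  Matrix.of fun i j => if f j = f i + 1 then 1 else 0

theorem NN_apply (f : Fin n → ℕ) (i j : Fin n) :
    NN F f i j = if f j = f i + 1 then 1 else 0 := rfl

theorem NN_pow (f : Fin n → ℕ) (k : ℕ) : ∀ i j, (NN F f ^ k) i j ≠ 0 → f j = f i + k := by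
  induction k with
  | zero =>
    intro i j h
    rw [pow_zero, Matrix.one_apply] at h
    by_cases e : i = j
    · simp [e]
    · simp [e] at h
  | succ k ih =>
    intro i j h
    rw [pow_succ, Matrix.mul_apply] at h
    obtain ⟨l, -, hl⟩ := Finset.exists_ne_zero_of_sum_ne_zero h
    have h1 := ih i l (left_ne_zero_of_mul hl)
    have h2 := right_ne_zero_of_mul hl
    rw [NN_apply] at h2
    have h3 : f j = f l + 1 := by by_contra e; simp [e] at h2
    omega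

theorem NN_nil {f : Fin n → ℕ} (hf : ∀ i, f i < n) : NN F f ^ n = 0 := by
  ext i j
  by_contra h
  have := NN_pow f n i j h
  have := hf j
  omega

theorem NN_fix {f : Fin n → ℕ} (hinj : Function.Injective f) (hf : ∀ i, f i < n)
    (hs : ∀ m < n, ∃ i, f i = m) {i₀ : Fin n} (h0 : f i₀ = 0) (w : Fin n → F)
    (hw : (1 + NN F f) *ᵥ w = w) : ∃ c : F, w = c • (Pi.single i₀ 1 : Fin n → F) := by
  refine ⟨w i₀, funext fun j => ?_⟩
  by_cases e : j = i₀
  · simp [e]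
  · have h1 : f j ≠ 0 := fun h => e (hinj (h.trans h0.symm))
    obtain ⟨i, hi⟩ := hs (f j - 1) (by have := hf j; omega)
    rw [Matrix.add_mulVec, Matrix.one_mulVec, add_eq_left] at hw
    have h2 := congrFun hw i
    rw [Matrix.mulVec, dotProduct, Finset.sum_eq_single j (fun l _ hl => by
      rw [NN_apply, if_neg (fun h => hl (hinj (by omega))), zero_mul]) (by simp),
      NN_apply, if_pos (by omega), one_mul] at h2
    simpa [e] using h2

theorem NN_fix0 {f : Fin n → ℕ} {i₀ : Fin n} (h0 : f i₀ = 0) :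
    (1 + NN F f) *ᵥ (Pi.single i₀ 1 : Fin n → F) = Pi.single i₀ 1 := by
  rw [Matrix.add_mulVec, Matrix.one_mulVec, add_eq_left]
  ext i
  simp [NN_apply, h0]

theorem NN_transpose {f : Fin n → ℕ} (hf : ∀ i, f i < n) :
    (1 + NN F f)ᵀ = 1 + NN F (fun i => n - 1 - f i) := by
  rw [Matrix.transpose_add, Matrix.transpose_one]
  congr 1
  ext i j
  have := hf i
  have := hf j
  rw [Matrix.transpose_apply, NN_apply, NN_apply]
  exact if_congr (by omega) rfl rfl

end Shift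

theorem big {F : Type*} [Field F] [Finite F] {p : ℕ} [Fact p.Prime] [CharP F p] (m : ℕ)
    (G : Subgroup (GL (Fin (m + 3)) F ⧸ Subgroup.center (GL (Fin (m + 3)) F)))
    (hG : ∀ g : GL (Fin (m + 3)) F, Matrix.det g.val = 1 → QuotientGroup.mk g ∈ G) :
    ¬ ∃ 𝓐 : Finset (Subgroup G), ((∀ A ∈ 𝓐, A ≠ ⊤) ∧ (∀ g : G, ∃ A ∈ 𝓐, g ∈ A)) ∧
      (∀ 𝓑 : Finset (Subgroup G), (∀ A ∈ 𝓑, A ≠ ⊤) ∧ (∀ g : G, ∃ A ∈ 𝓑, g ∈ A) →
        𝓐.card ≤ 𝓑.card) ∧ (∀ A ∈ 𝓐, Group.IsNilpotent A) := by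
  let a : Fin (m + 3) := ⟨m + 1, by omega⟩
  let b : Fin (m + 3) := ⟨m + 2, by omega⟩
  have hab : a ≠ b := by simp [a, b]
  let f : Fin (m + 3) → ℕ := Fin.val
  let f' : Fin (m + 3) → ℕ := fun i => (Equiv.swap a b i).val
  have hf : ∀ i, f i < m + 3 := fun i => i.2
  have hf' : ∀ i, f' i < m + 3 := fun i => (Equiv.swap a b i).2
  obtain ⟨x, hx, hxp⟩ := exists_unipotent (p := p) (NN_nil (F := F) hf)
  obtain ⟨y, hy, hyp⟩ := exists_unipotent (p := p) (NN_nil (F := F) hf')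
  have hxG := hG x (det_eq_one_of_pow hxp)
  have hyG := hG y (det_eq_one_of_pow hyp)
  let v : Fin (m + 3) → F := Pi.single 0 1
  have hv : v ≠ 0 := fun h => by simpa [v] using congrFun h 0
  have hT : ∀ z : GL (Fin (m + 3)) F, (∃ k, z ^ p ^ k = 1) →
      ∃ k, (invTranspose _ F z⁻¹) ^ p ^ k = 1 := fun z ⟨k, hk⟩ =>
    ⟨k, by rw [← map_pow, inv_pow, hk, inv_one, map_one]⟩
  refine no_nilpotent_min_cover ⟨_, hxG⟩ ⟨_, hyG⟩ (downSub G (lineStab v)) (fun h => ?_)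
    (fun A hA hxA => le_downSub ?_) (fun A hA hyA => le_downSub ?_) (fun A hA hxA hyA => ?_)
  · have h1 := hG _ (det_eq_one_of_pow (hT x hxp))
    obtain ⟨c, -, hc⟩ := (mem_downSub (center_le_lineStab hv) h1).mp (h ▸ Subgroup.mem_top _)
    have := congrFun hc 1
    rw [coe_invTranspose_inv, hx] at this
    simp [v, NN_apply, f] at this
  · refine nilpotent_le_lineStab hxp hv (hx ▸ NN_fix0 rfl) (fun w hw => ?_)
      (nilpotent_liftSub hA) ((mem_liftSub hxG).mpr hxA)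
    exact NN_fix Fin.val_injective hf (fun k hk => ⟨⟨k, hk⟩, rfl⟩) rfl w (hx ▸ hw)
  · have h0 : f' 0 = 0 := by
      simp only [f']
      rw [Equiv.swap_apply_of_ne_of_ne (by simp [a, Fin.ext_iff]) (by simp [b, Fin.ext_iff])]
      rfl
    refine nilpotent_le_lineStab hyp hv (hy ▸ NN_fix0 h0) (fun w hw => ?_)
      (nilpotent_liftSub hA) ((mem_liftSub hyG).mpr hyA)
    exact NN_fix (Fin.val_injective.comp (Equiv.swap a b).injective) hf'
      (fun k hk => ⟨Equiv.swap a b ⟨k, hk⟩, by simp [f']⟩) h0 w (hy ▸ hw)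
  · have h1 := H1.isNilpotent_map (invTranspose _ F) (nilpotent_liftSub hA)
    have hb : (Pi.single b 1 : Fin (m + 3) → F) ≠ 0 := fun h => by simpa using congrFun h b
    have e : ((invTranspose _ F x⁻¹ : GL _ F) : Matrix _ _ F) =
        1 + NN F (fun i => m + 3 - 1 - f i) := by rw [coe_invTranspose_inv, hx, NN_transpose hf]
    have h0 : m + 3 - 1 - f b = 0 := by simp [f, b]
    have h2 := nilpotent_le_lineStab (hT x hxp) hb (e ▸ NN_fix0 h0) (fun w hw =>
      NN_fix (f := fun i => m + 3 - 1 - f i) (fun i j hij => Fin.ext (by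
          have := i.2; have := j.2; simp only [f] at hij; omega))
        (fun i => by omega) (fun k hk => ⟨⟨m + 2 - k, by omega⟩, by simp only [f]; omega⟩) h0 w
        (e ▸ hw)) h1 ⟨_, Subgroup.inv_mem _ ((mem_liftSub hxG).mpr hxA), rfl⟩
    obtain ⟨c, -, hc⟩ := h2 ⟨_, Subgroup.inv_mem _ ((mem_liftSub hyG).mpr hyA), rfl⟩
    have := congrFun hc a
    rw [coe_invTranspose_inv, hy] at this
    simp [NN_apply, f', hab, hab.symm, Matrix.one_apply, a, b] at this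

section Two
variable {F : Type*} [Field F]

def UU (v : Fin 2 → F) : Matrix (Fin 2) (Fin 2) F := !![-(v 0 * v 1), v 0 ^ 2; -(v 1 ^ 2), v 0 * v 1]

theorem UU_sq (v : Fin 2 → F) : UU v ^ 2 = 0 := by
  ext i j
  fin_cases i <;> fin_cases j <;> simp [UU, sq, Matrix.mul_apply] <;> ring

theorem UU_mulVec (v w : Fin 2 → F) : (1 + UU v) *ᵥ w = w + (v 0 * w 1 - v 1 * w 0) • v := by
  rw [Matrix.add_mulVec, Matrix.one_mulVec]
  congr 1
  ext i
  fin_cases i <;> simp [UU, Matrix.mulVec, dotProduct] <;> ring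

theorem exists_smul_of_det {v w : Fin 2 → F} (hv : v ≠ 0) (h : v 0 * w 1 - v 1 * w 0 = 0) :
    ∃ c : F, w = c • v := by
  by_cases h0 : v 0 = 0
  · have h1 : v 1 ≠ 0 := fun h1 => hv (by ext i; fin_cases i <;> simp [h0, h1])
    refine ⟨w 1 / v 1, ?_⟩
    have h2 : w 0 = 0 := by simpa [h0, h1] using h
    ext i; fin_cases i <;> simp [h0, h1, h2]
  · refine ⟨w 0 / v 0, ?_⟩
    ext i; fin_cases i
    · simp [h0]
    · simp only [Fin.mk_one, Pi.smul_apply, smul_eq_mul]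
      field_simp
      linear_combination h

theorem UU_eigen {v w : Fin 2 → F} (hv : v ≠ 0) {c : F} (h : (1 + UU v) *ᵥ w = c • w) :
    ∃ d : F, w = d • v := by
  refine exists_smul_of_det hv ?_
  by_contra hne
  rw [UU_mulVec] at h
  have h0 := congrFun h 0
  have h1 := congrFun h 1
  simp only [Pi.add_apply, Pi.smul_apply, smul_eq_mul] at h0 h1
  have h2 : (1 - c) * (v 0 * w 1 - v 1 * w 0) = 0 := by linear_combination v 0 * h1 - v 1 * h0
  have h3 : c = 1 := by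
    rcases mul_eq_zero.mp h2 with h | h
    · exact (sub_eq_zero.mp h).symm
    · exact absurd h hne
  rw [h3, one_smul, add_eq_left, smul_eq_zero] at h
  exact h.elim hne hv

theorem lineStab_smul {v : Fin 2 → F} {d : F} (hd : d • v ≠ 0) : lineStab (d • v) = lineStab v := by
  have hd' : d ≠ 0 := by rintro rfl; simp at hd
  ext g
  simp only [mem_lineStab, Matrix.mulVec_smul]
  refine exists_congr fun c => and_congr_right fun _ => ?_
  rw [smul_comm]
  exact (smul_right_injective _ hd').eq_iff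

theorem exists_uu [Finite F] (p : ℕ) [Fact p.Prime] [CharP F p] {v : Fin 2 → F} (hv : v ≠ 0) :
    ∃ u : GL (Fin 2) F, (u : Matrix (Fin 2) (Fin 2) F) = 1 + UU v ∧ (∃ k, u ^ p ^ k = 1) ∧
      (∀ A : Subgroup (GL (Fin 2) F), Group.IsNilpotent A → u ∈ A → A ≤ lineStab v) ∧
      ∀ w, w ≠ 0 → u ∈ lineStab w → lineStab w = lineStab v := by
  obtain ⟨u, hu, hup⟩ := exists_unipotent (p := p) (UU_sq v)
  refine ⟨u, hu, hup, fun A hA huA => nilpotent_le_lineStab hup hv ?_ (fun w hw => ?_) hA huA,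
    fun w hw ⟨c, _, hc⟩ => ?_⟩
  · rw [hu, UU_mulVec, mul_comm, sub_self, zero_smul, add_zero]
  · exact UU_eigen hv (c := 1) (by rw [one_smul, ← hu, hw])
  · obtain ⟨d, rfl⟩ := UU_eigen hv (hu ▸ hc)
    exact lineStab_smul hw

theorem e0_ne : (![1, 0] : Fin 2 → F) ≠ 0 := fun h => by simpa using congrFun h 0
theorem e1_ne : (![0, 1] : Fin 2 → F) ≠ 0 := fun h => by simpa using congrFun h 1

theorem line_ne [Finite F] (p : ℕ) [Fact p.Prime] [CharP F p] :
    lineStab (![1, 0] : Fin 2 → F) ≠ lineStab ![0, 1] := by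
  intro h
  obtain ⟨u, hu, hup, h1, -⟩ := exists_uu p (e0_ne (F := F))
  have := h1 (Subgroup.zpowers u) (isPGroup_zpowers_of_pow hup).isNilpotent
    (Subgroup.mem_zpowers u) (Subgroup.mem_zpowers u)
  rw [h] at this
  obtain ⟨c, -, hc⟩ := this
  obtain ⟨d, hd⟩ := UU_eigen e0_ne (hu ▸ hc)
  simpa using congrFun hd 1

theorem down_ne_top [Finite F] (p : ℕ) [Fact p.Prime] [CharP F p]
    (G : Subgroup (GL (Fin 2) F ⧸ Subgroup.center (GL (Fin 2) F)))
    (hG : ∀ g : GL (Fin 2) F, Matrix.det g.val = 1 → QuotientGroup.mk g ∈ G)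
    {v : Fin 2 → F} (hv : v ≠ 0) : downSub G (lineStab v) ≠ ⊤ := by
  intro h
  obtain ⟨u, -, hup, -, h1⟩ := exists_uu p (e0_ne (F := F))
  obtain ⟨u', -, hup', -, h1'⟩ := exists_uu p (e1_ne (F := F))
  have e1 := h1 v hv ((mem_downSub (center_le_lineStab hv) (hG u (det_eq_one_of_pow hup))).mp
    (h ▸ Subgroup.mem_top _))
  have e2 := h1' v hv ((mem_downSub (center_le_lineStab hv) (hG u' (det_eq_one_of_pow hup'))).mp
    (h ▸ Subgroup.mem_top _))
  exact line_ne p (e1.symm.trans e2)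

def DD (a : F) (ha : a ≠ 0) : GL (Fin 2) F :=
  ⟨!![a, 0; 0, a⁻¹], !![a⁻¹, 0; 0, a], by
    ext i j; fin_cases i <;> fin_cases j <;> simp [Matrix.mul_apply, ha], by
    ext i j; fin_cases i <;> fin_cases j <;> simp [Matrix.mul_apply, ha]⟩

theorem DD_val (a : F) (ha : a ≠ 0) : (DD a ha : Matrix (Fin 2) (Fin 2) F) = !![a, 0; 0, a⁻¹] := rfl

theorem DD_det (a : F) (ha : a ≠ 0) : (DD a ha : Matrix (Fin 2) (Fin 2) F).det = 1 := by
  simp [DD_val, ha]

theorem DD_pow (a : F) (ha : a ≠ 0) {k : ℕ} (h : a ^ k = 1) : DD a ha ^ k = 1 := by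
  have : ∀ j : ℕ, ((DD a ha ^ j : GL (Fin 2) F) : Matrix (Fin 2) (Fin 2) F) =
      !![a ^ j, 0; 0, (a ^ j)⁻¹] := by
    intro j
    induction j with
    | zero => ext i j; fin_cases i <;> fin_cases j <;> simp
    | succ j ih =>
      rw [pow_succ, Units.val_mul, ih, DD_val]
      ext i j; fin_cases i <;> fin_cases j <;> simp [Matrix.mul_apply, pow_succ, mul_comm]
  refine Units.ext ?_
  rw [this, h]
  ext i j; fin_cases i <;> fin_cases j <;> simp

theorem mem_cent_DD {a : F} (ha : a ≠ 0) (ha2 : a ≠ a⁻¹) (g : GL (Fin 2) F) :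
    g ∈ Subgroup.centralizer ({DD a ha} : Set (GL (Fin 2) F)) ↔
      (g : Matrix (Fin 2) (Fin 2) F) 0 1 = 0 ∧ (g : Matrix (Fin 2) (Fin 2) F) 1 0 = 0 := by
  rw [Subgroup.mem_centralizer_singleton_iff, Units.ext_iff, Units.val_mul, Units.val_mul, DD_val]
  constructor
  · intro h
    have h1 := congrFun (congrFun h 0) 1
    have h2 := congrFun (congrFun h 1) 0
    simp [Matrix.mul_apply] at h1 h2
    constructor
    · by_contra hne
      exact ha2 (mul_left_cancel₀ hne (by rw [h1, mul_comm]))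
    · by_contra hne
      exact ha2 (mul_left_cancel₀ hne (by rw [h2, mul_comm]))
  · rintro ⟨h1, h2⟩
    ext i j; fin_cases i <;> fin_cases j <;> simp [Matrix.mul_apply, h1, h2, mul_comm]

theorem nil_DD [Finite F] {a : F} (ha : a ≠ 0) (ha2 : a ≠ a⁻¹) (ho : (orderOf (DD a ha)).Coprime 2)
    (A : Subgroup (GL (Fin 2) F)) (hA : Group.IsNilpotent A) (hy : DD a ha ∈ A) :
    A ≤ Subgroup.centralizer ({DD a ha} : Set (GL (Fin 2) F)) := by
  refine le_of_nilpotent_of_normalizer hA fun n hn hnN => ?_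
  obtain ⟨s, t, hs, ht, hk, hto, hst⟩ := H3.exists_p_part 2 n
  rw [hst]
  refine Subgroup.mul_mem _ (Subgroup.mem_centralizer_singleton_iff.mpr
    (commute_of_nilpotent_of_pow hA (Subgroup.zpowers_le.mpr hn hs) hy hk ho)) ?_
  have htN := Subgroup.zpowers_le.mpr hnN ht
  have h3 := ((Subgroup.mem_normalizer_iff.mp htN _).mp
    ⟨hy, Subgroup.mem_centralizer_singleton_iff.mpr rfl⟩).2
  have h4 : t ^ 2 ∈ Subgroup.centralizer ({DD a ha} : Set (GL (Fin 2) F)) := by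
    have h5 := (mem_cent_DD ha ha2 _).mp h3
    rw [mem_cent_DD ha ha2]
    have h6 : (t : Matrix (Fin 2) (Fin 2) F) * !![a, 0; 0, a⁻¹] =
        ((t * DD a ha * t⁻¹ : GL (Fin 2) F) : Matrix (Fin 2) (Fin 2) F) * t := by
      rw [← DD_val a ha, ← Units.val_mul, ← Units.val_mul]; congr 1; group
    generalize ((t * DD a ha * t⁻¹ : GL (Fin 2) F) : Matrix (Fin 2) (Fin 2) F) = Y at h5 h6
    have hdet : (t : Matrix (Fin 2) (Fin 2) F).det ≠ 0 := t.det_ne_zero
    rw [Matrix.det_fin_two] at hdet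
    rw [Units.val_pow_eq_pow_val]
    generalize (t : Matrix (Fin 2) (Fin 2) F) = T at h6 hdet ⊢
    have e00 := congrFun (congrFun h6 0) 0
    have e01 := congrFun (congrFun h6 0) 1
    have e10 := congrFun (congrFun h6 1) 0
    have e11 := congrFun (congrFun h6 1) 1
    simp [Matrix.mul_apply, h5.1, h5.2] at e00 e01 e10 e11
    have hd : a - a⁻¹ ≠ 0 := sub_ne_zero.mpr ha2
    have r0 : T 0 0 * T 0 1 = 0 := by
      apply mul_left_cancel₀ hd
      linear_combination T 0 1 * e00 - T 0 0 * e01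
    have r1 : T 1 0 * T 1 1 = 0 := by
      apply mul_left_cancel₀ hd
      linear_combination T 1 1 * e10 - T 1 0 * e11
    simp only [sq, Matrix.mul_apply, Fin.sum_univ_two]
    constructor
    · apply mul_left_cancel₀ hdet
      linear_combination (T 0 0 * T 1 1 - T 0 1 * T 1 0 + T 1 1 * T 1 1) * r0 - T 0 1 * T 0 1 * r1
    · apply mul_left_cancel₀ hdet
      linear_combination (T 0 0 * T 1 1 - T 0 1 * T 1 0 + T 0 0 * T 0 0) * r1 - T 1 0 * T 1 0 * r0
  have h5 : t ∈ Subgroup.zpowers (t ^ 2) := by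
    rw [mem_zpowers_pow_iff, Nat.gcd_comm]
    exact hto
  exact Subgroup.zpowers_le.mpr h4 h5

theorem diag_le {a : F} (ha : a ≠ 0) (ha2 : a ≠ a⁻¹) :
    Subgroup.centralizer ({DD a ha} : Set (GL (Fin 2) F)) ≤ lineStab ![1, 0] := by
  intro g hg
  rw [mem_cent_DD ha ha2] at hg
  refine mem_lineStab_of_smul e0_ne (c := (g : Matrix (Fin 2) (Fin 2) F) 0 0) ?_
  ext i; fin_cases i <;> simp [Matrix.mulVec, dotProduct, hg.2]

theorem UU_diag {v : Fin 2 → F} (h : (1 + UU v) 0 1 = 0 ∧ (1 + UU v) 1 0 = 0) : v = 0 := by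
  simp [UU] at h
  ext i; fin_cases i <;> simp [h.1, h.2]

theorem eigen_of_sq {i : F} (hi : i * i = -1) {g : GL (Fin 2) F}
    (hg : (g : Matrix (Fin 2) (Fin 2) F).det = 1) {v : Fin 2 → F} (hv : v ≠ 0)
    (h : g ^ 2 ∈ lineStab v) : ∃ w, w ≠ 0 ∧ g ∈ lineStab w := by
  obtain ⟨c, -, hc⟩ := h
  rw [Units.val_pow_eq_pow_val, sq, ← Matrix.mulVec_mulVec] at hc
  rw [Matrix.det_fin_two] at hg
  have hCH : ∀ w : Fin 2 → F, (g : Matrix (Fin 2) (Fin 2) F) *ᵥ ((g : Matrix (Fin 2) (Fin 2) F) *ᵥ w)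
      = ((g : Matrix (Fin 2) (Fin 2) F) 0 0 + (g : Matrix (Fin 2) (Fin 2) F) 1 1) •
        ((g : Matrix (Fin 2) (Fin 2) F) *ᵥ w) - w := by
    intro w
    ext j; fin_cases j <;> simp [Matrix.mulVec, dotProduct]
    · linear_combination (-w 0) * hg
    · linear_combination (-w 1) * hg
  set τ := (g : Matrix (Fin 2) (Fin 2) F) 0 0 + (g : Matrix (Fin 2) (Fin 2) F) 1 1
  by_cases hτ : τ = 0
  · by_cases hw : (g : Matrix (Fin 2) (Fin 2) F) *ᵥ v + i • v = 0
    · exact ⟨v, hv, mem_lineStab_of_smul hv (c := -i) (by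
        rw [neg_smul]; exact eq_neg_of_add_eq_zero_left hw)⟩
    · refine ⟨_, hw, mem_lineStab_of_smul hw (c := i) ?_⟩
      rw [Matrix.mulVec_add, hCH, hτ, Matrix.mulVec_smul, smul_add, smul_smul, hi]
      simp [add_comm]
  · refine ⟨v, hv, mem_lineStab_of_smul hv (c := τ⁻¹ * (c + 1)) ?_⟩
    rw [hCH, sub_eq_iff_eq_add] at hc
    rw [← smul_smul, add_smul, one_smul, ← hc, smul_smul, inv_mul_cancel₀ hτ, one_smul]

theorem eigen_of_two {i : F} (hi : i * i = -1) (k : ℕ) : ∀ g : GL (Fin 2) F,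
    (g : Matrix (Fin 2) (Fin 2) F).det = 1 → g ^ 2 ^ k = 1 → ∃ w, w ≠ 0 ∧ g ∈ lineStab w := by
  induction k with
  | zero => intro g _ h; exact ⟨_, e0_ne, by rw [pow_zero, pow_one] at h; rw [h]; exact one_mem _⟩
  | succ k ih =>
    intro g hg h
    obtain ⟨w, hw, h1⟩ := ih (g ^ 2) (by rw [Units.val_pow_eq_pow_val, Matrix.det_pow, hg, one_pow])
      (by rw [← pow_mul, ← pow_succ', h])
    exact eigen_of_sq hi hg hw h1

theorem nil_uu [Finite F] (p : ℕ) [hp : Fact p.Prime] [CharP F p] {v : Fin 2 → F} (hv : v ≠ 0)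
    {u : GL (Fin 2) F} (hu : (u : Matrix (Fin 2) (Fin 2) F) = 1 + UU v) (hup : ∃ k, u ^ p ^ k = 1)
    (A : Subgroup (GL (Fin 2) F)) (hA : Group.IsNilpotent A) (huA : u ∈ A) {g : GL (Fin 2) F}
    (hg : g ∈ A) : ∃ s : GL (Fin 2) F, (s : Matrix (Fin 2) (Fin 2) F).det = 1 ∧
      (s : GL (Fin 2) F ⧸ Subgroup.center (GL (Fin 2) F)) = g := by
  obtain ⟨s, t, hs, ht, hk, hto, hst⟩ := H3.exists_p_part p g
  refine ⟨s, det_eq_one_of_pow hk, ?_⟩
  have h1 := commute_of_nilpotent_of_pow hA huA (Subgroup.zpowers_le.mpr hg ht) hup hto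
  have h2 : (1 + UU v) * (t : Matrix (Fin 2) (Fin 2) F) = t * (1 + UU v) := by
    rw [← hu, ← Units.val_mul, h1, Units.val_mul]
  rw [add_mul, mul_add, one_mul, mul_one, add_right_inj] at h2
  have h3 : ∃ c d : F, (t : Matrix (Fin 2) (Fin 2) F) = Matrix.scalar _ c + d • UU v := by
    generalize (t : Matrix (Fin 2) (Fin 2) F) = T at h2
    have e00 := congrFun (congrFun h2 0) 0
    have e01 := congrFun (congrFun h2 0) 1
    have e10 := congrFun (congrFun h2 1) 0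
    simp only [UU, Matrix.mul_apply, Fin.sum_univ_two, Matrix.of_apply, Matrix.cons_val',
      Matrix.cons_val_zero, Matrix.cons_val_one, Matrix.cons_val_fin_one] at e00 e01 e10
    by_cases h0 : v 0 = 0
    · have h1 : v 1 ≠ 0 := fun h1 => hv (by ext i; fin_cases i <;> simp [h0, h1])
      refine ⟨T 0 0, -(T 1 0) / v 1 ^ 2, ?_⟩
      rw [h0] at e00 e10
      have h4 : v 1 ^ 2 ≠ 0 := pow_ne_zero _ h1
      have a1 : T 0 1 = 0 := by
        apply mul_left_cancel₀ h4; linear_combination e00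
      have a2 : T 1 1 = T 0 0 := by
        apply mul_left_cancel₀ h4; linear_combination e10
      ext i j; fin_cases i <;> fin_cases j <;> simp [UU, h0, h1, a1, a2]
    · refine ⟨T 0 0 + T 0 1 * v 1 / v 0, T 0 1 / v 0 ^ 2, ?_⟩
      ext i j; fin_cases i <;> fin_cases j <;> simp [UU]
      · field_simp; ring
      · field_simp
      · field_simp; linear_combination e00
      · field_simp
        apply mul_left_cancel₀ h0
        linear_combination e01
  obtain ⟨c, d, hcd⟩ := h3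
  have h4 : t ^ p ∈ Subgroup.center (GL (Fin 2) F) := by
    refine Matrix.GeneralLinearGroup.mem_center_iff_val_mem_range_scalar.mpr ⟨c ^ p, ?_⟩
    rw [Units.val_pow_eq_pow_val, hcd, add_pow_char_of_commute _
      (Matrix.scalar_commute c (fun _ => Commute.all _ _) _), smul_pow,
      pow_eq_zero_of_le hp.out.two_le (UU_sq v), smul_zero, add_zero, map_pow]
  have h5 : t ∈ Subgroup.zpowers (t ^ p) := by
    rw [mem_zpowers_pow_iff, Nat.gcd_comm]
    exact hto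
  have h6 := Subgroup.zpowers_le.mpr h4 h5
  rw [hst, QuotientGroup.mk_mul, (QuotientGroup.eq_one_iff t).mpr h6, mul_one]

theorem small [Fintype F] {p : ℕ} [hp : Fact p.Prime] [CharP F p] (h4 : 4 ≤ Fintype.card F)
    (G : Subgroup (GL (Fin 2) F ⧸ Subgroup.center (GL (Fin 2) F)))
    (hG : ∀ g : GL (Fin 2) F, Matrix.det g.val = 1 → QuotientGroup.mk g ∈ G) :
    ¬ ∃ 𝓐 : Finset (Subgroup G), ((∀ A ∈ 𝓐, A ≠ ⊤) ∧ (∀ g : G, ∃ A ∈ 𝓐, g ∈ A)) ∧
      (∀ 𝓑 : Finset (Subgroup G), (∀ A ∈ 𝓑, A ≠ ⊤) ∧ (∀ g : G, ∃ A ∈ 𝓑, g ∈ A) →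
        𝓐.card ≤ 𝓑.card) ∧ (∀ A ∈ 𝓐, Group.IsNilpotent A) := by
  classical
  obtain ⟨u, hu, hup, hu1, hu2⟩ := exists_uu p (e0_ne (F := F))
  have huG := hG u (det_eq_one_of_pow hup)
  have hcard : Fintype.card Fˣ = Fintype.card F - 1 := Fintype.card_units F
  have hpq : p ∣ Fintype.card F := by
    obtain ⟨k, -, hk⟩ := FiniteField.card F p
    rw [hk]; exact dvd_pow_self p k.ne_zero
  have hcop : ∀ r, r ∣ Fintype.card F - 1 → r.Coprime p := fun r hr => by
    refine Nat.Coprime.coprime_dvd_left hr (Nat.Coprime.coprime_dvd_right hpq ?_)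
    rw [show Fintype.card F = (Fintype.card F - 1) + 1 by omega]
    simp
  have hDu : ∀ (a : F) (ha : a ≠ 0), a ≠ a⁻¹ → ∀ v : Fin 2 → F, v ≠ 0 → ∀ u : GL (Fin 2) F,
      (u : Matrix (Fin 2) (Fin 2) F) = 1 + UU v → (∃ k, u ^ p ^ k = 1) →
      ∀ A : Subgroup (GL (Fin 2) F), Group.IsNilpotent A → u ∈ A → DD a ha ∈ A → False := by
    intro a ha ha2 v hv u hu hup A hA h1 h2
    have h3 := commute_of_nilpotent_of_pow hA h1 h2 hup (hcop _ (orderOf_dvd_of_pow_eq_one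
      (DD_pow a ha (FiniteField.pow_card_sub_one_eq_one a ha))))
    exact hv (UU_diag (hu ▸ (mem_cent_DD ha ha2 u).mp
      (Subgroup.mem_centralizer_singleton_iff.mpr h3)))
  by_cases hr : ∃ r, r.Prime ∧ r ≠ 2 ∧ r ∣ Fintype.card F - 1
  · obtain ⟨r, hr, hr2, hrd⟩ := hr
    have := Fact.mk hr
    obtain ⟨a, ha⟩ := exists_prime_orderOf_dvd_card (G := Fˣ) r (hcard ▸ hrd)
    have ha2 : (a : F) ≠ (a : F)⁻¹ := by
      intro h
      have h1 : a ^ 2 = 1 := Units.ext (by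
        rw [Units.val_pow_eq_pow_val, sq]; nth_rewrite 2 [h]; exact mul_inv_cancel₀ a.ne_zero)
      exact hr2 ((Nat.prime_dvd_prime_iff_eq hr Nat.prime_two).mp
        (ha ▸ orderOf_dvd_of_pow_eq_one h1))
    have ho : (orderOf (DD (a : F) a.ne_zero)).Coprime 2 := by
      refine Nat.Coprime.coprime_dvd_left (orderOf_dvd_of_pow_eq_one (DD_pow _ _ (k := r) ?_))
        ((Nat.coprime_primes hr Nat.prime_two).mpr hr2)
      rw [← Units.val_pow_eq_pow_val, ← ha, pow_orderOf_eq_one, Units.val_one]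
    have hyG := hG _ (DD_det (a : F) a.ne_zero)
    exact no_nilpotent_min_cover ⟨_, huG⟩ ⟨_, hyG⟩ _ (down_ne_top p G hG e0_ne)
      (fun A hA h => le_downSub (hu1 _ (nilpotent_liftSub hA) ((mem_liftSub huG).mpr h)))
      (fun A hA h => le_downSub ((nil_DD _ ha2 ho _ (nilpotent_liftSub hA)
        ((mem_liftSub hyG).mpr h)).trans (diag_le _ ha2)))
      fun A hA h1 h2 => hDu _ _ ha2 _ e0_ne u hu hup _ (nilpotent_liftSub hA)
        ((mem_liftSub huG).mpr h1) ((mem_liftSub hyG).mpr h2)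
  push Not at hr
  obtain ⟨k, hk⟩ : ∃ k, Fintype.card F - 1 = 2 ^ k :=
    ⟨_, Nat.eq_prime_pow_of_unique_prime_dvd (by omega) fun {d} hd hdd => by
      by_contra hne; exact hr d hd hne hdd⟩
  by_cases hS : ∀ g : G, ∃ s : GL (Fin 2) F, (s : Matrix (Fin 2) (Fin 2) F).det = 1 ∧
      (s : GL (Fin 2) F ⧸ Subgroup.center (GL (Fin 2) F)) = g
  swap
  · obtain ⟨u', hu', hup', hu1', hu2'⟩ := exists_uu p (e1_ne (F := F))
    have huG' := hG u' (det_eq_one_of_pow hup')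
    have key : ∀ {v : Fin 2 → F} (_ : v ≠ 0) {u : GL (Fin 2) F}
        (_ : (u : Matrix (Fin 2) (Fin 2) F) = 1 + UU v) (hup : ∃ k, u ^ p ^ k = 1)
        (A : Subgroup G), Group.IsNilpotent A → ⟨_, hG u (det_eq_one_of_pow hup)⟩ ∈ A →
        A ≤ downSub G (Matrix.SpecialLinearGroup.toGL).range := by
      rintro v hv u hu hup A hA h ⟨g, hg⟩ hgA
      obtain ⟨g, rfl⟩ := QuotientGroup.mk_surjective g
      obtain ⟨s, hs, e⟩ := nil_uu p hv hu hup _ (nilpotent_liftSub hA) ((mem_liftSub _).mpr h)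
        ((mem_liftSub hg).mpr hgA)
      exact ⟨s, mem_range_toGL_iff.mpr hs, e⟩
    refine no_nilpotent_min_cover ⟨_, huG⟩ ⟨_, huG'⟩ _ (fun h => hS fun g => ?_)
      (key e0_ne hu hup) (key e1_ne hu' hup') fun A hA h1 h2 => ?_
    · obtain ⟨s, hs, e⟩ : g ∈ downSub G (Matrix.SpecialLinearGroup.toGL).range :=
        h ▸ Subgroup.mem_top g
      exact ⟨s, mem_range_toGL_iff.mp hs, e⟩
    · exact line_ne p (hu2' _ e0_ne (hu1 _ (nilpotent_liftSub hA) ((mem_liftSub huG).mpr h1)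
        ((mem_liftSub huG').mpr h2)))
  rintro ⟨𝓐, h1, h2, h3⟩
  have hk2 : 2 ≤ k := by
    by_contra hcon
    have : k = 0 ∨ k = 1 := by omega
    rcases this with rfl | rfl <;> omega
  have h44 : 4 ∣ Fintype.card F - 1 := hk ▸ (pow_dvd_pow 2 hk2 : 2 ^ 2 ∣ 2 ^ k)
  obtain ⟨i, hi⟩ : IsSquare (-1 : F) := FiniteField.isSquare_neg_one_iff.mpr (by omega)
  have hi0 : i ≠ 0 := by rintro rfl; simp at hi
  have hi2 : i ≠ i⁻¹ := by
    intro h
    have h5 : (-1 : F) = 1 := by rw [hi]; nth_rewrite 2 [h]; exact mul_inv_cancel₀ hi0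
    have h6 : ((2 : ℕ) : F) = 0 := by
      rw [Nat.cast_ofNat]; linear_combination -h5
    have h7 := (Nat.prime_dvd_prime_iff_eq hp.out Nat.prime_two).mp
      ((CharP.cast_eq_zero_iff F p 2).mp h6)
    have := hcop 2 ((by norm_num : 2 ∣ 4).trans h44)
    rw [h7] at this
    simp at this
  have hyG := hG _ (DD_det i hi0)
  obtain ⟨A₀, hA₀, hy⟩ := h1.2 ⟨_, hyG⟩
  have hy' := (mem_liftSub hyG).mpr hy
  have hn₀ := nilpotent_liftSub (h3 A₀ hA₀)
  let f : Subgroup G → Subgroup G := fun A =>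
    if h : ∃ v : Fin 2 → F, v ≠ 0 ∧ A ≤ downSub G (lineStab v) then
      downSub G (lineStab h.choose) else A
  refine false_of_min_cover_redundant h1 h2 hA₀ f (fun A hA => ?_) fun g hg => ?_
  · by_cases h : ∃ v : Fin 2 → F, v ≠ 0 ∧ A ≤ downSub G (lineStab v)
    · simp only [f, dif_pos h]
      exact ⟨h.choose_spec.2, down_ne_top p G hG h.choose_spec.1⟩
    · simp only [f, dif_neg h]
      exact ⟨le_rfl, h1.1 A hA⟩
  obtain ⟨s, hs, e⟩ := hS g
  have hsG := hG s hs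
  have eg : g = ⟨_, hsG⟩ := Subtype.ext e.symm
  subst eg
  have hsA := (mem_liftSub hsG).mpr hg
  obtain ⟨w, hw, hsw⟩ : ∃ w, w ≠ 0 ∧ s ∈ lineStab w := by
    obtain ⟨a, b, ha, hb, ⟨j, hj⟩, hbo, hab⟩ := H3.exists_p_part 2 s
    have h5 := commute_of_nilpotent_of_pow (p := 2) hn₀ hy' (Subgroup.zpowers_le.mpr hsA hb)
      ⟨k, hk ▸ DD_pow i hi0 (FiniteField.pow_card_sub_one_eq_one i hi0)⟩ hbo
    have h6 := (mem_cent_DD hi0 hi2 b).mp (Subgroup.mem_centralizer_singleton_iff.mpr h5.symm)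
    have h7 : b ^ 2 ^ k = 1 := by
      have hdet : (b : Matrix (Fin 2) (Fin 2) F).det ≠ 0 := b.det_ne_zero
      rw [Matrix.det_fin_two, h6.1, zero_mul, sub_zero] at hdet
      have h8 : (b : Matrix (Fin 2) (Fin 2) F) = Matrix.diagonal
          ![(b : Matrix (Fin 2) (Fin 2) F) 0 0, (b : Matrix (Fin 2) (Fin 2) F) 1 1] := by
        ext i j; fin_cases i <;> fin_cases j <;> simp [h6.1, h6.2]
      refine Units.ext ?_
      rw [Units.val_pow_eq_pow_val, h8, Matrix.diagonal_pow, Units.val_one, ← Matrix.diagonal_one,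
        ← hk]
      congr 1
      ext i
      refine FiniteField.pow_card_sub_one_eq_one _ ?_
      fin_cases i
      · exact left_ne_zero_of_mul hdet
      · exact right_ne_zero_of_mul hdet
    have h8 : orderOf b = 1 := Nat.eq_one_of_dvd_coprimes (Nat.Coprime.pow_right k hbo) dvd_rfl
      (orderOf_dvd_of_pow_eq_one h7)
    rw [orderOf_eq_one_iff.mp h8, mul_one] at hab
    exact eigen_of_two hi.symm j s hs (hab ▸ hj)
  obtain ⟨x, hx, hxp, hx1, hx2⟩ := exists_uu p hw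
  have hxG := hG x (det_eq_one_of_pow hxp)
  obtain ⟨A, hA, hxA⟩ := h1.2 ⟨_, hxG⟩
  have hxA' := (mem_liftSub hxG).mpr hxA
  refine ⟨A, hA, fun e => hDu i hi0 hi2 w hw x hx hxp _ hn₀ (e ▸ hxA') hy', ?_⟩
  have h : ∃ v : Fin 2 → F, v ≠ 0 ∧ A ≤ downSub G (lineStab v) :=
    ⟨w, hw, le_downSub (hx1 _ (nilpotent_liftSub (h3 A hA)) hxA')⟩
  simp only [f, dif_pos h]
  rw [hx2 _ h.choose_spec.1 ((mem_downSub (center_le_lineStab h.choose_spec.1) hxG).mp
    (h.choose_spec.2 hxA))]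
  exact mem_downSub_of_mem _ hsw

end Two

/-- A cover of a group is a finite set of proper subgroups whose union is the whole group; it is minimal when no cover has fewer members, and nilpotent when all its members are nilpotent. Let F be a finite field with q elements and n ≥ 3, or n = 2 and q ≥ 4. Then no subgroup of PGL_n(F) = GL_n(F)/Z(GL_n(F)) containing the image of SL_n(F) has a nilpotent minimal cover. -/
theorem result {F : Type*} [Field F] [Fintype F] (n : ℕ) (hn : 3 ≤ n ∨ (n = 2 ∧ 4 ≤ Fintype.card F))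
    (G : Subgroup (GL (Fin n) F ⧸ Subgroup.center (GL (Fin n) F)))
    (hG : ((Matrix.SpecialLinearGroup.toGL : Matrix.SpecialLinearGroup (Fin n) F →* GL (Fin n) F).range).map
      (QuotientGroup.mk' (Subgroup.center (GL (Fin n) F))) ≤ G) :
    ¬ ∃ 𝓐 : Finset (Subgroup ↥G), ((∀ A ∈ 𝓐, A ≠ ⊤) ∧ (∀ g : ↥G, ∃ A ∈ 𝓐, g ∈ A)) ∧ (∀ 𝓑 : Finset (Subgroup ↥G), (∀ A ∈ 𝓑, A ≠ ⊤) ∧ (∀ g : ↥G, ∃ A ∈ 𝓑, g ∈ A) → 𝓐.card ≤ 𝓑.card) ∧ (∀ A ∈ 𝓐, Group.IsNilpotent ↥A) := by
  obtain ⟨p, hp⟩ := CharP.exists F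
  have := Fact.mk (CharP.char_is_prime F p)
  have hG' : ∀ g : GL (Fin n) F, Matrix.det g.val = 1 → QuotientGroup.mk g ∈ G :=
    fun g hg => hG ⟨g, mem_range_toGL_iff.mpr hg, rfl⟩
  rcases hn with hn | ⟨rfl, hq⟩
  · obtain ⟨m, rfl⟩ : ∃ m, n = m + 3 := ⟨n - 3, by omega⟩
    exact big (p := p) m G hG'
  · exact small (p := p) hq G hG'

end Cfsg.Agent.S3894
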