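import Cfsg.Statements.S3940
import Cfsg.Agent.H25.SimpSec

set_option autoImplicit false
open Cfsg

namespace Cfsg.Agent.S3940

open Subgroup Cfsg.Agent.H20 Cfsg.Agent.H21 Cfsg.Agent.H25

theorem comm_of {G Y : Type*} [Group G] [Finite G] [Group Y] {p : ℕ} (hp : p.Prime)
    (h : ∀ H : Subgroup G, (Nat.card ↥H).Coprime p → Group.IsNilpotent ↥H) (hY : Involves Y G) {K : Subgroup Y}
    (hK : (♯K).Coprime p) {a b : Y} (ha : a ∈ K) (hb : b ∈ K) (hab : (orderOf a).Coprime (orderOf b)) : a * b = b * a := by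
  obtain ⟨L, f, hf⟩ := H9.involves_iff.1 hY
  haveI : Finite Y := Finite.of_surjective f hf
  obtain ⟨M, -, h1, h2⟩ := exists_isPi_lift f (H := ⊤) (B := K) (by rw [map_top_of_surjective f hf]; exact le_top)
    ((isPi_compl_singleton_iff_coprime hp).2 hK)
  haveI := h (M.map L.subtype) (by rw [card_map_subtype]; exact h2.coprime_prime hp)
  haveI : Group.IsNilpotent M := nilpotent_of_mulEquiv (M.equivMapOfInjective _ L.subtype_injective).symm
  have h3 : Group.IsNilpotent K := h1 ▸ nilpotent_of_surjective _ (f.subgroupMap_surjective M)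
  exact le_cent_iff.1 (cent_of_nil_coprime h3 (zpowers_le.2 ha) (zpowers_le.2 hb) (by simpa using hab)) a
    (mem_zpowers a) b (mem_zpowers b)

/-- Let p > 3 be a prime and G a finite group in which every subgroup of order prime to p is nilpotent. Then G is solvable. -/
theorem result {G : Type*} [Group G] [Finite G] (p : ℕ) (hp : p.Prime) (hp3 : 3 < p)
    (h : ∀ H : Subgroup G, (Nat.card ↥H).Coprime p → Group.IsNilpotent ↥H) : Group.IsSolvable G := by
  by_contra hG
  obtain ⟨Y, _, _, _, hc, hY⟩ := exists_simple_sec hG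
  have h6 : ∀ n, n ∣ 12 → n.Coprime p := fun n hn => by
    refine Nat.Coprime.coprime_dvd_left hn ?_
    rw [show 12 = 2 ^ 2 * 3 by norm_num]
    exact Nat.Coprime.mul_left (Nat.Coprime.pow_left _ ((Nat.coprime_primes Nat.prime_two hp).2 (by omega)))
      ((Nat.coprime_primes Nat.prime_three hp).2 (by omega))
  rcases simple_inv hc with ⟨F, _, _, m, hm, hF, ⟨e⟩⟩ | k | k
  · haveI := H15.Sz.charP_two hF
    let M := (H15.Sz.lieModel hm hF).ofEquiv e
    have hq : Nat.card F = 2 ^ (2 * m + 1) := by rw [Nat.card_eq_fintype_card, hF]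
    have h2 : (2 ^ (2 * m + 1)).Coprime p := Nat.Coprime.pow_left _ (h6 2 (by norm_num))
    by_cases hd : p ∣ Nat.card F - 1
    · obtain ⟨g, -, hg, -, -, -, h4, -⟩ := M.tori hm hq
      have k1 := hg.card_cent_dvd
      have k2 : (Nat.card F ^ 2 + 1).Coprime p := by
        refine ((Nat.Prime.coprime_iff_not_dvd hp).2 fun k => ?_).symm
        have k3 : Nat.card F ^ 2 + 1 = (Nat.card F - 1) * (Nat.card F + 1) + 2 := by
          obtain ⟨n, hn⟩ : ∃ n, Nat.card F = n + 1 := ⟨Nat.card F - 1, by have := Nat.card_pos (α := F); omega⟩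
          rw [hn, Nat.add_sub_cancel]; ring
        rw [k3, Nat.dvd_add_right (hd.mul_right _)] at k
        exact absurd (Nat.le_of_dvd two_pos k) (by omega)
      obtain ⟨t, ht, ht2⟩ : ∃ t ∈ N⟦C₁⟦g⟧⟧, orderOf t = 2 := by
        obtain ⟨t, ht⟩ := exists_prime_orderOf_dvd_card' (G := N⟦C₁⟦g⟧⟧) 2 (by
          rw [h4]; exact Dvd.dvd.mul_right (by norm_num) _)
        exact ⟨t, t.2, by rw [← ht, orderOf_coe]⟩
      have odd := (H15.Sz.Model.odd_sq_add_one (F := F)).of_dvd_nat k1
      have k3 := comm_of hp h hY (K := N⟦C₁⟦g⟧⟧) (by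
        rw [h4]; exact Nat.Coprime.mul_left (h6 4 (by norm_num)) (k2.coprime_dvd_left k1)) ht
        (le_norm_self _ (self_mem_cent1 g)) (by
          rw [ht2]; exact Nat.coprime_two_left.2 (odd.of_dvd_nat (Subgroup.orderOf_dvd_natCard _ (self_mem_cent1 g))))
      have := odd.of_dvd_nat (Subgroup.orderOf_dvd_natCard _ (mem_cent1.2 k3))
      rw [ht2] at this
      exact absurd this (by decide)
    · obtain ⟨a, ha⟩ := M.exists_unit_ne_one
      have k1 : orderOf (M.S 0 1) ∣ 2 ^ 2 := orderOf_dvd_of_pow_eq_one (M.Q_pow_four (M.S_mem 0 1))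
      have k2 : Odd (orderOf (M.D a)) := (H15.Sz.Model.odd_orderOf_unit a).of_dvd_nat (orderOf_map_dvd _ _)
      have k3 := comm_of hp h hY (K := MulAction.stabilizer Y M.inf) (by
        rw [M.card_stab, hq]
        exact Nat.Coprime.mul_left (h2.pow_left _) (hq ▸ ((Nat.Prime.coprime_iff_not_dvd hp).2 hd).symm))
        (M.D_smul_inf a) (M.S_smul_inf 0 1) ((Nat.coprime_two_right.2 k2).pow_right 2 |>.coprime_dvd_right k1)
      have k4 := orderOf_dvd_of_pow_eq_one (M.Q_pow_four (M.cent_Q (M.S_mem 0 1) (by simp [M.S_eq_one]) k3))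
      have := ((Nat.coprime_two_right.2 k2).pow_right 2).eq_one_of_dvd k4
      exact M.D_ne_one.2 ha (orderOf_eq_one_iff.1 this)
  · have := comm_of hp h (H9.involves_trans k hY) (K := ⊤) (h6 _ (by
      rw [card_top', Nat.card_perm, Nat.card_fin]; decide)) (mem_top (Equiv.swap 0 1)) (mem_top (finRotate 3)) (by
        rw [orderOf_eq_prime (p := 2) (by decide) (by decide), orderOf_eq_prime (p := 3) (by decide) (by decide)]; norm_num)
    exact absurd this (by decide)
  · have := comm_of hp h (H9.involves_trans k hY) (K := ⊤) (h6 _ (by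
      rw [card_top', H12.card_alt4])) (mem_top H12.alt4a) (mem_top H12.alt4b) (by
        rw [orderOf_eq_prime H12.alt4_rels.1 H12.alt4_rels.2.2.2, orderOf_eq_prime H12.alt4_rels.2.1 (by decide)]; norm_num)
    exact absurd this (by decide)

end Cfsg.Agent.S3940
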