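import Cfsg.Statements.S4010
import Cfsg.Agent.H25.DLen

set_option autoImplicit false
open Cfsg

namespace Cfsg.Agent.S4010

open Subgroup Cfsg.Agent.H25

/-- Let F be a field, n ≥ 1, and P a finite p-group (p a prime) admitting an injective homomorphism into the general linear group of degree n over F. Then the derived length of P is at most ⌊log₂ n⌋ + 1: that term of the derived series of P is trivial. -/
theorem result {P : Type*} [Group P] [Finite P] (p : ℕ) [Fact p.Prime] (hP : IsPGroup p P) (F : Type*) [Field F] (n : ℕ) (hn : 1 ≤ n) (ρ : P →* Matrix.GeneralLinearGroup (Fin n) F) (hρ : Function.Injective ρ) : derivedSeries P (Nat.log 2 n + 1) = ⊥ := by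
  have hp : p.Prime := Fact.out
  by_cases h : (p : F) = 0
  · haveI := (CharP.charP_iff_prime_eq_zero hp).mpr h
    exact derived_eq_bot_of_charP ((glEnd (RingHom.id F) n).comp ρ) ((glEnd_injective _ _).comp hρ) hP
      (by simpa using (Nat.lt_pow_succ_log_self one_lt_two n).le)
  · have := derived_eq_bot_of_rep ((glEnd (algebraMap F (AlgebraicClosure F)) n).comp ρ)
      ((glEnd_injective _ _).comp hρ) hP (fun e => h ((algebraMap F (AlgebraicClosure F)).injective
        (by simpa using e))) (q := 1) (by simpa using hp.ne_one) id (fun _ _ => rfl) (by simp) (fun _ h => h)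
    refine le_bot_iff.mp (this ▸ derivedSeries_antitone P ?_)
    simpa using Nat.log_anti_left one_lt_two hp.two_le

end Cfsg.Agent.S4010
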