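import Cfsg.Statements.S4014
import Cfsg.Agent.H25.DLen

set_option autoImplicit false
open Cfsg

namespace Cfsg.Agent.S4014

open Subgroup Cfsg.Agent.H25

/-- Let p be a prime, n ≥ 1, and P a Sylow p-subgroup of the symmetric group on n letters. Then the derived length of P is exactly k = ⌊log_p n⌋ (the largest k with p^k ≤ n): the k-th derived subgroup of P is trivial and, when k ≥ 1, the (k−1)-st is not. -/
theorem result (p : ℕ) [Fact p.Prime] (n : ℕ) (hn : 1 ≤ n) (P : Sylow p (Equiv.Perm (Fin n))) : derivedSeries ↥(P : Subgroup (Equiv.Perm (Fin n))) (Nat.log p n) = ⊥ ∧ (1 ≤ Nat.log p n → derivedSeries ↥(P : Subgroup (Equiv.Perm (Fin n))) (Nat.log p n - 1) ≠ ⊥) := by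
  have hp : p.Prime := Fact.out
  refine ⟨derived_eq_bot_of_perm P.isPGroup' _ (subtype_injective _)
    (by simpa using Nat.lt_pow_succ_log_self hp.one_lt n), fun h => ?_⟩
  obtain ⟨D, _, _, α, _, f, h1, h2, h3, h4⟩ := exists_perm_derived p (Nat.log p n - 1)
  haveI := Fintype.ofFinite α
  obtain ⟨ι⟩ : Nonempty (α ↪ Fin n) := Function.Embedding.nonempty_of_card_le (by
    rw [← Nat.card_eq_fintype_card, h3, Nat.sub_add_cancel h, Fintype.card_fin]
    exact Nat.pow_log_le_self p (by omega))
  exact derived_ne_bot_sylow P h2 ((Equiv.Perm.viaEmbeddingHom ι).comp f)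
    ((Equiv.Perm.viaEmbeddingHom_injective ι).comp h1) h4

end Cfsg.Agent.S4014
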