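import Cfsg.Statements.S4015
import Cfsg.Agent.H25.DLen

set_option autoImplicit false
open Cfsg

namespace Cfsg.Agent.S4015

open Subgroup Cfsg.Agent.H25 Module

/-- Let p be an odd prime, F a finite field with q elements where p does not divide q, and e the multiplicative order of q modulo p. Let n ≥ e and write w = ⌊n/e⌋ and k = ⌊log_p w⌋. Then a Sylow p-subgroup of GL(n, F) has derived length exactly k + 1: its (k+1)-st derived subgroup is trivial and its k-th is not. -/
theorem result (p : ℕ) [Fact p.Prime] (hp : p ≠ 2) (F : Type*) [Field F] [Fintype F] (q : ℕ) (hq : Fintype.card F = q) (hpq : ¬ p ∣ q) (n : ℕ) (hn : orderOf (q : ZMod p) ≤ n) (P : Sylow p (Matrix.GeneralLinearGroup (Fin n) F)) : derivedSeries ↥(P : Subgroup (Matrix.GeneralLinearGroup (Fin n) F)) (Nat.log p (n / orderOf (q : ZMod p)) + 1) = ⊥ ∧ derivedSeries ↥(P : Subgroup (Matrix.GeneralLinearGroup (Fin n) F)) (Nat.log p (n / orderOf (q : ZMod p))) ≠ ⊥ := by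
  have hp' : p.Prime := Fact.out
  obtain ⟨r, hr⟩ := CharP.exists F
  obtain ⟨m, hr', hm⟩ := FiniteField.card F r
  haveI := Fact.mk hr'
  have hq0 : (q : ZMod p) ≠ 0 := mt (ZMod.natCast_eq_zero_iff q p).mp hpq
  have he : 0 < orderOf (q : ZMod p) := (isOfFinOrder_iff_pow_eq_one.mpr
    ⟨p - 1, by have := hp'.two_le; omega, ZMod.pow_card_sub_one_eq_one hq0⟩).orderOf_pos
  constructor
  · have := derived_eq_bot_of_rep ((glEnd (algebraMap F (AlgebraicClosure F)) n).comp (Subgroup.subtype _))
      ((glEnd_injective _ _).comp (subtype_injective _)) P.isPGroup' (fun e => hpq (by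
        rw [← hq, hm, ← (Nat.prime_dvd_prime_iff_eq hr' hp').mp ((CharP.cast_eq_zero_iff _ r p).mp e)]
        exact dvd_pow_self _ m.ne_zero)) hpq (fun w i => w i ^ q) (fun g w => funext fun i => by
        simp only [MonoidHom.comp_apply, glEnd_apply]
        rw [← hq, hm, sum_pow_char_pow]
        refine Finset.sum_congr rfl fun j _ => ?_
        rw [mul_pow, ← map_pow, ← hm, FiniteField.pow_card])
      (fun c w => funext fun i => mul_pow _ _ _) (fun w h => funext fun i => pow_eq_zero_iff
        (hq ▸ Fintype.card_ne_zero) |>.mp (congrFun h i))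
    simpa using this
  · classical
    set e := orderOf (q : ZMod p)
    obtain ⟨c, hc⟩ := exists_prime_orderOf_dvd_card' (G := GL (Fin e) F) p (by
      rw [Matrix.card_GL_field, hq]
      refine Dvd.dvd.trans ?_ (Finset.dvd_prod_of_mem _ (Finset.mem_univ ⟨0, he⟩))
      refine (Nat.modEq_iff_dvd' (Nat.pow_le_pow_right (hq ▸ Fintype.card_pos) (Nat.zero_le _))).mp
        ((ZMod.natCast_eq_natCast_iff _ _ _).mp ?_)
      simp [e])
    obtain ⟨D, _, _, V, _, _, _, f, h1, h2, h3, h4⟩ := exists_lin_derived p F he c hc (Nat.log p (n / e))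
    have h5 : e * p ^ Nat.log p (n / e) ≤ n := by
      rw [mul_comm, ← Nat.le_div_iff_mul_le he]
      exact Nat.pow_log_le_self p (Nat.div_pos hn he).ne'
    let W := V × (Fin (n - finrank F V) → F)
    let b : Basis (Fin n) F W := finBasisOfFinrankEq F W (by simp [W]; omega)
    let g : D →* Module.End F W :=
      { toFun := fun d => (f d).prodMap LinearMap.id
        map_one' := by rw [map_one]; rfl
        map_mul' := fun a b => by rw [map_mul]; rfl }
    refine derived_ne_bot_sylow P h2 ((LinearMap.toMatrixAlgEquiv b).toMulEquiv.toMonoidHom.comp g).toHomUnits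
      (fun x y h => h1 (LinearMap.ext fun v => ?_)) h4
    exact congrArg Prod.fst (LinearMap.congr_fun ((LinearMap.toMatrixAlgEquiv b).injective
      (congrArg Units.val h)) (v, 0))

end Cfsg.Agent.S4015
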