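import Cfsg.Statements.S4016
import Cfsg.Agent.H25.PLift
import Cfsg.Agent.H25.Cyc
import Cfsg.Agent.S3188
import Cfsg.Agent.S0252
import Cfsg.Agent.S0253
import Cfsg.Agent.H12.PSL2Dih
import Cfsg.Agent.H3.Misc1
import Cfsg.Agent.H3.PNil
import Cfsg.Agent.FT
import Cfsg.Agent.H1.Cores

set_option autoImplicit false
open Cfsg

namespace Cfsg.Agent.S4016

open Subgroup Cfsg.Agent.H20 Cfsg.Agent.H21 Cfsg.Agent.H25
open scoped MatrixGroups commutatorElement

theorem psl_aux {F : Type} [Field F] [Fintype F] {p : ℕ} (hp : p.Prime) (h2 : p ≠ 2)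
    (hF : 3 ≤ (Fintype.card F - 1) / Nat.gcd 2 (Fintype.card F - 1)) :
    ∃ H : Subgroup PSL(2, F), ¬ p ∣ ♯H ∧ ¬ IsMulCommutative H := by
  have hd : Nat.gcd 2 (Fintype.card F - 1) ∣ Fintype.card F - 1 := Nat.gcd_dvd_right _ _
  have hd2 : Nat.gcd 2 (Fintype.card F - 1) ∣ 2 := Nat.gcd_dvd_left _ _
  have h3 : 3 ≤ Fintype.card F - 1 := hF.trans (Nat.div_le_self _ _)
  have key : ∀ N, (N = Fintype.card F - 1 ∨ N = Fintype.card F + 1) → ¬ p ∣ N →
      ∃ H : Subgroup PSL(2, F), ¬ p ∣ ♯H ∧ ¬ IsMulCommutative H := by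
    intro N hN hpN
    obtain ⟨H, a, s, hH, ha⟩ := H12.exists_dihedralPair (F := F) hN (by omega)
    have hdN : Nat.gcd 2 (Fintype.card F - 1) ∣ N := by
      rcases hN with h | h
      · rwa [h]
      · rw [h, show Fintype.card F + 1 = Fintype.card F - 1 + 2 by omega]
        exact dvd_add hd hd2
    refine ⟨H, fun h => ?_, fun h => ?_⟩
    · rw [hH.card, ha] at h
      rcases (Nat.Prime.dvd_mul hp).mp h with h | h
      · exact h2 ((Nat.prime_dvd_prime_iff_eq hp Nat.prime_two).mp h)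
      · exact hpN (h.trans (Nat.div_dvd_of_dvd hdN))
    · have h1 := comm_iff.mp h s hH.right_mem a hH.left_mem
      have h4 := hH.2.2.1
      rw [h1, mul_inv_cancel_right] at h4
      have h5 : a ^ 2 = 1 := by rw [sq]; nth_rewrite 1 [h4]; simp
      have h6 := Nat.le_of_dvd two_pos (orderOf_dvd_of_pow_eq_one h5)
      have h7 : (Fintype.card F - 1) / Nat.gcd 2 (Fintype.card F - 1) ≤ N / Nat.gcd 2 (Fintype.card F - 1) :=
        Nat.div_le_div_right (by omega)
      omega
  by_cases h : p ∣ Fintype.card F - 1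
  · refine key _ (Or.inr rfl) fun h' => h2 ?_
    have : p ∣ 2 := by
      have := (Nat.dvd_sub h' h)
      rwa [show Fintype.card F + 1 - (Fintype.card F - 1) = 2 by omega] at this
    exact (Nat.prime_dvd_prime_iff_eq hp Nat.prime_two).mp this
  · exact key _ (Or.inl rfl) h

theorem transport {G G' : Type*} [Group G] [Group G'] [Finite G] (f : G →* G') {p : ℕ} (hp : p.Prime)
    {H : Subgroup G'} (hH : H ≤ f.range) (h1 : ¬ p ∣ ♯H) (h2 : ¬ IsMulCommutative H) :
    ∃ K : Subgroup G, ¬ p ∣ ♯K ∧ ¬ IsMulCommutative K := by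
  obtain ⟨K, -, hK, hπ⟩ := exists_isPi_lift (π := {p}ᶜ) f (H := ⊤) (B := H)
    (by rwa [← MonoidHom.range_eq_map]) ((isPi_compl_singleton_iff hp).mpr h1)
  refine ⟨K, (isPi_compl_singleton_iff hp).mp hπ, fun h => h2 ?_⟩
  rw [← hK]
  exact map_isMulCommutative _ _

theorem psl_bad {F : Type} [Field F] [Fintype F] {p : ℕ} (hp : p.Prime) (h2 : p ≠ 2)
    (hF : ((Fintype.card F % 8 = 3 ∨ Fintype.card F % 8 = 5) ∧ 5 ≤ Fintype.card F) ∨
      (∃ n : ℕ, 2 ≤ n ∧ Fintype.card F = 2 ^ n)) :
    ∃ H : Subgroup PSL(2, F), ¬ p ∣ ♯H ∧ ¬ IsMulCommutative H := by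
  by_cases h5 : Fintype.card F = 5
  · haveI : Fact (Nat.Prime 2) := ⟨Nat.prime_two⟩
    haveI : Fintype (GaloisField 2 2) := Fintype.ofFinite _
    have h4 : Fintype.card (GaloisField 2 2) = 4 := by
      rw [← Nat.card_eq_fintype_card, GaloisField.card 2 2 (by norm_num)]; rfl
    obtain ⟨e1⟩ := S0253.result h5
    obtain ⟨e2⟩ := S0252.result h4
    obtain ⟨H, h, h'⟩ := psl_aux (F := GaloisField 2 2) hp h2 (by rw [h4]; decide)
    refine transport (e1.trans e2.symm).toMonoidHom hp ?_ h h'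
    rw [MonoidHom.range_eq_top.mpr (e1.trans e2.symm).surjective]; exact le_top
  apply psl_aux hp h2
  rcases hF with ⟨h, h'⟩ | ⟨n, hn, h⟩
  · have : Nat.gcd 2 (Fintype.card F - 1) ≤ 2 := Nat.gcd_le_left _ two_pos
    refine le_trans ?_ (Nat.div_le_div_left this (Nat.gcd_pos_of_pos_left _ two_pos))
    omega
  · obtain ⟨k, rfl⟩ : ∃ k, n = k + 2 := ⟨n - 2, by omega⟩
    have h1 : 1 ≤ 2 ^ k := Nat.one_le_two_pow
    have h3 : Fintype.card F = 4 * 2 ^ k := by rw [h]; ring
    have : Nat.gcd 2 (Fintype.card F - 1) = 1 := by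
      rw [← Nat.coprime_iff_gcd_eq_one, Nat.coprime_two_left, Nat.odd_iff]; omega
    rw [this]; omega

universe u

theorem solv {p : ℕ} (hp : p.Prime) (h2 : p ≠ 2) (n : ℕ) :
    ∀ (G : Type u) [Group G] [Finite G], Nat.card G ≤ n →
      (∀ H : Subgroup G, ¬ p ∣ Nat.card H → IsMulCommutative H) → Group.IsSolvable G := by
  induction n with
  | zero => intro G _ _ h; have := Nat.card_pos (α := G); omega
  | succ n ih =>
    intro G _ _ hn hab
    haveI : Fact (Nat.Prime 2) := ⟨Nat.prime_two⟩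
    have hsub : ∀ K : Subgroup G, K ≠ ⊤ → Group.IsSolvable K := by
      intro K hK
      refine ih K ?_ fun H hH => ?_
      · have := card_lt (lt_top_iff_ne_top.mpr hK)
        rw [card_top'] at this; omega
      · have := hab (H.map K.subtype) (by rwa [card_map_subtype])
        rw [comm_iff] at this ⊢
        intro a ha b hb
        exact Subtype.ext (this _ ⟨a, ha, rfl⟩ _ ⟨b, hb, rfl⟩)
    by_cases hD : commutator G = ⊤
    swap
    · haveI := hsub _ hD
      haveI : IsMulCommutative (G ⧸ commutator G) :=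
        Normal.quotient_commutative_iff_commutator_le.mpr le_rfl
      haveI : Group.IsSolvable (G ⧸ commutator G) := Group.isSolvable_of_comm fun a b => mul_comm' a b
      exact Group.isSolvable_of_ker_le_range (commutator G).subtype (QuotientGroup.mk' (commutator G))
        (by simp)
    have hS : ∀ S : Sylow 2 G, IsMulCommutative (S : Subgroup G) := by
      intro S
      apply hab
      obtain ⟨k, hk⟩ := S.isPGroup'.exists_card_eq
      rw [hk]
      exact fun h => h2 ((Nat.prime_dvd_prime_iff_eq hp Nat.prime_two).mp (hp.dvd_of_dvd_pow h))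
    have hC : ∀ t : G, orderOf t = 2 → Group.IsSolvable ↥(centralizer ({t} : Set G)) := by
      intro t ht
      refine hsub _ fun h => ?_
      obtain ⟨S, hS'⟩ := (isPGroup_of_card_prime (A := zpowers t) (p := 2)
        (by rw [Nat.card_zpowers, ht])).exists_le_sylow
      have h1 := H3.mem_commutator_of_mem_center (H := (S : Subgroup G)) S.card_coprime_index
        (hS' (mem_zpowers t)) (hD ▸ mem_top t) (by
          rw [mem_center_iff]
          intro g
          exact mem_cent1.mp (h ▸ mem_top g : g ∈ centralizer ({t} : Set G)))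
      rw [commg_eq_bot.mpr (comm_iff_le_cent.mp (hS S)), mem_bot] at h1
      rw [h1, orderOf_one] at ht
      omega
    obtain ⟨S⟩ := (inferInstance : Nonempty (Sylow 2 G))
    refine (S3188.result S (hS S) hC).resolve_right ?_
    rintro ⟨F, _, _, hF, N, -, ⟨e⟩, -⟩
    obtain ⟨H, h, h'⟩ := psl_bad hp h2 hF
    obtain ⟨K, hK, hK'⟩ := transport e.toMonoidHom hp (H := H)
      (by rw [MonoidHom.range_eq_top.mpr e.surjective]; exact le_top) h h'
    obtain ⟨L, hL, hL'⟩ := transport (QuotientGroup.mk' (Cfsg.oddCore G)) hp (H := K.map N.subtype)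
      (by rw [MonoidHom.range_eq_top.mpr (QuotientGroup.mk'_surjective _)]; exact le_top)
      (by rwa [card_map_subtype]) (fun h => hK' (by
        rw [comm_iff] at h ⊢
        intro a ha b hb
        exact Subtype.ext (h _ ⟨a, ha, rfl⟩ _ ⟨b, hb, rfl⟩)))
    exact hL' (hab L hL)

/-- Let G be a finite group and p a prime such that a Sylow p-subgroup P of G is cyclic and every subgroup of G of order prime to p is abelian. Then G has a normal p-complement or P is normal in G. -/
theorem result {G : Type*} [Group G] [Finite G] {p : ℕ}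
    [Fact p.Prime] (P : Sylow p G) (hcyc : IsCyclic P)
    (hab : ∀ H : Subgroup G, ¬ p ∣ Nat.card H → IsMulCommutative H) :
    Cfsg.HasNormalPComplement p G ∨ (P : Subgroup G).Normal := by
  classical
  have hp : p.Prime := Fact.out
  by_cases hN : normalizer ((P : Subgroup G) : Set G) ≤ centralizer ((P : Subgroup G) : Set G)
  · exact Or.inl (H3.hasNormalPComplement_of_normalizer_le_centralizer P hN)
  right
  by_cases hd : p ∣ Nat.card G
  swap
  · have : (P : Subgroup G) = ⊥ :=
      (Hall.sylow_eq_bot_iff (sylowOf_top P)).mpr (by rwa [card_top'])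
    rw [this]; infer_instance
  have h2 : p ≠ 2 := by
    rintro rfl
    exact hN (hcyc.normalizer_le_centralizer ((Nat.minFac_eq_two_iff _).mpr hd))
  have hsol := solv hp h2 _ G le_rfl hab
  have hP := sylowOf_top P
  have hPc : (P : Subgroup G) ≤ C⟦(P : Subgroup G)⟧ := comm_iff_le_cent.mp (comm_of_cyclic hcyc)
  set O := piCoreOf {p}ᶜ (⊤ : Subgroup G) with hO
  have hOn : O ⊴ ⊤ := piCoreOf_normalIn _ _
  have hOπ : IsPi {p}ᶜ O := isPi_piCoreOf _ _
  have h1 : (P : Subgroup G) ≤ pPrimePCoreOf p ⊤ := by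
    have := cent_sylow_ppcore_le (sol_top_iff.mpr hsol) (Hall.inf_normalIn hP (ppcore_normalIn p ⊤))
    exact (le_inf le_top (hPc.trans (cent_anti inf_le_left))).trans this
  have hK := (pLen1_of_sylow_le hP h1).sup_normalIn hP
  -- a p'-element normalizing but not centralizing P
  obtain ⟨g, hg, hg'⟩ := SetLike.not_le_iff_exists.mp hN
  obtain ⟨a, b, ha, hb, ⟨k, hk⟩, hbo, rfl⟩ := H3.exists_p_part p g
  have ha' : zpowers a ≤ N⟦(P : Subgroup G)⟧ := zpowers_le.mpr (zpowers_le.mpr hg ha)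
  have hb' : zpowers b ≤ N⟦(P : Subgroup G)⟧ := zpowers_le.mpr (zpowers_le.mpr hg hb)
  have haP : a ∈ (P : Subgroup G) := by
    refine Hall.pgroup_le_of_norm hP ?_ le_top (Or.inl ha') (mem_zpowers a)
    obtain ⟨j, hj⟩ := exists_orderOf_eq_pow hp hk
    exact IsPGroup.of_card (by rw [Nat.card_zpowers, hj])
  have hbC : ¬ zpowers b ≤ C⟦(P : Subgroup G)⟧ := fun h =>
    hg' (mul_mem (hPc haP) (h (mem_zpowers b)))
  have hcop : (♯(P : Subgroup G)).Coprime (♯(zpowers b)) :=
    coprime_of_isPGroup P.isPGroup' (by rwa [Nat.card_zpowers])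
  have hcomp := coprime_comm_compl (comm_of_cyclic hcyc) hb' hcop
  have h3 : (P : Subgroup G) ⊓ C⟦zpowers b⟧ = ⊥ := by
    by_contra hne
    have hne' : ⁅(P : Subgroup G), zpowers b⁆ ≠ ⊥ := fun h => hbC (cent_symm (commg_eq_bot.mp h))
    obtain ⟨X, hX, hXc⟩ := exists_prime_subgroup hp
      (dvd_card_of_isPGroup (P.isPGroup'.to_le (Compl.right_le hcomp)) hne)
    obtain ⟨Y, hY, hYc⟩ := exists_prime_subgroup hp
      (dvd_card_of_isPGroup (P.isPGroup'.to_le (Compl.left_le hcomp)) hne')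
    have e := eq_of_card_eq_of_isCyclic (hX.trans (Compl.right_le hcomp))
      (hY.trans (Compl.left_le hcomp)) (hXc.trans hYc.symm)
    have : X ≤ ⊥ := Compl.inf_eq hcomp ▸ le_inf (e ▸ hY) hX
    rw [le_bot_iff.mp this, card_bot] at hXc
    exact hp.one_lt.ne hXc
  have h4 : ⁅(P : Subgroup G), zpowers b⁆ = P := by
    have := Compl.sup_eq hcomp
    rwa [h3, sup_bot_eq] at this
  have h5 : zpowers b ≤ C⟦O⟧ := by
    have hπ : IsPi {p}ᶜ (O ⊔ zpowers b) := hOπ.sup
      ((isPi_compl_singleton_iff_coprime hp).mpr (by rwa [Nat.card_zpowers]))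
      (Or.inr (le_top.trans hOn.norm))
    exact le_cent_of_comm (hab _ ((isPi_compl_singleton_iff hp).mp hπ)) le_sup_right le_sup_left
  have h6 : (P : Subgroup G) ≤ C⟦O⟧ := by
    rw [← h4]
    exact (commutator_mono le_rfl h5).trans (commg_le_right (le_top.trans (norm_cent hOn.norm)))
  have h7 : (P : Subgroup G) ⊴ O ⊔ P := NormalIn.sup_right (norm_of_cent (cent_symm h6))
  exact (Hall.normalIn_trans (Hall.of_le hP le_sup_right le_top) h7 hK).normal

end Cfsg.Agent.S4016
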