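import Cfsg.Statements.S4017
import Mathlib
import Cfsg.Agent.H2.Mix4

set_option autoImplicit false
open Cfsg

namespace Cfsg.Agent.S4017

open Subgroup H2.Mix

theorem of_nc {G : Type*} [Group G] [Finite G] {p q : ℕ} [hp : Fact p.Prime] [hq : Fact q.Prime]
    (hm : Mx p q G) (hpq : p ≠ q) (hqG : q ∣ Nat.card G) (h : HasNormalPComplement q G) :
    ∀ r : ℕ, r.Prime → r ∣ Nat.card G → r = p ∨ r = q := by
  intro r hr hd
  obtain ⟨K, k1, -, k2, -, k3⟩ := hm.nc hpq (H3.hasNormalPComplement_top_iff.2 h) (by rwa [card_top])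
  obtain ⟨S, hS⟩ := H3.exists_sylowIn q (⊤ : Subgroup G)
  have h1 := H3.card_sup_mul_card_inf (H := S) (N := K) (hS.le.trans (le_normalizer.trans k2))
  rw [sup_comm, k3 S hS, card_top] at h1
  obtain ⟨a, ha⟩ := IsPGroup.iff_card.1 k1
  obtain ⟨b, hb⟩ := IsPGroup.iff_card.1 hS.isPGroup
  have h2 : r ∣ q ^ b * p ^ a := by rw [← ha, ← hb, ← h1]; exact hd.mul_right _
  rcases hr.dvd_mul.1 h2 with h3 | h3
  · exact Or.inr ((Nat.prime_dvd_prime_iff_eq hr hq.out).1 (hr.dvd_of_dvd_pow h3))
  · exact Or.inl ((Nat.prime_dvd_prime_iff_eq hr hp.out).1 (hr.dvd_of_dvd_pow h3))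

/-- Let G be a finite group and let p and q be distinct primes dividing the order of G, with p odd. Suppose that p divides the order of every proper subgroup of G that is neither a q-group nor of order prime to q. Let q^a be the q-part of the order of G. If p > q^a − 1, or if p = q^a − 1 and the Sylow p-subgroups of G are abelian, then p and q are the only primes dividing the order of G. -/
theorem result {G : Type*} [Group G] [Finite G]
    {p q : ℕ} (hp : p.Prime) (hq : q.Prime) (hpq : p ≠ q) (hp2 : p ≠ 2)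
    (hpG : p ∣ Nat.card G) (hqG : q ∣ Nat.card G)
    (hmix : ∀ H : Subgroup G, H ≠ ⊤ → ¬ IsPGroup q H → q ∣ Nat.card H → p ∣ Nat.card H)
    (hlarge : q ^ (Nat.card G).factorization q - 1 < p ∨
      (p = q ^ (Nat.card G).factorization q - 1 ∧ ∀ P : Sylow p G, IsMulCommutative P)) :
    ∀ r : ℕ, r.Prime → r ∣ Nat.card G → r = p ∨ r = q := by
  haveI := Fact.mk hp
  haveI := Fact.mk hq
  have hm : Mx p q G := fun H h1 h2 => by
    by_cases h : H = ⊤
    · rw [h, card_top]; exact hpG
    · exact hmix H h h1 h2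
  have hbd : ∀ B : Subgroup G, IsPGroup q B → Nat.card B ≤ q ^ (Nat.card G).factorization q := by
    intro B hB
    obtain ⟨S, hS⟩ := hB.exists_le_sylow
    rw [← S.card_eq_multiplicity]
    exact card_le_of_le hS
  rcases hm.dich hpq ⊤ with h | ⟨Q, x, g, -⟩
  · exact of_nc hm hpq hqG (H3.hasNormalPComplement_top_iff.1 h)
  have h1 := g.card_ge.trans (hbd Q g.two)
  obtain ⟨h2, h3⟩ := hlarge.resolve_left (by omega)
  have h4 : q ^ (Nat.card G).factorization q = p + 1 := by omega
  obtain rfl : q = 2 := by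
    have h5 : 2 ∣ q ^ (Nat.card G).factorization q := by
      rw [h4]; exact (hp.odd_of_ne_two hp2).add_one.two_dvd
    exact ((Nat.prime_dvd_prime_iff_eq Nat.prime_two hq).1 (Nat.prime_two.dvd_of_dvd_pow h5)).symm
  have hy : Hyp p G := ⟨hp2, hm, fun Y hY a ha b hb => by
    obtain ⟨P, hP⟩ := hY.exists_le_sylow
    haveI := h3 P
    exact H2.mul_comm_of_mem (hP ha) (hP hb), fun B hB => h4 ▸ hbd B hB⟩
  rcases main G hy with h | ⟨S, hS⟩
  · exact of_nc hm hpq hqG h
  intro r hr hd
  by_cases h5 : r = 2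
  · exact Or.inr h5
  left
  haveI := Fact.mk hr
  obtain ⟨R⟩ := (inferInstance : Nonempty (Sylow r G))
  exact hm.two hpq S.isPGroup' (S.ne_bot_of_dvd_card hqG) R.isPGroup' (R.ne_bot_of_dvd_card hd) h5
    (Or.inr (H2.le_normalizer_of_normal' _ _))

end Cfsg.Agent.S4017
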