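import Cfsg.Statements.S4018
import Cfsg.Agent.H25.Friend
import Cfsg.Agent.H11.Count
import Cfsg.Agent.H1.Basic

set_option autoImplicit false
open Cfsg

namespace Cfsg.Agent.S4018

/-- Let G be a finite group with an abelian Sylow 3-subgroup P such that the normalizer of P has order 4·#P, the centralizer C of P has order 2·#P, C meets each of its conjugates by elements outside its normalizer trivially, and every proper subgroup of G of even order has order dividing 4·#P. Then G is not simple. -/
theorem result {G : Type*} [Group G] [Finite G]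
    (P : Sylow 3 G) (hab : IsMulCommutative P)
    (hN : Nat.card (Subgroup.normalizer ((P : Subgroup G) : Set G)) = 4 * Nat.card P)
    (hC : Nat.card (Subgroup.centralizer (P : Set G)) = 2 * Nat.card P)
    (hTI : Cfsg.IsTISubset (Subgroup.centralizer (P : Set G) : Set G))
    (heven : ∀ H : Subgroup G, H ≠ ⊤ → 2 ∣ Nat.card H → Nat.card H ∣ 4 * Nat.card P) :
    ¬ IsSimpleGroup G := by
  intro hs
  set N := Subgroup.normalizer ((P : Subgroup G) : Set G) with hNdef
  set C := Subgroup.centralizer (P : Set G) with hCdef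
  obtain ⟨k, hk⟩ := P.2.exists_card_eq
  have hk' : Nat.card P = 3 ^ k := hk
  have hodd : Odd (Nat.card P) := by rw [hk']; exact Odd.pow (by decide)
  have hP0 : 0 < Nat.card P := Nat.card_pos
  have hCN : C ≤ N := Subgroup.centralizer_le_normalizer _
  have hPC : (P : Subgroup G) ≤ C := fun x hx => Subgroup.mem_centralizer_iff.mpr fun y hy =>
    congrArg Subtype.val (hab.is_comm.comm ⟨y, hy⟩ ⟨x, hx⟩)
  have hNt : N ≠ ⊤ := by
    intro h
    rcases hs.eq_bot_or_eq_top_of_normal _ (Subgroup.normalizer_eq_top_iff.mp h) with h1 | h1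
    · have : C = ⊤ := by
        rw [eq_top_iff]
        intro x _
        refine Subgroup.mem_centralizer_iff.mpr fun y hy => ?_
        have : y ∈ (P : Subgroup G) := hy
        rw [h1, Subgroup.mem_bot] at this
        simp [this]
      rw [this] at hC; rw [h] at hN; omega
    · have : Nat.card P = Nat.card (⊤ : Subgroup G) := by rw [← h1]
      rw [h] at hN; omega
  have hmax : ∀ H : Subgroup G, N ≤ H → H ≠ ⊤ → H = N := fun H h1 h2 =>
    (Subgroup.eq_of_le_of_card_ge h1 (hN ▸ Nat.le_of_dvd (by omega) (heven H h2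
      ((show 2 ∣ Nat.card N by rw [hN]; omega).trans (Subgroup.card_dvd_of_le h1))))).symm
  have hNC : Subgroup.normalizer (C : Set G) = N := by
    refine hmax _ (H1.normalizer_le_normalizer_centralizer (P : Subgroup G)) fun h => ?_
    rcases hs.eq_bot_or_eq_top_of_normal _ (Subgroup.normalizer_eq_top_iff.mp h) with h1 | h1
    · rw [h1] at hC; simp at hC; omega
    · exact hNt (eq_top_iff.mpr (h1 ▸ hCN))
  have hiP : (P : Subgroup G).relIndex C = 2 := by
    have := H1.card_mul_relIndex hPC
    rw [hC, mul_comm 2] at this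
    exact Nat.eq_of_mul_eq_mul_left hP0 this
  have hiC : C.relIndex N = 2 := by
    have := H1.card_mul_relIndex hCN
    rw [hC, hN, show 4 * Nat.card P = 2 * Nat.card P * 2 by ring] at this
    exact Nat.eq_of_mul_eq_mul_left (by omega) this
  have hidx : ∀ {A B : Subgroup G}, A.relIndex B = 2 → ∀ a ∈ B, ∀ b ∈ B, a ∉ A → b ∉ A →
      a * b ∈ A := fun {A B} h a ha b hb ha' hb' =>
    (Subgroup.mul_mem_iff_of_index_two (H := A.subgroupOf B) h (a := ⟨a, ha⟩) (b := ⟨b, hb⟩)).mpr
      (iff_of_false ha' hb')
  have hPinv : ∀ x ∈ (P : Subgroup G), x * x = 1 → x = 1 := fun x hx h =>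
    H11.eq_one_of_odd_of_sq (H11.odd_orderOf_of_odd_card hodd hx) h
  obtain ⟨t, htC, ht⟩ := H11.exists_invol_of_even (H := C) (by rw [hC]; simp)
  have ht' := H11.orderOf_two_iff.mp ht
  have htP : t ∉ (P : Subgroup G) := fun h => ht'.1 (hPinv t h ht'.2)
  have huniq : ∀ a ∈ C, orderOf a = 2 → a = t := by
    intro a ha ha2
    have ha' := H11.orderOf_two_iff.mp ha2
    have haP : a ∉ (P : Subgroup G) := fun h => ha'.1 (hPinv a h ha'.2)
    have h1 := hidx hiP a ha t htC haP htP
    have h2 : a * t * t = t * (a * t) := Subgroup.mem_centralizer_iff.mp htC _ h1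
    have h3 : a * t * (a * t) = 1 := by
      calc a * t * (a * t) = a * (t * (a * t)) := by group
        _ = a * a * (t * t) := by rw [← h2]; group
        _ = 1 := by rw [ha'.2, ht'.2, one_mul]
    have h4 := hPinv _ h1 h3
    calc a = a * t * t := by rw [mul_assoc, ht'.2, mul_one]
      _ = t := by rw [h4, one_mul]
  have hCt : Subgroup.centralizer ({t} : Set G) = N := by
    refine hmax _ (fun n hn => ?_) fun h => ?_
    · rw [Subgroup.mem_centralizer_singleton_iff, ← mul_inv_eq_iff_eq_mul]
      refine huniq _ ?_ (by rw [H11.orderOf_conj, ht])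
      rw [← hNC] at hn
      exact (Subgroup.mem_normalizer_iff.mp hn t).mp htC
    · have h1 : (Subgroup.zpowers t).Normal := by
        rw [← Subgroup.normalizer_eq_top_iff, eq_top_iff]
        intro g _
        have := Subgroup.mem_centralizer_singleton_iff.mp (h ▸ Subgroup.mem_top g)
        rw [← H11.map_conj_eq_iff_mem_normalizer, MonoidHom.map_zpowers]
        congr 1
        exact mul_inv_eq_iff_eq_mul.mpr this
      rcases hs.eq_bot_or_eq_top_of_normal _ h1 with h2 | h2
      · exact ht'.1 (by simpa using h2)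
      · exact hNt (eq_top_iff.mpr (h2 ▸ Subgroup.zpowers_le.mpr (hCN htC)))
  have hconj : ∀ u : G, orderOf u = 2 → ∃ g : G, g * u * g⁻¹ = t := by
    intro u hu
    have T : Sylow 2 G := default
    have h4 : 2 ^ 2 ∣ Nat.card G := by
      refine Dvd.dvd.trans ?_ (Subgroup.card_subgroup_dvd_card N)
      rw [hN]; norm_num
    have h5 := T.pow_dvd_card_of_pow_dvd_card h4
    have hT : (T : Subgroup G) ≠ ⊤ := by
      intro h
      have h1 : IsPGroup 2 (P : Subgroup G) := T.2.to_le (h ▸ le_top)
      have h2 := IsPGroup.disjoint_of_ne 2 3 (by decide) _ _ h1 P.2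
      rw [disjoint_self] at h2
      have : C = ⊤ := by
        rw [eq_top_iff]
        intro x _
        refine Subgroup.mem_centralizer_iff.mpr fun y hy => ?_
        have : y ∈ (P : Subgroup G) := hy
        rw [h2, Subgroup.mem_bot] at this
        simp [this]
      exact hNt (eq_top_iff.mpr (this ▸ hCN))
    have h6 := heven T hT ((by norm_num : 2 ∣ 2 ^ 2).trans h5)
    obtain ⟨j, hj⟩ := T.2.exists_card_eq
    have h7 : Nat.card (T : Subgroup G) ∣ 4 := by
      refine Nat.Coprime.dvd_of_dvd_mul_right ?_ h6
      rw [hj]; exact Nat.Coprime.pow_left _ (Nat.coprime_two_left.mpr hodd)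
    have h8 : Nat.card (T : Subgroup G) = 4 := Nat.dvd_antisymm h7 h5
    have h9 := (T : Subgroup G).card_mul_index
    have h10 := (Subgroup.zpowers t).card_mul_index
    rw [Nat.card_zpowers, ht] at h10
    have h11 := T.not_dvd_index
    rw [h8] at h9
    rcases H11.thompson_transfer (T := Subgroup.zpowers t) (by omega)
      (H11.mul_self_of_orderOf_two hu) with ⟨M, hM, -⟩ | ⟨g, hg⟩
    · rcases hs.eq_bot_or_eq_top_of_normal M (Subgroup.normal_of_index_eq_two hM) with h | h
      · rw [h, Subgroup.index_bot] at hM; omega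
      · rw [h, Subgroup.index_top] at hM; omega
    · exact ⟨g, huniq _ ((Subgroup.zpowers_le.mpr htC) hg) (by rw [H11.orderOf_conj, hu])⟩
  -- conjugating a commuting involution
  have hout : ∀ a c g : G, orderOf a = 2 → g * c * g⁻¹ = t → a ≠ c → a * c = c * a →
      g * a * g⁻¹ ∈ N ∧ g * a * g⁻¹ ∉ C := by
    intro a c g ha hc hac hcomm
    refine ⟨hCt ▸ Subgroup.mem_centralizer_singleton_iff.mpr ?_, fun h => hac ?_⟩
    · rw [← hc]
      calc g * a * g⁻¹ * (g * c * g⁻¹) = g * (a * c) * g⁻¹ := by group
        _ = _ := by rw [hcomm]; group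
    · have := huniq _ h (by rw [H11.orderOf_conj, ha])
      rw [← hc] at this
      simpa using this
  let W := {u : G // orderOf u = 2}
  have : Nonempty W := ⟨⟨t, ht⟩⟩
  obtain ⟨v, hv⟩ := H25.friendship_rel (W := W) (fun a b => a ≠ b ∧ a.1 * b.1 = b.1 * a.1)
    (fun a b h => ⟨h.1.symm, h.2.symm⟩) (fun a h => h.1 rfl) (by
      rintro ⟨a, ha⟩ ⟨b, hb⟩ hab'
      have hne : a ≠ b := fun h => hab' (Subtype.ext h)
      have ha' := H11.orderOf_two_iff.mp ha
      have hb' := H11.orderOf_two_iff.mp hb
      have hab1 : a * b ≠ 1 := fun h => hne (by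
        calc a = a * b * b := by rw [mul_assoc, hb'.2, mul_one]
          _ = b := by rw [h, one_mul])
      have hna : a ∉ Subgroup.zpowers (a * b) := H11.not_mem_zpowers_mul ha hb
      have hnb : b ∉ Subgroup.zpowers (a * b) := by
        have := H11.not_mem_zpowers_mul hb ha
        rwa [← Subgroup.zpowers_inv, mul_inv_rev, H11.inv_eq_of_orderOf_two ha,
          H11.inv_eq_of_orderOf_two hb] at this
      refine existsUnique_of_exists_of_unique ?_ ?_
      · rcases Nat.even_or_odd (orderOf (a * b)) with he | ho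
        · obtain ⟨h1, h2, h3⟩ := H11.half_pow_commute (orderOf_pos _) ha'.2 hb'.2 he
          have h4 : (a * b) ^ (orderOf (a * b) / 2) ∈ Subgroup.zpowers (a * b) :=
            Subgroup.pow_mem _ (Subgroup.mem_zpowers _) _
          exact ⟨⟨_, h1⟩, ⟨fun h => hna (Set.mem_of_eq_of_mem (congrArg Subtype.val h) h4),
            h2.eq.symm⟩,
            fun h => hnb (Set.mem_of_eq_of_mem (congrArg Subtype.val h) h4), h3.eq.symm⟩
        · have hia := H11.invol_inverts_left ha'.2 hb'.2
          have hib := H11.invol_inverts_right ha'.2 hb'.2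
          have hD : Subgroup.normalizer (Subgroup.zpowers (a * b) : Set G) ≠ ⊤ := by
            intro h
            rcases hs.eq_bot_or_eq_top_of_normal _ (Subgroup.normalizer_eq_top_iff.mp h)
              with h1 | h1
            · exact hab1 (by simpa using h1)
            · exact hna (h1 ▸ Subgroup.mem_top a)
          have haD : a ∈ Subgroup.normalizer (Subgroup.zpowers (a * b) : Set G) := by
            rw [← H11.map_conj_eq_iff_mem_normalizer, MonoidHom.map_zpowers,
              ← Subgroup.zpowers_inv (g := a * b), ← hia]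
            rfl
          have h1 := heven _ hD (ha ▸ Subgroup.orderOf_dvd_natCard _ haD)
          have h2 : orderOf (a * b) ∣ 4 * 3 ^ k := hk' ▸ (Subgroup.orderOf_dvd_natCard _
            (Subgroup.le_normalizer (Subgroup.mem_zpowers (a * b)))).trans h1
          have h3 : orderOf (a * b) ∣ 3 ^ k := by
            refine Nat.Coprime.dvd_of_dvd_mul_left ?_ h2
            exact (Nat.Coprime.pow_right 2 (Nat.coprime_two_right.mpr ho))
          obtain ⟨j, -, hj⟩ := (Nat.dvd_prime_pow Nat.prime_three).mp h3
          obtain ⟨g, hg⟩ := H11.exists_conj_mem_sylow P hj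
          have hx1 : g * (a * b) * g⁻¹ ≠ 1 := by simpa using hab1
          have key : ∀ s : G, s * (a * b) * s⁻¹ = (a * b)⁻¹ →
              s ≠ g⁻¹ * t * g ∧ s * (g⁻¹ * t * g) = g⁻¹ * t * g * s := by
            intro s hs'
            have e : g * s * g⁻¹ * (g * (a * b) * g⁻¹) * (g * s * g⁻¹)⁻¹ =
                (g * (a * b) * g⁻¹)⁻¹ := by
              calc _ = g * (s * (a * b) * s⁻¹) * g⁻¹ := by group
                _ = _ := by rw [hs']; group
            have h4 : g * s * g⁻¹ ∈ N := by
              rw [← hNC]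
              by_contra hcon
              exact hx1 (hTI _ hcon _ (hPC hg) (by rw [e]; exact C.inv_mem (hPC hg)))
            rw [← hCt, Subgroup.mem_centralizer_singleton_iff] at h4
            refine ⟨fun h => hx1 (hPinv _ hg ?_), ?_⟩
            · have h5 : g * s * g⁻¹ = t := by rw [h]; group
              have h6 : g * (a * b) * g⁻¹ * t = t * (g * (a * b) * g⁻¹) :=
                Subgroup.mem_centralizer_iff.mp htC _ hg
              rw [h5, ← h6, mul_inv_cancel_right] at e
              exact mul_eq_one_iff_eq_inv.mpr e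
            · calc s * (g⁻¹ * t * g) = g⁻¹ * (g * s * g⁻¹ * t) * g := by group
                _ = _ := by rw [h4]; group
          have hc : orderOf (g⁻¹ * t * g) = 2 := by
            have := H11.orderOf_conj g⁻¹ t
            rwa [inv_inv, ht] at this
          exact ⟨⟨_, hc⟩, ⟨fun h => (key a hia).1 (congrArg Subtype.val h), (key a hia).2⟩,
            fun h => (key b hib).1 (congrArg Subtype.val h), (key b hib).2⟩
      · rintro ⟨c, hc⟩ ⟨d, hd⟩ ⟨⟨h1, h2⟩, h3, h4⟩ ⟨⟨h5, h6⟩, h7, h8⟩
        obtain ⟨g, hg⟩ := hconj c hc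
        obtain ⟨h, hh⟩ := hconj d hd
        have e1 := hout a c g ha hg (fun e => h1 (Subtype.ext e)) h2
        have e2 := hout b c g hb hg (fun e => h3 (Subtype.ext e)) h4
        have e3 := hout a d h ha hh (fun e => h5 (Subtype.ext e)) h6
        have e4 := hout b d h hb hh (fun e => h7 (Subtype.ext e)) h8
        have e5 := hidx hiC _ e1.1 _ e2.1 e1.2 e2.2
        have e6 := hidx hiC _ e3.1 _ e4.1 e3.2 e4.2
        have e7 : h * g⁻¹ ∈ N := by
          rw [← hNC]
          by_contra hcon
          refine hab1 ?_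
          have := hTI _ hcon _ e5 (by
            rw [show h * g⁻¹ * (g * a * g⁻¹ * (g * b * g⁻¹)) * (h * g⁻¹)⁻¹ =
              h * a * h⁻¹ * (h * b * h⁻¹) by group]
            exact e6)
          calc a * b = g⁻¹ * (g * a * g⁻¹ * (g * b * g⁻¹)) * g := by group
            _ = 1 := by rw [this]; group
        rw [← hCt, Subgroup.mem_centralizer_singleton_iff] at e7
        refine Subtype.ext ?_
        calc c = g⁻¹ * t * g := by rw [← hg]; group
          _ = h⁻¹ * (h * g⁻¹ * t) * g := by group
          _ = h⁻¹ * t * h := by rw [e7]; group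
          _ = d := by rw [← hh]; group)
  obtain ⟨v, hv2⟩ := v
  obtain ⟨g, hg⟩ := hconj v hv2
  have hall : ∀ u : G, orderOf u = 2 → u ∈ N := by
    intro u hu
    have hu' : orderOf (g⁻¹ * u * g) = 2 := by
      have := H11.orderOf_conj g⁻¹ u
      rwa [inv_inv, hu] at this
    have h1 : v * (g⁻¹ * u * g) = g⁻¹ * u * g * v := by
      by_cases h : (⟨v, hv2⟩ : W) = ⟨_, hu'⟩
      · have := congrArg Subtype.val h
        simp only at this
        rw [this]
      · exact (hv _ h).2
    rw [← hCt, Subgroup.mem_centralizer_singleton_iff, ← hg]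
    calc u * (g * v * g⁻¹) = g * (g⁻¹ * u * g * v) * g⁻¹ := by group
      _ = _ := by rw [← h1]; group
  rcases hs.eq_bot_or_eq_top_of_normal (Subgroup.normalClosure {t}) inferInstance with h | h
  · have := Subgroup.subset_normalClosure (s := {t}) (Set.mem_singleton t)
    rw [h] at this
    exact ht'.1 this
  · refine hNt (eq_top_iff.mpr (h ▸ (Subgroup.closure_le N).mpr fun x hx => ?_))
    obtain ⟨y, hy, hyx⟩ := Group.mem_conjugatesOfSet_iff.mp hx
    rw [Set.mem_singleton_iff.mp hy] at hyx
    exact hall x (by rw [← H11.orderOf_eq_of_isConj hyx, ht])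

end Cfsg.Agent.S4018
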