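import Cfsg.Statements.S4068
import Cfsg.Agent.S2202
import Cfsg.Agent.S0252
import Cfsg.Agent.H19.GL2Ord
import Cfsg.Agent.H1.FrobCompl

set_option autoImplicit false
open Cfsg

namespace Cfsg.Agent.S4068

open Subgroup

theorem three_le {G : Type*} [Group G] [Finite G] (hns : ¬ Group.IsSolvable G) :
    3 ≤ (Nat.card G).primeFactors.card := by
  by_contra! h
  obtain ⟨p, q, hp, hq, hpq, h1⟩ : ∃ p q : ℕ, p.Prime ∧ q.Prime ∧ p ≠ q ∧
      (Nat.card G).primeFactors ⊆ {p, q} := by
    obtain ⟨t, h1, h2, h3⟩ := Finset.exists_subsuperset_card_eq (n := 2)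
      (Finset.subset_union_left (s₁ := (Nat.card G).primeFactors) (s₂ := {2, 3})) (by omega)
      (Finset.card_le_card (s := ({2, 3} : Finset ℕ)) Finset.subset_union_right :)
    obtain ⟨p, q, hpq, rfl⟩ := Finset.card_eq_two.mp h3
    have h4 : ∀ r ∈ ({p, q} : Finset ℕ), r.Prime := fun r hr => by
      rcases Finset.mem_union.mp (h2 hr) with h | h
      · exact Nat.prime_of_mem_primeFactors h
      · simp only [Finset.mem_insert, Finset.mem_singleton] at h
        rcases h with rfl | rfl <;> norm_num
    exact ⟨p, q, h4 p (by simp), h4 q (by simp), hpq, h1⟩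
  refine hns (H4.burnside_pq (a := (Nat.card G).factorization p) (b := (Nat.card G).factorization q) hp hq ?_)
  rw [← Finset.prod_pair (f := fun r => r ^ (Nat.card G).factorization r) hpq,
    ← Finsupp.prod_of_support_subset _ h1 (fun r k => r ^ k) (by simp),
    Nat.factorization_prod_pow_eq_self Nat.card_pos.ne']

/-- A finite non-solvable group on which its automorphism group has exactly four orbits is isomorphic to the alternating group of degree 5. -/
theorem result {G : Type*} [Group G] [Finite G] (hns : ¬ Group.IsSolvable G)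
    (h4 : Nat.card (MulAction.orbitRel.Quotient (MulAut G) G) = 4) : Nonempty (G ≃* alternatingGroup (Fin 5)) := by
  have h1 : (Set.range (orderOf : G → ℕ)).ncard ≤ 4 := by
    let f : MulAction.orbitRel.Quotient (MulAut G) G → ℕ := Quotient.lift orderOf <| by
      rintro _ b ⟨φ, rfl⟩
      exact φ.orderOf_eq b
    rw [← h4, show Set.range (orderOf : G → ℕ) = Set.range f from (Set.range_quot_lift _).symm]
    exact Nat.card_le_card_of_surjective _ Set.rangeFactorization_surjective
  have h2 : ((insert 1 (Nat.card G).primeFactors : Finset ℕ) : Set ℕ) = Set.range (orderOf : G → ℕ) := by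
    refine Set.eq_of_subset_of_ncard_le (fun r hr => ?_) ?_ (Set.finite_range _)
    · rcases Finset.mem_insert.mp hr with rfl | hr
      · exact ⟨1, orderOf_one⟩
      · haveI := Fact.mk (Nat.prime_of_mem_primeFactors hr)
        exact exists_prime_orderOf_dvd_card' r (Nat.dvd_of_mem_primeFactors hr)
    · rw [Set.ncard_coe_finset, Finset.card_insert_of_notMem (by simp [Nat.not_prime_one])]
      have := three_le hns
      omega
  have h3 : ∀ g : G, orderOf g = 1 ∨ (orderOf g).Prime := fun g =>
    (Finset.mem_insert.mp (h2.ge ⟨g, rfl⟩)).imp id Nat.prime_of_mem_primeFactors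
  have h5 : ∀ t x : G, orderOf t = 2 → Commute t x → x ^ 2 = 1 := fun t x ht hc => by
    rw [← orderOf_dvd_iff_pow_eq_one]
    rcases h3 x with h | h
    · exact h ▸ one_dvd 2
    by_contra h'
    have := h3 (t * x)
    rw [hc.orderOf_mul_eq_mul_orderOf_of_coprime (ht ▸ ((Nat.Prime.coprime_iff_not_dvd h).mpr h').symm),
      ht, Nat.prime_mul_iff] at this
    have := h.one_lt
    omega
  obtain ⟨P⟩ : Nonempty (Sylow 2 G) := inferInstance
  have hodd : ∀ (H : Subgroup G), ¬ 2 ∣ Nat.card H → Group.IsSolvable H := fun H h =>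
    FT.solvable_of_odd (by rwa [← Nat.not_even_iff_odd, even_iff_two_dvd])
  rcases S2202.result (FT.even_of_not_solvable hns) (fun t ht => ⟨⟨Commute.of_orderOf_dvd_two
    fun x => orderOf_dvd_of_pow_eq_one (Subtype.ext (h5 t x ht (x.2 t rfl)))⟩⟩) with
    h | h | ⟨F, _, _, A, _, _, _, hA, ⟨e⟩⟩
  · haveI := h P
    exact (hns (H1.sol_of_pcompl (p := 2) (H3.hasNormalPComplement_of_normalizer_le_centralizer P
      (IsCyclic.normalizer_le_centralizer ((Nat.minFac_eq_two_iff _).mpr
        (FT.even_of_not_solvable hns).two_dvd) (h P))) hodd)).elim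
  · haveI := h P
    exact (hns (H1.sol_of_normal_of_quot P (H1.isSolvable_of_isPGroup P.isPGroup') (FT.solvable_of_odd
      (by rw [← index_eq_card, ← Nat.not_even_iff_odd, even_iff_two_dvd]; exact P.not_dvd_index)))).elim
  have h6 : ∀ n, n ∣ Fintype.card F - 1 ∨ n ∣ Fintype.card F + 1 → n = 1 ∨ n.Prime := fun n hn => by
    obtain ⟨x, rfl⟩ := (H19.spec_SL2_two n).mpr (Or.inr hn)
    simpa [Prod.orderOf_mk] using h3 (e.symm (x, 1))
  obtain ⟨t, ht⟩ := (H19.spec_SL2_two (F := F) 2).mpr (Or.inl dvd_rfl)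
  have h7 : ∀ a : A, a = 1 := fun a => by
    have := h5 (e.symm (t, 1)) (e.symm (1, a)) (by simpa [Prod.orderOf_mk] using ht)
      (Commute.map (by simp [Commute, SemiconjBy]) e.symm)
    rw [← map_pow, map_eq_one_iff _ e.symm.injective, Prod.ext_iff] at this
    exact orderOf_eq_one_iff.mp (Nat.eq_one_of_dvd_coprimes (Nat.coprime_two_left.mpr hA)
      (orderOf_dvd_of_pow_eq_one this.2) (orderOf_dvd_natCard a))
  haveI : Unique A := ⟨⟨1⟩, h7⟩
  have h8 : Nat.card G = Fintype.card F * (Fintype.card F ^ 2 - 1) := by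
    rw [Nat.card_congr e.toEquiv, Nat.card_prod, H12.card_SL2 rfl, Nat.card_unique, mul_one]
  have h9 : Fintype.card F = 4 := by
    obtain ⟨n, -, hn⟩ := FiniteField.card F 2
    have h3' : ¬ 3 ∣ Fintype.card F := fun h => absurd (Nat.prime_three.dvd_of_dvd_pow (hn ▸ h)) (by decide)
    have h2' : Fintype.card F ≠ 2 := fun h => hns (H4.burnside_pq (a := 1) (b := 1) Nat.prime_two
      Nat.prime_three (by rw [h8, h]; rfl))
    have := Fintype.one_lt_card (α := F)
    rcases (by omega : 3 ∣ Fintype.card F - 1 ∨ 3 ∣ Fintype.card F + 1) with h | h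
    · rcases h6 _ (Or.inl dvd_rfl) with h' | h'
      · omega
      · have := (Nat.prime_dvd_prime_iff_eq Nat.prime_three h').mp h; omega
    · rcases h6 _ (Or.inr dvd_rfl) with h' | h'
      · omega
      · have := (Nat.prime_dvd_prime_iff_eq Nat.prime_three h').mp h; omega
  obtain ⟨e'⟩ := S0252.result h9
  refine ⟨MulEquiv.ofBijective (e'.toMonoidHom.comp ((QuotientGroup.mk' _).comp
    ((MonoidHom.fst _ _).comp e.toMonoidHom))) (Function.Surjective.bijective_of_nat_card_le
      (e'.surjective.comp ((QuotientGroup.mk'_surjective _).comp (Prod.fst_surjective.comp e.surjective))) ?_)⟩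
  rw [h8, h9, H12.card_alt5]; decide

end Cfsg.Agent.S4068
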