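import Cfsg.Statements.S4113
import Cfsg.Agent.H26.Frob

set_option autoImplicit false
open Cfsg

namespace Cfsg.Agent.S4113


/-- Let G be a finite group, M ≤ N non-trivial proper normal subgroups, and H a subgroup with HM = G and H ∩ M = 1. Then every element of G outside N acts fixed-point-freely on M (C_G(x) ≤ N for every x ∈ M, x ≠ 1) if and only if H ∩ gHg⁻¹ ≤ H ∩ N for every g outside H, with H proper and non-trivial and H ∩ N proper in H. -/
theorem result {G : Type*} [Group G] [Finite G] (N M : Subgroup G) [N.Normal] [M.Normal] (hMN : M ≤ N) (hM1 : M ≠ ⊥) (hN2 : N ≠ ⊤)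
    (H : Subgroup G) (hHM : H ⊔ M = ⊤) (hHM' : H ⊓ M = ⊥) :
    (∀ x ∈ M, x ≠ 1 → Subgroup.centralizer ({x} : Set G) ≤ N) ↔
      (H ≠ ⊥ ∧ H ≠ ⊤ ∧ H ⊓ N < H ∧ ∀ g : G, g ∉ H → H ⊓ H.map (MulAut.conj g).toMonoidHom ≤ N) := by
  have hdec : ∀ g : G, ∃ m ∈ M, ∃ h ∈ H, m * h = g := fun g =>
    (H1.mem_sup_of_le_normalizer_left Subgroup.le_normalizer_of_normal).mp
      (by rw [sup_comm, hHM]; trivial)
  have hone : ∀ x ∈ H, x ∈ M → x = 1 := fun x h1 h2 => Subgroup.mem_bot.mp (hHM' ▸ ⟨h1, h2⟩)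
  constructor
  · intro h
    have h1 : H ⊓ N < H := by
      refine lt_of_le_of_ne inf_le_left fun e => hN2 ?_
      rw [eq_top_iff, ← hHM]
      exact sup_le (inf_eq_left.mp e) hMN
    refine ⟨fun e => by simp [e] at h1, fun e => hM1 (by simpa [e] using hHM'), h1, ?_⟩
    rintro g hg y ⟨hy1, hy2⟩
    obtain ⟨m, hm, k, hk, rfl⟩ := hdec g
    have hm1 : m ≠ 1 := by rintro rfl; exact hg (by simpa using hk)
    have h2 := H1.mem_map_conj.mp hy2
    have h3 : m⁻¹ * y * m ∈ H := by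
      have := H.mul_mem (H.mul_mem hk h2) (H.inv_mem hk)
      simpa [mul_assoc] using this
    have h4 := hone (y⁻¹ * (m⁻¹ * y * m)) (H.mul_mem (H.inv_mem hy1) h3) (by
      have := M.mul_mem (Subgroup.Normal.conj_mem inferInstance _ (M.inv_mem hm) y⁻¹) hm
      simpa [mul_assoc] using this)
    apply h m hm hm1
    rw [H26.mem_cent]
    calc y * m = m * y * (y⁻¹ * (m⁻¹ * y * m)) := by group
      _ = _ := by rw [h4, mul_one]
  · rintro ⟨-, -, -, h⟩ x hx hx1 c hc
    by_contra hcN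
    obtain ⟨m, hm, k, hk, rfl⟩ := hdec c
    have hkN : k ∉ N := fun h => hcN (N.mul_mem (hMN hm) h)
    have hfix : ∀ y ∈ M, y * k = k * y → y = 1 := by
      intro y hy e
      by_contra hy1
      refine hkN (h y (fun h => hy1 (hone y h hy)) ⟨hk, H1.mem_map_conj.mpr ?_⟩)
      rwa [mul_assoc, ← e, inv_mul_cancel_left]
    let f : M → M := fun y => ⟨y * (k * (y : G)⁻¹ * k⁻¹), M.mul_mem y.2
      (Subgroup.Normal.conj_mem inferInstance _ (M.inv_mem y.2) k)⟩
    have hf : Function.Injective f := by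
      intro y z e
      have e1 : (y : G) * (k * (y : G)⁻¹ * k⁻¹) = z * (k * (z : G)⁻¹ * k⁻¹) := congrArg Subtype.val e
      have := hfix ((z : G)⁻¹ * y) (M.mul_mem (M.inv_mem z.2) y.2) (by
        calc (z : G)⁻¹ * y * k = (z : G)⁻¹ * (y * (k * (y : G)⁻¹ * k⁻¹)) * k * y := by group
          _ = _ := by rw [e1]; group)
      exact Subtype.ext (inv_mul_eq_one.mp this).symm
    obtain ⟨y, hy⟩ := Finite.injective_iff_surjective.mp hf ⟨m, hm⟩
    have e1 : (y : G) * (k * (y : G)⁻¹ * k⁻¹) = m := congrArg Subtype.val hy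
    have e2 := H26.mem_cent.mp hc
    have e3 : m * k = y * k * (y : G)⁻¹ := by rw [← e1]; group
    have := hfix ((y : G)⁻¹ * x * y) (by
      simpa using Subgroup.Normal.conj_mem inferInstance _ hx (y : G)⁻¹) (by
      calc (y : G)⁻¹ * x * y * k = (y : G)⁻¹ * (x * (y * k * (y : G)⁻¹)) * y := by group
        _ = _ := by rw [← e3, ← e2, e3]; group)
    apply hx1
    calc x = y * ((y : G)⁻¹ * x * y) * (y : G)⁻¹ := by group
      _ = 1 := by rw [this]; group

end Cfsg.Agent.S4113
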