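import Cfsg.Statements.S4126
import Cfsg.Agent.S4127
import Cfsg.Agent.BG.S01b
import Cfsg.Agent.H3.Action

set_option autoImplicit false
open Cfsg

namespace Cfsg.Agent.S4126

open scoped commutatorElement

theorem cl2 {H : Type*} [Group H] {p n : ℕ} (h1 : ∀ a b : H, ⁅a, b⁆ ∈ Subgroup.center H)
    (h2 : ∀ a : H, a ^ p ∈ Subgroup.center H) (hn : p ∣ n.choose 2) {a b : H} (ha : a ^ n = 1)
    (hb : b ^ n = 1) : (a * b) ^ n = 1 := by
  have h3 : b * a = a * b * ⁅b⁻¹, a⁻¹⁆ := by simp [commutatorElement_def, mul_assoc]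
  have h4 := H26.pow_mul_of_central (h1 _ _) h3 p
  rw [← Subgroup.mem_center_iff.mp (h2 b) a, left_eq_mul] at h4
  obtain ⟨k, hk⟩ := hn
  rw [H26.mul_pow_of_central (h1 _ _) h3, ha, hb, hk, pow_mul, h4]
  simp

theorem le_ucs {G : Type*} [Group G] [Finite G] {p : ℕ} [Fact p.Prime] {D : Subgroup G} [D.Normal]
    (hD : IsPGroup p D) (h : ∀ x ∈ D, ∃ a : ℕ, (Subgroup.centralizer ({x} : Set G)).index = p ^ a)
    (n : ℕ) : D ≤ Subgroup.upperCentralSeries G n ∨
      n < Nat.card (D ⊓ Subgroup.upperCentralSeries G n : Subgroup G) := by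
  induction n with
  | zero => exact Or.inr Nat.card_pos
  | succ n ih =>
    by_cases h1 : D ≤ Subgroup.upperCentralSeries G n
    · exact Or.inl (h1.trans (Subgroup.upperCentralSeries_mono G n.le_succ))
    right
    refine lt_of_le_of_lt (ih.resolve_left h1) (H1.card_lt_of_lt (lt_of_le_of_ne
      (inf_le_inf_left _ (Subgroup.upperCentralSeries_mono G n.le_succ)) fun e => ?_))
    obtain ⟨P⟩ : Nonempty (Sylow p G) := inferInstance
    set f := QuotientGroup.mk' (Subgroup.upperCentralSeries G n) with hf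
    have : (D.map f).Normal := Subgroup.Normal.map inferInstance _ (QuotientGroup.mk'_surjective _)
    have h2 := H1.inf_centralizer_ne_bot_of_isPGroup (hD.map f) (P.isPGroup'.map f)
      Subgroup.le_normalizer_of_normal (by rwa [Ne, Subgroup.map_eq_bot_iff, QuotientGroup.ker_mk'])
    obtain ⟨_, ⟨⟨x, hx, rfl⟩, h3⟩, h4⟩ := (Subgroup.bot_or_exists_ne_one _).resolve_left h2
    have h5 : x ∈ D ⊓ Subgroup.upperCentralSeries G (n + 1) := by
      refine ⟨hx, Subgroup.mem_upperCentralSeries_succ_iff.mpr fun y => ?_⟩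
      obtain ⟨a, ha⟩ := h x hx
      obtain ⟨u, hu, c, hc, rfl⟩ := H1.exists_mul_of_coprime_relIndex (H := P)
        (L := Subgroup.centralizer {x}) (K := ⊤) le_top le_top (by
          rw [Subgroup.relIndex_top_right, Subgroup.relIndex_top_right, ha]
          exact (((Fact.out : p.Prime).coprime_iff_not_dvd.mpr P.not_dvd_index).symm).pow_right a)
        (Subgroup.mem_top y)
      have h6 := h3 _ ⟨u, hu, rfl⟩
      have h7 := congrArg f (H26.mem_cent.mp hc)
      refine (QuotientGroup.eq_one_iff _).mp (?_ : f _ = 1)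
      rw [map_mul, map_mul] at h7
      rw [map_commutatorElement, commutatorElement_eq_one_iff_commute, map_mul]
      exact (Commute.mul_left h6 h7).symm
    rw [← e] at h5
    exact h4 ((QuotientGroup.eq_one_iff x).mpr h5.2)

/-- Let G be a finite group and p a prime. Suppose every element of order p, and when p = 2 also every element of order 4, has a conjugacy class of p-power size. Then G has a normal p-complement. -/
theorem result {G : Type*} [Group G] [Finite G] (p : ℕ) [Fact p.Prime]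
    (h : ∀ x : G, (orderOf x = p ∨ (p = 2 ∧ orderOf x = 4)) → ∃ a : ℕ, (Subgroup.centralizer ({x} : Set G)).index = p ^ a) :
    Cfsg.HasNormalPComplement p G := by
  have hp := (Fact.out : p.Prime)
  by_contra hn
  obtain ⟨P⟩ : Nonempty (Sylow p G) := inferInstance
  obtain ⟨B, A, q, -, -, -, -, -, -, hB⟩ := H3.exists_minAct_of_not P hn
  set n := if p = 2 then 4 else p with hn
  have hn1 : p ∣ n.choose 2 := by
    rw [hn]; split_ifs with h2
    · rw [h2]; decide
    · exact hp.dvd_choose_self two_ne_zero (lt_of_le_of_ne hp.two_le (Ne.symm h2))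
  have hn2 : p ∣ n := by
    rw [hn]; split_ifs with h2
    · rw [h2]; decide
    · rfl
  have h1 : ∀ x : G, x ^ n = 1 → (∃ k, orderOf x = p ^ k) ∧
      ∃ a : ℕ, (Subgroup.centralizer ({x} : Set G)).index = p ^ a := by
    intro x hx
    have h2 := orderOf_dvd_of_pow_eq_one hx
    have h3 : orderOf x = 1 ∨ orderOf x = p ∨ (p = 2 ∧ orderOf x = 4) := by
      rw [hn] at h2; split_ifs at h2 with h4
      · subst h4
        obtain ⟨j, hj, h5⟩ := (Nat.dvd_prime_pow hp).mp (show orderOf x ∣ 2 ^ 2 from h2)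
        interval_cases j <;> simp [h5]
      · rcases (Nat.dvd_prime hp).mp h2 with h | h <;> simp [h]
    rcases h3 with h3 | h3
    · exact ⟨⟨0, h3⟩, 0, by simp [orderOf_eq_one_iff.mp h3]⟩
    · refine ⟨?_, h x h3⟩
      rcases h3 with h3 | ⟨rfl, h3⟩
      · exact ⟨1, by simpa using h3⟩
      · exact ⟨2, h3⟩
  have hO := H1.isPGroup_pCore p G
  have h2 : B ≤ pCore p G := fun x hx =>
    S4127.mem_pCore p x (h1 x (hB.pow_eq_one hn1 hn2 hx)).1 (h1 x (hB.pow_eq_one hn1 hn2 hx)).2
  obtain ⟨H, hc, c1, c2, c3⟩ := BG.exists_critical_top hO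
  set K := H.map (pCore p G).subtype with hK
  have hKO : K ≤ pCore p G := Subgroup.map_subtype_le _
  have h3 : A ≤ Subgroup.centralizer (K : Set G) := by
    by_contra h3
    obtain ⟨B', h4, hB'⟩ := H3.exists_minAct (hO.to_le hKO) hB.coprime Subgroup.le_normalizer_of_normal h3
    let D : Subgroup G :=
      { carrier := {x | x ∈ K ∧ x ^ n = 1}
        one_mem' := ⟨one_mem _, one_pow n⟩
        inv_mem' := fun hx => ⟨inv_mem hx.1, by rw [inv_pow, hx.2, inv_one]⟩
        mul_mem' := by
          rintro _ _ ⟨⟨a, ha, rfl⟩, ha'⟩ ⟨⟨b, hb, rfl⟩, hb'⟩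
          refine ⟨mul_mem ⟨a, ha, rfl⟩ ⟨b, hb, rfl⟩, ?_⟩
          have := cl2 (H := H) (fun a b => Subgroup.mem_center_iff.mpr fun z => Subtype.ext
            ((c2 (Subgroup.commutator_mem_commutator a.2 (Subgroup.mem_top b.1))).2 z z.2))
            (fun a => Subgroup.mem_center_iff.mpr fun z => Subtype.ext (c1 a a.2 z z.2)) hn1
            (a := ⟨a, ha⟩) (b := ⟨b, hb⟩) (Subtype.ext (Subtype.ext ha')) (Subtype.ext (Subtype.ext hb'))
          exact congrArg (fun t : H => t.1.1) this }
    have : D.Normal := ⟨fun x hx g => ⟨Subgroup.Normal.conj_mem inferInstance _ hx.1 g, by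
      rw [conj_pow, hx.2]; simp⟩⟩
    have h5 := (le_ucs (D := D) (hO.to_le fun x hx => hKO hx.1) (fun x hx => (h1 x hx.2).2)
      (Nat.card G)).resolve_right (not_lt.mpr (Subgroup.card_le_card_group _))
    refine hB'.not_chain (Subgroup.upperCentralSeries G) (Nat.card G) (by simp)
      (le_trans (show B' ≤ D from fun x hx => ⟨h4 hx, hB'.pow_eq_one hn1 hn2 hx⟩) h5) fun i b hb a _ =>
        Subgroup.mem_upperCentralSeries_succ_iff.mp hb.2 a
  have h4 := H1.le_centralizer_of_centralizes_self_centralizing hB.coprime hO hKO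
    Subgroup.le_normalizer_of_normal h3 (by
      rintro x ⟨hx, hx'⟩
      exact ⟨⟨x, hx⟩, c3 fun z hz => Subtype.ext (hx' z ⟨z, hz, rfl⟩), rfl⟩)
  exact hB.not_le (h4.trans (Subgroup.centralizer_le h2))

end Cfsg.Agent.S4126
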