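import Cfsg.Statements.S4133
import Cfsg.Agent.H25.AbHall
import Cfsg.Agent.S4035

set_option autoImplicit false
open Cfsg

namespace Cfsg.Agent.S4133

open Subgroup Cfsg.Agent.H20 Cfsg.Agent.H21 Cfsg.Agent.H25
open scoped commutatorElement

/-- Let G be a finite group all of whose Sylow subgroups are abelian, and let 2^a be the largest power of 2 dividing the size of any conjugacy class of G. If some element has a conjugacy class of size exactly 2^a, then G is solvable. -/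
theorem result {G : Type*} [Group G] [Finite G]
    (hA : ∀ (p : ℕ) [Fact p.Prime] (P : Sylow p G), IsMulCommutative (P : Subgroup G))
    (a : ℕ) (hmax : ∀ y : G, ¬ 2 ^ (a + 1) ∣ (Subgroup.centralizer ({y} : Set G)).index) (hx : ∃ x : G, (Subgroup.centralizer ({x} : Set G)).index = 2 ^ a) :
    Group.IsSolvable G := by
  by_contra hG
  haveI := Fact.mk Nat.prime_two
  obtain ⟨x, hx⟩ := hx
  obtain ⟨D, hDn, hD, hDs⟩ := exists_perfect_normal hG
  have h2 : WA.Ab2 (⊤ : Subgroup G) := fun T _ hT a ha b hb => by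
    obtain ⟨P, hP⟩ := hT.exists_le_sylow
    exact comm_iff.1 (hA 2 P) a (hP ha) b (hP hb)
  have hDx : D ≤ C₁⟦x⟧ := perfect_le_of_index h2 (hx ▸ PiNat.prime_pow Nat.prime_two (Set.mem_singleton 2) a) hD.ge
  have hZ : D ⊓ C⟦D⟧ = ⊥ := by
    by_contra h
    obtain ⟨p, hp, hd⟩ := exists_prime_dvd_card h
    haveI := Fact.mk hp
    obtain ⟨z, hz, ho⟩ := exists_prime_order_mem hp hd
    obtain ⟨S, hS, hzS⟩ := exists_sylowOf_ge (pgroup_zpowers (elt_of_orderOf hp ho)) (zpowers_le.2 hz.1)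
    obtain ⟨P, hP⟩ := hS.isPGroup.exists_le_sylow
    have h3 := H3.inf_commutator_inf_center_eq_bot (S.subgroupOf D)
      (comm_iff.2 fun a ha b hb => Subtype.ext (comm_iff.1 (hA p P) a (hP ha) b (hP hb)))
      (by rw [card_subgroupOf hS.le]; exact hS.coprime)
    have h4 : commutator D = ⊤ := map_injective D.subtype_injective (by rw [map_subtype_commutator, hD, map_top_subtype])
    refine ne_one_of_orderOf hp ho (congrArg Subtype.val (mem_bot.1 (h3.le (x := ⟨z, hz.1⟩)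
      ⟨⟨hzS (mem_zpowers z), h4.ge trivial⟩, mem_center_coe.2 hz.2⟩)))
  obtain ⟨y, hy⟩ : ∃ y : D, 2 ∣ C₁⟦y⟧.index := by
    by_contra! h
    obtain ⟨P⟩ := (inferInstance : Nonempty (Sylow 2 D))
    haveI := (S4035.result (fun y _ => ncard_carrier_mk y ▸ h y) P).1
    exact hDs (sol_of_odd_index_sol (sol_of_pgroup P.isPGroup') P.not_dvd_index)
  have hle : C₁⟦x * y⟧ ≤ C₁⟦x⟧ := fun g hg => by
    have hxD : x ∈ C⟦D⟧ := le_cent1_iff.1 hDx
    have h1 : x⁻¹ * (g * x * g⁻¹) = y * (g * y * g⁻¹)⁻¹ := by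
      have := mem_cent1.1 hg
      calc x⁻¹ * (g * x * g⁻¹) = x⁻¹ * (g * (x * y)) * (y : G)⁻¹ * g⁻¹ := by group
        _ = _ := by rw [this]; group
    have h3 : x⁻¹ * (g * x * g⁻¹) ∈ D ⊓ C⟦D⟧ :=
      mem_inf.2 ⟨h1 ▸ mul_mem y.2 (inv_mem (hDn.conj_mem _ y.2 g)),
        mul_mem (inv_mem hxD) (Normal.conj_mem inferInstance x hxD g)⟩
    rw [hZ, mem_bot, inv_mul_eq_one, eq_mul_inv_iff_mul_eq] at h3
    exact mem_cent1.2 h3.symm
  refine hmax (x * y) ?_
  rw [← relIndex_mul_index hle, hx, pow_succ']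
  refine Nat.mul_dvd_mul_right (hy.trans ?_) _
  have e : C₁⟦x * y⟧ ⊓ D = C₁⟦(y : G)⟧ ⊓ D := by
    ext g
    refine and_congr_left fun hg => ?_
    change g ∈ C₁⟦x * y⟧ ↔ g ∈ C₁⟦(y : G)⟧
    rw [mem_cent1, mem_cent1, ← mul_assoc, mem_cent1.1 (hDx hg), mul_assoc, mul_assoc, mul_right_inj]
  rw [H26.index_cent_subgroup, ← inf_relIndex_right, ← e, inf_relIndex_right,
    ← relIndex_sup_of_norm (Or.inr le_normalizer_of_normal)]
  exact relIndex_dvd_of_le_right le_sup_right (sup_le hDx hle)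

end Cfsg.Agent.S4133
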