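import Cfsg.Statements.S4134
import Cfsg.Agent.H25.Ito2

set_option autoImplicit false
open Cfsg

namespace Cfsg.Agent.S4134

open Subgroup Cfsg.Agent.H20 Cfsg.Agent.H21 Cfsg.Agent.H25
open scoped commutatorElement

/-- Let G be a finite group whose conjugacy classes have exactly two sizes, 1 and n > 1. Then n is a power of a prime p and G is the direct product of a p-group and an abelian group of order prime to p: its Sylow p-subgroup P is normal with an abelian normal complement centralizing it; moreover P has an abelian normal subgroup A with P/A of exponent dividing p. -/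
theorem result {G : Type*} [Group G] [Finite G] (n : ℕ) (hn : 1 < n)
    (h : ∀ x : G, (Subgroup.centralizer ({x} : Set G)).index = 1 ∨ (Subgroup.centralizer ({x} : Set G)).index = n) (hex : ∃ x : G, (Subgroup.centralizer ({x} : Set G)).index = n) :
    ∃ (p : ℕ) (_ : Fact p.Prime) (a : ℕ), n = p ^ a ∧ ∀ P : Sylow p G, (P : Subgroup G).Normal ∧
      (∃ N : Subgroup G, N.Normal ∧ N.IsComplement' (P : Subgroup G) ∧ IsMulCommutative N ∧
        ∀ x ∈ N, ∀ y ∈ (P : Subgroup G), x * y = y * x) ∧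
      ∃ A : Subgroup (P : Subgroup G), A.Normal ∧ IsMulCommutative A ∧ ∀ y : (P : Subgroup G), y ^ p ∈ A := by
  have h1 : ∀ x : G, x ∉ center G → C₁⟦x⟧.index = n := fun x hx =>
    (h x).resolve_left (mt H26.index_cent_eq_one_iff.1 hx)
  have hF : ∀ x y : G, y ∉ center G → C₁⟦x⟧ ≤ C₁⟦y⟧ → C₁⟦x⟧ = C₁⟦y⟧ := fun x y hy hle =>
    eq_of_le_index hle ((h1 x (not_mem_center_of_le hle hy)).trans (h1 y hy).symm).le
  obtain ⟨x, hx⟩ := hex
  have hxZ : x ∉ center G := fun e => hn.ne' (hx.symm.trans (H26.index_cent_eq_one_iff.2 e))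
  have hnd : n ∣ (center G).index := hx ▸ index_dvd_of_le (H26.center_le_cent x)
  obtain ⟨p, hp, hd⟩ := Nat.exists_prime_and_dvd hn.ne'
  haveI := Fact.mk hp
  have hdv : ∀ q : ℕ, q.Prime → q ∣ (center G).index → ∀ y : G, y ∉ center G → q ∣ (center G).relIndex C₁⟦y⟧ := by
    intro q hq hqd y hy
    obtain ⟨u, huZ, hu⟩ := exists_elt_of_dvd_index hq hqd
    exact relIndex_center_eq ((h1 u huZ).trans (h1 y hy).symm) ▸ dvd_relIndex_of_elt hq (self_mem_cent1 u) huZ hu
  have hZ : PiNat {p} (center G).index := by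
    intro q hq hqd
    by_contra hqp
    obtain ⟨r, hrG, hr⟩ := Nat.exists_infinite_primes (Nat.card G + 1)
    have hr' : ∀ s, s ∣ (center G).index → s ≠ r := fun s hs e =>
      absurd (Nat.le_of_dvd Nat.card_pos (hs.trans (center G).index_dvd_card)) (by omega)
    have hT : ThetaHyp G r n := fun y _ hy => by
      refine ⟨(free_cases hy (fun z hz => hF z y hy hz) fun z hz hle => (hF y z hz hle).symm).resolve_right ?_, h1 y hy⟩
      rintro ⟨s, hs, hys⟩
      exact hqp ((hys q hq (hdv q hq hqd y hy)).trans (hys p hp (hdv p hp (hd.trans hnd) y hy)).symm)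
    exact hr' p (hd.trans hnd) (hT.piNat hr hq hp hqp (hr' q hqd) (hr' p (hd.trans hnd)) hqd (hd.trans hnd) p hp hd)
  obtain ⟨a, ha⟩ := (PiNat.singleton_iff hp (by omega : n ≠ 0)).1 (hZ.of_dvd hnd)
  refine ⟨p, inferInstance, a, ha, fun P => ?_⟩
  have hP := sylowOf_top P
  have hZP : center G ⊔ P = ⊤ := hP.sup_eq_of_relIndex le_top (by rwa [relIndex_top_right])
  have hcen : ∀ A : Subgroup G, center G ≤ C⟦A⟧ := fun A => cent_top (G := G) ▸ cent_anti le_top
  have hPn : (P : Subgroup G) ⊴ ⊤ := ⟨le_top, hZP ▸ sup_le (norm_of_cent (hcen _)) (le_norm_self _)⟩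
  have hN : IsPiHallOf {p}ᶜ (piCoreOf {p}ᶜ (center G)) ⊤ :=
    (piCoreOf_hall_of_nil _ (nil_of_comm inferInstance)).trans_relIndex le_top
      (by rwa [relIndex_top_right, compl_compl])
  have hle := piCoreOf_le {p}ᶜ (center G)
  refine ⟨hPn.normal, ⟨_, (piCoreOf_normalIn_of _ (NormalIn.of_normal _)).normal,
    Compl.iff_isComplement'.1 (hN.isComplIn' hP), comm_of_le hle inferInstance,
    fun x hx y _ => (mem_center_iff.1 (hle hx) y).symm⟩, ?_⟩
  obtain ⟨y, hy, hyZ, hyp, hyc⟩ : ∃ y : G, y ∈ (P : Subgroup G) ∧ y ∉ center G ∧ y ^ p ∈ center G ∧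
      ∀ g : G, ⁅g, y⁆ ∈ center G := by
    set f := QuotientGroup.mk' (center G)
    have hf := QuotientGroup.mk'_surjective (center G)
    have hm : (P : Subgroup G).map f = ⊤ := by
      rw [← map_top_of_surjective f hf, ← hZP, Subgroup.map_sup, (Subgroup.map_eq_bot_iff _).2
        (QuotientGroup.ker_mk' _).ge, bot_sup_eq]
    have hpg := P.2.map f
    rw [hm] at hpg
    have h2 : (⊤ : Subgroup (G ⧸ center G)) ⊓ C⟦⊤⟧ ≠ ⊥ := center_ne_bot_of_nil hpg.isNilpotent fun e =>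
      hxZ ((QuotientGroup.eq_one_iff x).1 (e.le (mem_top _)))
    obtain ⟨w, hw, ho⟩ := exists_prime_order_mem hp (dvd_card_of_isPGroup (hpg.to_le inf_le_left) h2)
    obtain ⟨y, hy, rfl⟩ : w ∈ (P : Subgroup G).map f := hm ▸ mem_top w
    refine ⟨y, hy, fun e => ?_, (QuotientGroup.eq_one_iff _).1 ?_, fun g => (QuotientGroup.eq_one_iff _).1 ?_⟩
    · rw [show f y = 1 from (QuotientGroup.eq_one_iff y).2 e, orderOf_one] at ho
      exact hp.one_lt.ne ho
    · change f _ = 1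
      rw [map_pow, ← ho, pow_orderOf_eq_one]
    · change f _ = 1
      rw [map_commutatorElement, commutatorElement_eq_one_iff_mul_comm]
      exact mem_cent.1 hw.2 _ (mem_top _)
  have hCn : ⊤ ≤ N⟦C₁⟦y⟧⟧ := fun g _ => by
    rw [mem_norm_iff_cj, cj_cent1, ← cent1_mul_center (x := y) (hyc g), mem_center_iff.1 (hyc g) y,
      commutatorElement_def, inv_mul_cancel_right]
  have hA : C₁⟦y⟧ ⊓ C⟦C₁⟦y⟧⟧ ⊴ ⊤ := NormalIn.center ⟨le_top, hCn⟩
  refine ⟨(C₁⟦y⟧ ⊓ C⟦C₁⟦y⟧⟧).subgroupOf P, hA.normal.subgroupOf _, comm_iff.2 fun a ha b hb =>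
    Subtype.ext (comm_iff.1 (comm_center C₁⟦y⟧) (a : G) ha (b : G) hb), fun z => mem_subgroupOf.2 ?_⟩
  rw [coe_pow]
  generalize (z : G) = z
  by_cases hz : z ^ p ∈ center G
  · exact ⟨H26.center_le_cent y hz, hcen _ hz⟩
  have e1 : C₁⟦z⟧ = C₁⟦z ^ p⟧ := hF _ _ hz (H26.cent_le_cent_pow z p)
  have e2 : y ∈ C₁⟦z⟧ := by
    have c1 : z * y = y * z * ⁅z, y⁆ := by
      rw [mem_center_iff.1 (hyc z), commutatorElement_def]; group
    have c2 : y * z = z * y * ⁅z, y⁆⁻¹ := by rw [c1, mul_inv_cancel_right]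
    have c3 := H26.pow_mul_of_central (inv_mem (hyc z)) c2 p
    rw [← mem_center_iff.1 hyp z, left_eq_mul, inv_pow, inv_eq_one] at c3
    have c4 := H26.pow_mul_of_central (hyc z) c1 p
    rw [c3, mul_one] at c4
    rw [e1, mem_cent1, c4]
  have e3 : (z * y) ^ p = z ^ p * y ^ p := (show Commute z y from (mem_cent1.1 e2).symm).mul_pow p
  have e4 : (z * y) ^ p ∉ center G := fun e => hz (by rw [e3] at e; exact (mul_mem_cancel_right hyp).1 e)
  have e5 : C₁⟦z * y⟧ = C₁⟦z⟧ := by rw [hF _ _ e4 (H26.cent_le_cent_pow _ p), e3, cent1_mul_center hyp, e1]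
  have e6 : C₁⟦z⟧ = C₁⟦y⟧ := hF _ _ hyZ fun g hg => by
    have := mem_cent1.1 (e5.ge hg)
    rw [← mul_assoc, mem_cent1.1 hg, mul_assoc, mul_assoc, mul_right_inj] at this
    exact mem_cent1.2 this
  rw [← e6]
  exact pow_mem (mem_inf.2 ⟨self_mem_cent1 z, le_cent1_iff.1 le_rfl⟩) p

end Cfsg.Agent.S4134
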