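import Cfsg.Statements.S4140
import Cfsg.Agent.H1.Camina

set_option autoImplicit false
open Cfsg

namespace Cfsg.Agent.S4140

/-- Let G be a finite group and N a proper non-trivial normal subgroup such that for every g outside N the conjugacy class of g is a union of cosets of N (equivalently gn is conjugate to g for every n ∈ N). Then either every element of G outside N acts fixed-point-freely on N (C_G(x) ≤ N for all x ∈ N, x ≠ 1, so G is a Frobenius group with kernel N), or N has prime-power order, or G/N has prime-power order. -/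
theorem result {G : Type*} [Group G] [Finite G] (N : Subgroup G) [N.Normal] (hN1 : N ≠ ⊥) (hN2 : N ≠ ⊤)
    (hcam : ∀ g : G, g ∉ N → ∀ n ∈ N, ∃ x : G, x * g * x⁻¹ = g * n) :
    (∀ x ∈ N, x ≠ 1 → Subgroup.centralizer ({x} : Set G) ≤ N) ∨ IsPrimePow (Nat.card N) ∨ IsPrimePow N.index := by
  by_contra! h
  obtain ⟨⟨x, hx, hx1, h1⟩, h2, h3⟩ := h
  obtain ⟨p, hp, h4⟩ := Nat.exists_prime_and_dvd (mt Subgroup.relIndex_eq_one.mp h1)
  haveI := Fact.mk hp
  obtain ⟨S, hS⟩ := H3.exists_sylowIn p (Subgroup.centralizer {x})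
  obtain ⟨g, hg, hgN⟩ := SetLike.not_le_iff_exists.mp fun e =>
    hS.not_dvd (h4.trans (Subgroup.relIndex_dvd_of_le_left _ e))
  obtain ⟨k, hk⟩ := hS.isPGroup ⟨g, hg⟩
  have h5 := H1.Cam.pow_mem_of_comm (L := ⊥) hcam hgN hx (congrArg Subtype.val hk)
    (Commute.map (hS.le hg x rfl).symm (QuotientGroup.mk' ⊥))
  obtain ⟨i, -, hi⟩ := (Nat.dvd_prime_pow hp).mp (orderOf_dvd_of_pow_eq_one h5)
  have h6 : p ∣ Nat.card N := (dvd_pow_self p fun e => hx1 (by simpa [e] using hi)).trans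
    (hi ▸ N.orderOf_dvd_natCard hx)
  have h7 := h4.trans (N.relIndex_dvd_index_of_normal _)
  obtain ⟨q, hq, h8, h9⟩ : ∃ q : ℕ, q.Prime ∧ q ∣ N.index ∧ q ≠ p := by
    by_contra! h
    have := Nat.eq_prime_pow_of_unique_prime_dvd N.index_ne_zero_of_finite fun hq h' => h _ hq h'
    exact h3 ⟨p, _, hp.prime, Nat.pos_of_ne_zero fun e => hN2 (Subgroup.index_eq_one.mp
      (by rw [this, e, pow_zero])), this.symm⟩
  haveI := Fact.mk hq
  obtain ⟨n, hn⟩ := (H1.Cam.isPGroup_of_nil hcam (H1.Cam.isNilpotent_of_two hcam h9.symm h7 h8) h7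
    h6).exists_card_eq
  exact h2 ⟨p, n, hp.prime, Nat.pos_of_ne_zero fun e => hN1 (Subgroup.card_eq_one.mp
    (by rw [hn, e, pow_zero])), hn.symm⟩

end Cfsg.Agent.S4140
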