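import Cfsg.Statements.S4142
import Cfsg.Agent.H26.PiPart

set_option autoImplicit false
open Cfsg

namespace Cfsg.Agent.S4142


/-- Let G be a finite group and N a normal subgroup. Then the conjugacy class of every element g outside N is a union of cosets of N (gn is conjugate to g for all n ∈ N) if and only if for every g outside N the centralizer of g in G has the same order as the centralizer of gN in G/N. -/
theorem result {G : Type*} [Group G] [Finite G] (N : Subgroup G) [N.Normal] :
    (∀ g : G, g ∉ N → ∀ n ∈ N, ∃ x : G, x * g * x⁻¹ = g * n) ↔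
      ∀ g : G, g ∉ N → Nat.card (Subgroup.centralizer ({g} : Set G)) =
        Nat.card (Subgroup.centralizer ({(QuotientGroup.mk g : G ⧸ N)} : Set (G ⧸ N))) := by
  have key : ∀ g : G, Nat.card (Subgroup.centralizer ({(QuotientGroup.mk g : G ⧸ N)} : Set (G ⧸ N))) *
      Nat.card N = Nat.card (Subgroup.centralizer ({g} : Set G)) *
        Nat.card {h : G // IsConj g h ∧ h ∈ {y : G | g⁻¹ * y ∈ N}} := by
    intro g
    rw [← H19.card_conj_mem, mul_comm, ← H1.card_comap_mk']
    refine Nat.card_congr (Equiv.subtypeEquivRight fun x => ?_)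
    rw [Subgroup.mem_comap, H26.mem_cent, QuotientGroup.mk'_apply, ← QuotientGroup.mk_mul,
      ← QuotientGroup.mk_mul, QuotientGroup.eq]
    simp [mul_assoc]
  have key2 : ∀ g : G, Nat.card {y : G // g⁻¹ * y ∈ N} = Nat.card N := fun g =>
    Nat.card_congr ((Equiv.mulLeft g⁻¹).subtypeEquiv fun _ => Iff.rfl)
  refine forall_congr' fun g => forall_congr' fun hg => ⟨fun h => ?_, fun h n hn => ?_⟩
  · have h1 := key g
    have h2 : Nat.card {h : G // IsConj g h ∧ h ∈ {y : G | g⁻¹ * y ∈ N}} =
        Nat.card {y : G // g⁻¹ * y ∈ N} :=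
      Nat.card_congr (Equiv.subtypeEquivRight fun y => ⟨fun h => h.2, fun hy => ⟨by
        obtain ⟨x, hx⟩ := h _ hy
        exact isConj_iff.mpr ⟨x, by rw [hx]; group⟩, hy⟩⟩)
    rw [h2, key2] at h1
    exact (Nat.eq_of_mul_eq_mul_right Nat.card_pos h1).symm
  · have h1 := key g
    rw [← h, ← key2 g] at h1
    have h2 := Nat.eq_of_mul_eq_mul_left Nat.card_pos h1
    have h3 : {h : G | IsConj g h ∧ h ∈ {y : G | g⁻¹ * y ∈ N}} = {y : G | g⁻¹ * y ∈ N} :=
      Set.eq_of_subset_of_ncard_le (fun _ h => h.2) h2.le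
    have h4 : g * n ∈ {h : G | IsConj g h ∧ h ∈ {y : G | g⁻¹ * y ∈ N}} := by
      rw [h3]; simpa using hn
    exact isConj_iff.mp h4.1

end Cfsg.Agent.S4142
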