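import Cfsg.Statements.S4150
import Mathlib
import Cfsg.Agent.H2.TwoP

set_option autoImplicit false
open Cfsg

namespace Cfsg.Agent.S4150

/-- Let m ≥ 5. Then there are primes p < q with m/2 ≤ p and q ≤ m such that any two elements x, y of the alternating group of degree m with x of order p and y of order q generate a subgroup isomorphic to an alternating group of some degree d ≥ 5. -/
theorem result (m : ℕ) (hm : 5 ≤ m) :
    ∃ p q : ℕ, p.Prime ∧ q.Prime ∧ m ≤ 2 * p ∧ p < q ∧ q ≤ m ∧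
      ∀ x y : alternatingGroup (Fin m), orderOf x = p → orderOf y = q →
        ∃ d : ℕ, 5 ≤ d ∧ Nonempty (Subgroup.closure ({x, y} : Set (alternatingGroup (Fin m))) ≃* alternatingGroup (Fin d)) := by
  have key : ∀ p q : ℕ, p.Prime → q.Prime → m ≤ 2 * p → p < q → q ≤ m → 5 ≤ q →
      ((m < 2 * p ∧ p + 3 ≤ q) ∨ (p = 3 ∧ q = 5) ∨ (p = 5 ∧ q = 7) ∨
      (p = 7 ∧ q = 11) ∨ (p = 11 ∧ q = 13)) →
      ∃ p q : ℕ, p.Prime ∧ q.Prime ∧ m ≤ 2 * p ∧ p < q ∧ q ≤ m ∧
      ∀ x y : alternatingGroup (Fin m), orderOf x = p → orderOf y = q →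
        ∃ d : ℕ, 5 ≤ d ∧ Nonempty (Subgroup.closure ({x, y} : Set (alternatingGroup (Fin m))) ≃*
          alternatingGroup (Fin d)) := fun p q hp hq h1 h2 h3 h4 h5 =>
    ⟨p, q, hp, hq, h1, h2, h3, fun x y hx hy => H2.Pm.gen_two_primes hp hq hx hy
      (by rwa [Fintype.card_fin]) h2 h4 (by rwa [Fintype.card_fin])⟩
  by_cases h : 17 ≤ m
  · obtain ⟨p, q, hp, hq, h1, h2, h3⟩ := H2.Pm.two_primes m h
    exact key p q hp hq h1.le (by omega) h3 (by omega) (.inl ⟨h1, h2⟩)
  by_cases h : 15 ≤ m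
  · exact key 11 13 (by norm_num) (by norm_num) (by omega) (by omega) (by omega) (by omega)
      (by omega)
  by_cases h : 11 ≤ m
  · exact key 7 11 (by norm_num) (by norm_num) (by omega) (by omega) (by omega) (by omega)
      (by omega)
  by_cases h : 7 ≤ m
  · exact key 5 7 (by norm_num) (by norm_num) (by omega) (by omega) (by omega) (by omega)
      (by omega)
  exact key 3 5 (by norm_num) (by norm_num) (by omega) (by omega) (by omega) (by omega)
      (by omega)

end Cfsg.Agent.S4150
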