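import Cfsg.Statements.S4169
import Cfsg.Agent.H26.ClassSize
import Cfsg.Agent.S0015

set_option autoImplicit false
open Cfsg

namespace Cfsg.Agent.S4169

theorem exists_scn (P : Type*) [Group P] [Finite P] [Group.IsNilpotent P] :
    ∃ A : Subgroup P, A.Normal ∧ IsMulCommutative A ∧ Subgroup.centralizer (A : Set P) = A := by
  obtain ⟨A, ⟨h1, h2⟩, hmax⟩ := (wellFounded_gt (α := Subgroup P)).has_min
    {A | A.Normal ∧ IsMulCommutative A} ⟨⊥, inferInstance, inferInstance⟩
  refine ⟨A, h1, h2, S0015.result A fun M hM hM2 hle => ?_⟩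
  by_contra hn
  exact hmax M ⟨hM, hM2⟩ (lt_of_le_of_ne hle (Ne.symm hn))

theorem aux {P : Type*} [Group P] [Finite P] [Group.IsNilpotent P]
    (m : ℕ) (h : ∀ x : P, (Subgroup.centralizer ({x} : Set P)).index = 1 ∨ (Subgroup.centralizer ({x} : Set P)).index = m) :
    (⊤ : Subgroup P).lowerCentralSeries 3 = ⊥ := by
  obtain ⟨A, h1, h2, h3⟩ := exists_scn P
  apply H26.lcs_three_eq_bot h3
  rw [← Subgroup.closure_univ]
  apply H26.commutator_closure_le_center
  intro x _ a ha
  by_cases hz : x ∈ Subgroup.center P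
  · rw [commutatorElement_eq_one_iff_mul_comm.mpr (Subgroup.mem_center_iff.mp hz a)]
    exact Subgroup.one_mem _
  have h1 := H26.index_cent_commutator_lt A hz ha
  rw [← H26.index_cent_eq_one_iff]
  refine (h _).resolve_right fun h4 => ?_
  rw [h4, (h x).resolve_left (mt H26.index_cent_eq_one_iff.mp hz)] at h1
  exact h1.false

/-- Let P be a finite p-group whose conjugacy classes have exactly two sizes (1 and one other value). Then P has nilpotency class at most 3. -/
theorem result {P : Type*} [Group P] [Finite P] {p : ℕ} [Fact p.Prime] (hP : IsPGroup p P)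
    (m : ℕ) (hm : 1 < m) (h : ∀ x : P, (Subgroup.centralizer ({x} : Set P)).index = 1 ∨ (Subgroup.centralizer ({x} : Set P)).index = m) :
    upperCentralSeries P 3 = ⊤ := by
  have := hP.isNilpotent
  exact Subgroup.lowerCentralSeries_eq_bot_iff_upperCentralSeries_eq_top.mp (aux m h)

end Cfsg.Agent.S4169
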