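import Cfsg.Statements.S4192
import Cfsg.Agent.RT.M
import Cfsg.Agent.RT.L
import Cfsg.Agent.RT.Y
import Cfsg.Agent.FT
import Cfsg.Agent.RD.RED
import Cfsg.Agent.RD.CX
import Cfsg.Agent.RD.W
import Cfsg.Agent.RD.NE
import Cfsg.Agent.RD.SW
import Cfsg.Agent.RD.FN
import Cfsg.Agent.RD.IND

set_option autoImplicit false
open Cfsg

namespace Cfsg.Agent.S4192

theorem solv.{u} (G : Type u) [Group G] [Finite G] (h : RD.HH G) : Group.IsSolvable G := by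
  refine RD.ind (fun T _ _ _ hT => ?_) G h
  by_contra ns
  have c : RD.Cx T := RD.cx' ns (FT.even_of_not_solvable ns).two_dvd hT
  have n : RD.NE T := RD.ne c (RD.wl c)
  exact RD.fin ns c n (fun ne _ h1 h2 mx _ _ _ ht tI ha aI hb bI =>
    RD.sw c n ne h1 h2 mx ht tI ha aI hb bI)

/-- Let G be a finite group; call an element real when it is conjugate to its inverse, and say that the real-class-size graph of a group is disconnected when the primes dividing its real class sizes split into two non-empty disjoint parts with no real class size divisible by a prime from each part. If the real-class-size graph of G is disconnected, then some real class size of G is even, and either the Sylow 2-subgroups of G are normal, or the subgroup K generated by the 2-elements of G (the smallest normal subgroup of odd index) again has a disconnected real-class-size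 graph and every real class size of K is odd or a power of 2. -/
theorem result {G : Type*} [Group G] [Finite G] (h : (∃ π₁ π₂ : Set ℕ, π₁.Nonempty ∧ π₂.Nonempty ∧ Disjoint π₁ π₂ ∧ (∀ q ∈ π₁ ∪ π₂, q.Prime ∧ ∃ n ∈ {n : ℕ | ∃ x : G, IsConj x x⁻¹ ∧ (Subgroup.centralizer ({x} : Set G)).index = n}, q ∣ n) ∧ (∀ q : ℕ, q.Prime → (∃ n ∈ {n : ℕ | ∃ x : G, IsConj x x⁻¹ ∧ (Subgroup.centralizer ({x} : Set G)).index = n}, q ∣ n) → q ∈ π₁ ∨ q ∈ π₂) ∧ ∀ a ∈ π₁, ∀ b ∈ π₂, ∀ n ∈ {n : ℕ | ∃ x : G, IsConj x x⁻¹ ∧ (Subgroup.centralizer ({x} : Set G)).index = n}, ¬ (a ∣ n ∧ b ∣ n))) : (∃ n ∈ {n : ℕ | ∃ x : G, IsConj x x⁻¹ ∧ (Subgroup.centralizer ({x} : Set G)).index = n}, 2 ∣ n) ∧ ((∀ P : Sylow 2 G, (P : Subgroup G).Normal) ∨ ((∃ π₁ π₂ : Set ℕ, π₁.Nonempty ∧ π₂.Nonempty ∧ Disjoint π₁ π₂ ∧ (∀ q ∈ π₁ ∪ π₂, q.Prime ∧ ∃ n ∈ {n : ℕ | ∃ x : ↥(Subgroup.closure {g : G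 | ∃ k : ℕ, orderOf g = 2 ^ k}), IsConj x x⁻¹ ∧ (Subgroup.centralizer ({x} : Set ↥(Subgroup.closure {g : G | ∃ k : ℕ, orderOf g = 2 ^ k}))).index = n}, q ∣ n) ∧ (∀ q : ℕ, q.Prime → (∃ n ∈ {n : ℕ | ∃ x : ↥(Subgroup.closure {g : G | ∃ k : ℕ, orderOf g = 2 ^ k}), IsConj x x⁻¹ ∧ (Subgroup.centralizer ({x} : Set ↥(Subgroup.closure {g : G | ∃ k : ℕ, orderOf g = 2 ^ k}))).index = n}, q ∣ n) → q ∈ π₁ ∨ q ∈ π₂) ∧ ∀ a ∈ π₁, ∀ b ∈ π₂, ∀ n ∈ {n : ℕ | ∃ x : ↥(Subgroup.closure {g : G | ∃ k : ℕ, orderOf g = 2 ^ k}), IsConj x x⁻¹ ∧ (Subgroup.centralizer ({x} : Set ↥(Subgroup.closure {g : G | ∃ k : ℕ, orderOf g = 2 ^ k}))).index = n}, ¬ (a ∣ n ∧ b ∣ n)) ∧ ∀ n ∈ {n : ℕ | ∃ x : ↥(Subgroup.closure {g : G | ∃ k : ℕ, orderOf g = 2 ^ k}), IsConj x x⁻¹ ∧ (Subgroup.centralizer ({x} : Set ↥(Subgroup.closure {g : G | ∃ k : ℕ, orderOf g = 2 ^ k}))).index = n}, Odd n ∨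 ∃ j : ℕ, n = 2 ^ j)) := by
  obtain ⟨π₁, π₂, n1, n2, dj, sub, cov, ne⟩ := h
  have hs : Group.IsSolvable G := solv G (RD.red π₁ π₂ n1 n2
    (fun r x hr hx hd => cov r hr ⟨_, ⟨x, hx, rfl⟩, hd⟩)
    (fun r hr => by
      obtain ⟨-, _, ⟨x, hx, rfl⟩, hd⟩ := sub r hr
      exact ⟨x, hx, hd⟩)
    (fun r hr s hs' x hx h1 h2 => ne r hr s hs' _ ⟨x, hx, rfl⟩ ⟨h1, h2⟩))
  have cov' : ∀ r : ℕ, r.Prime → ∀ x : G, IsConj x x⁻¹ →
      r ∣ (Subgroup.centralizer ({x} : Set G)).index → r ∈ π₁ ∨ r ∈ π₂ :=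
    fun r hr x hx hd => cov r hr ⟨_, ⟨x, hx, rfl⟩, hd⟩
  have ne' : ∀ r ∈ π₁, ∀ s ∈ π₂, ∀ x : G, IsConj x x⁻¹ →
      r ∣ (Subgroup.centralizer ({x} : Set G)).index →
      ¬ s ∣ (Subgroup.centralizer ({x} : Set G)).index :=
    fun r hr s hs' x hx h1 h2 => ne r hr s hs' _ ⟨x, hx, rfl⟩ ⟨h1, h2⟩
  obtain ⟨p, hp⟩ := n1
  obtain ⟨q, hq⟩ := n2
  obtain ⟨-, _, ⟨a, ra, rfl⟩, pa⟩ := sub p (Or.inl hp)
  obtain ⟨-, _, ⟨b, rb, rfl⟩, qb⟩ := sub q (Or.inr hq)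
  obtain ⟨x, rx, ex⟩ := RT.even_ex (fun E _ ab hE ho _ _ ha hb co => RT.yu hs E ab hE ho ha hb co)
    hp hq ra rb pa qb cov' ne'
  refine ⟨⟨_, ⟨x, rx, rfl⟩, ex⟩, ?_⟩
  by_cases nn : ∀ P : Sylow 2 G, (P : Subgroup G).Normal
  · exact Or.inl nn
  right
  have key : (∃ y : RT.KK G, IsConj y y⁻¹ ∧
        2 ∣ (Subgroup.centralizer ({y} : Set (RT.KK G))).index) ∧
      (∃ y : RT.KK G, IsConj y y⁻¹ ∧ ∃ r : ℕ, r.Prime ∧ r ≠ 2 ∧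
        r ∣ (Subgroup.centralizer ({y} : Set (RT.KK G))).index) ∧
      ∀ y : RT.KK G, IsConj y y⁻¹ → Odd (Subgroup.centralizer ({y} : Set (RT.KK G))).index ∨
        ∃ j : ℕ, (Subgroup.centralizer ({y} : Set (RT.KK G))).index = 2 ^ j := by
    rcases cov' 2 Nat.prime_two x rx ex with e | e
    · exact RT.core (fun hr h2 S hn => RT.pl hs hr h2 S hn) e hq rb qb cov' ne' nn
    · exact RT.core (fun hr h2 S hn => RT.pl hs hr h2 S hn) e hp ra pa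
        (fun r hr y hy hd => (cov' r hr y hy hd).symm)
        (fun r hr s hs' y hy h1 h2 => ne' s hs' r hr y hy h2 h1) nn
  obtain ⟨⟨y, ry, ey⟩, ⟨z, rz, r, hr, r2, rd⟩, all⟩ := key
  refine ⟨⟨{2}, {s | s.Prime ∧ s ≠ 2 ∧ ∃ w : RT.KK G, IsConj w w⁻¹ ∧
      s ∣ (Subgroup.centralizer ({w} : Set (RT.KK G))).index}, ⟨2, rfl⟩, ⟨r, hr, r2, z, rz, rd⟩,
      ?_, ?_, ?_, ?_⟩, ?_⟩
  · rw [Set.disjoint_singleton_left]
    exact fun e => e.2.1 rfl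
  · rintro s (rfl | ⟨h1, -, w, rw', hd⟩)
    · exact ⟨Nat.prime_two, _, ⟨y, ry, rfl⟩, ey⟩
    · exact ⟨h1, _, ⟨w, rw', rfl⟩, hd⟩
  · rintro s h1 ⟨_, ⟨w, rw', rfl⟩, hd⟩
    by_cases e : s = 2
    · exact Or.inl e
    · exact Or.inr ⟨h1, e, w, rw', hd⟩
  · rintro _ rfl s ⟨h1, s2, -⟩ _ ⟨w, rw', rfl⟩ ⟨d1, d2⟩
    rcases all w rw' with o | ⟨j, hj⟩
    · exact (Nat.not_even_iff_odd.2 o) (even_iff_two_dvd.2 d1)
    · rw [hj] at d2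
      exact s2 ((Nat.prime_dvd_prime_iff_eq h1 Nat.prime_two).1 (h1.dvd_of_dvd_pow d2))
  · rintro _ ⟨w, rw', rfl⟩
    exact all w rw'

end Cfsg.Agent.S4192
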