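import Cfsg.Statements.S4284
import Cfsg.Agent.H25.Ito6
import Cfsg.Agent.H26.AbCyc

set_option autoImplicit false
open Cfsg

namespace Cfsg.Agent.S4284

open Subgroup Cfsg.Agent.H20 Cfsg.Agent.H21 Cfsg.Agent.H25

/-- Let G be a finite group with no nontrivial abelian direct factor whose conjugacy class sizes are exactly 1, m and m·n with m, n > 1 coprime. Then m is a prime p dividing n − 1; the elements whose class has size 1 or p form an abelian normal subgroup of index p; G has a normal p-complement; and the commutator subgroup of a Sylow p-subgroup of G has order p. -/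
theorem result {G : Type*} [Group G] [Finite G] (hnodf : ∀ A B : Subgroup G, A.Normal → B.Normal → A ⊓ B = ⊥ → A ⊔ B = ⊤ → IsMulCommutative A → A = ⊥) (m n : ℕ) (hm : 1 < m) (hn : 1 < n) (hcop : m.Coprime n) (h : Set.range (fun x : G => (Subgroup.centralizer ({x} : Set G)).index) = ({1, m, m * n} : Set ℕ)) : m.Prime ∧ m ∣ n - 1 ∧ (∃ M : Subgroup G, M.Normal ∧ (M : Set G) = {x : G | (Subgroup.centralizer ({x} : Set G)).index = 1 ∨ (Subgroup.centralizer ({x} : Set G)).index = m} ∧ M.index = m ∧ IsMulCommutative M) ∧ (∃ N : Subgroup G, N.Normal ∧ (Nat.card N).Coprime m ∧ ∃ a : ℕ, N.index = m ^ a) ∧ ∀ P : Sylow m G, Nat.card (commutator (P : Subgroup G)) = m := by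
  have idx : ∀ x : G, x ∉ center G → C₁⟦x⟧.index = m ∨ C₁⟦x⟧.index = n * m := fun x hx => by
    have : C₁⟦x⟧.index ∈ ({1, m, m * n} : Set ℕ) := h ▸ ⟨x, rfl⟩
    rw [mul_comm n]
    exact this.resolve_left (mt H26.index_cent_eq_one_iff.1 hx)
  obtain ⟨x, hx⟩ : m ∈ Set.range (fun x : G => C₁⟦x⟧.index) := h ▸ by simp
  obtain ⟨z, hz⟩ : m * n ∈ Set.range (fun x : G => C₁⟦x⟧.index) := h ▸ by simp
  replace hx : C₁⟦x⟧.index = m := hx
  replace hz : C₁⟦z⟧.index = n * m := hz.trans (mul_comm _ _)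
  have hxZ : x ∉ center G := fun e => hm.ne' (hx ▸ H26.index_cent_eq_one_iff.2 e)
  have H : Fr2 G m n := by
    refine ⟨hn, hcop, idx, ?_, ⟨x, hxZ, hx⟩, z, fun e => ?_, hz⟩
    · by_contra hF
      simp only [MaxC, not_forall] at hF
      obtain ⟨a, -, b, hb, hle, hne⟩ := hF
      exact Rk2.not_cop ⟨hn, idx, a, b, hb, lt_of_le_of_ne hle (Ne.symm hne)⟩ hcop
    · rw [H26.index_cent_eq_one_iff.2 e] at hz
      exact hn.ne' (Nat.eq_one_of_mul_eq_one_right hz.symm)
  obtain ⟨p, hp, hpm, hs⟩ := H.exists_p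
  obtain ⟨rfl, h1, h2⟩ := H.main hp hpm hs hxZ hx
  haveI := Fact.mk hp
  haveI hN := H.normal hp hpm hs hxZ hx
  have hc := H.comm hp hpm hs hxZ hx
  refine ⟨hp, h1, ⟨C₁⟦x⟧, hN, Set.ext fun y => ⟨fun hy => ?_, fun hy => ?_⟩, hx, hc⟩,
    ⟨piCoreOf {m}ᶜ C₁⟦x⟧, (piCoreOf_normalIn_of _ (NormalIn.of_normal _)).normal, (isPi_piCoreOf _ _).coprime_prime hp,
      (PiNat.singleton_iff hp (index_ne_zero_of_finite)).1 ?_⟩, fun P => ?_⟩
  · by_cases hyZ : y ∈ center G
    exacts [Or.inl (H26.index_cent_eq_one_iff.2 hyZ), Or.inr (H.eq hp hpm hs hxZ hx hy hyZ ▸ hx)]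
  · by_cases hyZ : y ∈ center G
    · exact H26.center_le_cent x hyZ
    · exact (H.unique hp hpm hs hxZ hx hyZ (hy.resolve_left (mt H26.index_cent_eq_one_iff.1 hyZ))).le (self_mem_cent1 y)
  · rw [← relIndex_mul_index (piCoreOf_le _ _), hx]
    exact (PiNat.compl_compl.1 (piCoreOf_hall_of_nil _ (nil_of_comm hc)).piNat).mul hpm
  set S := piCoreOf {m} C₁⟦x⟧
  haveI : S.Normal := (piCoreOf_normalIn_of _ (NormalIn.of_normal _)).normal
  have hS : SylowOf m S C₁⟦x⟧ := pCoreOf_sylow_of_nil (nil_of_comm hc)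
  have hP := sylowOf_top P
  have hSP : S ≤ P := hP.normalIn_le hS.isPi (NormalIn.of_normal S)
  have hi : (S.subgroupOf P).index = m := by
    change S.relIndex P = m
    rw [← hS.inf_eq_of_le hP.isPGroup hSP, inf_relIndex_left, ← relIndex_sup_of_norm' (Or.inr le_normalizer_of_normal),
      hP.sup_eq_of_relIndex le_top (by rwa [relIndex_top_right, hx]), relIndex_top_right, hx]
  have h3 := H26.card_eq_card_commutator_mul (S.subgroupOf P)
    (fun a ha b hb => Subtype.ext (comm_iff.1 hc a (hS.le ha) b (hS.le hb))) (isCyclic_of_prime_card hi)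
  have h4 : S.subgroupOf P ⊓ center P = (center G ⊓ S).subgroupOf P := by
    ext a
    refine ⟨fun ⟨h5, h6⟩ => ⟨?_, h5⟩, fun ⟨h5, h6⟩ => ⟨h6, mem_center_iff.2 fun b => Subtype.ext (mem_center_iff.1 h5 b)⟩⟩
    by_contra haZ
    refine not_dvd_index_of_sylow hP (le_cent1_iff.2 (mem_center_coe.1 h6)) ?_
    rcases idx a haZ with e | e <;> rw [e]
    exact Dvd.intro_left n rfl
  rw [h4, card_subgroupOf hSP, card_subgroupOf (inf_le_right.trans hSP), ← card_inf_mul_relIndex (center G) S, h2,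
    mul_comm] at h3
  exact (Nat.eq_of_mul_eq_mul_right (card_pos _) h3).symm

end Cfsg.Agent.S4284
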