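import Cfsg.Statements.S4298
import Cfsg.Agent.H26.Frob

set_option autoImplicit false
open Cfsg

namespace Cfsg.Agent.S4298

def tab (a b c d : ZMod 3) : ZMod 5 × ZMod 5 × ZMod 5 × ZMod 5 :=
  ([(0,0,0,0), (0,0,0,0), (0,0,0,0), (0,0,0,0), (0,0,0,0), (0,0,0,0), (0,0,0,0), (0,0,0,0), (0,0,0,0), (0,0,0,0), (0,0,0,0), (0,0,0,0), (0,0,0,0), (0,0,0,0), (0,0,0,0), (3,0,1,2), (2,2,1,4), (0,3,3,4), (0,0,0,0), (0,0,0,0), (0,0,0,0), (2,0,4,3), (0,2,2,1), (3,3,4,1), (0,0,0,0), (0,0,0,0), (0,0,0,0), (0,0,0,0), (1,0,0,1), (0,0,0,0), (0,0,0,0), (2,1,3,2), (0,0,0,0), (0,0,0,0), (2,4,2,2), (0,0,0,0), (0,0,0,0), (0,1,4,4), (0,0,0,0), (0,0,0,0), (0,0,0,0), (4,1,3,1), (1,3,3,0), (0,0,0,0), (0,0,0,0), (0,0,0,0), (4,4,1,0), (0,0,0,0), (4,3,4,2), (0,0,0,0), (0,0,0,0), (0,0,0,0), (0,0,0,0), (2,3,0,3), (0,0,0,0), (0,0,0,0), (4,0,0,4), (0,0,0,0), (0,0,0,0), (3,1,3,3), (0,0,0,0), (0,0,0,0), (3,4,2,3),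 (0,0,0,0), (0,0,0,0), (1,1,4,0), (0,0,0,0), (3,2,0,2), (0,0,0,0), (1,2,1,3), (0,0,0,0), (0,0,0,0), (0,0,0,0), (0,0,0,0), (0,4,1,1), (4,2,2,0), (0,0,0,0), (0,0,0,0), (0,0,0,0), (1,4,2,4), (0,0,0,0)] : List (ZMod 5 × ZMod 5 × ZMod 5 × ZMod 5)).getD
    (a.val * 27 + b.val * 9 + c.val * 3 + d.val) 0

def app (m : ZMod 5 × ZMod 5 × ZMod 5 × ZMod 5) (v : ZMod 5 × ZMod 5) : ZMod 5 × ZMod 5 :=
  (m.1 * v.1 + m.2.1 * v.2, m.2.2.1 * v.1 + m.2.2.2 * v.2)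

def mmul (m n : ZMod 5 × ZMod 5 × ZMod 5 × ZMod 5) : ZMod 5 × ZMod 5 × ZMod 5 × ZMod 5 :=
  (m.1 * n.1 + m.2.1 * n.2.2.1, m.1 * n.2.1 + m.2.1 * n.2.2.2,
    m.2.2.1 * n.1 + m.2.2.2 * n.2.2.1, m.2.2.1 * n.2.1 + m.2.2.2 * n.2.2.2)

theorem app_mmul (m n : ZMod 5 × ZMod 5 × ZMod 5 × ZMod 5) (v : ZMod 5 × ZMod 5) :
    app (mmul m n) v = app m (app n v) := by
  ext <;> simp only [app, mmul] <;> ring

theorem tab_mul : ∀ a b c d : ZMod 3, a * d - b * c = 1 → ∀ e f g h : ZMod 3, e * h - f * g = 1 →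
    tab (a * e + b * g) (a * f + b * h) (c * e + d * g) (c * f + d * h) =
      mmul (tab a b c d) (tab e f g h) := by decide +kernel

theorem tab_fpf : ∀ a b c d : ZMod 3, a * d - b * c = 1 → ∀ x y : ZMod 5,
    app (tab a b c d) (x, y) = (x, y) → (a = 1 ∧ b = 0 ∧ c = 0 ∧ d = 1) ∨ (x, y) = 0 := by
  decide +kernel

/-- The group SL(2,3) of order 24 (the binary tetrahedral group) occurs as a Frobenius complement of some finite Frobenius group. -/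
theorem result :
    ∃ (L : Type) (_ : Group L) (_ : Finite L) (H : Subgroup L), Cfsg.IsFrobeniusComplement H ∧ Nonempty (H ≃* Matrix.SpecialLinearGroup (Fin 2) (ZMod 3)) := by
  have hdet : ∀ A : Matrix.SpecialLinearGroup (Fin 2) (ZMod 3), A 0 0 * A 1 1 - A 0 1 * A 1 0 = 1 :=
    fun A => by rw [← Matrix.det_fin_two]; exact A.det_coe
  let _ : DistribMulAction (Matrix.SpecialLinearGroup (Fin 2) (ZMod 3)) (ZMod 5 × ZMod 5) :=
    { smul := fun A v => app (tab (A 0 0) (A 0 1) (A 1 0) (A 1 1)) v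
      one_smul := fun v => by
        change app (tab 1 0 0 1) v = v
        revert v
        decide +kernel
      mul_smul := fun A B v => by
        change app (tab ((A * B) 0 0) ((A * B) 0 1) ((A * B) 1 0) ((A * B) 1 1)) v =
          app (tab (A 0 0) (A 0 1) (A 1 0) (A 1 1)) (app (tab (B 0 0) (B 0 1) (B 1 0) (B 1 1)) v)
        rw [← app_mmul, ← tab_mul _ _ _ _ (hdet A) _ _ _ _ (hdet B)]
        simp [Matrix.mul_apply, Fin.sum_univ_two]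
      smul_zero := fun A => by
        change app _ _ = _
        ext <;> simp [app]
      smul_add := fun A v w => by
        change app _ _ = app _ _ + app _ _
        ext <;> simp [app] <;> ring }
  have : Nontrivial (Matrix.SpecialLinearGroup (Fin 2) (ZMod 3)) :=
    ⟨⟨1, -1, fun h => by
      have := congrArg (fun A : Matrix.SpecialLinearGroup (Fin 2) (ZMod 3) => A 0 0) h
      revert this
      simp
      decide⟩⟩
  have : Fact (Nat.Prime 5) := ⟨by norm_num⟩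
  obtain ⟨L, i1, i2, H, h1, ⟨e⟩⟩ := H26.exists_frob_of_fpf_action.{0}
    (A := Matrix.SpecialLinearGroup (Fin 2) (ZMod 3)) (W := ZMod 5 × ZMod 5) (by
      rintro A hA ⟨x, y⟩ h
      refine (tab_fpf _ _ _ _ (hdet A) x y h).resolve_left fun ⟨h1, h2, h3, h4⟩ => hA ?_
      ext i j
      fin_cases i <;> fin_cases j <;> simp [h1, h2, h3, h4])
  exact ⟨L, i1, i2, H, h1, ⟨e.symm⟩⟩

end Cfsg.Agent.S4298
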