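import Cfsg.Statements.S4355
import Cfsg.Agent.L0.CamHer
import Cfsg.Agent.L0.SymSyl

set_option autoImplicit false
open Cfsg

namespace Cfsg.Agent.S4355

open Subgroup Cfsg.FusionSystem Cfsg.Agent.H23 Cfsg.Agent.H23.LF


/-- If every element of 2-power order of a finite group has a conjugacy class of odd size, then the Sylow 2-subgroups of the group are abelian. -/
theorem result {G : Type*} [Group G] [Finite G]
    (h : ∀ x : G, (∃ k : ℕ, orderOf x = 2 ^ k) → ¬ 2 ∣ (Subgroup.centralizer ({x} : Set G)).index) (P : Sylow 2 G) :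
    IsMulCommutative P := by
  exact camina_herzog_group P fun x hx =>
    L0.SymSyl.exists_sylow_le_of_odd _ (Nat.not_even_iff_odd.1 fun e => h x hx e.two_dvd)

end Cfsg.Agent.S4355
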