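import Cfsg.Statements.S4363
import Cfsg.Agent.L0.TuA
import Cfsg.Agent.H1.Eng5

set_option autoImplicit false
open Cfsg

namespace Cfsg.Agent.S4363

open Subgroup Cfsg.Agent.L0.Tu SemidirectProduct


/-- Let G be a finite solvable group and σ an automorphism of G of prime order r not dividing the order of G, with fixed-point subgroup C. Then the Fitting height of G exceeds that of C by at most 2: if C has a chain of normal subgroups 1 = C₀ ≤ ⋯ ≤ Cₙ = C with nilpotent factors, then G has such a chain of length n + 2. -/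
theorem result {G : Type*} [Group G] [Finite G]
    (hG : Group.IsSolvable G) (σ : MulAut G) (r : ℕ) (hr : r.Prime) (hσ : orderOf σ = r) (hcop : ¬ r ∣ Nat.card G)
    (C : Subgroup G) (hC : ∀ g : G, g ∈ C ↔ σ g = g) (n : ℕ) (hn : (∃ F : Fin (n + 1) → Subgroup ↥C, F 0 = ⊥ ∧ F (Fin.last n) = ⊤ ∧ Monotone F ∧ (∀ i, (F i).Normal) ∧ ∀ i : Fin n, ∃ k : ℕ, (F i.succ).lowerCentralSeries k ≤ F i.castSucc)) :
    (∃ F : Fin ((n + 2) + 1) → Subgroup G, F 0 = ⊥ ∧ F (Fin.last (n + 2)) = ⊤ ∧ Monotone F ∧ (∀ i, (F i).Normal) ∧ ∀ i : Fin (n + 2), ∃ k : ℕ, (F i.succ).lowerCentralSeries k ≤ F i.castSucc) := by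
  refine (chain_of_D (n + 2) fun s hs hl => by_contra fun hD => ?_).fin
  obtain ⟨F, h0, h1, -, h2, h3⟩ := hn
  obtain ⟨p, q, s, rfl⟩ : ∃ p q s', s = p :: q :: s' := by
    match s, hl with
    | p :: q :: s', _ => exact ⟨p, q, s', rfl⟩
  let H := G ⋊[MonoidHom.id (MulAut G)] MulAut G
  have : Finite H := Finite.of_equiv _ SemidirectProduct.equivProd.symm
  let l : G →* H := inl
  have hl' : Function.Injective l := inl_injective
  have : ((⊤ : Subgroup G).map l).Normal := by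
    rw [← MonoidHom.range_eq_map, range_inl_eq_ker_rightHom]; infer_instance
  have hc : Nat.card ((⊤ : Subgroup G).map l) = Nat.card G := by
    rw [card_map_of_injective hl', card_top]
  obtain ⟨t, ht, h4, h5⟩ := exists_tower (fun ρ => H1.Eng.engine ρ) hr hs _ ((⊤ : Subgroup G).map l) (inr σ : H) rfl
    (H21.sol_map _ inferInstance) (by rw [← map_pow, ← hσ, pow_orderOf_eq_one, map_one]) (hc ▸ hcop)
    (by rwa [← map_D _ _ hs, Ne, map_eq_bot_iff_of_injective _ hl'])
  have h6 : Cx ((⊤ : Subgroup G).map l) (inr σ : H) = (⊤ : Subgroup C).map (l.comp C.subtype) := by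
    ext x
    rw [mem_Cx]
    have key : ∀ g : G, Commute (inr σ : H) (l g) ↔ σ g = g := fun g => by
      rw [commute_iff_eq, ← mul_inv_eq_iff_eq_mul, ← map_inv, ← inl_aut]
      exact hl'.eq_iff
    constructor
    · rintro ⟨⟨g, -, rfl⟩, h6⟩
      exact ⟨⟨g, (hC g).2 ((key g).1 h6)⟩, trivial, rfl⟩
    · rintro ⟨g, -, rfl⟩
      exact ⟨⟨g, trivial, rfl⟩, (key g).2 ((hC g).1 g.2)⟩
  refine h5 ?_
  rw [h6, ← map_D _ _ ht, D_eq_bot h0 h1 h2 h3 ht (by simp only [List.length_cons] at hl; omega), Subgroup.map_bot]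

end Cfsg.Agent.S4363
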