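import Cfsg.Statements.S4365
import Cfsg.Agent.H26.ClassSize
import Cfsg.Agent.S4169

set_option autoImplicit false
open Cfsg

namespace Cfsg.Agent.S4365

open scoped commutatorElement

/-- Let P be a finite p-group whose conjugacy class sizes are exactly 1 and pᵃ for some a ≥ 1. Then every element of P has its p-th power in the center of P (P/Z(P) has exponent p). -/
theorem result {P : Type*} [Group P] [Finite P] (p : ℕ) [Fact p.Prime]
    (hP : IsPGroup p P) (a : ℕ) (ha : 1 ≤ a)
    (hcs : {k : ℕ | ∃ x : P, (Subgroup.centralizer ({x} : Set P)).index = k} = {1, p ^ a}) (x : P) :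
    x ^ p ∈ Subgroup.center P := by
  have := hP.isNilpotent
  have hp : p.Prime := Fact.out
  have h : ∀ x : P, (Subgroup.centralizer ({x} : Set P)).index = 1 ∨
      (Subgroup.centralizer ({x} : Set P)).index = p ^ a := fun y => by
    have : (Subgroup.centralizer ({y} : Set P)).index ∈ ({1, p ^ a} : Set ℕ) := hcs ▸ ⟨y, rfl⟩
    exact this
  have h3 := S4169.aux _ h
  by_contra hx
  have hx' : x ∉ Subgroup.center P := fun h => hx (Subgroup.pow_mem _ h p)
  have hidx : ∀ y : P, y ∉ Subgroup.center P → (Subgroup.centralizer ({y} : Set P)).index = p ^ a :=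
    fun y hy => (h y).resolve_left (mt H26.index_cent_eq_one_iff.mp hy)
  -- an element of order `p` in the centre of the central quotient
  set Z := Subgroup.center P with hZ
  have hnt : Nontrivial (P ⧸ Z) := ⟨⟨x, 1, fun h => hx' ((QuotientGroup.eq_one_iff x).mp h)⟩⟩
  have hQ : IsPGroup p (P ⧸ Z) := hP.to_quotient Z
  have hc := hQ.center_nontrivial
  obtain ⟨k, hk0, hk⟩ := (hQ.to_subgroup (Subgroup.center (P ⧸ Z))).nontrivial_iff_card.mp hc
  obtain ⟨⟨zb, hzb⟩, hzo⟩ := exists_prime_orderOf_dvd_card' (G := Subgroup.center (P ⧸ Z)) p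
    (hk ▸ dvd_pow_self p hk0.ne')
  obtain ⟨z, rfl⟩ := QuotientGroup.mk_surjective zb
  rw [← Subgroup.orderOf_coe] at hzo
  have hzp : z ^ p ∈ Z := by
    rw [← QuotientGroup.eq_one_iff, QuotientGroup.mk_pow, ← hzo]
    exact pow_orderOf_eq_one _
  have hz : z ∉ Z := fun h => by
    simp only [(QuotientGroup.eq_one_iff z).mpr h, orderOf_one] at hzo
    exact hp.one_lt.ne hzo
  have key : ∀ y : P, y ^ p ∉ Z → z ∈ Subgroup.centralizer ({y} : Set P) := by
    intro y hy
    have hy' : y ∉ Z := fun h => hy (Subgroup.pow_mem _ h p)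
    have e : Subgroup.centralizer ({y} : Set P) = Subgroup.centralizer ({y ^ p} : Set P) := by
      apply Subgroup.eq_of_le_of_card_ge (H26.cent_le_cent_pow y p)
      have a1 := (Subgroup.centralizer ({y} : Set P)).index_mul_card
      have a2 := (Subgroup.centralizer ({y ^ p} : Set P)).index_mul_card
      rw [hidx _ hy'] at a1
      rw [hidx _ hy] at a2
      exact (Nat.eq_of_mul_eq_mul_left (pow_pos hp.pos a) (a2.trans a1.symm)).le
    rw [e, H26.mem_cent]
    have hcz : (y * z)⁻¹ * (z * y) ∈ Z := by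
      rw [← QuotientGroup.eq, QuotientGroup.mk_mul, QuotientGroup.mk_mul]
      exact Subgroup.mem_center_iff.mp hzb _
    set c := (y * z)⁻¹ * (z * y) with hc
    have e1 : z * y = y * z * c := by rw [hc]; group
    have e2 := H26.pow_mul_of_central hcz e1 p
    have e3 : c ^ p = 1 := by
      rw [← Subgroup.mem_center_iff.mp hzp y] at e2
      exact (mul_eq_left.mp e2.symm)
    have e4 : y * z = z * y * c⁻¹ := by rw [e1]; group
    have e5 := H26.pow_mul_of_central (Subgroup.inv_mem _ hcz) e4 p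
    rw [e5, inv_pow, e3, inv_one, mul_one]
  set N := Subgroup.centralizer ({z} : Set P) with hN
  have hxN : x ∈ N := H26.mem_cent_comm.mp (key x hx)
  have hout : ∀ y : P, y ∉ N → ((y : P ⧸ Z)) ^ p = 1 := by
    intro y hy
    rw [← QuotientGroup.mk_pow, QuotientGroup.eq_one_iff]
    by_contra hn
    exact hy (H26.mem_cent_comm.mp (key y hn))
  have hxb : ((x : P ⧸ Z)) ^ p ≠ 1 := by
    rw [← QuotientGroup.mk_pow, Ne, QuotientGroup.eq_one_iff]
    exact hx
  have hout2 : ∀ y : P, y ∉ N → ((x : P ⧸ Z) * y) ^ p = 1 := fun y hy =>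
    hout (x * y) fun h => hy ((Subgroup.mul_mem_cancel_left N hxN).mp h)
  rcases hp.eq_two_or_odd' with rfl | hodd
  · by_cases ha1 : a = 1
    · apply hx
      rw [Subgroup.mem_center_iff]
      intro g
      by_cases hg : g ∈ Z
      · exact (Subgroup.mem_center_iff.mp hg _).symm
      · have h2 := hidx g hg
        rw [ha1, pow_one] at h2
        exact (H26.mem_cent.mp (Subgroup.sq_mem_of_index_two h2 x)).symm
    · have hi : N.index = 2 ^ a := hidx z hz
      have : ∃ y₁ y₂ : P, y₁ ∉ N ∧ y₂ ∉ N ∧ y₁ * y₂ ∉ N := by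
        by_contra hn
        push Not at hn
        have hNt : N ≠ ⊤ := fun h => hz (H26.cent_eq_top_iff.mp h)
        obtain ⟨y, -, hy⟩ := SetLike.exists_of_lt (lt_top_iff_ne_top.mpr hNt)
        have : N.index = 2 := by
          rw [Subgroup.index_eq_two_iff]
          refine ⟨y, fun b => ?_⟩
          by_cases hb : b ∈ N
          · exact Or.inr ⟨hb, fun h => hy ((Subgroup.mul_mem_cancel_left N hb).mp h)⟩
          · exact Or.inl ⟨hn b y hb hy, hb⟩
        rw [hi] at this
        exact ha1 (Nat.pow_right_injective le_rfl (this.trans (pow_one 2).symm))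
      obtain ⟨y₁, y₂, h1, h2, h12⟩ := this
      have inv : ∀ y : P, y ∉ N → (y : P ⧸ Z) * x * (y : P ⧸ Z)⁻¹ = (x : P ⧸ Z)⁻¹ := by
        intro y hy
        have a1 := hout y hy
        have a2 := hout2 y hy
        rw [sq] at a1 a2
        rw [← eq_inv_of_mul_eq_one_left a1, eq_inv_iff_mul_eq_one]
        calc (y : P ⧸ Z) * x * y * x = (x : P ⧸ Z)⁻¹ * (x * y * (x * y)) * x := by group
          _ = 1 := by rw [a2]; group
      have a1 := inv _ h1
      have a2 := inv _ h2
      have a3 := inv _ h12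
      apply hxb
      rw [QuotientGroup.mk_mul] at a3
      have a4 : (y₁ : P ⧸ Z) * y₂ * x * ((y₁ : P ⧸ Z) * y₂)⁻¹ = x := by
        calc (y₁ : P ⧸ Z) * y₂ * x * ((y₁ : P ⧸ Z) * y₂)⁻¹ = y₁ * (y₂ * x * (y₂ : P ⧸ Z)⁻¹) * (y₁ : P ⧸ Z)⁻¹ := by group
          _ = ((y₁ : P ⧸ Z) * x * (y₁ : P ⧸ Z)⁻¹)⁻¹ := by rw [a2]; group
          _ = x := by rw [a1, inv_inv]
      rw [a4] at a3
      rw [sq]
      nth_rewrite 2 [a3]
      exact mul_inv_cancel _
  · have hNt : N ≠ ⊤ := fun h => hz (H26.cent_eq_top_iff.mp h)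
    obtain ⟨y, -, hy⟩ := SetLike.exists_of_lt (lt_top_iff_ne_top.mpr hNt)
    have hcz : (((x * y)⁻¹ * (y * x) : P) : P ⧸ Z) ∈ Subgroup.center (P ⧸ Z) := by
      rw [Subgroup.mem_center_iff]
      intro g
      obtain ⟨g, rfl⟩ := QuotientGroup.mk_surjective g
      rw [← commutatorElement_eq_one_iff_mul_comm, ← QuotientGroup.mk'_apply, ← QuotientGroup.mk'_apply,
        ← map_commutatorElement, QuotientGroup.mk'_apply, QuotientGroup.eq_one_iff, hZ,
        Subgroup.mem_center_iff]
      intro w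
      have b1 : (x * y)⁻¹ * (y * x) ∈ (⊤ : Subgroup P).lowerCentralSeries 1 := by
        have : (x * y)⁻¹ * (y * x) = ⁅y⁻¹, x⁻¹⁆ := by rw [commutatorElement_def]; group
        rw [this]
        exact Subgroup.commutator_mem_commutator trivial trivial
      have b2 : ⁅g, (x * y)⁻¹ * (y * x)⁆ ∈ (⊤ : Subgroup P).lowerCentralSeries 2 := by
        rw [Subgroup.lowerCentralSeries_succ, Subgroup.commutator_comm]
        exact Subgroup.commutator_mem_commutator trivial b1
      have b3 : ⁅⁅g, (x * y)⁻¹ * (y * x)⁆, w⁆ ∈ (⊤ : Subgroup P).lowerCentralSeries 3 :=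
        Subgroup.commutator_mem_commutator b2 trivial
      rw [h3, Subgroup.mem_bot, commutatorElement_eq_one_iff_mul_comm] at b3
      exact b3.symm
    set c := (((x * y)⁻¹ * (y * x) : P) : P ⧸ Z) with hc
    have e1 : (y : P ⧸ Z) * x = x * y * c := by
      rw [hc]; simp only [QuotientGroup.mk_mul, QuotientGroup.mk_inv]; group
    have e2 := H26.pow_mul_of_central hcz e1 p
    have e3 := H26.mul_pow_of_central hcz e1 p
    rw [hout y hy] at e2 e3
    have e4 : c ^ p = 1 := by simpa using e2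
    have e5 : p ∣ p.choose 2 := hp.dvd_choose_self (by norm_num) (by
      have := hp.two_le
      rcases hodd with ⟨k, hk⟩
      omega)
    obtain ⟨k, hk⟩ := e5
    rw [hout2 y hy, hk, pow_mul, e4] at e3
    exact hxb (by simpa using e3.symm)

end Cfsg.Agent.S4365
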