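import Cfsg.Statements.S4369
import Cfsg.Agent.CAm.M

set_option autoImplicit false
open Cfsg

namespace Cfsg.Agent.S4369

open Cfsg.Agent.CAm


/-- Call a group a CA-group when the centralizer of every non-central element is abelian. A finite group G is non-solvable, is not a CA-group, and has all its proper subgroups CA-groups, if and only if G is isomorphic to PSL(2, q) where q > 5 is a prime with 16 not dividing q² - 1, or q = 3ᵖ or q = 5ᵖ for an odd prime p. -/
theorem result {G : Type*} [Group G] [Finite G] :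
    (¬ Group.IsSolvable G ∧ ¬ (∀ x : G, x ∉ Subgroup.center G → IsMulCommutative (Subgroup.centralizer ({x} : Set G))) ∧ ∀ H : Subgroup G, H ≠ ⊤ → (∀ x : H, x ∉ Subgroup.center H → IsMulCommutative (Subgroup.centralizer ({x} : Set H)))) ↔
      ∃ (F : Type) (_ : Field F) (_ : Fintype F), Nonempty (G ≃* Matrix.ProjectiveSpecialLinearGroup (Fin 2) F) ∧
        (((Fintype.card F).Prime ∧ 5 < Fintype.card F ∧ ¬ 16 ∣ Fintype.card F ^ 2 - 1) ∨
         (∃ p : ℕ, p.Prime ∧ p ≠ 2 ∧ (Fintype.card F = 3 ^ p ∨ Fintype.card F = 5 ^ p))) := by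
  have e := (Shrink.mulEquiv.{0} (α := G))
  have := Finite.of_equiv _ e.symm.toEquiv
  constructor
  · rintro ⟨h1, h2, h3⟩
    obtain ⟨F, _, _, ⟨f⟩, h⟩ := main (G := Shrink.{0} G)
      ((mc_of fun H hH => ca_iff.2 (h3 H hH)).of_inj e.toMonoidHom e.injective)
      (fun c => h1 (Group.isSolvable_of_surjective (f := e.toMonoidHom) e.surjective))
      fun c => h2 (ca_iff.1 (c.of_inj e.symm.toMonoidHom e.symm.injective))
    exact ⟨F, _, _, ⟨e.symm.trans f⟩, h⟩
  · rintro ⟨F, _, _, ⟨f⟩, h⟩
    obtain ⟨h1, h2, h3⟩ := cv h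
    exact ⟨fun c => h1 (Group.isSolvable_of_surjective (f := f.toMonoidHom) f.surjective),
      fun c => h2 ((ca_iff.2 c).of_inj f.symm.toMonoidHom f.symm.injective),
      fun H hH => ca_iff.1 ((h3.of_inj f.toMonoidHom f.injective).ca hH)⟩

end Cfsg.Agent.S4369
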