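import Cfsg.Statements.S4394
import Mathlib
import Cfsg.Agent.H2.SE2

set_option autoImplicit false
open Cfsg

namespace Cfsg.Agent.S4394

/-- Let X be a finite minimal non-nilpotent group (not nilpotent, every proper subgroup nilpotent) with a nontrivial normal Sylow p-subgroup P. If G is a finite p-solvable group whose Sylow p-subgroups are isomorphic to P, then G has p-length at most 1. -/
theorem result {G X : Type*} [Group G] [Finite G] [Group X] [Finite X] (p : ℕ) [Fact p.Prime]
    (hX : Cfsg.IsMinimalNonNilpotent X) (P : Sylow p X) (hPn : (P : Subgroup X).Normal) (hP1 : (P : Subgroup X) ≠ ⊥)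
    (hG : Cfsg.IsPSolvable p G) (Q : Sylow p G) (hQ : Nonempty (↥(Q : Subgroup G) ≃* ↥(P : Subgroup X))) : Cfsg.PLengthLE p 1 G := by
  have h1 := H2.SE.se_of_schmidt hX P hPn hP1
  obtain ⟨e⟩ := hQ
  have h2 : H2.SE.SE p (⊤ : Subgroup (P : Subgroup X)) :=
    H2.SE.SE.of_map (P : Subgroup X).subtype_injective (by rwa [H9.map_top_subtype])
  have h3 := h2.map ((Q : Subgroup G).subtype.comp e.symm.toMonoidHom)
  rw [← Subgroup.map_map, Subgroup.map_top_of_surjective _ e.symm.surjective, H9.map_top_subtype] at h3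
  obtain ⟨G₂, _, _, f, hf, h4, h5, h6⟩ := H9.exists_red hG
  have h7 := (H3.sylowIn_top Q).map f
  rw [Subgroup.map_top_of_surjective _ hf] at h7
  have h8 := H2.SE.le_pCore (H9.isPSolvable_of_surjective f hf hG) h4 h5 h7.isPGroup
    (h7.le_of_le_normalizer (H1.isPGroup_pCore p _) le_top Subgroup.le_normalizer_of_normal) (h3.map f)
  have h9 : (Q : Subgroup G) ≤ pPrimePCore p G := (Subgroup.map_le_iff_le_comap.1 h8).trans h6
  haveI : (pPrimePCore p G).Normal := H9.pPrimePCore_eq_opMod (p := p) (G := G) ▸ H9.opMod_normal p _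
  refine H9.pLengthLE_succ_of_ker_le (f := QuotientGroup.mk' (pPrimePCore p G)) (QuotientGroup.ker_mk' _).le
    (H9.pLengthLE_zero_iff.2 fun h => Q.not_dvd_index (h.trans (Subgroup.index_dvd_of_le h9)))

end Cfsg.Agent.S4394
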