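import Cfsg.Statements.S5235
import Cfsg.Agent.L0.FEss2

set_option autoImplicit false
open Cfsg

namespace Cfsg.Agent.S5235

open Subgroup Cfsg.Agent.H23 Cfsg.Agent.H23.LF


/-- Let F be a saturated fusion system over a finite 2-group S (p = 2) and P a metacyclic subgroup of S strongly closed in F that is not dihedral, not semidihedral and not generalized quaternion (here the group of order 2, the Klein four-group and the cyclic group of order 4 also count as excluded). Then P is normal in F. -/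
theorem result {Ω : Type*} [Group Ω] {S : Subgroup Ω} [Finite S] (p : ℕ) [Fact p.Prime] (hS : IsPGroup p S) (F : Cfsg.FusionSystem S) (hF : F.IsSaturated p) (P : Subgroup Ω) (hP : F.StronglyClosed P) (hp : p = 2) (hm : Cfsg.IsMetacyclic ↥P) (hd : ¬ ∃ m : ℕ, Nonempty (↥P ≃* DihedralGroup m)) (hq : ¬ ∃ m : ℕ, Nonempty (↥P ≃* QuaternionGroup m)) (hsd : ¬ Cfsg.IsQuasiDihedral ↥P) : F.IsNormal P := by
  subst hp
  refine Sat.normal_meta_two ⟨hS, hF⟩ hP hm fun n e f X Y ⟨h1, h2⟩ => ?_
  rcases H26.MC_trichotomy h1 h2 with ⟨k, h⟩ | ⟨k, a, x, y, h⟩ | ⟨k, h⟩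
  · exact hd ⟨_, h⟩
  · exact hsd ⟨k + 3, by omega, a, x, y, h⟩
  · exact hq ⟨_, h⟩

end Cfsg.Agent.S5235
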