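import Cfsg.Statements.S4418
import Cfsg.Agent.S5235
import Cfsg.Agent.S1896
import Cfsg.Agent.S0949
import Cfsg.Agent.H23.Group
import Cfsg.Agent.H1.FrobCompl
import Cfsg.Agent.H26.Taussky

set_option autoImplicit false
open Cfsg

namespace Cfsg.Agent.S4418

open Subgroup

theorem card_le_two {S : Type*} [Group S] (N : Subgroup S) [N.Normal] (hc : IsCyclic (S ⧸ N))
    (h : ∀ s : S, s ^ 2 ∈ commutator S) : Nat.card (S ⧸ N) ≤ 2 := by
  rw [← hc.exponent_eq_card]
  refine Nat.le_of_dvd two_pos (Monoid.exponent_dvd_of_forall_pow_eq_one fun x => ?_)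
  obtain ⟨s, rfl⟩ := QuotientGroup.mk_surjective x
  exact (QuotientGroup.eq_one_iff (s ^ 2)).mpr
    (Normal.quotient_commutative_iff_commutator_le.mp hc.isMulCommutative (h s))

theorem mc_sq {S : Type*} [Group S] {n e f X Y} (h : H11.MC (⊤ : Subgroup S) n e f X Y) (s : S) :
    s ^ 2 ∈ commutator S := by
  rw [H26.MC_commutator h, h.mem_zpowers_X, pow_two]
  obtain ⟨e', he⟩ := h.e4
  obtain ⟨a, rfl | rfl⟩ := H26.MC_cases h s
  · exact ⟨a, by rw [h.XX, two_mul]⟩
  · rw [h.YY]
    rcases h.hf with hf | hf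
    · exact ⟨2 * e' * a, congrArg X (by linear_combination hf + a * he)⟩
    · exact ⟨H11.qq n + 2 * e' * a, congrArg X (by linear_combination hf + a * he - h.qq2)⟩

/-- Let G be a finite group whose Sylow 2-subgroup S is metacyclic via a cyclic normal subgroup N of S with S/N cyclic of order greater than 2. Then G is soluble. -/
theorem result {G : Type*} [Group G] [Finite G] (S : Sylow 2 G) (N : Subgroup ↥(S : Subgroup G)) [hN : N.Normal] (hNc : IsCyclic N) (hQc : IsCyclic (↥(S : Subgroup G) ⧸ N)) (hQ : 2 < Nat.card (↥(S : Subgroup G) ⧸ N)) : Group.IsSolvable G := by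
  have h2 : ∀ n e f X Y, ¬ H11.MC (⊤ : Subgroup (S : Subgroup G)) n e f X Y := fun n e f X Y h =>
    (card_le_two N hQc (mc_sq h)).not_gt hQ
  have hodd : ∀ (H : Subgroup G), ¬ 2 ∣ Nat.card H → Group.IsSolvable H := fun H h =>
    FT.solvable_of_odd (by rwa [← Nat.not_even_iff_odd, even_iff_two_dvd])
  by_cases hA : IsPGroup 2 (MulAut (S : Subgroup G))
  · have h3 := H23.LF.Sat.normal_meta_two (H23.sat_group S) (P := S)
      ⟨le_rfl, fun R _ φ hφ => hφ.2.1⟩ ⟨N, hN, hNc, hQc⟩ fun n e f X Y h => h2 n e f X Y h.1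
    refine H1.sol_of_pcompl (p := 2) (H3.hasNormalPComplement_of_fusion_control S le_normalizer
      (fun x hx g hg => ?_) ?_) hodd
    · obtain ⟨ψ, ⟨h4, h5, y, hy⟩, h6, -⟩ := h3.2 (zpowers x) (conjHom _ g) ⟨zpowers_le.mpr hx, by
        rintro ⟨_, k, rfl⟩
        show g * x ^ k * g⁻¹ ∈ _
        rw [← conj_zpow]; exact zpow_mem hg k, g, fun _ => rfl⟩
      exact ⟨y, mem_normalizer_fintype fun s hs => (hy ⟨s, mem_sup_right hs⟩) ▸ h5 _,
        (hy _).symm.trans (h6 ⟨x, mem_zpowers x⟩)⟩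
    · refine H3.hasNormalPComplement_of_isPGroup_quotient (S : Subgroup G).normalizerMonoidHom.ker
        (hA.of_injective _ (QuotientGroup.kerLift_injective _)) ?_
      rw [normalizerMonoidHom_ker, H3.hasNormalPComplement_subgroupOf_iff (centralizer_le_normalizer _)]
      exact H3.hasNormalPComplement_centralizer S le_rfl le_normalizer inf_le_left
  rcases S1896.result S.isPGroup' ⟨N, hN, hNc, hQc⟩ hA with ⟨⟨e⟩⟩ | ⟨n, ⟨e⟩⟩
  · obtain ⟨X, Y, h⟩ := H11.exists_MC_of_q8 (topEquiv.trans e)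
    exact (h2 _ _ _ _ _ h).elim
  have hn : 2 ≤ n := by
    by_contra hn
    refine (card_le_two N hQc fun s => ?_).not_gt hQ
    have : ∀ x : Multiplicative (ZMod (2 ^ n)) × Multiplicative (ZMod (2 ^ n)), x ^ 2 = 1 := by
      obtain rfl | rfl : n = 0 ∨ n = 1 := by omega
      all_goals decide
    rw [e.injective (a₁ := s ^ 2) (a₂ := 1) (by rw [map_pow, this, map_one])]
    exact one_mem _
  let O := pPrimeCore 2 G
  let T := S.mapSurjective (QuotientGroup.mk'_surjective O)
  have e' : (S : Subgroup G) ≃* (T : Subgroup (G ⧸ O)) := (MonoidHom.ofInjective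
    (f := (QuotientGroup.mk' O).comp (S : Subgroup G).subtype) ((injective_iff_map_eq_one _).mpr
      fun x hx => by
        obtain ⟨k, hk⟩ := S.isPGroup'.exists_orderOf_eq_pow x
        refine orderOf_eq_one_iff.mp (Nat.eq_one_of_dvd_coprimes
          ((H1.coprime_card_pPrimeCore 2 G).pow_right k) ?_ hk.dvd)
        rw [← orderOf_coe]
        exact O.orderOf_dvd_natCard ((QuotientGroup.eq_one_iff _).mp hx))).trans
    (MulEquiv.subgroupCongr (by rw [MonoidHom.range_comp, range_subtype]; rfl))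
  obtain ⟨h3, -, h4⟩ := S0949.result T n hn (e'.symm.trans (e.trans (MulEquiv.prodMultiplicative _ _).symm))
    fun M _ hM => eq_bot_iff.mpr (H1.pPrimeCore_quotient_pPrimeCore (G := G) 2 ▸
      H1.le_pPrimeCore (Nat.coprime_two_right.mpr hM))
  refine H1.sol_of_normal_of_quot O (hodd O (H1.not_dvd_card_pPrimeCore 2 G))
    (H1.sol_of_normal_of_quot T (H1.isSolvable_of_isPGroup T.isPGroup') (FT.solvable_of_odd ?_))
  rw [← index_eq_card]
  rcases h4 with h | h <;> rw [h] <;> decide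

end Cfsg.Agent.S4418
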