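import Cfsg.Statements.S4419
import Cfsg.Agent.S4208
import Cfsg.Agent.H3.Frobenius
import Cfsg.Agent.H9.OpMod
import Cfsg.Agent.H1.Coprime

set_option autoImplicit false
open Cfsg

namespace Cfsg.Agent.S4419

theorem two_gen {G : Type*} [Group G] {S X : Subgroup G} (hS : IsMetacyclic S) (hX : X ≤ S) :
    ∃ a b : X, Subgroup.closure ({a, b} : Set X) = ⊤ := by
  obtain ⟨N, _, h1, h2⟩ := hS
  let f : X →* S ⧸ N := (QuotientGroup.mk' N).comp (Subgroup.inclusion hX)
  have h3 : IsCyclic f.ker := isCyclic_of_injective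
    (((Subgroup.inclusion hX).comp f.ker.subtype).codRestrict N
      fun x => (QuotientGroup.eq_one_iff _).mp x.2) fun x y h =>
      Subtype.ext (Subgroup.inclusion_injective hX (congrArg Subtype.val h))
  obtain ⟨a, ha⟩ := IsCyclic.exists_generator (α := f.ker)
  obtain ⟨⟨_, b, rfl⟩, hb⟩ := IsCyclic.exists_generator (α := f.range)
  refine ⟨a, b, (Subgroup.eq_top_iff' _).mpr fun x => ?_⟩
  obtain ⟨k, hk⟩ := hb ⟨f x, x, rfl⟩
  have h4 : f b ^ k = f x := congrArg Subtype.val hk
  obtain ⟨j, hj⟩ := ha ⟨x * (b ^ k)⁻¹, by rw [MonoidHom.mem_ker, map_mul, map_inv, map_zpow, h4]; simp⟩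
  have h5 : (a : X) ^ j = x * (b ^ k)⁻¹ := congrArg Subtype.val hj
  rw [eq_mul_inv_iff_mul_eq] at h5
  rw [← h5]
  exact mul_mem (zpow_mem (Subgroup.subset_closure (by simp)) _)
    (zpow_mem (Subgroup.subset_closure (by simp)) _)

theorem meta_surj {A B : Type*} [Group A] [Group B] (f : A →* B) (hf : Function.Surjective f)
    (h : IsMetacyclic A) : IsMetacyclic B := by
  obtain ⟨N, _, h1, h2⟩ := h
  have := Subgroup.Normal.map (H := N) inferInstance _ hf
  exact ⟨N.map f, this, isCyclic_of_surjective _ (MonoidHom.subgroupMap_surjective _ _),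
    isCyclic_of_surjective (QuotientGroup.map N _ f (Subgroup.le_comap_map _ N))
      (QuotientGroup.map_surjective_of_surjective _ _ _ ((QuotientGroup.mk'_surjective _).comp hf) _)⟩

theorem aut_dvd {X : Type*} [Group X] [Finite X] {p : ℕ} [hp : Fact p.Prime] (hX : IsPGroup p X)
    (h : ∃ a b : X, Subgroup.closure ({a, b} : Set X) = ⊤) {q : ℕ} (hq : q.Prime) (hqp : q ≠ p)
    (hd : q ∣ Nat.card (MulAut X)) : q ∣ p ^ 2 - 1 := by
  classical
  obtain ⟨a, b, h⟩ := h
  obtain ⟨n, hn⟩ := IsPGroup.iff_card.mp hX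
  obtain ⟨r, hr⟩ := hX.index (frattini X)
  have h1 := (H1.le_card_of_closure_eq_top hX hr (T := {a, b}) (by simpa using h)).trans Finset.card_le_two
  have h2 := hd.trans (S4208.result hn hr)
  have h3 : ¬ q ∣ p := fun h => hqp ((Nat.prime_dvd_prime_iff_eq hq hp.out).mp h)
  rcases (hq.dvd_mul).mp h2 with h4 | h4
  · exact absurd (hq.dvd_of_dvd_pow h4) h3
  have h5 : p - 1 ∣ p ^ 2 - 1 := by simpa using Nat.sub_dvd_pow_sub_pow p 1 2
  interval_cases r
  · simp [hq.ne_one] at h4
  · simpa using dvd_trans (by simpa using h4) h5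
  · rw [Finset.prod_range_succ, Finset.prod_range_one, pow_zero, pow_one,
      show p ^ 2 - p = p * (p - 1) by rw [Nat.mul_sub_one, sq]] at h4
    rcases (hq.dvd_mul).mp h4 with h | h
    · exact h
    · exact (((hq.dvd_mul).mp h).resolve_left h3).trans h5

/-- Let p be a prime and G a finite group whose Sylow p-subgroups are metacyclic (a cyclic normal subgroup with cyclic quotient). Then G has a normal p-complement if and only if the order of G/O_{p′,p}(G) is coprime to p² − 1. -/
theorem result {G : Type*} [Group G] [Finite G] (p : ℕ) [Fact p.Prime] (S : Sylow p G) (hS : Cfsg.IsMetacyclic ↥(S : Subgroup G)) : Cfsg.HasNormalPComplement p G ↔ Nat.Coprime (Nat.card (G ⧸ Cfsg.pPrimePCore p G)) (p ^ 2 - 1) := by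
  have hp := (Fact.out : p.Prime)
  have hs := QuotientGroup.mk'_surjective (pPrimeCore p G)
  constructor
  · intro h
    have h1 : pCore p (G ⧸ pPrimeCore p G) = ⊤ := by
      obtain ⟨N, _, h2, h3⟩ := H3.hasNormalPComplement_iff_exists_normal.mp h
      rw [H1.pCore_eq_top_iff]
      have h4 : N ≤ pPrimeCore p G := H1.le_pPrimeCore (hp.coprime_iff_not_dvd.mpr h2).symm
      exact h3.of_surjective (QuotientGroup.map N _ (MonoidHom.id G) h4)
        (QuotientGroup.map_surjective_of_surjective _ _ _ (by exact hs) _)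
    have h2 : (pPrimePCore p G).index = 1 := by
      rw [pPrimePCore, h1, Subgroup.comap_top, Subgroup.index_top]
    rw [← Subgroup.index_eq_card, h2]
    exact Nat.coprime_one_left _
  · intro h
    rw [← Subgroup.index_eq_card, pPrimePCore, Subgroup.index_comap_of_surjective _ hs] at h
    refine H3.hasNormalPComplement_of_quotient_of_not_dvd (pPrimeCore p G)
      (H1.not_dvd_card_pPrimeCore p G) (H3.hasNormalPComplement_of_forall_le (S.mapSurjective hs)
        fun X hX _ g hg hc => ?_)
    have hS' : IsMetacyclic (S.mapSurjective hs : Subgroup (G ⧸ pPrimeCore p G)) :=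
      meta_surj _ ((QuotientGroup.mk' (pPrimeCore p G)).subgroupMap_surjective (S : Subgroup G)) hS
    have h1 : X.normalizerMonoidHom ⟨g, hg⟩ = 1 := by
      rw [← orderOf_eq_one_iff]
      by_contra hne
      obtain ⟨q, hq, hd⟩ := Nat.exists_prime_and_dvd hne
      have h2 : q ∣ orderOf g := by
        have := hd.trans (orderOf_map_dvd _ _)
        rwa [Subgroup.orderOf_mk] at this
      have h3 : q ≠ p := by
        rintro rfl
        exact hq.one_lt.ne' (Nat.eq_one_of_dvd_coprimes hc h2 dvd_rfl)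
      have h4 := aut_dvd ((S.mapSurjective hs).isPGroup'.to_le hX) (two_gen hS' hX) hq h3
        (hd.trans (orderOf_dvd_natCard _))
      have h5 := h2.trans (orderOf_dvd_natCard g)
      obtain ⟨n, hn⟩ := IsPGroup.iff_card.mp (H1.isPGroup_pCore p (G ⧸ pPrimeCore p G))
      rw [← (pCore p (G ⧸ pPrimeCore p G)).card_mul_index, hn] at h5
      refine hq.one_lt.ne' (Nat.eq_one_of_dvd_coprimes h ((hq.dvd_mul.mp h5).resolve_left fun h6 => ?_) h4)
      exact h3 ((Nat.prime_dvd_prime_iff_eq hq hp).mp (hq.dvd_of_dvd_pow h6))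
    rw [← MonoidHom.mem_ker, Subgroup.normalizerMonoidHom_ker] at h1
    exact h1

end Cfsg.Agent.S4419
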