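import Cfsg.Statements.S4487
import Cfsg.Agent.H7.Local5
-- import your own Cfsg.Agent.* helpers here

set_option autoImplicit false
open Cfsg

namespace Cfsg.Agent.S4487

open MonoidAlgebra Cfsg.Agent.H3 Cfsg.Agent.H4 Cfsg.Agent.H7
open Cfsg.Agent.H6 (Res locRing redC redA eB fB intAlg classSum omega chiL)
open scoped Pointwise
set_option linter.style.haveILetI false


/-- Let G be a finite group and p a prime such that G has no non-trivial normal subgroup of order prime to p and C_G(O_p(G)) ≤ O_p(G). Then G has a single p-block: any two irreducible characters lie in the same block relative to every maximal ideal M of the algebraic integers containing p. -/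
theorem result {G : Type*} [Group G] [Finite G] (p : ℕ) [Fact p.Prime] (M : Ideal Cfsg.AlgInt) (hM : Cfsg.IsPModular p M) (hcore : Cfsg.pPrimeCore p G = ⊥) (hconstr : Subgroup.centralizer ((Cfsg.pCore p G) : Set G) ≤ Cfsg.pCore p G) (χ ψ : Cfsg.IrrCharacter G) : Cfsg.SameBlock M (χ : G → ℂ) (ψ : G → ℂ) := by
  haveI := hM.2.1; haveI := H6.charP_res hM
  have key : ∀ B : Set (IrrCharacter G), IsPBlock M B → eB M B = 1 := fun B hB => by
    have h1 := supp_centralizer_of_idem (H1.isPGroup_pCore p G) le_top
      Subgroup.le_normalizer_of_normal (blk_eB hB).mem (blk_eB hB).idem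
    exact (idem_eq_zero_or_one_of_supp (H1.isPGroup_pCore p G)
      ⟨h1.mono hconstr, (blk_eB hB).mem.2.mono le_top⟩ (blk_eB hB).idem).resolve_left
        (blk_eB hB).ne_zero
  have h := H6.eB_injective (H6.isPBlock_blockOf (M := M) χ) (H6.isPBlock_blockOf ψ)
    (by rw [key _ (H6.isPBlock_blockOf χ), key _ (H6.isPBlock_blockOf ψ)])
  exact H6.mem_blockOf.1 (h ▸ H6.mem_blockOf_self ψ)

end Cfsg.Agent.S4487
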