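import Cfsg.Statements.S4569
import Cfsg.Agent.H9.AB4
import Cfsg.Agent.H4.Zass1

set_option autoImplicit false
open Cfsg

namespace Cfsg.Agent.S4569


open Subgroup Cfsg.Agent.H9.AB Cfsg.Agent.H11

variable {G : Type*} [Group G] [Finite G] {P : Sylow 2 G}

theorem fix_card (hcard : Nat.card P = 16) (he : ee P = 9) {g : G} (hg : g ∈ NN P)
    (hc : g ∉ CC P) : Nat.card ↥((P : Subgroup G) ⊓ centralizer ({g} : Set G)) = 1 ∨
      Nat.card ↥((P : Subgroup G) ⊓ centralizer ({g} : Set G)) = 4 := by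
  haveI : Fact (Nat.Prime 3) := ⟨by norm_num⟩
  have h1 : (P : Subgroup G).normalizerMonoidHom ⟨g, hg⟩ ^ 3 ^ 2 = 1 := by
    rw [← map_pow, ← MonoidHom.mem_ker, normalizerMonoidHom_ker]
    have := pow_ee_mem hg
    rwa [he] at this
  have h2 := H4.card_fixedBy_modEq (Ω := (P : Subgroup G)) h1
  have h3 : Nat.card (MulAction.fixedBy (P : Subgroup G)
      ((P : Subgroup G).normalizerMonoidHom ⟨g, hg⟩)) =
      Nat.card ↥((P : Subgroup G) ⊓ centralizer ({g} : Set G)) :=
    Nat.card_eq_of_bijective (fun x => ⟨x.1, x.1.2, mem_centralizer_singleton_iff.2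
      (mul_inv_eq_iff_eq_mul.1 (congrArg Subtype.val x.2)).symm⟩)
      ⟨fun a b e => Subtype.ext (Subtype.ext (Subtype.mk.inj e)), fun x =>
        ⟨⟨⟨x, x.2.1⟩, Subtype.ext (mul_inv_eq_iff_eq_mul.2
          (mem_centralizer_singleton_iff.1 x.2.2).symm)⟩, rfl⟩⟩
  rw [h3, hcard] at h2
  have h4 := card_dvd_of_le (inf_le_left : (P : Subgroup G) ⊓ centralizer ({g} : Set G) ≤ P)
  have h5 : Nat.card ↥((P : Subgroup G) ⊓ centralizer ({g} : Set G)) ≠ 16 := fun e => hc
    fun x hx => mem_centralizer_singleton_iff.1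
      ((eq_of_le_of_card_ge inf_le_left (by rw [e]; exact hcard.le)).ge hx).2
  rw [show Nat.card (P : Subgroup G) = 2 ^ 4 from hcard] at h4
  obtain ⟨k, hk, e⟩ := (Nat.dvd_prime_pow Nat.prime_two).1 h4
  rw [e] at h2 h5 ⊢
  interval_cases k <;> simp_all [Nat.ModEq]

theorem double [Fintype G] [DecidableEq G] (H K : Subgroup G) [DecidablePred (· ∈ H)]
    [DecidablePred (· ∈ K)] : ∑ u with u ∈ H, Nat.card ↥(K ⊓ centralizer ({u} : Set G)) =
      ∑ u with u ∈ K, Nat.card ↥(H ⊓ centralizer ({u} : Set G)) := by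
  classical
  have key : ∀ (K : Subgroup G) [DecidablePred (· ∈ K)] (u : G),
      Nat.card ↥(K ⊓ centralizer ({u} : Set G)) =
        ∑ g with g ∈ K, if g * u = u * g then 1 else 0 := fun K _ u => by
    rw [← card_filter, ← Finset.card_filter, Finset.filter_filter]
    simp only [mem_inf, mem_centralizer_singleton_iff]
  simp only [key]
  rw [Finset.sum_comm]
  simp only [eq_comm]

theorem sum_le [Fintype G] [DecidablePred (· ∈ (P : Subgroup G))] (hcard : Nat.card P = 16)
    (he : ee P = 9) :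
    ∑ u with u ∈ (P : Subgroup G), (CC P).relIndex (NN P ⊓ centralizer ({u} : Set G)) ≤ 48 ∧
    (ZZ P ≠ ⊥ → ∑ u with u ∈ (P : Subgroup G),
      (CC P).relIndex (NN P ⊓ centralizer ({u} : Set G)) = 48) := by
  classical
  have h1 := double (P : Subgroup G) (NN P)
  have e : (Finset.univ.filter (· ∈ NN P)).filter (· ∈ CC P) = Finset.univ.filter (· ∈ CC P) := by
    ext u
    simp only [Finset.mem_filter, Finset.mem_univ, true_and]
    exact ⟨fun h => h.2, fun h => ⟨CC_le h, h⟩⟩
  have h2 := Finset.card_filter_add_card_filter_not (s := Finset.univ.filter (· ∈ NN P))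
    (· ∈ CC P)
  rw [e, card_filter, card_filter, card_NN, he] at h2
  rw [Finset.sum_congr rfl (g := fun u => Nat.card (CC P) *
    (CC P).relIndex (NN P ⊓ centralizer ({u} : Set G))) fun u hu =>
      (card_mul_relIndex (CC_le_cent (Finset.mem_filter.1 hu).2)).symm, ← Finset.mul_sum,
    ← Finset.sum_filter_add_sum_filter_not (Finset.univ.filter (· ∈ NN P)) (· ∈ CC P), e,
    Finset.sum_congr rfl
      (s₂ := Finset.univ.filter (· ∈ CC P)) (g := fun _ => 16) fun g hg => by
      rw [inf_eq_left.2 fun x hx => mem_centralizer_singleton_iff.2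
        ((Finset.mem_filter.1 hg).2 x hx), hcard], Finset.sum_const, card_filter,
      smul_eq_mul] at h1
  have h0 : 0 < Nat.card (CC P) := Nat.card_pos
  constructor
  · have h3 := Finset.sum_le_card_nsmul ((Finset.univ.filter (· ∈ NN P)).filter (· ∉ CC P))
      (fun g => Nat.card ↥((P : Subgroup G) ⊓ centralizer ({g} : Set G))) 4 fun g hg => by
        obtain ⟨h4, h5⟩ := Finset.mem_filter.1 hg
        rcases fix_card hcard he (Finset.mem_filter.1 h4).2 h5 with h | h <;> omega
    rw [smul_eq_mul] at h3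
    refine Nat.le_of_mul_le_mul_left ?_ h0
    omega
  · intro hZ
    rw [Finset.sum_congr rfl (s₂ := (Finset.univ.filter (· ∈ NN P)).filter (· ∉ CC P))
      (g := fun _ => 4) fun g hg => by
        obtain ⟨h4, h5⟩ := Finset.mem_filter.1 hg
        refine (fix_card hcard he (Finset.mem_filter.1 h4).2 h5).resolve_left fun h => hZ ?_
        rw [eq_bot_iff, ← card_eq_one.1 h]
        exact fun z hz => ⟨hz.1, mem_centralizer_singleton_iff.2
          (hz.2 g (Finset.mem_filter.1 h4).2).symm⟩, Finset.sum_const, smul_eq_mul] at h1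
    refine Nat.eq_of_mul_eq_mul_left h0 ?_
    omega

theorem tri (he : ee P = 9) {u : G} (hu : u ∈ (P : Subgroup G)) :
    ((CC P).relIndex (NN P ⊓ centralizer ({u} : Set G)) = 1 ∧ u ∉ ZZ P) ∨
    ((CC P).relIndex (NN P ⊓ centralizer ({u} : Set G)) = 3 ∧ u ∉ ZZ P) ∨
    ((CC P).relIndex (NN P ⊓ centralizer ({u} : Set G)) = 9 ∧ u ∈ ZZ P) := by
  have h1 := relIndex_mul_relIndex _ _ _ (CC_le_cent hu) inf_le_left
  have h2 : u ∈ ZZ P ↔ (NN P ⊓ centralizer ({u} : Set G)).relIndex (NN P) = 1 := by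
    rw [relIndex_eq_one, le_inf_iff, and_iff_right le_rfl]
    exact ⟨fun h g hg => mem_centralizer_singleton_iff.2 (h.2 g hg),
      fun h => ⟨hu, fun g hg => mem_centralizer_singleton_iff.1 (h hg)⟩⟩
  rw [h2]
  rw [show (CC P).relIndex (NN P) = 3 ^ 2 from he] at h1
  obtain ⟨k, hk, e⟩ := (Nat.dvd_prime_pow Nat.prime_three).1 (Dvd.intro _ h1)
  rw [e] at h1 ⊢
  interval_cases k <;> omega

/-- Let G be a finite group whose Sylow 2-subgroup P is elementary abelian of order 16, suppose the centralizer of P has index 9 in its normalizer, and let M be a maximal ideal of the algebraic integers containing 2. Then the principal 2-block contains exactly 16 irreducible characters and has 2-regular rank 9. -/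
theorem result {G : Type*} [Group G] [Finite G] (M : Ideal Cfsg.AlgInt) (hM : Cfsg.IsPModular 2 M) (P : Sylow 2 G) (hcard : Nat.card P = 16) (hel : ∀ x : P, x ^ 2 = 1) (he : (Subgroup.centralizer ((P : Subgroup G) : Set G)).relIndex (Subgroup.normalizer ((P : Subgroup G) : Set G)) = 9) : Nat.card (Cfsg.principalBlock M G) = 16 ∧ Cfsg.blockRank 2 (Cfsg.principalBlock M G) = 9 := by
  classical
  haveI := hM.2.1
  haveI := Fintype.ofFinite G
  have hP : (P : Subgroup G) ≤ CC P := WA.le_cent_of_sq fun a ha => by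
    rw [← pow_two]; exact congrArg Subtype.val (hel ⟨a, ha⟩)
  replace he : ee P = 9 := he
  obtain ⟨h1, h2⟩ := sum_le hcard he
  have h3 := formula' hP hM
  set eu := fun u : G => (CC P).relIndex (NN P ⊓ centralizer ({u} : Set G)) with heu
  set s := Finset.univ.filter (· ∈ (P : Subgroup G)) with hs
  set a := ∑ u ∈ s, if eu u = 1 then 1 else 0 with ha
  set b := ∑ u ∈ s, if eu u = 3 then 1 else 0 with hb
  set z := ∑ u ∈ s, if u ∈ ZZ P then 1 else 0 with hz
  set w := ∑ u ∈ s, if u ∈ ZZ P then lc M u else 0 with hw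
  have ht : ∀ u ∈ s, (eu u = 1 ∧ u ∉ ZZ P) ∨ (eu u = 3 ∧ u ∉ ZZ P) ∨ (eu u = 9 ∧ u ∈ ZZ P) :=
    fun u hu => tri he (Finset.mem_filter.1 hu).2
  have h4 : a + b + z = 16 := by
    rw [← hcard, ← card_filter (P : Subgroup G), Finset.card_eq_sum_ones,
      ← Finset.sum_add_distrib, ← Finset.sum_add_distrib]
    refine Finset.sum_congr rfl fun u hu => ?_
    rcases ht u hu with ⟨h, h'⟩ | ⟨h, h'⟩ | ⟨h, h'⟩ <;> simp only [h, h'] <;> simp
  have h5 : ∑ u ∈ s, eu u = a + 3 * b + 9 * z := by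
    rw [Finset.mul_sum, Finset.mul_sum, ← Finset.sum_add_distrib, ← Finset.sum_add_distrib]
    refine Finset.sum_congr rfl fun u hu => ?_
    rcases ht u hu with ⟨h, h'⟩ | ⟨h, h'⟩ | ⟨h, h'⟩ <;> simp only [h, h'] <;> simp
  have h6 : ∑ u ∈ s, eu u * lc M u = a + 9 * b + 9 * w := by
    rw [Finset.mul_sum, Finset.mul_sum, ← Finset.sum_add_distrib, ← Finset.sum_add_distrib]
    refine Finset.sum_congr rfl fun u hu => ?_
    have hu' := (Finset.mem_filter.1 hu).2
    rcases ht u hu with ⟨h, h'⟩ | ⟨h, h'⟩ | ⟨h, h'⟩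
    · have : lc M u = 1 := (rank_iff hM).2 (npc_cent hP hu' (relIndex_eq_one.1 h))
      simp only [h, h', this]; simp
    · have : lc M u = eu u := lc_prime hP hM hu' (by
        rw [show (CC P).relIndex (NN P ⊓ centralizer ({u} : Set G)) = 3 from h]; norm_num)
      simp only [this, h, h']; simp
    · simp only [h, h']; simp
  have h7 : z = Nat.card (ZZ P) := by
    rw [hz, ← Finset.card_filter, ← card_filter (ZZ P), Finset.filter_filter]
    congr 1
    exact Finset.filter_congr fun u _ => ⟨fun h => h.2, fun h => ⟨h.1, h⟩⟩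
  have h8 : z ∣ 16 := by rw [h7, ← hcard]; exact card_dvd_of_le inf_le_left
  have h9 : 0 < z := h7 ▸ Nat.card_pos
  rw [h6, he] at h3
  rw [h5] at h1 h2
  have h10 : ZZ P = ⊥ := by_contra fun h => by
    have := h2 h
    rw [show z = 3 by omega] at h8
    omega
  have h11 : w = blockRank 2 (principalBlock M G) := by
    rw [hw, Finset.sum_eq_single_of_mem 1 (by simp [hs]) fun u _ u1 => by simp [h10, u1],
      if_pos (one_mem _), lc_one]
  rw [h10, card_bot] at h7
  obtain ⟨u, hu, h12⟩ := Finset.exists_ne_zero_of_sum_ne_zero (show a ≠ 0 by omega)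
  have hu' := (Finset.mem_filter.1 hu).2
  obtain ⟨-, h13, h14⟩ := card_cong hM (ab2 hP) P ⟨u, by
    rw [← pow_two]; exact congrArg Subtype.val (hel ⟨u, hu'⟩),
    npc_cent hP hu' (relIndex_eq_one.1 (by_contra fun h => h12 (if_neg h)))⟩
  have h15 : w ≠ 1 := fun h => by
    have := relIndex_eq_one.2 (le_NN_of_npc hP ((rank_iff hM).1 (h11 ▸ h)))
    rw [show (CC P).relIndex (NN P) = 9 from he] at this
    omega
  rw [hcard] at h13 h14
  omega

end Cfsg.Agent.S4569
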