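import Cfsg.Statements.S4573
import Cfsg.Agent.H6.MGrp
-- import your own Cfsg.Agent.* helpers here

set_option autoImplicit false
universe u
open Cfsg

namespace Cfsg.Agent.S4573

open Cfsg.Agent.H4 Cfsg.Agent.H5 Cfsg.Agent.H6 Subgroup


/-- Every finite solvable group is isomorphic to a subgroup of a finite M-group, a group each of whose irreducible characters is induced from a homomorphism of some subgroup into ℂˣ. -/
theorem result {G : Type u} [Group G] [Finite G] (hsolv : Group.IsSolvable G) : ∃ (M : Type u) (_ : Group M) (_ : Fintype M), (∀ χ : M → ℂ, Cfsg.IsIrrCharacter M χ → (∃ (H : Subgroup M) (lam : ↥H →* ℂˣ), χ = Cfsg.indFun H (fun h => (lam h : ℂ)))) ∧ ∃ f : G →* M, Function.Injective f := by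
  classical
  revert hsolv
  refine H2.card_induction (P := fun G _ _ => Group.IsSolvable G → ∃ (M : Type u) (_ : Group M) (_ : Fintype M), (∀ χ : M → ℂ, Cfsg.IsIrrCharacter M χ → IsMono M χ) ∧ ∃ f : G →* M, Function.Injective f) (fun G _ _ ih hsolv => ?_) G
  rcases subsingleton_or_nontrivial G with h | h
  · refine ⟨G, inferInstance, Fintype.ofFinite G, fun χ hχ => ?_, MonoidHom.id G, fun _ _ h => h⟩
    letI := Fintype.ofFinite G
    haveI : Group.IsNilpotent G := Group.isNilpotent_of_subsingleton
    exact exists_indFun_linear_of_nilpotent hχ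
  obtain ⟨N, hN, hp⟩ := exists_normal_index_prime hsolv
  have hlt : Nat.card N < Nat.card G := by
    rw [← N.card_mul_index]
    exact lt_mul_of_one_lt_right Nat.card_pos hp.one_lt
  obtain ⟨M, _, _, hM, f, hf⟩ := ih N hlt inferInstance
  obtain ⟨F, hF⟩ := exists_wreath_embedding N f hf
  letI := Fintype.ofFinite (M ≀ᵣ (G ⧸ N))
  exact ⟨M ≀ᵣ (G ⧸ N), inferInstance, inferInstance, fun χ hχ => isMono_wreath hp hM hχ, F, hF⟩

end Cfsg.Agent.S4573
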