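import Cfsg.Statements.S4594
import Cfsg.Agent.H11.Zi2

set_option autoImplicit false
open Cfsg

namespace Cfsg.Agent.S4594

/-- Let G be a finite quasisimple group with a non-abelian Sylow 2-subgroup P whose centre has index 4 in P. Then P has order 8, and G is isomorphic to the alternating group on 7 letters, or G has centre of order 3 with central quotient isomorphic to the alternating group on 7 letters, or the central quotient of G is isomorphic to PSL(2, F) for some finite field F of odd order. -/
theorem result {G : Type*} [Group G] [Finite G] (hq : Cfsg.IsQuasisimple G) (P : Sylow 2 G) (hna : ¬ IsMulCommutative (P : Subgroup G)) (hZ : (Subgroup.center (P : Subgroup G)).index = 4) :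
    Nat.card (P : Subgroup G) = 8 ∧
      (Nonempty (G ≃* alternatingGroup (Fin 7)) ∨
       (Nat.card (Subgroup.center G) = 3 ∧ Nonempty (G ⧸ Subgroup.center G ≃* alternatingGroup (Fin 7))) ∨
       ∃ (F : Type) (_ : Field F) (_ : Fintype F), Odd (Fintype.card F) ∧ Nonempty (G ⧸ Subgroup.center G ≃* Matrix.ProjectiveSpecialLinearGroup (Fin 2) F)) := by
  obtain ⟨h1, h2, h3⟩ := Zi.quasi hq P hna hZ
  refine ⟨h1, ?_⟩
  rcases h2 with ⟨F, _, _, h4, -, h5⟩ | ⟨⟨e⟩⟩
  · exact .inr (.inr ⟨F, _, _, h4, h5⟩)
  have h4 := Zi.a7_mult hq.1.commutator_eq_top e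
  have h5 := Nat.odd_iff.1 (h3 ⟨e⟩)
  have h6 := Nat.le_of_dvd (by decide) h4
  by_cases h7 : Nat.card (Subgroup.center G) = 1
  · exact .inl ⟨((QuotientGroup.quotientBot.symm.trans
      (QuotientGroup.quotientMulEquivOfEq (Subgroup.card_eq_one.1 h7).symm))).trans e⟩
  · refine .inr (.inl ⟨?_, ⟨e⟩⟩)
    generalize Nat.card (Subgroup.center G) = n at *
    interval_cases n <;> omega

end Cfsg.Agent.S4594
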