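import Cfsg.Statements.S4621
import Cfsg.Agent.H26.DB12

set_option autoImplicit false
open Cfsg

namespace Cfsg.Agent.S4621


/-- Let F be a finite field of odd characteristic, V a finite-dimensional vector space over F, and G a finite solvable group acting faithfully and linearly on V with the order of G coprime to the number of vectors of V. Then there are two vectors x, y ∈ V such that the only element of G fixing both x and y is the identity. -/
theorem result {F : Type*} [Field F] [Fintype F] (hF : ringChar F ≠ 2) {V : Type*} [AddCommGroup V] [Module F V] [FiniteDimensional F V] [Finite V]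
    {G : Type*} [Group G] [Finite G] [Group.IsSolvable G] (ρ : Representation F G V) (hfaith : Function.Injective ρ) (hcop : (Nat.card G).Coprime (Nat.card V)) :
    ∃ x y : V, ∀ g : G, ρ g x = x → ρ g y = y → g = 1 := by
  rcases subsingleton_or_nontrivial V with _ | _
  · exact ⟨0, 0, fun g _ _ => hfaith (LinearMap.ext fun _ => Subsingleton.elim _ _)⟩
  letI : DistribMulAction G V := DistribMulAction.compHom V (ρ : G →* Module.End F V)
  have hp := CharP.char_is_prime F (ringChar F)
  have hV : ∀ v : V, ringChar F • v = 0 := fun v => by rw [← Nat.cast_smul_eq_nsmul F, ringChar.Nat.cast_ringChar, zero_smul]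
  obtain ⟨v, hv⟩ := exists_ne (0 : V)
  have := Fact.mk hp
  obtain ⟨x, y, h⟩ := H26.DB.base_cop (G := G) (V := V) hp ‹_› (fun d => hp.ne_one (Nat.eq_one_of_dvd_coprimes hcop d
    (addOrderOf_eq_prime (hV v) hv ▸ addOrderOf_dvd_natCard v))) hV
  exact ⟨x, y, fun g a b => hfaith (LinearMap.ext fun z => (h g a b z).trans (by simp))⟩

end Cfsg.Agent.S4621
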