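import Cfsg.Statements.S4783
import Cfsg.Agent.H25.Gar6

set_option autoImplicit false
open Cfsg

namespace Cfsg.Agent.S4783

/-- A finite solvable group with exactly four distinct irreducible complex character degrees has trivial fourth derived subgroup (derived length at most 4). -/
theorem result {G : Type*} [Group G] [Finite G] [Group.IsSolvable G] (hcd : Nat.card ↥(Cfsg.charDegrees G) = 4) : derivedSeries G 4 = ⊥ := by
  have h1 : (Cfsg.charDegrees G).ncard = 4 := hcd
  have h2 : (Cfsg.charDegrees G \ {1}).ncard = 3 := by
    rw [Set.ncard_diff_singleton_of_mem H8.one_mem_cd, h1]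
  obtain ⟨a, b, c, -, -, -, h3⟩ := Set.ncard_eq_three.1 h2
  refine H25.Gar.garrison G inferInstance a b c fun d hd => ?_
  by_cases h4 : d = 1
  · exact Or.inl h4
  · have h5 : d ∈ Cfsg.charDegrees G \ {1} := ⟨hd, h4⟩
    rw [h3] at h5
    exact Or.inr (by simpa using h5)

end Cfsg.Agent.S4783
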