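import Cfsg.Statements.S4807
import Mathlib
import Cfsg.Agent.H8.McK5

set_option autoImplicit false
open Cfsg

namespace Cfsg.Agent.S4807

open scoped ComplexConjugate commutatorElement Pointwise
-- OPENS H8
open Cfsg.Agent.H8
open Cfsg.Agent.H6 hiding blockCoeff_eq_zero blockCoeff_mem blockDefect_eq blockHeight_eq
  blockPart_add blockPart_eq_zero_of_regular blockPart_eq_zero_of_singular blockPart_irr_of_mem
  blockPart_irr_of_not_mem blockPart_isClassFunction blockPart_smul blockPart_sub blockPart_sum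
  blockPart_zero block_eq_blockOf block_eq_of_mem block_nonempty card_defectGroup
  centralChar_mem char_mem conj_char_mem deg_factorization_le exists_height_zero
  irrOne_mem_principal isPBlock_blockOf isPBlock_principal mem_blockOf_self orderOf_conj'
  sameBlock_refl sameBlock_symm sameBlock_trans weak_orth weak_orth'
open Cfsg.Agent.H4 hiding exists_int_of_isIntegral_rat
open Cfsg.Agent.H5
open Cfsg.Agent.H3 hiding mem_of_pow_mem_of_coprime


/-- Let p be a prime and G a finite p-solvable group, L a normal subgroup of G, S a Sylow p-subgroup of G and P the subgroup generated by L and S (so P/L is a Sylow p-subgroup of G/L), and let ν be an irreducible complex character of L that is invariant under conjugation by every element of P. Let N be the normalizer of P in G (it contains L). Then the number of irreducible characters of G of degree prime to p lying over ν (restriction to L not orthogonal to ν) equals the number of irreducible characters of N of degree prime to p lying over ν.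 -/
theorem result {G : Type*} [Group G] [Finite G] (p : ℕ) [Fact p.Prime] (hG : Cfsg.IsPSolvable p G) (L : Subgroup G) [L.Normal] (S : Sylow p G) (P : Subgroup G) (hP : P = L ⊔ (S : Subgroup G)) (hLN : L ≤ (Subgroup.normalizer ((P : Subgroup G) : Set G))) (ν : Cfsg.IrrCharacter ↥L) (hν : ∀ x ∈ P, Cfsg.IsConjCharOf L x (ν : ↥L → ℂ) (ν : ↥L → ℂ)) : Nat.card {χ : Cfsg.IrrCharacter G // ¬ p ∣ Cfsg.charDegree (χ : G → ℂ) ∧ (∑ᶠ l : ↥L, (χ : G → ℂ) (l : G) * (starRingEnd ℂ) ((ν : ↥L → ℂ) l)) ≠ 0} = Nat.card {ψ : Cfsg.IrrCharacter ↥(Subgroup.normalizer ((P : Subgroup G) : Set G)) // ¬ p ∣ Cfsg.charDegree (ψ : ↥(Subgroup.normalizer ((P : Subgroup G) : Set G)) → ℂ) ∧ (∑ᶠ l : ↥L, (ψ : ↥(Subgroup.normalizer ((P : Subgroup G) : Set G)) → ℂ) (Subgroup.inclusion hLN l) * (starRingEnd ℂ) ((ν : ↥L → ℂ) l)) ≠ 0} := by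
  have h0 : ∀ {W : Subgroup G} (h : L ≤ W) (χ : IrrCharacter W),
      (∑ᶠ l : L, χ.1 (Subgroup.inclusion h l) * (starRingEnd ℂ) (ν.1 l)) ≠ 0 ↔
        gmul h χ.1 ν.1 ≠ 0 := fun h χ => by
    haveI := Fintype.ofFinite L
    rw [gmul_ne_zero_iff h χ.2.isCharacter ν.2.isCharacter, finsum_eq_sum_of_fintype, classInner,
      mul_ne_zero_iff, and_iff_right (inv_ne_zero (H5.card_ne_zero_C L))]
    rfl
  refine (card_irr_top (fun χ => ¬ p ∣ charDegree χ ∧ (∑ᶠ l : L, χ (l : G) * (starRingEnd ℂ) (ν.1 l)) ≠ 0)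
    (fun χ => ¬ p ∣ charDegree χ ∧
      (∑ᶠ l : L, χ (Subgroup.inclusion (le_top : L ≤ ⊤) l) * (starRingEnd ℂ) (ν.1 l)) ≠ 0)
    fun _ => Iff.rfl).trans ?_
  simp only [h0]
  exact mckay_rel hG S L (fun s hs => hν s (hP ▸ Subgroup.mem_sup_right hs)) hLN (by rw [hP])

end Cfsg.Agent.S4807
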