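import Cfsg.Statements.S4811
import Mathlib
import Cfsg.Agent.H8.Deg3

set_option autoImplicit false
open Cfsg

namespace Cfsg.Agent.S4811

open scoped ComplexConjugate commutatorElement Pointwise
-- OPENS H8
open Cfsg.Agent.H8
open Cfsg.Agent.H6 hiding blockCoeff_eq_zero blockDefect_eq blockHeight_eq blockPart_add
  blockPart_eq_zero_of_regular blockPart_eq_zero_of_singular blockPart_irr_of_mem
  blockPart_irr_of_not_mem blockPart_isClassFunction blockPart_smul blockPart_sub blockPart_sum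
  blockPart_zero block_eq_blockOf block_eq_of_mem block_nonempty centralChar_mem char_mem
  conj_char_mem deg_factorization_le exists_height_zero irrOne_mem_principal isPBlock_blockOf
  isPBlock_principal mem_blockOf_self orderOf_conj' sameBlock_refl sameBlock_symm
  sameBlock_trans weak_orth weak_orth'
open Cfsg.Agent.H4 hiding exists_int_of_isIntegral_rat
open Cfsg.Agent.H5
open Cfsg.Agent.H3 hiding mem_of_pow_mem_of_coprime

theorem card_le_two {G : Type*} [Group G] (a b : ℕ) (ha : a.Prime) (hb : b.Prime)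
    (h : ∀ r, r.Prime → (∃ d ∈ charDegrees G, r ∣ d) →
      (∃ d ∈ charDegrees G, r ∣ d ∧ a ∣ d) ∨ ∃ d ∈ charDegrees G, r ∣ d ∧ b ∣ d) :
    Nat.card ((degreeGraph G).induce (degreePrimes G)).ConnectedComponent ≤ 2 := by
  classical
  have h1 : ∀ (u v : degreePrimes G) d, d ∈ charDegrees G → u.1 ∣ d → v.1 ∣ d →
      ((degreeGraph G).induce (degreePrimes G)).Reachable u v := fun u v d hd h1 h2 => by
    by_cases h3 : u = v
    · rw [h3]
    have h4 : u.1 ≠ v.1 := fun h4 => h3 (Subtype.ext h4)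
    exact SimpleGraph.Adj.reachable ⟨h4, u.2.1, v.2.1, d, hd,
      ((Nat.coprime_primes u.2.1 v.2.1).2 h4).mul_dvd_of_dvd_of_dvd h1 h2⟩
  have h2 : ∀ c, c.Prime → ∀ u v : degreePrimes G, (∃ d ∈ charDegrees G, u.1 ∣ d ∧ c ∣ d) →
      (∃ d ∈ charDegrees G, v.1 ∣ d ∧ c ∣ d) →
      ((degreeGraph G).induce (degreePrimes G)).Reachable u v := by
    rintro c hc u v ⟨d, hd, h2, h3⟩ ⟨e, he, h4, h5⟩
    exact (h1 u ⟨c, hc, d, hd, h3⟩ d hd h2 h3).trans (h1 _ v e he h5 h4)
  refine (Nat.card_le_card_of_injective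
    (fun C : ((degreeGraph G).induce (degreePrimes G)).ConnectedComponent =>
      decide (∃ d ∈ charDegrees G, C.out.1 ∣ d ∧ a ∣ d)) fun C D hCD => ?_).trans (by simp)
  rw [← C.out_eq, ← D.out_eq]
  refine SimpleGraph.ConnectedComponent.sound ?_
  replace hCD := decide_eq_decide.1 hCD
  by_cases h3 : ∃ d ∈ charDegrees G, C.out.1 ∣ d ∧ a ∣ d
  · exact h2 a ha _ _ h3 (hCD.1 h3)
  · exact h2 b hb _ _ ((h _ C.out.2.1 C.out.2.2).resolve_left h3)
      ((h _ D.out.2.1 D.out.2.2).resolve_left (mt hCD.2 h3))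


/-- For every finite solvable group G the character degree graph of G (vertices: the primes dividing some irreducible complex character degree; edges: distinct primes whose product divides some degree) has at most two connected components. -/
theorem result {G : Type*} [Group G] [Finite G] [Group.IsSolvable G] : Nat.card ((Cfsg.degreeGraph G).induce (Cfsg.degreePrimes G)).ConnectedComponent ≤ 2 := by
  by_cases h : commutator G = ⊥
  · refine card_le_two 2 2 Nat.prime_two Nat.prime_two ?_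
    rintro r hr ⟨d, hd, h1⟩
    rw [comm_iff_cd.1 (comm_of_derivedSeries_one (derivedSeries_one G ▸ h)) d hd] at h1
    exact (hr.one_lt.ne' (Nat.dvd_one.1 h1)).elim
  obtain ⟨K, _, h1, ⟨p, hp, h2, -⟩ | ⟨N, F, -, h2, -, q, k, hq, h3⟩⟩ := exists_min_quotient ‹_› h
  · haveI := Fact.mk hp
    refine card_le_two p p hp hp ?_
    rintro r - ⟨d, hd, h3⟩
    by_cases h4 : p ∣ d
    · exact Or.inl ⟨d, hd, h3, h4⟩
    obtain ⟨e, he, he1⟩ := exists_cd_ne_one h1
    obtain ⟨k, hk⟩ := IsPGroup.iff_card.1 h2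
    obtain ⟨_ | j, rfl⟩ := exists_pow_of_mem_cd h2 he
    · exact (he1 rfl).elim
    refine Or.inl ⟨_, cd_mul_of_coprime K hd ?_ he, h3.mul_left _,
      (dvd_pow_self p j.succ_ne_zero).mul_right _⟩
    rw [Subgroup.index_eq_card, hk]
    exact ((Nat.Prime.coprime_iff_not_dvd hp).2 h4).pow_left k
  · haveI := F.nN
    obtain ⟨s, hs, h4⟩ := Nat.exists_prime_and_dvd (mt Subgroup.index_eq_one.1 h2)
    refine card_le_two s q hs hq ?_
    rintro r hr ⟨d, hd, h5⟩
    obtain ⟨e, c, h6, hc, rfl⟩ := cd_under_normal N hd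
    rcases (Nat.Prime.dvd_mul hr).1 h5 with h7 | h7
    · exact Or.inl ⟨_, F.index_mem_cd, h7.trans h6, h4⟩
    rcases F.mul_mem_or hc with h8 | h8
    · exact Or.inl ⟨_, h8, h7.mul_left _, h4.mul_right _⟩
    · refine Or.inr ⟨_, hd, h5, Dvd.dvd.mul_left ?_ _⟩
      by_contra h9
      exact h8 (h3 ▸ ((Nat.Prime.coprime_iff_not_dvd hq).2 h9).pow_left k)

end Cfsg.Agent.S4811
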