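import Cfsg.Statements.S4997
import Cfsg.Agent.H7.Vn1
-- import your own Cfsg.Agent.* helpers here

set_option autoImplicit false
open Cfsg

namespace Cfsg.Agent.S4997


/-- Let p be an odd prime and G a finite solvable group with exactly one conjugacy class consisting of vanishing elements (elements at which some irreducible complex character is zero) of order divisible by p. Let P be a Sylow p-subgroup of G. Then the order of P is at most p times the order of the largest normal p-subgroup of G. -/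
theorem result {G : Type*} [Group G] [Finite G] (hsolv : Group.IsSolvable G) (p : ℕ) [Fact p.Prime] (hp : p ≠ 2) (h1 : Set.ncard {C : ConjClasses G | (∀ g ∈ C.carrier, ∃ χ : Cfsg.IrrCharacter G, (χ : G → ℂ) g = 0) ∧ ∃ g ∈ C.carrier, p ∣ orderOf g} = 1) (P : Sylow p G) : Nat.card ↥(P : Subgroup G) ≤ p * Nat.card ↥(Cfsg.pCore p G) := by
  obtain ⟨C, hC⟩ := Set.ncard_eq_one.mp h1
  obtain ⟨c, rfl⟩ := ConjClasses.mk_surjective C
  have h2 := Cfsg.Agent.H7.card_le_of_van (QuotientGroup.mk'_surjective (Cfsg.pCore p G))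
    inferInstance (Cfsg.Agent.H1.pCore_quotient_pCore p) (b := orderOf c)
    (fun g hg ⟨χ, hχ, h0⟩ => by
      have h3 : ConjClasses.mk g = ConjClasses.mk c := hC.le
        ⟨fun x hx => ⟨⟨χ, hχ⟩, (Cfsg.Agent.H4.Cfsg.IsClassFunction.of_isConj
          (Cfsg.Agent.H4.Cfsg.IsIrrCharacter.isClassFunction hχ)
          (ConjClasses.mk_eq_mk_iff_isConj.mp (ConjClasses.mem_carrier_iff_mk_eq.mp hx))).trans h0⟩,
          g, ConjClasses.mem_carrier_mk, hg⟩
      obtain ⟨k, rfl⟩ := isConj_iff.mp (ConjClasses.mk_eq_mk_iff_isConj.mp h3)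
      exact (MulEquiv.orderOf_eq (MulAut.conj k) g).symm)
    (P.isPGroup'.map (QuotientGroup.mk' (Cfsg.pCore p G)))
  rw [Cfsg.Agent.H3.card_eq_card_mul_relIndex (Cfsg.Agent.H1.pCore_le_sylow P),
    Cfsg.Agent.H9.relIndex_eq_card_map_mk', mul_comm]
  exact Nat.mul_le_mul_right _ h2

end Cfsg.Agent.S4997
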