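import Cfsg.Statements.S5187
import Cfsg.Agent.L0.FEss

set_option autoImplicit false
universe u
open Cfsg

namespace Cfsg.Agent.S5187

open Subgroup Cfsg.Agent.H23 Cfsg.Agent.H23.LF


/-- Let F be a saturated fusion system over a finite p-group S and H an abelian essential subgroup that can be generated by two elements (its Frattini quotient has order at most p²). Then H is elementary abelian of order p², or p ≤ 3 and H is homocyclic of rank two, that is isomorphic to C_{pᵏ} × C_{pᵏ} for some k. -/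
theorem result {Ω : Type u} [Group Ω] {S : Subgroup Ω} [Finite S] (p : ℕ) [Fact p.Prime] (hS : IsPGroup p S)
    (F : Cfsg.FusionSystem S) (hF : F.IsSaturated p) (H : Subgroup Ω) (hH : F.IsEssential p H) (hab : IsMulCommutative ↥H) (hrk : (frattini ↥H).index ≤ p ^ 2) :
    (Cfsg.IsElementaryAbelian p H ∧ Nat.card H = p ^ 2) ∨
      (p ≤ 3 ∧ ∃ k : ℕ, Nonempty (↥H ≃* Multiplicative (ZMod (p ^ k) × ZMod (p ^ k)))) := by
  haveI := finite_of_le hH.1.1
  obtain ⟨k, -, h1, h2, ⟨e⟩⟩ := Sat.ess_homocyclic ⟨hS, hF⟩ hH hab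
    (by rw [← (frattini H).index_mul_card]; exact Nat.mul_le_mul_right _ hrk)
  rcases h1 with rfl | h1
  · refine .inl ⟨⟨hab, fun a ha => congrArg Subtype.val (e.injective (a₁ := ⟨a, ha⟩ ^ p) (a₂ := 1) ?_)⟩, h2⟩
    rw [map_pow, map_one]
    refine Multiplicative.toAdd.injective ?_
    have : ((p : ℕ) : ZMod (p ^ 1)) = 0 := (ZMod.natCast_eq_zero_iff _ _).2 (by simp)
    ext <;> simp [this]
  · exact .inr ⟨h1, k, ⟨e⟩⟩

end Cfsg.Agent.S5187
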