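import Cfsg.Statements.S5188
import Cfsg.Agent.L0.FEss

set_option autoImplicit false
universe u
open Cfsg

namespace Cfsg.Agent.S5188

open Subgroup Cfsg.Agent.H23 Cfsg.Agent.H23.LF


/-- Let F be a saturated fusion system over a finite p-group S and H an essential subgroup of order p⁴. Then H is isomorphic to one of: C_p⁴ or C_{p²} × C_p × C_p (any p); C_{p²} × C_{p²} with p ∈ {2, 3}; p^{1+2}_+ × C_p with p odd (the direct product of an extraspecial group of order p³ and exponent p with a group of order p); Q₈ × C₂ (p = 2); or the non-abelian group of order p⁴ of exponent p² whose centre is cyclic of order p² (the central product of an extraspecial group of order p³ with a cyclic group of order p²; for p = 2 this is D₈ ∘ C₄). -/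
theorem result {Ω : Type u} [Group Ω] {S : Subgroup Ω} [Finite S] (p : ℕ) [Fact p.Prime] (hS : IsPGroup p S)
    (F : Cfsg.FusionSystem S) (hF : F.IsSaturated p) (H : Subgroup Ω) (hH : F.IsEssential p H) (hcard : Nat.card H = p ^ 4) :
    Cfsg.IsElementaryAbelian p H ∨
      Nonempty (↥H ≃* Multiplicative (ZMod (p ^ 2) × ZMod p × ZMod p)) ∨
      ((p = 2 ∨ p = 3) ∧ Nonempty (↥H ≃* Multiplicative (ZMod (p ^ 2) × ZMod (p ^ 2)))) ∨
      (Odd p ∧ ∃ (E : Type) (_ : Group E) (_ : Finite E), Cfsg.IsExtraspecial p E ∧ Nat.card E = p ^ 3 ∧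
        (∀ x : E, x ^ p = 1) ∧ Nonempty (↥H ≃* E × Multiplicative (ZMod p))) ∨
      (p = 2 ∧ Nonempty (↥H ≃* QuaternionGroup 2 × Multiplicative (ZMod 2))) ∨
      (¬ IsMulCommutative ↥H ∧ (∀ x ∈ H, x ^ (p ^ 2) = 1) ∧ IsCyclic ↥(Subgroup.center ↥H) ∧
        Nat.card (Subgroup.center ↥H) = p ^ 2) := by
  haveI := finite_of_le hH.1.1
  have hp : p.Prime := Fact.out
  rcases (Sat.ess_nc ⟨hS, hF⟩ hH).four hcard with ⟨a, b⟩ | h | ⟨a, b⟩ | ⟨a, b⟩ | h | ⟨a, b, c⟩
  · exact .inl ⟨a, fun x hx => congrArg Subtype.val (b ⟨x, hx⟩)⟩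
  · exact .inr (.inl h)
  · obtain ⟨k, -, h1, h2, e⟩ := Sat.ess_homocyclic ⟨hS, hF⟩ hH a (by rw [hcard, b, ← pow_add])
    rw [hcard, Nat.pow_right_inj hp.one_lt] at h2
    obtain rfl : k = 2 := by omega
    have := hp.two_le
    exact .inr (.inr (.inl ⟨by omega, e⟩))
  · exact .inr (.inr (.inr (.inl ⟨hp.odd_of_ne_two a, b⟩)))
  · exact .inr (.inr (.inr (.inr (.inl h))))
  · exact .inr (.inr (.inr (.inr (.inr ⟨a, fun x hx => congrArg Subtype.val (b ⟨x, hx⟩), c⟩))))

end Cfsg.Agent.S5188
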