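import Cfsg.Statements.S5213
import Cfsg.Agent.H11.R2

set_option autoImplicit false
open Cfsg Cfsg.Agent.H11

namespace Cfsg.Agent.S5213

/-- Let S be a finite 2-group of 2-rank 2 (it has an elementary abelian subgroup of order 4 and none of order 8) and F a saturated fusion system over S with trivial centre. Then S is dihedral, semidihedral, wreathed, homocyclic abelian (a direct product of cyclic groups of one common order), or isomorphic to a Sylow 2-subgroup of the projective special unitary group PSU₃(4) (realised over the field with 16 elements). -/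
theorem result {Ω : Type*} [Group Ω] {S : Subgroup Ω} [Finite S] (hS : IsPGroup 2 S) (F : Cfsg.FusionSystem S) (hF : F.IsSaturated 2) (hr : Cfsg.PRankAtLeast 2 2 ↥S ∧ ¬ Cfsg.PRankAtLeast 2 3 ↥S) (hZ : F.center = ⊥) {K : Type*} [Field K] [Fintype K] (hK : Fintype.card K = 16) : (∃ m : ℕ, Nonempty (↥S ≃* DihedralGroup m)) ∨ Cfsg.IsQuasiDihedral ↥S ∨ Cfsg.IsWreathed ↥S ∨ (∃ n k : ℕ, Nonempty (↥S ≃* Multiplicative (Fin k → ZMod (2 ^ n)))) ∨ ∃ T : Sylow 2 (Cfsg.PSU 3 K 4), Nonempty (↥S ≃* ↥(T : Subgroup (Cfsg.PSU 3 K 4))) := by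
  have hE : Fintype.card K = 4 ^ 2 := hK
  have hσ := cj_frobq hE (by decide)
  obtain ⟨⟨A, -, -, hc⟩, h2⟩ := hr
  obtain ⟨z, zS, z1, z2, hz⟩ := exists_central_invol hS fun e => by
    have := A.card_le_card_group
    omega
  rcases r2_of_sat hE hσ ⟨hS, hF⟩ (fun B hB h => by
      obtain ⟨k, hk⟩ := IsPGroup.iff_card.1 (hS.to_subgroup B)
      have : ¬ 2 ^ 3 ≤ Nat.card B := fun e => h2 ⟨B, hB, h, e⟩
      rw [hk, Nat.pow_le_pow_iff_right one_lt_two] at *
      omega) zS z1 z2 hz (fun e => z1 (hZ.le (le_sSup (s := {Q | F.IsCentral Q}) e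
        (Subgroup.mem_zpowers z)))) with ⟨m, -, e⟩ | e | e | ⟨n, -, ⟨e⟩⟩ | ⟨⟨e⟩⟩
  · exact .inl ⟨m, e⟩
  · exact .inr (.inl e)
  · exact .inr (.inr (.inl e))
  · exact .inr (.inr (.inr (.inl ⟨n, 2, ⟨e.trans
      (LinearEquiv.finTwoArrow ℤ (ZMod (2 ^ n))).symm.toAddEquiv.toMultiplicative⟩⟩)))
  · exact .inr (.inr (.inr (.inr ⟨default, nonempty_UM_PSU hE hσ _ e⟩)))

end Cfsg.Agent.S5213
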