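import Cfsg.Statements.S5259
import Cfsg.Agent.H23.Mod
import Cfsg.Agent.H28.PSLAut2
-- import your own Cfsg.Agent.* helpers here

set_option autoImplicit false
open Cfsg

namespace Cfsg.Agent.S5259

section
open Cfsg Cfsg.FusionSystem Subgroup Cfsg.Agent.H23
open Equiv (Perm)

open scoped commutatorElement

/-- properties of the Heisenberg group -/
structure Heis (X : Type*) [Group X] : Prop where
  cls : ∀ a b c : X, Commute ⁅a, b⁆ c
  cen : ∀ x : X, ¬ (∀ c, Commute x c) → ∀ a b : X, Commute x a → Commute x b → Commute a b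
  sur : ∀ x : X, ¬ (∀ c, Commute x c) → ∀ z : X, (∀ c, Commute z c) → ∃ s : X, ⁅x⁻¹, s⁆ = z

theorem Heis.of_equiv {X Y : Type*} [Group X] [Group Y] (e : X ≃* Y) (h : Heis Y) : Heis X := by
  have k : ∀ a b, Commute (e a) (e b) ↔ Commute a b := fun a b =>
    ⟨fun h => h.of_map e.injective, fun h => h.map e⟩
  have k' : ∀ x, (∀ c, Commute (e x) c) ↔ ∀ c, Commute x c := fun x =>
    ⟨fun h c => (k _ _).1 (h _), fun h c => by obtain ⟨c, rfl⟩ := e.surjective c; exact (k _ _).2 (h c)⟩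
  refine ⟨fun a b c => ?_, fun x hx a b h1 h2 => ?_, fun x hx z hz => ?_⟩
  · rw [← k, map_commutatorElement]; exact h.cls _ _ _
  · exact (k _ _).1 (h.cen (e x) (by rwa [k']) _ _ ((k _ _).2 h1) ((k _ _).2 h2))
  · obtain ⟨s, hs⟩ := h.sur (e x) (by rwa [k']) (e z) ((k' z).2 hz)
    obtain ⟨s, rfl⟩ := e.surjective s
    exact ⟨s, e.injective (by rw [map_commutatorElement, map_inv, hs])⟩

section
variable {K : Type*} [Field K]

/-- coordinates -/
def mkU (a b c : K) : H28.uniTri 3 K :=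
  ⟨⟨!![1, a, c; 0, 1, b; 0, 0, 1], by simp [Matrix.det_fin_three]⟩,
    fun i j h => by fin_cases i <;> fin_cases j <;> simp_all, fun i => by fin_cases i <;> rfl⟩

theorem exists_mkU (u : H28.uniTri 3 K) : ∃ a b c, u = mkU a b c := by
  obtain ⟨u, h1, h2⟩ := u
  refine ⟨u.1 0 1, u.1 1 2, u.1 0 2, Subtype.ext (Subtype.ext ?_)⟩
  ext i j
  fin_cases i <;> fin_cases j
  · exact h2 0
  · rfl
  · rfl
  · exact h1 (by decide : id (0 : Fin 3) < id 1)
  · exact h2 1
  · rfl
  · exact h1 (by decide : id (0 : Fin 3) < id 2)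
  · exact h1 (by decide : id (1 : Fin 3) < id 2)
  · exact h2 2

theorem mkU_mul (a b c a' b' c' : K) : mkU a b c * mkU a' b' c' = mkU (a + a') (b + b') (c + c' + a * b') := by
  refine Subtype.ext (Subtype.ext ?_)
  show !![1, a, c; 0, 1, b; 0, 0, 1] * !![1, a', c'; 0, 1, b'; 0, 0, 1] =
    !![1, a + a', c + c' + a * b'; 0, 1, b + b'; 0, 0, 1]
  ext i j
  fin_cases i <;> fin_cases j <;> simp [Matrix.mul_apply, Fin.sum_univ_three] <;> ring

theorem mkU_inj {a b c a' b' c' : K} : mkU a b c = mkU a' b' c' ↔ a = a' ∧ b = b' ∧ c = c' := by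
  refine ⟨fun h => ?_, by rintro ⟨rfl, rfl, rfl⟩; rfl⟩
  have := congrArg (fun u : H28.uniTri 3 K => u.1.1) h
  exact ⟨congrFun (congrFun this 0) 1, congrFun (congrFun this 1) 2, congrFun (congrFun this 0) 2⟩

theorem mkU_zero : mkU (0 : K) 0 0 = 1 := by
  refine mul_left_cancel (a := mkU (0 : K) 0 0) ?_
  rw [mkU_mul]; simp

theorem mkU_inv (a b c : K) : (mkU a b c)⁻¹ = mkU (-a) (-b) (a * b - c) := by
  rw [inv_eq_iff_mul_eq_one, mkU_mul, ← mkU_zero, mkU_inj]
  refine ⟨by ring, by ring, by ring⟩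

theorem mkU_commute {a b c a' b' c' : K} : Commute (mkU a b c) (mkU a' b' c') ↔ a * b' = a' * b := by
  rw [Commute, SemiconjBy, mkU_mul, mkU_mul, mkU_inj]
  exact ⟨fun h => by linear_combination h.2.2, fun h => ⟨by ring, by ring, by linear_combination h⟩⟩

theorem mkU_comm (a b c a' b' c' : K) : ⁅mkU a b c, mkU a' b' c'⁆ = mkU 0 0 (a * b' - a' * b) := by
  rw [commutatorElement_def, mkU_inv, mkU_inv, mkU_mul, mkU_mul, mkU_mul, mkU_inj]
  refine ⟨by ring, by ring, by ring⟩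

theorem mkU_central {a b c : K} : (∀ u, Commute (mkU a b c) u) ↔ a = 0 ∧ b = 0 := by
  refine ⟨fun h => ⟨by simpa using mkU_commute.1 (h (mkU 0 1 0)),
    by simpa [eq_comm] using mkU_commute.1 (h (mkU 1 0 0))⟩, ?_⟩
  rintro ⟨rfl, rfl⟩ u
  obtain ⟨a', b', c', rfl⟩ := exists_mkU u
  rw [mkU_commute]; ring

theorem heis_uniTri : Heis (H28.uniTri 3 K) := by
  refine ⟨fun x y z => ?_, fun x hx y z h1 h2 => ?_, fun x hx z hz => ?_⟩
  · obtain ⟨a, b, c, rfl⟩ := exists_mkU x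
    obtain ⟨a', b', c', rfl⟩ := exists_mkU y
    rw [mkU_comm]; exact mkU_central.2 ⟨rfl, rfl⟩ z
  · obtain ⟨a, b, c, rfl⟩ := exists_mkU x
    obtain ⟨a', b', c', rfl⟩ := exists_mkU y
    obtain ⟨a'', b'', c'', rfl⟩ := exists_mkU z
    rw [mkU_commute] at *
    rw [mkU_central, not_and_or] at hx
    rcases hx with hx | hx
    · exact mul_left_cancel₀ hx (by linear_combination a' * h2 - a'' * h1)
    · exact mul_left_cancel₀ hx (by linear_combination b' * h2 - b'' * h1)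
  · obtain ⟨a, b, c, rfl⟩ := exists_mkU x
    obtain ⟨a', b', c', rfl⟩ := exists_mkU z
    obtain ⟨rfl, rfl⟩ := mkU_central.1 hz
    rw [mkU_central, not_and_or] at hx
    rcases hx with hx | hx
    · exact ⟨mkU 0 (-c' / a) 0, by rw [mkU_inv, mkU_comm, mkU_inj]; exact ⟨rfl, rfl, by field_simp; ring⟩⟩
    · exact ⟨mkU (c' / b) 0 0, by rw [mkU_inv, mkU_comm, mkU_inj]; exact ⟨rfl, rfl, by field_simp; ring⟩⟩

end

theorem constrained {p : ℕ} [Fact p.Prime] {Ω : Type*} [Group Ω] {S : Subgroup Ω} [Finite S] {F : FusionSystem S}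
    (hF : Sat p F) (h : Heis S) (h0 : F.core ≠ ⊥) : F.IsConstrained p := by
  have hz : ∀ x : S, (∀ c, Commute x c) ↔ (x : Ω) ∈ centralizerIn S S := fun x =>
    ⟨fun h => ⟨x.2, fun c hc => congrArg Subtype.val (h ⟨c, hc⟩).symm.eq⟩,
      fun h c => Subtype.ext (h.2 c c.2).symm⟩
  have h1 : ∀ a ∈ S, ∀ b ∈ S, ⁅a, b⁆ ∈ centralizerIn S S := fun a ha b hb =>
    (hz ⁅(⟨a, ha⟩ : S), ⟨b, hb⟩⁆).1 (h.cls _ _)
  have h2 : ∀ x ∈ S, x ∉ centralizerIn S S → ∀ a ∈ S, ∀ b ∈ S, x * a = a * x → x * b = b * x → a * b = b * a :=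
    fun x hx hx' a ha b hb e1 e2 => congrArg Subtype.val
      (h.cen ⟨x, hx⟩ (by rwa [hz]) ⟨a, ha⟩ ⟨b, hb⟩ (Subtype.ext e1) (Subtype.ext e2)).eq
  have h3 : ∀ x ∈ S, x ∉ centralizerIn S S → ∀ z ∈ centralizerIn S S, ∃ s ∈ S, x⁻¹ * (s * x * s⁻¹) = z :=
    fun x hx hx' z hz' => by
      obtain ⟨s, hs⟩ := h.sur ⟨x, hx⟩ (by rwa [hz]) ⟨z, hz'.1⟩ ((hz _).2 hz')
      refine ⟨s, s.2, ?_⟩
      have := congrArg Subtype.val hs
      simp only [commutatorElement_def, coe_mul, coe_inv, inv_inv] at this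
      rw [← this]; group
  have h1' : ∀ a ∈ S, ∀ b ∈ S, a⁻¹ * (b * a * b⁻¹) ∈ centralizerIn S S := fun a ha b hb => by
    have := h1 _ (S.inv_mem ha) b hb
    rwa [commutatorElement_def, inv_inv, mul_assoc, mul_assoc, ← mul_assoc b] at this
  have hQ := core_normal F
  set Q := F.core with hQd
  by_cases hc : Q ≤ centralizerIn S S
  · refine hF.constrained_of (Q := S) (hF.normal_of_wc_le_cr (sc_weaklyClosed sc_top) fun P a b c => ?_) cIn_le
    have hP : P ≤ S := a.1
    have := finite_of_le hP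
    have hZ : centralizerIn S S ≤ P := fun z hz =>
      (centric_iff.1 b).2 1 (mor_one F hP) (by rw [im_one]; exact ⟨hz.1, fun y hy => hz.2 y (hP hy)⟩) |> fun h => by
        rwa [im_one] at h
    have hn : S ≤ normalizer (P : Set Ω) := fun g hg => cj_mem_stab.1 (mem_stab_of_mem (homOn_cj _ g)
      fun x hx => by
        have := P.mul_mem hx (hZ (h1' x (hP hx) g hg))
        rwa [mul_inv_cancel_left] at this)
    have := finite_of_le hZ
    have hst : AutF F P ≤ Stab (centralizerIn S S) := fun α hα => by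
      refine mem_stab_of_mem ((autF_homOn hα).mono hZ) fun z hz => ?_
      by_contra ha
      obtain ⟨w, hw, hw1⟩ : ∃ w ∈ Q, w ≠ 1 := by
        by_contra hh
        push Not at hh
        exact h0 (eq_bot_iff.2 fun w hw => hh w hw)
      have haP := autF_mem hα (hZ hz)
      obtain ⟨s, hs, e⟩ := h3 _ (hP haP) ha w (hc hw)
      have hQP : Q ≤ P := hc.trans hZ
      have hstQ : AutF F P ≤ Stab Q := autF_le_stab_of_wc hQP hP (sc_weaklyClosed (normal_sc hQ))
      let L : Subgroup (Perm Ω) :=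
        { carrier := {σ | σ ∈ AutF F P ⊓ Fix Q ∧ (α z)⁻¹ * σ (α z) ∈ Q}
          one_mem' := ⟨one_mem _, by simp⟩
          mul_mem' := fun {σ τ} h1 h2 => ⟨mul_mem h1.1 h2.1, by
            have : τ (α z) = α z * ((α z)⁻¹ * τ (α z)) := by group
            rw [Perm.mul_apply, this, (autF_homOn h1.1.1).map_mul haP (hQP h2.2), ← mul_assoc,
              mem_fix.1 h1.1.2 _ h2.2]
            exact Q.mul_mem h1.2 h2.2⟩
          inv_mem' := fun {σ} h1 => ⟨inv_mem h1.1, by
            have a1 := (autF_homOn (inv_mem h1.1.1)).map_mul (P.inv_mem haP) (autF_mem h1.1.1 haP)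
            rw [mem_fix.1 (inv_mem h1.1.2) _ h1.2, (autF_homOn (inv_mem h1.1.1)).map_inv haP] at a1
            simp only [Perm.coe_inv, Equiv.symm_apply_apply] at a1 ⊢
            have a2 := Q.inv_mem h1.2
            rwa [a1, mul_inv_rev, inv_inv] at a2⟩ }
      let L₀ : Subgroup (Perm Ω) := L ⊓ MulAction.stabilizer (Perm Ω) (α z)
      have hL : L ≤ AutF F P := fun σ h => h.1.1
      have hT := (hF.rsyl_of_fn a).conj (nfin_autF F P) hα
      have hT0 : cjS α (AutS S P) ≤ L₀ := fun σ hσ => by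
        obtain ⟨g, hg, -, e⟩ := mem_autS.1 (mem_cjS.1 hσ)
        have k : ∀ y ∈ centralizerIn S S, σ (α y) = α y := fun y hy => by
          have := e y (hZ hy)
          rw [hy.2 g hg, mul_inv_cancel_right] at this
          simpa [Equiv.symm_apply_eq] using this
        refine ⟨⟨⟨hT.le2 hσ, mem_fix.2 fun q hq => ?_⟩, by rw [k z hz, inv_mul_cancel]; exact Q.one_mem⟩, k z hz⟩
        simpa using k _ (hc (stab_inv_mem (hstQ hα) hq))
      have hpow : ∀ σ ∈ L, ∀ n : ℕ, (σ ^ n) (α z) = α z * ((α z)⁻¹ * σ (α z)) ^ n := fun σ hσ n => by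
        induction n with
        | zero => simp
        | succ n ih =>
          rw [pow_succ', Perm.mul_apply, ih, (autF_homOn hσ.1.1).map_mul haP (hQP (Q.pow_mem hσ.2 n)),
            mem_fix.1 hσ.1.2 _ (Q.pow_mem hσ.2 n), pow_succ', ← mul_assoc, mul_inv_cancel_left]
      have hR : RSyl p L₀ L₀ L := ⟨le_rfl, inf_le_left, pmod_self p _, fun hd => hT.ndvd (by
        rw [← relIndex_mul_relIndex _ _ _ hT0 (inf_le_left.trans hL),
          ← relIndex_mul_relIndex L₀ L _ inf_le_left hL]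
        exact Dvd.dvd.mul_left (hd.mul_right _) _)⟩
      have hLL := hR.eq_top_of_pmod (((nfin_autF F P).mono (hT.le1.trans (hT0.trans inf_le_left)) hL).of_le
        (hT.le1.trans hT0) inf_le_left fun σ hσ => mem_normalizer_of_conj (fun τ hτ => ?_) fun τ hτ => ?_)
        fun σ hσ => ?_
      · have k : cj s ∈ L₀ := hLL ▸ (⟨⟨autS_le_autF F le_rfl hP (cj_mem_autS hs (hn hs)),
          cj_mem_fix.2 fun q hq => ((hc hq).2 s hs).symm⟩, by rw [cj_apply, e]; exact hw⟩ : cj s ∈ L)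
        have k2 : s * α z * s⁻¹ = α z := k.2
        rw [k2, inv_mul_cancel] at e
        exact hw1 e.symm
      · refine ⟨L.mul_mem (L.mul_mem hσ hτ.1) (L.inv_mem hσ), ?_⟩
        have k := (L.inv_mem hσ).2
        have k1 : τ (α z) = α z := hτ.2
        have k2 : τ (σ⁻¹ (α z)) = σ⁻¹ (α z) := by
          rw [← mul_inv_cancel_left (α z) (σ⁻¹ (α z)), (autF_homOn hτ.1.1.1).map_mul haP (hQP k), k1,
            mem_fix.1 hτ.1.1.2 _ k]
        show σ (τ (σ⁻¹ (α z))) = α z
        rw [k2]; simp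
      · refine ⟨L.mul_mem (L.mul_mem (L.inv_mem hσ) hτ.1) hσ, ?_⟩
        have k1 : τ (α z) = α z := hτ.2
        have k2 : τ (σ (α z)) = σ (α z) := by
          rw [← mul_inv_cancel_left (α z) (σ (α z)), (autF_homOn hτ.1.1.1).map_mul haP (hQP hσ.2), k1,
            mem_fix.1 hτ.1.1.2 _ hσ.2]
        show σ⁻¹ (τ (σ (α z))) = α z
        rw [k2]; simp
      · obtain ⟨k, hk⟩ := hF.pg ⟨_, hP (hQP hσ.2)⟩
        refine ⟨k, L.pow_mem hσ _, ?_⟩
        show (σ ^ p ^ k) (α z) = α z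
        rw [hpow σ hσ, show ((α z)⁻¹ * σ (α z)) ^ p ^ k = 1 from congrArg Subtype.val hk, mul_one]
    refine le_of_cr_of_Op hF.pg b c le_rfl (hP.trans Subgroup.le_normalizer) fun g hg => ?_
    exact mem_Op_autF_step hF.pg hZ hP hst (autS_le_autF F le_rfl hP (cj_mem_autS hg.1 hg.2))
      (fun x hx => h1' x (hP hx) g hg.1) (fix_le_Op_autF cIn_le (cj_mem_fix.2 fun y hy => (hy.2 g hg.1).symm))
  · rw [hF.constrained_iff]
    by_contra hne
    obtain ⟨x, hx, hx'⟩ := SetLike.not_le_iff_exists.1 hc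
    obtain ⟨y, hy, hy'⟩ := SetLike.not_le_iff_exists.1 hne
    have hy2 : y ∉ centralizerIn S S := fun hh => by
      obtain ⟨s, hs, e⟩ := h3 x (core_le hx) hx' y hh
      exact hy' (e ▸ Q.mul_mem (Q.inv_mem hx) (conj_mem_of_le_normalizer (normal_le_normalizer hQ) hs hx))
    have k : Q ⊔ centralizerIn S Q ≤ centralizerIn S (zpowers y) := by
      refine sup_le (fun q hq => ⟨core_le hq, ?_⟩) fun c hc => ⟨hc.1, ?_⟩
      · rintro _ ⟨i, rfl⟩; exact (Commute.zpow_left (hy.2 q hq).symm i).eq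
      · rintro _ ⟨i, rfl⟩
        exact (Commute.zpow_left (h2 x (core_le hx) hx' y hy.1 c hc.1 (hy.2 x hx) (hc.2 x hx)) i).eq
    refine hy' (le_core (hF.normal_of_sc_abelian (hF.sc_sup_cIn (normal_sc hQ)) fun a ha b hb => ?_)
      (mem_sup_right hy))
    exact h2 y hy.1 hy2 b (k hb).1 a (k ha).1 ((k hb).2 y (mem_zpowers y)) ((k ha).2 y (mem_zpowers y))

end


/-- Let p be a prime, K a finite field of characteristic p, and S a finite p-group isomorphic to a Sylow p-subgroup of SL₃(K). Then every exotic fusion system F over S (saturated but not the fusion system of a finite group on a Sylow p-subgroup) has no nontrivial normal subgroup: O_p(F) = 1. -/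
theorem result {Ω : Type*} [Group Ω] {S : Subgroup Ω} [Finite S] (p : ℕ) [Fact p.Prime] (hS : IsPGroup p S) (F : Cfsg.FusionSystem S) (hF : F.IsSaturated p) {K : Type*} [Field K] [Fintype K] [CharP K p] (T : Sylow p (Matrix.SpecialLinearGroup (Fin 3) K)) (e : ↥S ≃* ↥(T : Subgroup (Matrix.SpecialLinearGroup (Fin 3) K))) (hex : F.IsExotic p) : F.core = ⊥ := by
  open Cfsg.Agent.H23 Cfsg.FusionSystem Subgroup in
  by_contra h0
  obtain ⟨P, hP⟩ := H28.exists_sylow_uniTri (F := K) (n := 3) p (by omega)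
  exact hex.2 (Sat.realizable ⟨hS, hF⟩ (constrained ⟨hS, hF⟩
    (Heis.of_equiv (e.trans ((T.equiv P).trans (MulEquiv.subgroupCongr hP))) heis_uniTri) h0))

end Cfsg.Agent.S5259
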