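import Cfsg.Statements.S5265
import Cfsg.Agent.L0.FOl2

set_option autoImplicit false
open Cfsg

namespace Cfsg.Agent.S5265

open Subgroup Cfsg.FusionSystem Cfsg.Agent.H23 Cfsg.Agent.H23.LF
open scoped commutatorElement


/-- Let p be a prime, S a nontrivial finite p-group whose centre has index at most p², and F a saturated fusion system over S with no nontrivial normal subgroup and with hyperfocal subgroup equal to S. Then S is extraspecial of order p³; for odd p it has exponent p, and for p = 2 it is dihedral of order 8. -/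
theorem result {Ω : Type*} [Group Ω] {S : Subgroup Ω} [Finite S] (p : ℕ) [Fact p.Prime] (hS : IsPGroup p ↥S) (F : Cfsg.FusionSystem S) (hF : F.IsSaturated p) (hS1 : S ≠ ⊥) (hcore : F.core = ⊥) (hhyp : F.hyperfocalSubgroup p = S) (hZ : (Subgroup.center ↥S).index ≤ p ^ 2) : Cfsg.IsExtraspecial p ↥S ∧ Nat.card S = p ^ 3 ∧ (p ≠ 2 → Monoid.exponent ↥S = p) ∧ (p = 2 → Nonempty (↥S ≃* DihedralGroup 4)) := by
  have hF' : Sat p F := ⟨hS, hF⟩
  have hp : p.Prime := Fact.out
  have h0 : Nat.card S ≤ p ^ 2 * Nat.card (centralizerIn S S) := by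
    rw [← (center S).index_mul_card, ← card_map_of_injective (K := center S) S.subtype_injective, H24.map_subtype_center]
    exact Nat.mul_le_mul_right _ hZ
  obtain ⟨E, E', hE, hE', h⟩ := Sat.exists_two_ess hF' hS1 hcore
  obtain ⟨d1, d2, d3⟩ := Sat.ess_sq hF' h0 hE
  have hna : ¬ IsMulCommutative S := fun e => d1.na (le_cent_iff.2 e)
  haveI := finite_of_le (cIn_le : centralizerIn S S ≤ S)
  haveI := finite_of_le (d1.D_le.trans d1.le)
  have h1 := mul_card_le' (hS.to_le cIn_le) (bot_lt_iff_ne_bot.2 (cIn_self_ne_bot hS hS1))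
  rw [card_bot, mul_one] at h1
  have h2 : Nat.card (centralizerIn S S) = p := le_antisymm (by
    by_cases e : p = 2
    · subst e
      have := Sat.Z_le_two hF' h0 hS1 hcore hhyp
      rw [d1.card, d2] at this
      omega
    · exact d3 ▸ card_le_of_le (Sat.Z_le_of_core hF' e (d3 ▸ card_le_of_le inf_le_right) hcore fun P hP =>
        .inr ⟨(Sat.ess_sq hF' h0 hP).1.ab, (Sat.ess_sq hF' h0 hP).2.1.le⟩)) h1
  have h3 : Nat.card S = p ^ 3 := by rw [d1.card, d2, h2]; ring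
  have h4 := H26.isExtraspecial_of_card_cube h3 hna
  refine ⟨h4, h3, fun e => ?_, fun e => ?_⟩
  · obtain ⟨U, -, h5, -⟩ := L0.exists_omega hS (h4.1.2.1 ▸ h4.2) (.inl e)
    have a : ∀ P, F.IsEssential p P → P ≤ U.map S.subtype := fun P hP y hy => by
      obtain ⟨D, -, a1, -, a2, -, -, -, -, a3, -⟩ := Sat.ess_dat hF' h0 hP
      refine ⟨⟨y, hP.1.1 hy⟩, (h5 _).2 (Subtype.ext ?_), rfl⟩
      by_contra c
      have b := Sat.Z_le_of_core hF' e (d3 ▸ card_le_of_le inf_le_right) hcore fun P hP =>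
        .inr ⟨(Sat.ess_sq hF' h0 hP).1.ab, (Sat.ess_sq hF' h0 hP).2.1.le⟩
      exact a2 (eq_of_card_le (hS.to_le (d1.D_le.trans d1.le)) (A := ⊥) (bot_lt_iff_ne_bot.2 fun f =>
        c (mem_bot.1 (f ▸ a3 y hy))) (a1.trans b) (by simp [d3])).ge
    obtain ⟨D, w, -, -, -, b1, b2, -⟩ := Sat.ess_dat hF' h0 hE'
    have b := (d1.sup_eq (hE'.1.1 b1) fun c => h (Sat.ess_eq hF' h0 hE hE' c b1 b2)).ge.trans
      (sup_le (a E hE) (zpowers_le.2 (a E' hE' b1)))
    refine ((Nat.dvd_prime hp).1 (Monoid.exponent_dvd_of_forall_pow_eq_one fun g => ?_)).resolve_left fun c => ?_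
    · obtain ⟨y, hy, e⟩ := b g.2
      exact (h5 g).1 ((Subtype.ext e : y = g) ▸ hy)
    · haveI := Monoid.exp_eq_one_iff.1 c
      exact hna inferInstance
  · subst e
    rcases L0.eight_cases h3 hna with ⟨⟨f⟩⟩ | ⟨X, Y, a⟩
    · obtain ⟨D, w, -, -, -, b1, b2, b3, -⟩ := Sat.ess_dat hF' h0 hE
      have c : ∀ x : QuaternionGroup 2, x ^ 2 = 1 → ∀ y, y * x = x * y := by decide
      refine absurd ⟨hE.1.1 b1, fun y hy => congrArg Subtype.val (f.injective (a₁ := ⟨y, hy⟩ * ⟨w, hE.1.1 b1⟩)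
        (a₂ := ⟨w, hE.1.1 b1⟩ * ⟨y, hy⟩) ?_)⟩ b2
      rw [map_mul, map_mul, c _ (by rw [← map_pow, show (⟨w, hE.1.1 b1⟩ : S) ^ 2 = 1 from Subtype.ext b3, map_one])]
    · exact H26.MC_dihedral_equiv a

end Cfsg.Agent.S5265
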