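import Cfsg.Statements.S5270
import Cfsg.Agent.L0.FXs
import Cfsg.Agent.L0.MC

set_option autoImplicit false
open Cfsg

namespace Cfsg.Agent.S5270

open Subgroup Cfsg.FusionSystem Cfsg.Agent.H23 Cfsg.Agent.H23.LF
open scoped commutatorElement


/-- Let p ≥ 5 be a prime, S a finite p-group of maximal class of order p^n with n ≥ 4, and F a saturated fusion system over S. If some map of F defined on the second centre Z₂(S) with image Z₂(S) does not carry Z(S) into itself, then the centralizer C_S(Z₂(S)) is an F-essential subgroup. -/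
theorem result {Ω : Type*} [Group Ω] {S : Subgroup Ω} [Finite S] (p : ℕ) [Fact p.Prime] (hS : IsPGroup p ↥S) (n : ℕ) (hn : Nat.card S = p ^ n) (h4 : 4 ≤ n) (hmax : Subgroup.lowerCentralSeries S (n - 2) ≠ ⊥) (F : Cfsg.FusionSystem S) (hF : F.IsSaturated p) (hp : 5 ≤ p) (φ : ↥((Subgroup.upperCentralSeries ↥S 2).map S.subtype) →* Ω) (hφ : φ ∈ F.Hom ((Subgroup.upperCentralSeries ↥S 2).map S.subtype)) (hφZ : φ.range = ((Subgroup.upperCentralSeries ↥S 2).map S.subtype)) (hmove : ∃ (z : Ω) (hz : z ∈ ((Subgroup.upperCentralSeries ↥S 2).map S.subtype)), z ∈ ((Subgroup.center ↥S).map S.subtype) ∧ φ ⟨z, hz⟩ ∉ ((Subgroup.center ↥S).map S.subtype)) : F.IsEssential p (S ⊓ Subgroup.centralizer (((Subgroup.upperCentralSeries ↥S 2).map S.subtype) : Set Ω)) := by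
  have hF' : Sat p F := ⟨hS, hF⟩
  have hm := L0.mc_of_sub hn (by omega) hmax
  change F.IsEssential p (centralizerIn S (ucs S 2))
  have c2 : Nat.card (ucs S 2) = p ^ 2 := (H24.card_map_subtype _).trans (L0.mc_card_ucs hm (by omega))
  have c1 : Nat.card (ucs S 1) = p := (H24.card_map_subtype _).trans ((L0.mc_card_ucs hm (by omega)).trans (pow_one p))
  have hW : ucs S 2 ≤ S := ucs_le 2
  have hZW : ucs S 1 ≤ ucs S 2 := ucs_mono (by omega)
  haveI := finite_of_le hW
  have hN : ∀ k, S ≤ normalizer (ucs S k : Set Ω) := fun k s hs =>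
    cj_mem_stab.1 (stab_le_stab_ucs k (cj_mem_stab.2 (le_normalizer hs)))
  obtain ⟨x, hx, hx'⟩ : ∃ x ∈ ucs S 2, x ∉ ucs S 1 := by
    by_contra! h
    have := Nat.le_of_dvd (by omega) (card_dvd_of_le (show ucs S 2 ≤ ucs S 1 from h))
    rw [c1, c2] at this
    nlinarith
  have e := sup_zp_of_card (hS.to_le hW) hZW (by rw [c1, c2, sq]) hx hx'
  have hZ : ucs S 1 ≤ centralizer (S : Set Ω) := ucs_one (Q := S) ▸ inf_le_right
  have hC : ∀ s ∈ S, ⁅s, x⁆ = 1 ↔ s ∈ centralizer (ucs S 2 : Set Ω) := fun s hs => by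
    rw [commutatorElement_eq_one_iff_mul_comm]
    refine ⟨fun h => ?_, fun h => (mem_centralizer_iff.1 h x hx).symm⟩
    rw [← e, ← zpowers_le, le_centralizer_iff]
    exact sup_le (hZ.trans (centralizer_le (zpowers_le.2 hs))) (zpowers_le.2 (mem_centralizer_iff.2 (by
      rintro _ ⟨k, rfl⟩; exact (Commute.zpow_left h k).eq)))
  have hcm : ∀ s ∈ S, ⁅s, x⁆ ∈ ucs S 1 := fun s hs => by
    rw [← commutatorElement_inv]; exact inv_mem ((mem_ucs_succ.1 hx).2 s hs)
  have hh : HomOn S fun s => ⁅s, x⁆ := fun a ha b hb => by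
    have := mem_centralizer_iff.1 (hZ (hcm b hb)) a ha
    have h2 := mem_centralizer_iff.1 (hZ (hcm b hb)) _ ((ucs_le 1) (hcm a ha))
    calc ⁅a * b, x⁆ = a * ⁅b, x⁆ * a⁻¹ * ⁅a, x⁆ := by simp only [commutatorElement_def]; group
      _ = _ := by rw [this, mul_inv_cancel_right, h2]
  have hc : Nat.card S ≤ p * Nat.card (centralizerIn S (ucs S 2)) := by
    rw [card_ker_im hh hC, mul_comm]
    exact Nat.mul_le_mul_right _ (c1 ▸ Nat.le_of_dvd (by omega) (card_dvd_of_le (im_le_iff.2 hcm)))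
  have hWC : ucs S 2 ≤ centralizerIn S (ucs S 2) := le_inf hW (by
    rw [← e]
    exact sup_zp_comm (hZ.trans (centralizer_le (ucs_le 1))) (le_centralizer_iff.1
      (hZ.trans (centralizer_le hW)) hx))
  obtain ⟨σ, s1, s2⟩ := exists_perm_of_mem_hom (P := ucs S 2) hφ
  have s3 : im σ (ucs S 2) = ucs S 2 := s1.im_eq_of_mem le_rfl fun y hy => by
    rw [← s2 ⟨y, hy⟩]; exact hφZ.le ⟨_, rfl⟩
  obtain ⟨τ, t1, t2⟩ := hF'.extend_cIn s1 (by
    rw [s3]; exact hF'.fc_of_fn (fn_of_le_normalizer hW (hN 2)))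
  have t3 : τ ∈ AutF F (centralizerIn S (ucs S 2)) := (t1.mono le_sup_right).mem_autF' fun y hy => by
    have := t1.mem_cIn le_sup_left (mem_sup_right hy) hy.2
    rwa [im_congr t2, s3] at this
  have hlt : centralizerIn S (ucs S 2) < S := lt_of_le_of_ne inf_le_left fun h => hx' (by
    rw [ucs_one]
    exact ⟨hW hx, le_centralizer_iff.1 (h.ge.trans inf_le_right) hx⟩)
  refine hF'.essential_of_hExt_ne hlt (fn_of_le_normalizer inf_le_left (H24.le_normalizer_inf le_normalizer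
    (H24.le_normalizer_centralizer (hN 2)))) fun h => ?_
  have k : HExt F (centralizerIn S (ucs S 2)) ≤ Stab (ucs S 1) :=
    (hExt_le_iff ((fix_anti (hZW.trans hWC)).trans fix_le_stab)).2 fun Q ρ h1 h2 _ => by
      obtain rfl := eq_of_card_le hS h1 h2.le hc
      exact stab_le_stab_ucs 1 (autF_le_stab F _ h2.mem_autF_top)
  obtain ⟨z, hz, z1, z2⟩ := hmove
  rw [← Subgroup.upperCentralSeries_one] at z1 z2
  have := stab_mem (k (h ▸ t3)) z1
  rw [t2 z hz] at this
  exact z2 ((s2 ⟨z, hz⟩).symm ▸ this :)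

end Cfsg.Agent.S5270
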