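import Cfsg.Statements.S5296
import Cfsg.Agent.L0.FMis

set_option autoImplicit false
universe u
open Cfsg

namespace Cfsg.Agent.S5296

open Subgroup Cfsg.Agent.H23 Cfsg.Agent.H23.LF


/-- Small-exponent abelian subgroups of the hyperfocal subgroup control fusion. Let E and F be saturated fusion systems over the same finite p-group S with E contained in F. Suppose that E and F have the same maps between A and B for all subgroups A, B of the hyperfocal subgroup of F that are elementary abelian when p is odd, respectively abelian of exponent dividing 4 when p = 2. Then E = F. -/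
theorem result {Ω : Type u} [Group Ω] {S : Subgroup Ω} [Finite S] (p : ℕ) [Fact p.Prime] (hS : IsPGroup p S)
    (E F : Cfsg.FusionSystem S) (hE : E.IsSaturated p) (hF : F.IsSaturated p) (hEF : E.IsSubsystemOf F)
    (hodd : p ≠ 2 → ∀ A B : Subgroup Ω, A ≤ (F.hyperfocalSubgroup p) → B ≤ (F.hyperfocalSubgroup p) →
      Cfsg.IsElementaryAbelian p A → Cfsg.IsElementaryAbelian p B → E.homSet A B = F.homSet A B)
    (htwo : p = 2 → ∀ A B : Subgroup Ω, A ≤ (F.hyperfocalSubgroup p) → B ≤ (F.hyperfocalSubgroup p) →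
      IsMulCommutative ↥A → IsMulCommutative ↥B → (∀ a ∈ A, a ^ 4 = 1) → (∀ b ∈ B, b ^ 4 = 1) → E.homSet A B = F.homSet A B) :
    ∀ P : Subgroup Ω, E.Hom P = F.Hom P := by
  have hF' : Sat p F := ⟨hS, hF⟩
  refine hom_eq_iff.mpr ⟨hEF, Sat.mislin hF' ⟨hS, hE⟩ hEF fun A h1 h2 h3 σ hσ => ?_⟩
  have h4 : im σ A ≤ F.hyperfocalSubgroup p := hσ.im_le_of_sc hF'.sc_hyper le_rfl h1
  have h5 : IsMulCommutative A := H3.isMulCommutative_iff_mem.mpr fun a ha b hb => h2 hb a ha
  have h6 : IsMulCommutative (im σ A) := H3.isMulCommutative_iff_mem.mpr fun a ha b hb =>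
    (im_le_iff (R := centralizer (im σ A : Set Ω))).mpr
      (fun x hx => hσ.homOn.mem_centralizer_im le_rfl hx (h2 hx)) hb a ha
  have h7 : ∀ b ∈ im σ A, b ^ sm p = 1 := fun b hb => by
    obtain ⟨a, ha, rfl⟩ := hσ.mem_im.mp hb
    rw [← hσ.homOn.map_pow ha, h3 a ha, hσ.homOn.map_one]
  have h8 : E.homSet A (im σ A) = F.homSet A (im σ A) := by
    by_cases hp : p = 2
    · simp only [sm, if_pos hp] at h3 h7
      exact htwo hp A _ h1 h4 h5 h6 h3 h7
    · simp only [sm, if_neg hp] at h3 h7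
      exact hodd hp A _ h1 h4 ⟨h5, h3⟩ ⟨h6, h7⟩
  have h9 : hσ.homOn.hom ∈ F.homSet A (im σ A) := ⟨hσ.mem_hom fun _ => rfl, fun x => mem_im_of_mem σ x.2⟩
  exact (mem_hom_iff_of_eq fun _ => rfl).mp (h8 ▸ h9).1

end Cfsg.Agent.S5296
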