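import Cfsg.Statements.S5282
import Cfsg.Agent.H4.SFF
import Cfsg.Agent.S2761

set_option autoImplicit false
open Cfsg

namespace Cfsg.Agent.S5282

open Cfsg.Agent.H4

open Cfsg.Agent.H23 Cfsg.Agent.H23.LF Cfsg.Agent.H4S


/-- Let p be a prime and F a saturated fusion system over a finite p-group S that is Qd(p)-free: the semidirect product of an elementary abelian group of order p² by SL₂(p) acting naturally (the symmetric group of degree 4 when p = 2) is not involved in any model of the normalizer system of a fully normalized F-centric subgroup. Then F is realizable — it is the fusion system of some finite group on a Sylow p-subgroup — and F is a solvable fusion system. -/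
theorem result {Ω : Type*} [Group Ω] {S : Subgroup Ω} [Finite S] (p : ℕ) [Fact p.Prime] (hS : IsPGroup p ↥S) (F : Cfsg.FusionSystem S) (hF : F.IsSaturated p) (hfree : F.IsSectionFree p ↥(Cfsg.qd p)) : F.IsRealizable p ∧ F.IsSolvableSystem := by
  have s : Sat p F := ⟨hS, hF⟩
  suffices h : F.IsSolvableSystem from
    ⟨s.realizable (s.constrained_of_sch (s.solvable_iff.1 h)), h⟩
  by_cases hp : p = 2
  · subst hp
    obtain ⟨e⟩ := S2761.result
    exact s.solvable_iff.2 (sch_of_free F s ((sectionFree_iff s good_s4).1
      fun Q a b N c L _ ι d i => hfree Q a b N c L ι d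
        (H9.involves_trans (L0.Sec.of_equiv e.symm).involves i)))
  intro R a b _ E c
  have d := (isFactorSystem_iff a).1 c
  have := d.finite'
  have t := d.sat s
  have h := le_core (fs_zj_normal hp t fun e => (sectionFree_iff s good_qd).1 hfree (e.of_fac d))
  rw [← ind_zjF0] at h
  exact fun e => ind_ne_bot (L0.isCharPFunctor_zjF (dvd_zero p)) t.pg
    (fun e => b (le_antisymm a.1 ((d.im_eq_bot_iff le_rfl).1 (d.surj.trans e)))) (le_bot_iff.1 (e ▸ h))

end Cfsg.Agent.S5282
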