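import Cfsg.Statements.S5289
import Cfsg.Agent.L0.FRk2

set_option autoImplicit false
open Cfsg

namespace Cfsg.Agent.S5289

open Subgroup Cfsg.FusionSystem Cfsg.Agent.H23 Cfsg.Agent.H23.LF


/-- Let p ≥ 5 be a prime and S a finite p-group of p-rank two (it has an elementary abelian subgroup of order p² and none of order p³) which is not the extraspecial group of order p³ and exponent p. Then S is resistant: for every saturated fusion system F over S, S is normal in F, that is, every map of F extends to an F-automorphism of S. -/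
theorem result {Ω : Type*} [Group Ω] {S : Subgroup Ω} [Finite S] (p : ℕ) [Fact p.Prime] (hS : IsPGroup p S)
    (F : Cfsg.FusionSystem S) (hF : F.IsSaturated p)
    (hp : 5 ≤ p)
    (hrank2 : ∃ E : Subgroup Ω, E ≤ S ∧ Cfsg.IsElementaryAbelian p E ∧ Nat.card E = p ^ 2)
    (hrank3 : ∀ E : Subgroup Ω, E ≤ S → Cfsg.IsElementaryAbelian p E → Nat.card E ≤ p ^ 2)
    (hnotE : ¬ (Nat.card S = p ^ 3 ∧ Monoid.exponent ↥S = p)) : F.IsNormal S := by
  obtain ⟨F', a⟩ := exists_fac_top F
  have h := Sat.rk2_normal (a.sat_iff.2 ⟨hS, hF⟩) hp (fun A h1 h3 => by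
    rw [← H24.card_map_subtype]
    exact hrank3 _ (map_subtype_le A) ⟨inferInstance, by rintro _ ⟨a, ha, rfl⟩; rw [← map_pow, h3 a ha, map_one]⟩)
    fun e => hnotE ⟨e.1, by
      haveI : Nontrivial S := Finite.one_lt_card_iff_nontrivial.1 (by
        rw [e.1]; exact Nat.one_lt_pow (by omega) (by omega))
      exact ((Nat.dvd_prime Fact.out).1 (Monoid.exponent_dvd_of_forall_pow_eq_one e.2)).resolve_left
        Monoid.one_lt_exponent.ne'⟩
  exact (a.normal_iff le_rfl).1 (a.surj.symm ▸ h)

end Cfsg.Agent.S5289
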