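import Cfsg.Statements.S5299
import Cfsg.Agent.H23.GFac
import Cfsg.Agent.H9.Involves
-- import your own Cfsg.Agent.* helpers here

set_option autoImplicit false
universe u
open Cfsg

namespace Cfsg.Agent.S5299

/-- Let F be a saturated fusion system over a finite p-group S, H a finite group and Q a p-subgroup of H. If Q is not involved in S (no section of S is isomorphic to Q), then F is H-free: H is involved in no model of the normalizer system of a fully normalized centric subgroup. -/
theorem result {Ω : Type u} [Group Ω] {S : Subgroup Ω} [Finite S] (p : ℕ) [Fact p.Prime] (hS : IsPGroup p S)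
    (F : Cfsg.FusionSystem S) (hF : F.IsSaturated p) (H : Type*) [Group H] [Finite H] (Q : Subgroup H) (hQ : IsPGroup p Q)
    (hfree : ¬ Cfsg.Involves (↥Q) (↥S)) : F.IsSectionFree p H := by
  open Cfsg.Agent.H23 Cfsg.FusionSystem Subgroup in
  intro R hR _ N _ L _ ι hL hI
  obtain ⟨_, h1, ⟨T, hT⟩, -⟩ := hL
  obtain ⟨K, β, hβ⟩ := H9.involves_iff.1 (H9.involves_trans (H9.involves_of_subgroup Q H9.involves_self) hI)
  obtain ⟨U⟩ : Nonempty (Sylow p K) := inferInstance
  have h2 : (U : Subgroup K).map β = ⊤ := by
    rw [← Sylow.coe_mapSurjective hβ]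
    exact (U.mapSurjective hβ).3 (hQ.to_subgroup ⊤) le_top |>.symm
  have h3 : Involves Q ((U : Subgroup K).map K.subtype) :=
    H9.involves_of_injective (((U : Subgroup K).equivMapOfInjective K.subtype K.subtype_injective).toMonoidHom)
      (MulEquiv.injective _) (H9.involves_of_map β _ (h2 ▸ H9.involves_of_injective
        (Subgroup.topEquiv (G := Q)).symm.toMonoidHom (MulEquiv.injective _) H9.involves_self))
  obtain ⟨g, -, hg⟩ := (rsyl_sylow T).conj_into' (R := (U : Subgroup K).map K.subtype) le_top (U.2.map _)
  have h4 : Involves Q (cjS g ((U : Subgroup K).map K.subtype)) :=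
    H9.involves_of_injective (Subgroup.equivMapOfInjective _ (MulAut.conj g).toMonoidHom
      (MulAut.conj g).injective).toMonoidHom (MulEquiv.injective _) h3
  have h5 := H9.involves_of_le (cjS_le_iff.2 hg) h4
  rw [hT, MonoidHom.range_eq_map] at h5
  exact hfree (H9.involves_of_le nIn_le (H9.involves_of_subgroup _ (H9.involves_of_map ι _ h5)))

end Cfsg.Agent.S5299
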