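import Cfsg.Statements.S5385
import Cfsg.Agent.CoT.JM
import Cfsg.Agent.CoT.C
import Cfsg.Agent.CoT.O
import Cfsg.Agent.CoT.CN
import Cfsg.Agent.CoT.K0
import Cfsg.Agent.CoT.K3
import Cfsg.Agent.CoT.SET

set_option autoImplicit false
set_option linter.style.haveILetI false
open Cfsg

namespace Cfsg.Agent.S5385

open Cfsg.Agent.CoT Subgroup

/-- Let G be a finite group of Conway type (involution z with generalized Fitting subgroup Q of its centralizer C extraspecial of order 2^9, C/Q the commutator subgroup of the isometry group of the hyperbolic quadratic form in dimension 8 over the field with two elements, z not weakly closed in Q), and let B be a subgroup of C of order 5 such that the centralizer of B in Q is extraspecial of order 32 containing no elementary abelian subgroup of order 8 (the quaternion-times-dihedral type). Then the layer L of the centralizer of B in G is isomorphic to the Hall–Janko group and the centralizer of L is isomorphic to the alternating group of degree 5. -/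
theorem result {G : Type*} [Group G] [Finite G] (z : G) (hz : orderOf z = 2) (Q : Subgroup (Subgroup.centralizer ({z} : Set G))) [Q.Normal] (hF : Cfsg.generalizedFittingSubgroup (Subgroup.centralizer ({z} : Set G)) = Q) (hQ : Cfsg.IsExtraspecial 2 Q) (hcard : Nat.card Q = 2 ^ 9) (e : (Subgroup.centralizer ({z} : Set G)) ⧸ Q ≃* Cfsg.Omega (ZMod 2) (Cfsg.quadFormPlus 4 (ZMod 2))) (hnwc : ∃ g : G, (∃ hq : g * z * g⁻¹ ∈ Subgroup.centralizer ({z} : Set G), (⟨g * z * g⁻¹, hq⟩ : Subgroup.centralizer ({z} : Set G)) ∈ Q) ∧ g * z * g⁻¹ ≠ z) (B : Subgroup (Subgroup.centralizer ({z} : Set G))) (hB : Nat.card B = 5) (hCQ : Cfsg.IsExtraspecial 2 ↥(Q ⊓ Subgroup.centralizer (B : Set (Subgroup.centralizer ({z} : Set G))))) (hCQcard : Nat.card ↥(Q ⊓ Subgroup.centralizer (B : Set (Subgroup.centralizer ({z} : Set G)))) = 32) (hminus : ∀ A : Subgroup (Subgroup.centralizer ({z} : Set G)), A ≤ Q ⊓ Subgroup.centralizer (B : Set (Subgroup.centralizer ({z} : Set G))) → Cfsg.IsElementaryAbelian 2 A → Nat.card A ≤ 4)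 : Cfsg.Spor.IsoJ2 ↥(Cfsg.layer ↥(Subgroup.centralizer ((B.map (Subgroup.subtype (Subgroup.centralizer ({z} : Set G)))) : Set G))) ∧ Nonempty (↥(Subgroup.centralizer (((Cfsg.layer ↥(Subgroup.centralizer ((B.map (Subgroup.subtype (Subgroup.centralizer ({z} : Set G)))) : Set G))).map (Subgroup.subtype _)) : Set G)) ≃* alternatingGroup (Fin 5)) := by
  have : Fact (Nat.Prime 2) := ⟨Nat.prime_two⟩
  have : Fact (Nat.Prime 5) := ⟨by norm_num⟩
  obtain ⟨ρ, p, co⟩ := exists_co z hz Q hF hQ hcard e
  obtain ⟨g, ⟨hq, hg⟩, ne⟩ := hnwc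
  obtain ⟨f, rfl⟩ := (Subgroup.isCyclic_iff_exists_zpowers_eq_top B).1 (isCyclic_of_prime_card hB)
  rw [Nat.card_zpowers] at hB
  have cz : ∀ {K : Type _} [Group K] (x : K), centralizer (zpowers x : Set K) = centralizer {x} := fun x => by
    rw [zpowers_eq_closure, centralizer_closure]
  have e0 : centralizer (((zpowers f).map (centralizer ({z} : Set G)).subtype : Subgroup G) : Set G) = centralizer {(f : G)} := by
    rw [MonoidHom.map_zpowers, cz]; rfl
  have e1 : (Q ⊓ centralizer (zpowers f : Set (centralizer ({z} : Set G)))).map (centralizer ({z} : Set G)).subtype =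
      Q.map (centralizer ({z} : Set G)).subtype ⊓ centralizer {(f : G)} := by
    rw [cz]
    ext x
    constructor
    · rintro ⟨y, ⟨h1, h2⟩, rfl⟩
      exact ⟨⟨y, h1, rfl⟩, mem_centralizer_singleton_iff.2 (congrArg Subtype.val (mem_centralizer_singleton_iff.1 h2))⟩
    · rintro ⟨⟨y, h1, rfl⟩, h2⟩
      exact ⟨y, ⟨h1, mem_centralizer_singleton_iff.2 (Subtype.ext (mem_centralizer_singleton_iff.1 h2))⟩, rfl⟩
  have t := equivMapOfInjective (Q ⊓ centralizer (zpowers f : Set (centralizer ({z} : Set G)))) _ (subtype_injective _)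
  rw [e1] at t
  have RE := H26.isExtraspecial_congr hCQ t
  have c32 := (Nat.card_congr t.toEquiv).symm.trans hCQcard
  obtain ⟨ρ', p', s, b, m, a, a', h⟩ := setup co ⟨v0, f1, f4, f5, f8, sol, rad, cnt⟩ (g := g) ⟨_, hg, rfl⟩ ne (f := (f : G))
    (by rw [orderOf_coe, hB]) (mem_centralizer_singleton_iff.1 f.2) RE c32 fun A hA hE => by
      rw [← e1] at hA
      have l : A ≤ centralizer ({z} : Set G) := hA.trans (map_subtype_le _)
      have u := subgroupOfEquivOfLe l
      rw [← Nat.card_congr u.toEquiv]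
      refine hminus _ (fun x hx => ?_) ⟨⟨⟨fun x y => u.injective (by rw [map_mul, map_mul, hE.1.1.1])⟩⟩,
        fun x hx => Subtype.ext (hE.2 _ hx)⟩
      obtain ⟨y, hy, e⟩ := hA hx
      exact Subtype.ext e ▸ hy
  exact five h ⟨l0 h.fr, K0.l1' h.fr, l3 h.fr, l4 h.fr, l5 h.fr, l6 h.fr, l7 h.fr⟩ RE c32 _ e0

end Cfsg.Agent.S5385
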