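import Cfsg.Statements.S5405
import Cfsg.Agent.H29.OH1

set_option autoImplicit false
open scoped MatrixGroups
open Cfsg

namespace Cfsg.Agent.S5405
open Cfsg.Agent.H29


set_option synthInstance.maxSize 2048 in
/-- Vanishing of first cohomology on the natural module for three small orthogonal groups over the field with two elements: for the commutator subgroup of the isometry group of the elliptic quadratic form in dimension 4, of the elliptic form in dimension 6, and of the hyperbolic form in dimension 8, every crossed homomorphism into the natural module (a map f with f(gh) = f(g) + g·f(h)) is principal (of the form g ↦ g·v − v). -/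
theorem result : (∀ f : ↥(Cfsg.Omega (ZMod 2) (Cfsg.quadFormMinus 1 (ZMod 2) 1 1)) → ((Fin 1 ⊕ Fin 1) ⊕ Fin 2 → ZMod 2), (∀ g h : ↥(Cfsg.Omega (ZMod 2) (Cfsg.quadFormMinus 1 (ZMod 2) 1 1)), f (g * h) = f g + Matrix.mulVec (((g : ↥(Cfsg.isometryGroup (ZMod 2) (Cfsg.quadFormMinus 1 (ZMod 2) 1 1))) : GL ((Fin 1 ⊕ Fin 1) ⊕ Fin 2) (ZMod 2)) : Matrix ((Fin 1 ⊕ Fin 1) ⊕ Fin 2) ((Fin 1 ⊕ Fin 1) ⊕ Fin 2) (ZMod 2)) (f h)) → ∃ v : (Fin 1 ⊕ Fin 1) ⊕ Fin 2 → ZMod 2, ∀ g : ↥(Cfsg.Omega (ZMod 2) (Cfsg.quadFormMinus 1 (ZMod 2) 1 1)), f g = Matrix.mulVec (((g : ↥(Cfsg.isometryGroup (ZMod 2) (Cfsg.quadFormMinus 1 (ZMod 2) 1 1))) : GL ((Fin 1 ⊕ Fin 1) ⊕ Fin 2) (ZMod 2)) : Matrix ((Fin 1 ⊕ Fin 1) ⊕ Fin 2) ((Fin 1 ⊕ Fin 1) ⊕ Fin 2) (ZMod 2)) v - v) ∧ (∀ f : ↥(Cfsg.Omega (ZMod 2) (Cfsg.quadFormMinus 2 (ZMod 2) 1 1)) → ((Fin 2 ⊕ Fin 2) ⊕ Fin 2 → ZMod 2), (∀ g h : ↥(Cfsg.Omega (ZMod 2)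 (Cfsg.quadFormMinus 2 (ZMod 2) 1 1)), f (g * h) = f g + Matrix.mulVec (((g : ↥(Cfsg.isometryGroup (ZMod 2) (Cfsg.quadFormMinus 2 (ZMod 2) 1 1))) : GL ((Fin 2 ⊕ Fin 2) ⊕ Fin 2) (ZMod 2)) : Matrix ((Fin 2 ⊕ Fin 2) ⊕ Fin 2) ((Fin 2 ⊕ Fin 2) ⊕ Fin 2) (ZMod 2)) (f h)) → ∃ v : (Fin 2 ⊕ Fin 2) ⊕ Fin 2 → ZMod 2, ∀ g : ↥(Cfsg.Omega (ZMod 2) (Cfsg.quadFormMinus 2 (ZMod 2) 1 1)), f g = Matrix.mulVec (((g : ↥(Cfsg.isometryGroup (ZMod 2) (Cfsg.quadFormMinus 2 (ZMod 2) 1 1))) : GL ((Fin 2 ⊕ Fin 2) ⊕ Fin 2) (ZMod 2)) : Matrix ((Fin 2 ⊕ Fin 2) ⊕ Fin 2) ((Fin 2 ⊕ Fin 2) ⊕ Fin 2) (ZMod 2)) v - v) ∧ (∀ f : ↥(Cfsg.Omega (ZMod 2) (Cfsg.quadFormPlus 4 (ZMod 2))) → (Fin 4 ⊕ Fin 4 → ZMod 2), (∀ g h : ↥(Cfsg.Omega (ZMod 2) (Cfsg.quadFormPlus 4 (ZMod 2))), f (g * h) = f g + Matrix.mulVec (((g : ↥(Cfsg.isometryGroup (ZMod 2) (Cfsg.quadFormPlus 4 (ZMod 2)))) : GL (Fin 4 ⊕ Fin 4) (ZMod 2))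 : Matrix (Fin 4 ⊕ Fin 4) (Fin 4 ⊕ Fin 4) (ZMod 2)) (f h)) → ∃ v : Fin 4 ⊕ Fin 4 → ZMod 2, ∀ g : ↥(Cfsg.Omega (ZMod 2) (Cfsg.quadFormPlus 4 (ZMod 2))), f g = Matrix.mulVec (((g : ↥(Cfsg.isometryGroup (ZMod 2) (Cfsg.quadFormPlus 4 (ZMod 2)))) : GL (Fin 4 ⊕ Fin 4) (ZMod 2)) : Matrix (Fin 4 ⊕ Fin 4) (Fin 4 ⊕ Fin 4) (ZMod 2)) v - v) := by
  refine ⟨?_, ?_, ?_⟩
  · refine H29.h1_mat (Q := H13.QMinus 1 (ZMod 2) 1 1) (H29.h1_vanish (H13.nd_QMinus' (by decide)) (.inr (.inr (by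
      simp only [H13.QMinus_apply, H13.polar_QMinus, Submodule.mem_span_singleton]; decide +kernel))) (n := 2)
      ![Sum.elim (Sum.elim ![0] ![0]) ![0, 1], Sum.elim (Sum.elim ![0] ![0]) ![1, 0], Sum.elim (Sum.elim ![0] ![1]) ![0, 1], Sum.elim (Sum.elim ![1] ![1]) ![0, 0]] ![0, 0, 1, 2]
      (by simp only [H13.QMinus_apply]; decide +kernel) (Fintype.linearIndependent_iff.2 (by decide +kernel))
      (by simp only [H13.polar_QMinus]; decide +kernel) (fun v => 3690506415770255425536 / 32 ^ (1 * (v (.inl (.inl 0))).val + 2 * (v (.inl (.inr 0))).val + 4 * (v (.inr 0)).val + 8 * (v (.inr 1)).val) % 32)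
      (by simp only [H13.QMinus_apply, H13.polar_QMinus]; decide +kernel))
  · refine H29.h1_mat (Q := H13.QMinus 2 (ZMod 2) 1 1) (H29.h1_vanish (H13.nd_QMinus' (by decide)) (.inr (.inl (by simp))) (n := 4)
      ![Sum.elim (Sum.elim ![0, 0] ![0, 0]) ![0, 1], Sum.elim (Sum.elim ![0, 0] ![0, 0]) ![1, 0], Sum.elim (Sum.elim ![0, 0] ![0, 1]) ![0, 1], Sum.elim (Sum.elim ![0, 1] ![0, 1]) ![0, 0], Sum.elim (Sum.elim ![1, 0] ![1, 1]) ![0, 0], Sum.elim (Sum.elim ![0, 1] ![1, 1]) ![0, 0]] ![0, 0, 1, 2, 3, 2]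
      (by simp only [H13.QMinus_apply]; decide +kernel) (Fintype.linearIndependent_iff.2 (by decide +kernel))
      (by simp only [H13.polar_QMinus]; decide +kernel) (fun v => 333758159921351905015248699071584716370870907250195963223657360199230534546081759364774753206272 / 32 ^ (1 * (v (.inl (.inl 0))).val + 2 * (v (.inl (.inl 1))).val + 4 * (v (.inl (.inr 0))).val + 8 * (v (.inl (.inr 1))).val + 16 * (v (.inr 0)).val + 32 * (v (.inr 1)).val) % 32)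
      (by simp only [H13.QMinus_apply, H13.polar_QMinus]; decide +kernel))
  · refine H29.h1_mat (Q := H13.QPlus 4 (ZMod 2)) (H29.h1_vanish H13.nd_QPlus (.inr (.inl (by simp))) (n := 6)
      ![Sum.elim ![0, 0, 0, 1] ![0, 0, 0, 1], Sum.elim ![0, 0, 1, 0] ![0, 0, 1, 1], Sum.elim ![0, 0, 0, 1] ![0, 1, 0, 1], Sum.elim ![0, 1, 0, 0] ![0, 1, 0, 0], Sum.elim ![0, 0, 0, 1] ![0, 1, 1, 1], Sum.elim ![0, 0, 1, 0] ![0, 0, 1, 0], Sum.elim ![0, 0, 0, 1] ![1, 0, 1, 1], Sum.elim ![1, 1, 1, 0] ![1, 1, 1, 0]] ![0, 0, 1, 2, 3, 4, 5, 2]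
      (by simp only [H13.QPlus_apply]; decide +kernel) (Fintype.linearIndependent_iff.2 (by decide +kernel))
      (by simp only [H13.polar_QPlus]; decide +kernel) (fun v => 166441643030052254097439927050760429649617270746524789917196157376793123174881465578270849268355056328201357893880922974017024817287022498176144863091641230531483924090591785017715532253439525769582328025481052301427288101358414246537449897660420823433347110275853113406584279356038569672155603168936430052395642417384939433125348710320680356621039505265247317372089150726383331180544 / 32 ^ (1 * (v (.inl 0)).val + 2 * (v (.inl 1)).val + 4 * (v (.inl 2)).val + 8 * (v (.inl 3)).val + 16 * (v (.inr 0)).val + 32 * (v (.inr 1)).val + 64 * (v (.inr 2)).val + 128 * (v (.inr 3)).val) % 32)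
      (by simp only [H13.QPlus_apply, H13.polar_QPlus]; decide +kernel))

end Cfsg.Agent.S5405
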