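import Cfsg.Statements.S5522
import Cfsg.Agent.H16.M24h

set_option autoImplicit false
open Cfsg
open scoped Pointwise

namespace Cfsg.Agent.S5522
open H16 in
theorem base {x : M24} (hx : x ∈ K11) {p : ℕ} (hp : p.Prime) (h : orderOf x = p) : ∃ y ∉ toSet sqD, x • y = y := by
  have h1 : x ^ p ^ 1 = 1 := by rw [pow_one, ← h, pow_orderOf_eq_one]
  have key : ∀ {p k m : ℕ} {B S : List ℕ}, p.Prime → 7920 = p ^ k * m → ¬ p ∣ m → (∀ b ∈ B, b < 24) →
      allL S (fixAll [sqD, bit 0]) = true → enumChk mul24 5 24 B S (p ^ k) (fun q =>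
        orB (notB (eqP 5 24 (ppow 5 24 q p) (pid 5 24))) (Nat.blt 0 (pc24 (Nat.land (fixMask 5 24 q) (Nat.xor sqD 16777215))))) = true →
      x ^ p ^ 1 = 1 → ∃ y ∉ toSet sqD, x • y = y := fun {p k m B S} hp e hm hB hS hc h1 => by
    obtain ⟨c, hc, q, h2, h3⟩ := forall_p_elt mulOk24 gpt_inj (faith_M24 K11) hp (card_K11.trans e) hm hB
      (inK_of_fixAll hS fun _ h => ⟨h _ (by simp), fix_bit h (by norm_num) (by simp)⟩) hc hx h1
    have h4 : eqP 5 24 (ppow 5 24 q p) (pid 5 24) = true := eqP_iff.mpr (Rep.unique gpt_inj (h2.ppow five_le p) (by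
      rw [conj_pow, ← pow_one p, h1, mul_one, mul_inv_cancel]; exact Rep.pid five_le))
    rw [orB_iff, notB_iff, h4, Nat.blt_eq, ← card_inter_toSet, ← h2.fixSet_eq, fixSet_conj] at h3
    obtain ⟨y, hy⟩ := Finset.card_pos.mp (h3.resolve_left (by simp))
    rw [Finset.mem_inter, show Nat.xor sqD 16777215 = sqD ^^^ 16777215 from rfl, toSet_compl, Finset.mem_compl,
      ← show c • toSet sqD = toSet sqD from hc.1, ← mem_inv_smul, ← mem_inv_smul, mem_fixSet] at hy
    exact ⟨_, hy.2, hy.1⟩
  have hd : p ∣ 2 ^ 4 * 3 ^ 2 * 5 * 11 := by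
    rw [← h, show 2 ^ 4 * 3 ^ 2 * 5 * 11 = 7920 from rfl, ← card_K11]; exact K11.orderOf_dvd_natCard hx
  simp only [hp.dvd_mul] at hd
  rcases hd with ((h | h) | h) | h
  · obtain rfl := (Nat.prime_dvd_prime_iff_eq hp Nat.prime_two).mp (hp.dvd_of_dvd_pow h)
    exact key (k := 4) (m := 495) (B := [1, 4]) (S := [970499966350631336865513127433832480, 647963967624222840572140258158053632])
      hp rfl (by norm_num) (by decide) (by decide +kernel) (by decide +kernel) h1
  · obtain rfl := (Nat.prime_dvd_prime_iff_eq hp Nat.prime_three).mp (hp.dvd_of_dvd_pow h)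
    exact key (k := 2) (m := 880) (B := [1]) (S := [932843205313912150989052845949749632, 984765784409758197788303441407641728])
      hp rfl (by norm_num) (by decide) (by decide +kernel) (by decide +kernel) h1
  · obtain rfl := (Nat.prime_dvd_prime_iff_eq hp Nat.prime_five).mp h
    exact key (k := 1) (m := 1584) (B := [1]) (S := [803128221378554353368651786390873344])
      hp rfl (by norm_num) (by decide) (by decide +kernel) (by decide +kernel) h1
  · obtain rfl := (Nat.prime_dvd_prime_iff_eq hp (by norm_num)).mp h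
    exact key (k := 1) (m := 720) (B := [1]) (S := [217737312847334289257313488861531200])
      hp rfl (by norm_num) (by decide) (by decide +kernel) (by decide +kernel) h1


/-- The Mathieu group M₁₁, realised as the stabiliser of one point of the dodecad of squares inside the stabiliser M₁₂ of that dodecad in M₂₄, acts on the twelve coordinate positions outside the dodecad of squares (its 3-transitive action of degree 12); in this action every element of prime order fixes a point, i.e. the action is elusive. -/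
theorem result (g : Equiv.Perm Cfsg.GolayPt) (hg : g ∈ Cfsg.Spor.M11) (hord : (orderOf g).Prime) :
    ∃ x : Cfsg.GolayPt, x ∉ Cfsg.Spor.squareDodecad ∧ g x = x := by
  rw [H16.squareDodecad_eq]
  exact base (x := ⟨g, hg.1.1⟩) ⟨(by have := hg.1.2; rwa [H16.squareDodecad_eq] at this), hg.2⟩ hord (Subgroup.orderOf_mk _ _)

end Cfsg.Agent.S5522
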