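import Cfsg.Statements.S5722
import Cfsg.Agent.H1.ONS
import Cfsg.Agent.H4.Burnside
import Cfsg.Agent.H19.Basic

set_option autoImplicit false
open Cfsg

namespace Cfsg.Agent.S5722

open Subgroup Cfsg.Agent.H20 Cfsg.Agent.H21 Cfsg.Agent.H2 Cfsg.Agent.H1 MulAction H2.Pm ArithmeticFunction
open scoped commutatorElement

universe u

inductive Ch {G : Type*} [Group G] : ℕ → Subgroup G → Prop
  | zero : Ch 0 ⊥
  | succ {l A B} : Ch l A → A < B → B ≤ N⟦A⟧ → Ch (l + 1) B

section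
variable {G G' : Type*} [Group G] [Group G'] {l : ℕ} {A N T : Subgroup G}

theorem Ch.step {B : Subgroup G} (h : Ch l A) (h1 : A ≤ B) (h2 : B ≤ N⟦A⟧) :
    ∃ l', l ≤ l' ∧ (A ≠ B → l < l') ∧ Ch l' B := by
  rcases h1.eq_or_lt with rfl | e
  exacts [⟨l, le_rfl, fun e => absurd rfl e, h⟩, ⟨l + 1, by omega, fun _ => by omega, h.succ e h2⟩]

theorem Ch.split (f : G →* G') (h : Ch l A) : ∃ l1 l2, l ≤ l1 + l2 ∧ Ch l1 (A ⊓ f.ker) ∧ Ch l2 (A.map f) := by
  induction h with
  | zero => exact ⟨0, 0, le_rfl, by simpa using Ch.zero, by simpa using Ch.zero⟩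
  | @succ l A B _ h1 h2 ih =>
    obtain ⟨l1, l2, e, c1, c2⟩ := ih
    obtain ⟨m1, a1, a2, a3⟩ := c1.step (inf_le_inf_right _ h1.le) (norm_inf (inf_le_left.trans h2) le_normalizer_of_normal)
    obtain ⟨m2, b1, b2, b3⟩ := c2.step (map_mono h1.le) (norm_map f h2)
    refine ⟨m1, m2, ?_, a3, b3⟩
    by_contra! e1
    refine h1.not_ge fun x hx => ?_
    obtain ⟨y, hy, e2⟩ := (not_not.mp (mt b2 (by omega))).ge (mem_map_of_mem f hx)
    exact (mul_mem_cancel_left (inv_mem hy)).mp ((not_not.mp (mt a2 (by omega))).ge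
      (mem_inf.mpr ⟨mul_mem (inv_mem (h1.le hy)) hx, by simp [e2]⟩)).1

theorem Ch.comap (f : G' →* G) (h : Ch l A) (hA : A ≤ f.range) : ∃ l', l ≤ l' ∧ Ch l' (A.comap f) := by
  induction h with
  | zero => exact (Ch.zero.step bot_le (by simp [norm_bot])).imp fun _ h => ⟨h.1, h.2.2⟩
  | @succ l A B _ h1 h2 ih =>
    obtain ⟨m, e, c⟩ := ih (h1.le.trans hA)
    exact ⟨m + 1, by omega, c.succ (lt_of_le_of_ne (comap_mono h1.le) fun e => h1.ne (by
      rw [← map_comap_eq_self hA, ← e, map_comap_eq_self (h1.le.trans hA)])) (norm_comap f h2)⟩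

theorem Ch.top (h : Ch l A) : ∃ l', l ≤ l' ∧ Ch l' (⊤ : Subgroup A) := by
  simpa using h.comap A.subtype (by simp)

theorem Ch.pow_le [Finite G] (h : Ch l A) : 2 ^ l ≤ ♯A ∧ l ≤ cardFactors (♯A) := by
  induction h with
  | zero => simp
  | @succ l A B _ h1 h2 ih =>
    have h3 : A.relIndex B ≠ 1 := fun e => h1.not_ge (relIndex_eq_one.mp e)
    have h4 := relIndex_pos A B
    rw [← H21.card_mul_relIndex h1.le, cardFactors_mul (card_ne_zero A) h4.ne', pow_succ]
    exact ⟨Nat.mul_le_mul ih.1 (by omega), Nat.add_le_add ih.2 (cardFactors_pos_iff_one_lt.mpr (by omega))⟩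

theorem Ch.fac (hT : Fac N T) (h : Ch l T) : l ≤ 1 := by
  cases h with
  | zero => omega
  | succ c h1 h2 =>
    obtain rfl := (hT.eq_of_norm h1.le h2).resolve_right h1.ne
    generalize e : (⊥ : Subgroup G) = B at c
    cases c with
    | zero => rfl
    | succ _ h => exact absurd (e ▸ h) not_lt_bot

theorem relIndex_le {α : Type*} {K M : Subgroup G} (f : G → α) (h : ∀ a ∈ K, ∀ b ∈ K, f a = f b → a⁻¹ * b ∈ M)
    {S : Set α} (hS : S.Finite) (h1 : ∀ a ∈ K, f a ∈ S) : M.relIndex K ≤ S.ncard :=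
  have := hS.to_subtype
  Nat.card_le_card_of_injective (fun c : K ⧸ M.subgroupOf K => (⟨f c.out, h1 _ c.out.2⟩ : S)) fun c d e => by
    rw [← c.out_eq', ← d.out_eq', QuotientGroup.eq]
    exact h _ c.out.2 _ d.out.2 (congrArg Subtype.val e)

variable [Finite G]

theorem new_sub (hT : Fac N T) {M : Subgroup G} (hM : M ≤ N) (h : ¬ T ≤ M) :
    {S | Fac N S ∧ ¬ S ≤ M ∧ S ≤ T ⊔ M ∧ S ≠ T}.Subsingleton ∧
      ∀ S, Fac N S → ¬ S ≤ M → S ≤ T ⊔ M → S ≠ T → M ⊓ S = ⊥ := by
  have h1 : ∀ S, Fac N S → ¬ S ≤ M → S ≤ T ⊔ M → S ≠ T → M ⊓ S = ⊥ := fun S hS a b c =>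
    (hS.inf_or_le hM (b.trans (sup_le ((hT.cent hS c.symm).trans le_sup_right) le_sup_left))).resolve_right a
  have h2 : ∀ S, Fac N S → ¬ S ≤ M → S ≤ T ⊔ M → S ≠ T → ∀ t ∈ T, ∃ s ∈ S, s * t ∈ M := fun S hS a b c t ht => by
    have e : S ⊔ M = T ⊔ M := eq_of_le_card (sup_le b le_sup_right) (by
      obtain ⟨g, e⟩ := hT.conj hS
      rw [card_sup_of_disjoint (.inr (hM.trans hS.norm)) (inf_comm M S ▸ h1 S hS a b c), e, card_cj]
      exact Nat.le_of_dvd (Nat.mul_pos (card_pos _) (card_pos _)) (card_sup_dvd (.inr (hM.trans hT.norm))))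
    obtain ⟨s, hs, m, hm, rfl⟩ := (mem_sup_of_norm' (hM.trans hS.norm)).mp (e.ge (mem_sup_left ht))
    exact ⟨s⁻¹, inv_mem hs, by simpa⟩
  refine ⟨fun S ⟨hS, a, b, c⟩ S' ⟨hS', a', b', c'⟩ => by_contra fun e => h (hT.perf.ge.trans
    (commutator_le.mpr fun t ht u hu => ?_)), h1⟩
  obtain ⟨s, hs, h3⟩ := h2 S hS a b c t ht
  obtain ⟨s', hs', h4⟩ := h2 S' hS' a' b' c' u hu
  have e1 : Commute t s := hS.cent hT c hs t ht
  have e2 : Commute u s := hS.cent hT c hs u hu
  have e3 : Commute t s' := hS'.cent hT c' hs' t ht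
  have e4 : Commute u s' := hS'.cent hT c' hs' u hu
  have e5 : Commute s' s := hS.cent hS' e hs s' hs'
  convert mul_mem (mul_mem (mul_mem h3 h4) (inv_mem h3)) (inv_mem h4) using 1
  rw [mul_inv_rev, mul_inv_rev, commutatorElement_def, ← mul_assoc, ← mul_assoc, mul_assoc s, mul_assoc s,
    ← (((e1.mul_left (e5.mul_left e2)).mul_left e1.inv_left)).eq, mul_inv_cancel_right, ← e4.eq, ← mul_assoc t,
    mul_assoc _ s', ← e3.inv_left.eq, ← mul_assoc, mul_assoc _ s', ← e4.inv_left.eq, ← mul_assoc, mul_inv_cancel_right]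

theorem primes3 (hT : Fac N T) : ∃ p q r : ℕ, p.Prime ∧ q.Prime ∧ r.Prime ∧ p ≠ q ∧ r ≠ p ∧ r ≠ q ∧
    p ∣ ♯T ∧ q ∣ ♯T ∧ r ∣ ♯T := by
  have h : ∀ p q : ℕ, p.Prime → q.Prime → ∃ r, r.Prime ∧ r ∣ ♯T ∧ r ≠ p ∧ r ≠ q := fun p q hp hq => by
    by_contra! h
    exact hT.not_sol (H4.isSolvable_of_forall_prime_dvd hp hq fun r h1 h2 => or_iff_not_imp_left.mpr (h r h1 h2))
  obtain ⟨p, hp, h1⟩ := exists_prime_dvd_card hT.ne
  obtain ⟨q, hq, h2, h3, -⟩ := h p p hp hp
  obtain ⟨r, hr, h4, h5, h6⟩ := h p q hp hq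
  exact ⟨p, q, r, hp, hq, hr, h3.symm, h5, h6, h1, h2, h4⟩

theorem five_le (hT : Fac N T) : 5 ≤ ♯T := by
  obtain ⟨p, q, r, hp, hq, hr, h1, h2, h3, h4, h5, h6⟩ := primes3 hT
  have h : ∀ {p : ℕ}, p.Prime → p ∣ ♯T → p = 2 ∨ p = 3 ∨ 5 ≤ ♯T := fun {p} hp h => by
    have := Nat.le_of_dvd (card_pos T) h
    have := hp.two_le
    have : p ≠ 4 := fun e => absurd (e ▸ hp) (by norm_num)
    omega
  have := h hp h4; have := h hq h5; have := h hr h6
  omega

theorem cnt (hN : Fac N T) (M : Subgroup G) (hM : M ≤ N) : {S | Fac N S ∧ ¬ S ≤ M}.ncard = 0 ∨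
    {S | Fac N S ∧ ¬ S ≤ M}.ncard + 2 ≤ M.relIndex N := by
  clear hN
  induction M using WellFoundedGT.induction with
  | ind M ih =>
  refine or_iff_not_imp_left.mpr fun h => ?_
  obtain ⟨T, hT, h1⟩ := Set.nonempty_of_ncard_ne_zero h
  have h2 := ih (T ⊔ M) (right_lt_sup.mpr h1) (sup_le hT.le hM)
  have h3 := (Set.ncard_le_one (Set.toFinite _)).mpr (new_sub hT hM h1).1
  have h4 : {S | Fac N S ∧ ¬ S ≤ M}.ncard ≤ _ := (Set.ncard_le_ncard (t := insert T ({S | Fac N S ∧ ¬ S ≤ T ⊔ M} ∪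
    {S | Fac N S ∧ ¬ S ≤ M ∧ S ≤ T ⊔ M ∧ S ≠ T})) fun S hS => by
      by_cases e : S = T
      · exact .inl e
      · by_cases e' : S ≤ T ⊔ M
        exacts [.inr (.inr ⟨hS.1, hS.2, e', e⟩), .inr (.inl ⟨hS.1, e'⟩)]).trans ((Set.ncard_insert_le _ _).trans
      (Nat.succ_le_succ (Set.ncard_union_le _ _)))
  have h5 := relIndex_mul_relIndex M (T ⊔ M) N le_sup_right (sup_le hT.le hM)
  rw [relIndex_sup_of_norm (.inr (hM.trans hT.norm))] at h5
  have h6 : 4 ≤ M.relIndex T := by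
    have := hT.simple
    have h6 := Nat.le_of_dvd (Nat.factorial_pos _) (H19.two_mul_card_dvd_factorial_index hT.na' _
      (subgroupOf_eq_top.not.mpr h1))
    have := five_le hT
    by_contra! h7
    have := Nat.factorial_le (Nat.le_of_lt_succ h7)
    change _ ≤ (M.relIndex T).factorial at h6
    simp only [Nat.factorial] at this
    omega
  have := relIndex_pos (T ⊔ M) N
  have := Nat.mul_le_mul_right ((T ⊔ M).relIndex N) h6
  omega

theorem index_le (hT : Fac N T) (M : Subgroup G) : M.index ≤ M.relIndex N⟦T⟧ * {S | Fac N S}.ncard := by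
  refine (index_antitone (inf_le_left : M ⊓ N⟦T⟧ ≤ M)).trans ?_
  rw [← relIndex_mul_index (inf_le_right : M ⊓ N⟦T⟧ ≤ _), inf_relIndex_right, ← relIndex_top_right]
  exact Nat.mul_le_mul_left _ (relIndex_le (cj · T) (fun a _ b _ e => mem_norm_iff_cj.mpr (by
    rw [cj_mul, ← e, cj_inv_cj])) (Set.toFinite _) fun a _ => hT.cj a)

theorem aff_le {H : Subgroup G} [N.Normal] (hH : H ⊓ C⟦N⟧ = ⊥) (h0 : N ≠ ⊥) {p : ℕ} (hp : p.Prime) (e : ℕ) :
    ∀ A ≤ N, A.relIndex N ∣ p ^ e → ♯(H ⊓ C⟦A⟧) ≤ (♯N - 1) ^ e := by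
  induction e with
  | zero => exact fun A hA h => by rw [hA.antisymm (relIndex_eq_one.mp (by simpa using h)), hH]; simp
  | succ e ih =>
    intro A hA h
    rcases hA.eq_or_lt with rfl | h1
    · have := one_lt_card h0
      rw [hH, card_bot]
      exact Nat.one_le_pow _ _ (by omega)
    obtain ⟨x, hx, h2⟩ := SetLike.exists_of_lt h1
    have h3 : A ⊔ zpowers x ≤ N := sup_le hA (zpowers_le.mpr hx)
    have h4 := relIndex_mul_relIndex A _ N le_sup_left h3
    have h5 := ih _ h3 (by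
      obtain ⟨i, -, hi⟩ := (Nat.dvd_prime_pow hp).mp ((Dvd.intro _ h4).trans h)
      rw [← h4, hi, pow_succ'] at h
      cases i with
      | zero => exact absurd (relIndex_eq_one.mp hi (mem_sup_right (mem_zpowers x))) h2
      | succ i => exact Nat.dvd_of_mul_dvd_mul_left hp.pos ((Nat.mul_dvd_mul_right (dvd_pow_self p i.succ_ne_zero) _).trans h))
    rw [cent_sup, cent_zpowers, ← inf_assoc, inf_comm] at h5
    rw [← H21.card_inf_mul_relIndex C₁⟦x⟧, pow_succ]
    refine Nat.mul_le_mul h5 ((relIndex_le (fun a => a * x * a⁻¹) (fun a _ b _ e => mem_cent1.mpr ?_)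
      (S := (N : Set G) \ {1}) (Set.toFinite _) fun a _ => ⟨‹N.Normal›.conj_mem x hx a, fun e => h2 ?_⟩).trans_eq ?_)
    · calc _ = a⁻¹ * (b * x * b⁻¹) * b := by group
        _ = _ := by rw [← e]; group
    · rw [conj_eq_one_iff.mp e]; exact one_mem A
    · rw [Set.ncard_diff_singleton_of_mem (one_mem N)]; rfl

end

theorem arith {p d l m : ℕ} (hp : 2 ≤ p) (hd : 1 ≤ d) (h1 : 2 ^ l ≤ m) (h2 : l ≤ cardFactors m)
    (h3 : m ≤ p ^ d * (p ^ d - 1) ^ d) (h4 : m ∣ (p ^ d).factorial) : 3 * l + 4 ≤ 4 * p ^ d := by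
  have h5 : 2 ^ d ≤ p ^ d := Nat.pow_le_pow_left hp d
  by_cases hn : p ^ d < 32
  · have h6 : d < 5 := (Nat.pow_lt_pow_iff_right one_lt_two).mp (h5.trans_lt hn)
    have h7 : p < 32 := (Nat.le_self_pow (by omega) p).trans_lt hn
    by_contra! h8
    have := Nat.one_le_pow d p (by omega)
    have h9 := (Nat.pow_le_pow_right two_pos (show (4 * p ^ d - 4) / 3 + 1 ≤ l by omega)).trans (h1.trans h3)
    obtain ⟨c, hc⟩ := h4
    have h10 := cardFactors_mul (m := m) (n := c) (by rintro rfl; exact Nat.factorial_ne_zero _ (hc.trans (zero_mul c)))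
      (by rintro rfl; exact Nat.factorial_ne_zero _ hc)
    rw [← hc] at h10
    by_cases e : p = 2 ∧ d = 2
    · obtain ⟨rfl, rfl⟩ := e
      simp [cardFactors_apply, Nat.factorial] at h10 h2
      omega
    by_cases e' : p = 2 ∧ d = 3
    · obtain ⟨rfl, rfl⟩ := e'
      have h11 : 15 ≤ c := by
        by_contra! h
        have := Nat.mul_le_mul h3 (Nat.le_of_lt_succ h)
        rw [← hc] at this
        simp [Nat.factorial] at this
      have h12 := cardFactors_pos_iff_one_lt.mpr (show 1 < c by omega)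
      have h13 : cardFactors c ≠ 1 := fun e => by
        have := ((cardFactors_eq_one_iff_prime.mp e).dvd_factorial).mp (Dvd.intro_left _ hc.symm)
        omega
      have : cardFactors (2 ^ 3).factorial = 11 := by simp [cardFactors_apply, Nat.factorial]
      omega
    interval_cases d <;> interval_cases p <;> simp at hn e e' h9
  have h6 : ∀ e, 5 ≤ e → 3 * (e + 1) ^ 2 + 1 ≤ 4 * 2 ^ e := fun e he => by
    induction e, he using Nat.le_induction with
    | base => norm_num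
    | succ e he ih => rw [pow_succ 2]; nlinarith
  generalize p ^ d = n at *
  have h7 := Nat.pow_log_le_self 2 (show n ≠ 0 by omega)
  have h8 := Nat.lt_pow_succ_log_self one_lt_two n
  generalize Nat.log 2 n = e at *
  have h9 : d < e + 1 := (Nat.pow_lt_pow_iff_right one_lt_two).mp (h5.trans_lt h8)
  have h10 := h6 e (Nat.le_of_lt_succ ((Nat.pow_lt_pow_iff_right one_lt_two).mp
    ((show 2 ^ 5 ≤ n by omega).trans_lt h8)))
  have h11 : l < (e + 1) ^ 2 := (Nat.pow_lt_pow_iff_right one_lt_two).mp (by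
    calc _ ≤ n * n ^ d := h1.trans (h3.trans (Nat.mul_le_mul_left _ (Nat.pow_le_pow_left (by omega) _)))
      _ = n ^ (d + 1) := (pow_succ' _ _).symm
      _ ≤ n ^ (e + 1) := Nat.pow_le_pow_right (by omega) h9
      _ < _ := by rw [sq, pow_mul]; exact Nat.pow_lt_pow_left h8 (by omega))
  omega

theorem main (n : ℕ) : ∀ (Ω : Type u) [Finite Ω], Nat.card Ω = n → ∀ (G : Type u) [Group G] [Finite G]
    [MulAction G Ω] [FaithfulSMul G Ω] (l : ℕ), Ch l (⊤ : Subgroup G) → ∀ S : Set Ω,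
      (∀ x ∈ S, ∀ g : G, g • x ∈ S → g • x = x) → 3 * l + 4 * S.ncard ≤ 4 * n := by
  induction n using Nat.strong_induction_on with
  | h n ihn =>
  intro Ω _ hn G _ _
  refine card_induction (P := fun G _ _ => ∀ [MulAction G Ω] [FaithfulSMul G Ω] (l : ℕ), Ch l (⊤ : Subgroup G) →
    ∀ S : Set Ω, (∀ x ∈ S, ∀ g : G, g • x ∈ S → g • x = x) → 3 * l + 4 * S.ncard ≤ 4 * n)
    (fun G _ _ ih _ _ l hl S hS => ?_) G
  have sub : ∀ K : Subgroup G, K ≠ ⊤ → ∀ l, Ch l K → ∀ S : Set Ω, (∀ x ∈ S, ∀ g ∈ K, g • x ∈ S → g • x = x) →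
      3 * l + 4 * S.ncard ≤ 4 * n := fun K hK l hl S hS => by
    obtain ⟨l', e, c⟩ := hl.top
    have := ih K ((card_lt (lt_top_iff_ne_top.mpr hK)).trans_eq card_top) l' c S fun x hx g => hS x hx g g.2
    omega
  have step : ∀ M : Subgroup G, M.index < n → ∃ l1 l2, l ≤ l1 + l2 ∧ Ch l1 M.normalCore ∧ 3 * l2 + 4 ≤ 4 * M.index :=
    fun M hM => by
      obtain ⟨l1, l2, e, c1, c2⟩ := hl.split (toPermHom G (G ⧸ M))
      obtain ⟨l', e', c⟩ := c2.top
      have := ihn _ hM (G ⧸ M) rfl _ l' c {((1 : G) : G ⧸ M)} fun x hx g e => e.trans hx.symm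
      rw [Set.ncard_singleton] at this
      exact ⟨l1, l2, e, by rwa [top_inf_eq, ← normalCore_eq_ker] at c1, by omega⟩
  have core : ∀ M : Subgroup G, ∀ k ∈ M.normalCore, ∀ g : G, g⁻¹ * k * g ∈ M := fun M k hk g => by simpa using hk g⁻¹
  by_cases hG : Subsingleton G
  · have := (Nat.pow_le_pow_iff_right one_lt_two).mp (hl.pow_le.1.trans_eq (card_top.trans (Nat.card_unique.trans (pow_zero 2).symm)))
    have := S.ncard_le_card
    omega
  have hG := not_subsingleton_iff_nontrivial.mp hG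
  obtain ⟨g, hg⟩ := exists_ne (1 : G)
  obtain ⟨a, ha⟩ := exists_smul_ne (X := Ω) hg
  have hH : stabilizer G a ≠ ⊤ := fun e => ha (e.ge (mem_top g))
  have h1 : ∀ b, (S ∩ orbit G b).ncard ≤ 1 := fun b => (Set.ncard_le_one (Set.toFinite _)).mpr (by
    rintro _ ⟨h1, g, rfl⟩ _ ⟨h2, k, rfl⟩
    have := hS _ h1 (k * g⁻¹)
    simp only [mul_smul, inv_smul_smul] at this
    exact (this h2).symm)
  by_cases ht : orbit G a = Set.univ
  swap
  · have h2 := index_stabilizer G a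
    obtain ⟨l1, l2, e, c1, c2⟩ := step (stabilizer G a) (by
      rw [h2, ← hn, ← Set.ncard_univ]
      exact Set.ncard_lt_ncard (Set.ssubset_univ_iff.mpr ht))
    have := sub _ (fun e => hH (eq_top_iff.mpr (e.ge.trans (normalCore_le _)))) l1 c1 (S ∪ orbit G a) fun x hx k hk e => by
      by_cases h : x ∈ orbit G a
      · obtain ⟨g, rfl⟩ := h
        have := core _ k hk g
        rwa [mem_stabilizer_iff, mul_smul, mul_smul, inv_smul_eq_iff] at this
      · exact hS x (hx.resolve_right h) k (e.resolve_right fun e => h (by simpa using mem_orbit_of_mem_orbit k⁻¹ e))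
    have := Set.ncard_union_add_ncard_inter S (orbit G a)
    have := h1 a
    omega
  have : IsPretransitive G Ω := (isPretransitive_iff_orbit_eq_univ a).mpr ht
  have : Nontrivial Ω := ⟨_, _, ha⟩
  have h2 := h1 a
  rw [ht, Set.inter_univ] at h2
  suffices 3 * l + 4 ≤ 4 * n by omega
  have hi : (stabilizer G a).index = n := (index_stabilizer_of_transitive G a).trans hn
  by_cases hco : IsCoatom (stabilizer G a)
  swap
  · obtain ⟨M, h3, h4⟩ : ∃ M, stabilizer G a < M ∧ M ≠ ⊤ := by simpa [IsCoatom, hH] using hco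
    obtain ⟨l1, l2, e, c1, c2⟩ := step M (hi ▸ index_strictAnti h3)
    have h5 : ∀ k ∈ M.normalCore, ∀ c d : G ⧸ M, k • c.out • a = d.out • a → c = d := fun k hk c d e => by
      rw [← c.out_eq', ← d.out_eq', eq_comm, QuotientGroup.eq]
      have h5 : d.out⁻¹ * k * c.out ∈ M := h3.le (by rw [mem_stabilizer_iff, mul_smul, mul_smul, e, inv_smul_smul])
      simpa [mul_assoc] using mul_mem h5 (inv_mem (core M k hk c.out))
    have := sub _ (fun e => h4 (eq_top_iff.mpr (e.ge.trans (normalCore_le _)))) l1 c1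
      (Set.range fun c : G ⧸ M => c.out • a) (by
        rintro _ ⟨c, rfl⟩ k hk ⟨d, e⟩
        rw [← e, h5 k hk c d e.symm])
    rw [Set.ncard_range_of_injective fun c d e => h5 1 (one_mem _) c d (by rwa [one_smul])] at this
    change _ + 4 * M.index ≤ _ at this
    omega
  have := (isCoatom_stabilizer_iff_preprimitive G a).mp hco
  obtain ⟨N, hN⟩ := exists_isMinNormal (G := G)
  have := hN.normal
  have htN := (trans_subgroup_iff N).1 (normal_trans' (X := Ω) N hN.ne_bot)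
  have hiN : (stabilizer G a).relIndex N = n := by
    have h3 : N ⊔ stabilizer G a = ⊤ := (eq_or_eq_top_of_coatom hco le_sup_right).resolve_left fun e => by
      obtain ⟨x, hx, e'⟩ := htN a (g • a)
      exact ha (e'.symm.trans (e.le (mem_sup_left hx)))
    rw [← relIndex_sup_of_norm (.inr le_normalizer_of_normal), h3, relIndex_top_right, hi]
  have hC : stabilizer G a ⊓ C⟦N⟧ = ⊥ := (eq_bot_iff_forall _).mpr fun c hc =>
    eq_one_of_commute_trans htN (fun g hg => (hc.2 g hg).symm) hc.1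
  by_cases hc : IsMulCommutative N
  · obtain ⟨p, hp, h3⟩ := hN.exists_prime_of_isMulCommutative
    have := Fact.mk hp
    obtain ⟨d, hd⟩ := IsPGroup.iff_card.mp (show IsPGroup p N from fun x => ⟨1, Subtype.ext (by simpa using h3 x x.2)⟩)
    have h4 : n = p ^ d := by
      rw [← hiN, ← hd, ← H21.card_inf_mul_relIndex (stabilizer G a) N,
        eq_bot_iff.mpr ((inf_le_inf_left _ (comm_iff_le_cent.mp hc)).trans hC.le), card_bot, one_mul]
    have h5 := aff_le hC hN.ne_bot hp d ⊥ bot_le (by rw [relIndex_bot_left, hd])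
    rw [cent_bot, inf_top_eq, hd] at h5
    rw [h4]
    refine arith hp.two_le ?_ hl.pow_le.1 hl.pow_le.2 ?_ ?_
    · exact Nat.pos_of_ne_zero fun e => hN.ne_bot (eq_bot_of_card (by rw [hd, e, pow_zero]))
    · rw [card_top, ← (stabilizer G a).index_mul_card, hi, h4]
      exact Nat.mul_le_mul_left _ h5
    · rw [card_top, ← h4, ← hn, ← Nat.card_perm]
      exact card_dvd_of_injective (toPermHom G Ω) toPerm_injective
  obtain ⟨T, hT⟩ := exists_fac hN hc
  by_cases e : T = N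
  · subst e
    obtain ⟨l1, l2, e, c1, c2⟩ := hl.split (QuotientGroup.mk' T)
    rw [top_inf_eq, QuotientGroup.ker_mk'] at c1
    obtain ⟨l3, e3, c3⟩ := c2.comap ((QuotientGroup.mk' T).comp (stabilizer G a).subtype) (by
      rintro _ ⟨x, -, rfl⟩
      obtain ⟨k, hk, n, hn, rfl⟩ := hT.dec_stab a x
      exact ⟨⟨k, hk⟩, by simp [(QuotientGroup.eq_one_iff n).mpr hn]⟩)
    rw [map_top_of_surjective _ (QuotientGroup.mk'_surjective T), comap_top] at c3
    have := ih _ ((card_lt hco.lt_top).trans_eq card_top) l3 c3 {a, g • a} (by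
      rintro x (rfl | rfl) k e
      · exact k.2
      · exact e.resolve_left fun e => ha (smul_left_cancel k (e.trans (Eq.symm k.2))))
    rw [Set.ncard_pair ha.symm] at this
    have := c1.fac hT
    omega
  have hL : stabilizer G a ⊓ N ≤ N := inf_le_right
  have hTL : ¬ T ≤ stabilizer G a ⊓ N := fun e => hT.not_le_stab a (e.trans inf_le_left)
  have h3 := relIndex_mul_relIndex _ (T ⊔ stabilizer G a ⊓ N) N le_sup_right (sup_le hT.le hL)
  rw [relIndex_sup_of_norm (.inr (hL.trans hT.norm)), inf_relIndex_right, hiN, ← inf_relIndex_right, inf_assoc,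
    inf_eq_right.mpr hT.le, inf_relIndex_right] at h3
  have h4 := cnt hT _ (sup_le hT.le hL)
  have h5 := new_sub hT hL hTL
  have h6 : {S | Fac N S}.ncard ≤ _ := (Set.ncard_le_ncard (t := insert T ({S | Fac N S ∧ ¬ S ≤ T ⊔ stabilizer G a ⊓ N} ∪
    {S | Fac N S ∧ ¬ S ≤ stabilizer G a ⊓ N ∧ S ≤ T ⊔ stabilizer G a ⊓ N ∧ S ≠ T})) fun S hS => by
      by_cases e : S = T
      · exact .inl e
      · by_cases e' : S ≤ T ⊔ stabilizer G a ⊓ N
        exacts [.inr (.inr ⟨hS, fun e => Fac.not_le_stab hS a (e.trans inf_le_left), e', e⟩), .inr (.inl ⟨hS, e'⟩)]).trans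
      ((Set.ncard_insert_le _ _).trans (Nat.succ_le_succ (Set.ncard_union_le _ _)))
  have hj := relIndex_pos (T ⊔ stabilizer G a ⊓ N) N
  have hcore : ∀ M : Subgroup G, ¬ N ≤ M → M.normalCore ≤ C⟦N⟧ := fun M h => cent_of_disjoint le_normalizer_of_normal
    le_normalizer_of_normal (inf_comm N _ ▸ (hN.inf_eq_bot_or_le _).resolve_right fun e => h (e.trans (normalCore_le M)))
  by_cases hR : stabilizer G a ⊓ T = ⊥
  · obtain ⟨p, hp, hd, h7⟩ : ∃ p, p.Prime ∧ p ∣ ♯T ∧ 3 * {x | x ∈ T ∧ orderOf x = p}.ncard ≤ ♯T := by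
      obtain ⟨p, q, r, hp, hq, hr, h1, h2, h3, h4, h5, h6⟩ := primes3 hT
      by_contra! h
      have d : ∀ {p q : ℕ}, p ≠ q → Disjoint {x | x ∈ T ∧ orderOf x = p} {x | x ∈ T ∧ orderOf x = q} := fun e =>
        Set.disjoint_left.mpr fun x h1 h2 => e (h1.2.symm.trans h2.2)
      have h7 := Set.ncard_le_ncard (s := {x | x ∈ T ∧ orderOf x = p} ∪ {x | x ∈ T ∧ orderOf x = q} ∪
        {x | x ∈ T ∧ orderOf x = r}) (t := T) (by rintro x ((h | h) | h) <;> exact h.1)
      rw [Set.ncard_union_eq (Set.disjoint_union_left.mpr ⟨d h2.symm, d h3.symm⟩), Set.ncard_union_eq (d h1)] at h7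
      have := h p hp h4; have := h q hq h5; have := h r hr h6
      change _ ≤ ♯T at h7
      omega
    obtain ⟨t, ht, ot⟩ := exists_prime_order_mem hp hd
    have h8 := (index_le hT C₁⟦t⟧).trans (Nat.mul_le_mul_right _ (relIndex_le (fun a => a * t * a⁻¹)
      (fun a _ b _ e => mem_cent1.mpr (by
        calc _ = a⁻¹ * (b * t * b⁻¹) * b := by group
          _ = _ := by rw [← e]; group)) (S := {x | x ∈ T ∧ orderOf x = p}) (Set.toFinite _)
        fun a ha => ⟨conj_mem_of_norm ha ht, ((MulAut.conj a).orderOf_eq t).trans ot⟩))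
    have h9 := (Set.ncard_le_one (Set.toFinite _)).mpr h5.1
    rw [← inf_relIndex_right, hR, relIndex_bot_left] at h3
    have h10 := five_le hT
    have h11 : 3 * C₁⟦t⟧.index ≤ 2 * n := by
      calc _ ≤ 3 * {x | x ∈ T ∧ orderOf x = p}.ncard * {S | Fac N S}.ncard := by rw [mul_assoc]; omega
        _ ≤ ♯T * (2 * (T ⊔ stabilizer G a ⊓ N).relIndex N) := Nat.mul_le_mul h7 (by omega)
        _ = _ := by rw [← h3]; ring
    have h12 := Nat.mul_le_mul h10 hj
    obtain ⟨l1, l2, e, c1, c2⟩ := step C₁⟦t⟧ (by omega)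
    have h13 := c1.pow_le.1.trans (card_le (hcore _ fun e => hp.ne_one (by
      rw [← ot, orderOf_eq_one_iff]
      exact hT.inf_cent.le (mem_inf.mpr ⟨ht, le_cent1_iff.mp (hT.le.trans e)⟩))))
    have h14 := relIndex_le (K := C⟦N⟧) (M := ⊥) (· • a) (fun x hx y hy e => hC.le (mem_inf.mpr
      ⟨by rw [mem_stabilizer_iff, mul_smul, ← e, inv_smul_smul], mul_mem (inv_mem hx) hy⟩)) Set.finite_univ
      fun _ _ => trivial
    rw [relIndex_bot_left, Set.ncard_univ, hn] at h14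
    have h15 : ∀ m, 3 ≤ m → 9 * m ≤ 4 * 2 ^ m := fun m hm => by
      induction m, hm using Nat.le_induction with
      | base => norm_num
      | succ m he ih => rw [pow_succ]; omega
    by_cases h16 : 3 ≤ l1
    · have := h15 l1 h16
      omega
    · omega
  have h7 : {S | Fac N S ∧ ¬ S ≤ stabilizer G a ⊓ N ∧ S ≤ T ⊔ stabilizer G a ⊓ N ∧ S ≠ T} = ∅ :=
    Set.eq_empty_of_forall_notMem fun S hS => hR (by
      have h7 := h5.2 S hS.1 hS.2.1 hS.2.2.1 hS.2.2.2
      obtain ⟨k, hk, rfl⟩ := hT.conj_stab hS.1 a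
      rwa [inf_assoc, inf_eq_right.mpr hS.1.le, ← cj_eq_of_mem hk, ← cj_inf, cj_eq_bot] at h7)
  obtain ⟨T', hT', e'⟩ := hT.exists_ne e
  have h8 : 1 < {S | Fac N S}.ncard := (Set.one_lt_ncard (Set.toFinite _)).mpr ⟨T', hT', T, hT, e'⟩
  rw [h7, Set.ncard_empty] at h6
  have h9 : N⟦stabilizer G a ⊓ T⟧.relIndex N⟦T⟧ ≤ (stabilizer G a).relIndex T := by
    have h9 : T ⊔ N⟦stabilizer G a ⊓ T⟧ ⊓ N⟦T⟧ = N⟦T⟧ := le_antisymm (sup_le le_normalizer inf_le_right) fun x hx => by
      obtain ⟨k, hk, n, hn, rfl⟩ := hT.dec_stab a x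
      obtain ⟨t, ht, c, hc, rfl⟩ := hT.dec hn
      have h9 := (mul_mem_cancel_right (hT.norm hn)).mp hx
      exact mul_mem (mem_sup_right (mem_inf.mpr ⟨norm_inf (zpowers_le.mpr (le_normalizer hk)) (zpowers_le.mpr h9)
        (mem_zpowers k), h9⟩)) (mul_mem_sup ht (mem_inf.mpr ⟨cent_le_norm _ (cent_anti inf_le_right hc), cent_le_norm _ hc⟩))
    rw [← inf_relIndex_right]
    nth_rw 2 [← h9]
    rw [relIndex_sup_of_norm (.inr inf_le_right), ← inf_relIndex_right (stabilizer G a)]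
    exact relIndex_le_of_le_left (le_inf le_normalizer (inf_le_right.trans le_normalizer)) (relIndex_ne_zero _ _)
  have h10 := (index_le hT _).trans (Nat.mul_le_mul_right _ h9)
  have h11 := Nat.mul_lt_mul_of_pos_left (show {S | Fac N S}.ncard < (T ⊔ stabilizer G a ⊓ N).relIndex N by omega)
    (relIndex_pos (stabilizer G a) T)
  obtain ⟨l1, l2, e, c1, c2⟩ := step N⟦stabilizer G a ⊓ T⟧ (by omega)
  obtain ⟨x, hx, x1⟩ := exists_ne_one hR
  have h12 := c1.pow_le.1.trans (card_le (hcore _ fun e => hT.not_le_stab a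
    ((hT.min' _ inf_le_right hR e).ge.trans inf_le_left)))
  rw [by_contra fun e => x1 (hT.semi e (hT.le hx.2) hx.1), card_bot] at h12
  have := (Nat.pow_le_pow_iff_right one_lt_two).mp (h12.trans_eq (pow_zero 2).symm)
  omega

/-- If a finite group G acts faithfully on a finite set with n points and r orbits, then the composition length of G is at most 4(n − r)/3. Here the composition length is expressed through chains: the conclusion bounds the length l of every chain of subgroups 1 = H₀ < H₁ < ⋯ < H_l = G in which each term is normal in the next (the longest such chains are exactly the composition series). -/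
theorem result {G Ω : Type*} [Group G] [Finite G] [MulAction G Ω] [FaithfulSMul G Ω] [Fintype Ω]
    (l : ℕ) (H : Fin (l + 1) → Subgroup G) (h0 : H 0 = ⊥) (hl : H (Fin.last l) = ⊤)
    (hchain : ∀ i : Fin l, H i.castSucc < H i.succ ∧ ((H i.castSucc).subgroupOf (H i.succ)).Normal) :
    3 * l ≤ 4 * (Fintype.card Ω - Nat.card (Quotient (MulAction.orbitRel G Ω))) := by
  have h1 : ∀ i : Fin (l + 1), Ch i (H i) := fun i => by
    induction i using Fin.induction with
    | zero => exact h0 ▸ Ch.zero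
    | succ i ih => exact ih.succ (hchain i).1 (NormalIn.of_subgroupOf_normal (hchain i).1.le (hchain i).2).norm
  obtain ⟨l1, l2, e, c1, c2⟩ := (hl ▸ h1 (Fin.last l)).split (toPermHom G Ω)
  obtain ⟨l', e', c⟩ := c2.top
  have h2 := c1.pow_le.1
  rw [top_inf_eq, (MonoidHom.ker_eq_bot_iff _).mpr toPerm_injective, card_bot] at h2
  have := (Nat.pow_le_pow_iff_right one_lt_two).mp (h2.trans_eq (pow_zero 2).symm)
  have h3 := main _ Ω rfl _ l' c (Set.range (Quotient.out : Quotient (orbitRel G Ω) → Ω)) (by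
    rintro _ ⟨x, rfl⟩ ⟨_, g, _, rfl⟩ ⟨y, e1⟩
    rw [← e1, ← x.out_eq, ← y.out_eq, Quotient.sound (s := orbitRel G Ω) ⟨g, e1.symm⟩])
  rw [Set.ncard_range_of_injective Quotient.out_injective, Nat.card_eq_fintype_card (α := Ω)] at h3
  simp only [Fin.val_last] at e
  omega

end Cfsg.Agent.S5722
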