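import Cfsg.Statements.S5727
import Cfsg.Agent.H18.Msc1
-- import your own Cfsg.Agent.* helpers here

set_option autoImplicit false
open Cfsg

namespace Cfsg.Agent.S5727

/-- If a finite group acts faithfully and transitively on a set with m·p elements, where p is a prime and 1 ≤ m ≤ p, then some element of order p fixes no point. -/
theorem result {G Ω : Type*} [Group G] [Finite G] [MulAction G Ω] [FaithfulSMul G Ω] [Fintype Ω] (htr : MulAction.IsPretransitive G Ω)
    (p m : ℕ) (hp : p.Prime) (hm : 1 ≤ m) (hmp : m ≤ p) (hΩ : Fintype.card Ω = m * p) :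
    ∃ g : G, orderOf g = p ∧ ∀ ω : Ω, g • ω ≠ ω := by
  classical
  rw [← Nat.card_eq_fintype_card] at hΩ
  rcases hmp.eq_or_lt with rfl | hmp
  · exact H18.exists_derangement_pow hp one_le_two (hΩ.trans (sq m).symm)
  have := Fact.mk hp
  obtain ⟨P⟩ : Nonempty (Sylow p G) := inferInstance
  have h1 : ∀ ω : Ω, (MulAction.stabilizer P ω).index = p := fun ω => by
    have h2 := H18.pow_dvd_index_stabilizer_sylow P (k := 1) (hΩ ▸ by simp) ω
    obtain ⟨k, h3⟩ := P.isPGroup'.index (MulAction.stabilizer P ω)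
    have h4 : (MulAction.stabilizer P ω).index < p ^ 2 := by
      rw [MulAction.index_stabilizer]
      refine (Set.ncard_le_card _).trans_lt ?_
      rw [hΩ, sq]; exact Nat.mul_lt_mul_of_pos_right hmp hp.pos
    rw [h3] at h2 h4 ⊢
    have := (Nat.pow_lt_pow_iff_right hp.one_lt).mp h4
    have := (Nat.pow_dvd_pow_iff_le_right hp.one_lt).mp h2
    rw [show k = 1 by omega, pow_one]
  have h2 : ∀ ω : Ω, (MulAction.stabilizer P ω).Normal := fun ω => by
    obtain ⟨k, hk⟩ := P.isPGroup'.exists_card_eq
    refine Subgroup.normal_of_index_eq_minFac_card ?_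
    have h3 := Subgroup.index_dvd_card (MulAction.stabilizer P ω)
    rw [h1, hk] at *
    rw [hp.pow_minFac]
    rintro rfl
    exact hp.one_lt.ne' (by simpa using h3)
  obtain ⟨g, hg⟩ : ∃ g : (P : Subgroup G), ∀ ω : Ω, g • ω ≠ ω := by
    by_contra! h3
    have := Fintype.ofFinite P
    have h4 := Finset.card_mul_le_card_mul (s := Finset.univ) (t := Finset.univ) (m := p)
      (n := Nat.card P / p) (fun (g : (P : Subgroup G)) (ω : Ω) => g • ω = ω) (fun g _ => by
        obtain ⟨ω, h4⟩ := h3 g
        refine (h1 ω).ge.trans ?_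
        rw [MulAction.index_stabilizer, ← Set.ncard_coe_finset]
        refine Set.ncard_le_ncard ?_
        rintro _ ⟨x, rfl⟩
        simpa [mul_smul, inv_smul_eq_iff] using (h2 ω).conj_mem' g h4 x) fun ω _ => by
        rw [← (MulAction.stabilizer P ω).card_mul_index, h1, Nat.mul_div_cancel _ hp.pos,
          Nat.card_eq_fintype_card, Fintype.card_subtype]
        exact Finset.card_le_card fun x => by simp
    rw [Finset.card_univ, Finset.card_univ, ← Nat.card_eq_fintype_card, ← Nat.card_eq_fintype_card,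
      hΩ, mul_assoc] at h4
    have := Nat.mul_div_le (Nat.card P) p
    have : 0 < Nat.card P := Nat.card_pos
    nlinarith
  obtain ⟨ω₀⟩ : Nonempty Ω := (Nat.card_pos_iff.mp (hΩ ▸ mul_pos hm hp.pos)).1
  refine ⟨g, orderOf_eq_prime (eq_of_smul_eq_smul (α := Ω) fun ω => ?_) fun h => hg ω₀ ?_, hg⟩
  · have := h2 ω
    simpa [h1, Subgroup.smul_def] using (MulAction.stabilizer P ω).pow_index_mem g
  · rw [Subgroup.smul_def, h, one_smul]

end Cfsg.Agent.S5727
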