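import Cfsg.Statements.S5728
-- import your own Cfsg.Agent.* helpers here

set_option autoImplicit false
open Cfsg

namespace Cfsg.Agent.S5728

/-- An elusive transitive action. Let p = 2^s − 1 be a prime and let F be the field with p² elements. Inside the group of affine maps x ↦ a·x + b of F (a ≠ 0), consider the subgroup of maps with both coefficients in the prime field. Then every element of prime order of the affine group is conjugate, within the affine group, to an element of that subgroup; equivalently, in the transitive action of the affine group on the cosets of that subgroup (of degree p(p + 1)) every element of prime order fixes a point. -/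
theorem result (p s : ℕ) [Fact p.Prime] (hs : p = 2 ^ s - 1)
    (g : Equiv.Perm (GaloisField p 2)) (hg : g ∈ Cfsg.affineGroup (GaloisField p 2)) (hord : (orderOf g).Prime) :
    ∃ x ∈ Cfsg.affineGroup (GaloisField p 2), ∃ a b : ZMod p, a ≠ 0 ∧
      ∀ y : GaloisField p 2, (x * g * x⁻¹) y = algebraMap (ZMod p) (GaloisField p 2) a * y + algebraMap (ZMod p) (GaloisField p 2) b := by
  have hp : p.Prime := Fact.out
  obtain ⟨a, b, h⟩ := hg
  by_cases ha : a = 1
  · have hb : b ≠ 0 := by
      rintro rfl
      rw [show g = 1 from Equiv.ext fun x => by simp [h, ha], orderOf_one] at hord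
      exact Nat.not_prime_one hord
    refine ⟨Equiv.mulLeft₀ b⁻¹ (inv_ne_zero hb), ⟨Units.mk0 _ (inv_ne_zero hb), 0, by simp⟩, 1, 1,
      one_ne_zero, fun y => ?_⟩
    simp [h, ha, Equiv.Perm.inv_def, mul_add, hb]
  have h1 : (a : GaloisField p 2) - 1 ≠ 0 := sub_ne_zero.mpr (by simpa using ha)
  have h2 : ∀ k : ℕ, ∀ x, (g ^ k) (x - b / (a - 1)) = a ^ k * x - b / (a - 1) := fun k => by
    induction k with
    | zero => simp
    | succ k ih => intro x; rw [pow_succ', Equiv.Perm.mul_apply, ih, h]; field_simp; ring
  have h3 : a ^ orderOf g = 1 := Units.ext (by simpa using (h2 (orderOf g) 1).symm)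
  have := Fact.mk hord
  have h4 := orderOf_eq_prime h3 ha
  have h5 : orderOf g ∣ (p - 1) * (p + 1) := by
    have := Fintype.ofFinite (GaloisField p 2)
    classical
    have h5 := orderOf_dvd_card (x := a)
    rw [Fintype.card_units, ← Nat.card_eq_fintype_card, GaloisField.card p 2 two_ne_zero, h4] at h5
    rwa [mul_comm, ← Nat.sq_sub_sq, one_pow]
  have h6 : p + 1 = 2 ^ s := by have := Nat.one_le_two_pow (n := s); omega
  have h7 : orderOf g ∣ p - 1 := by
    refine ((Nat.Prime.dvd_mul hord).mp h5).elim id fun h7 => ?_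
    rw [h6] at h7
    rw [(Nat.prime_dvd_prime_iff_eq hord Nat.prime_two).mp (hord.dvd_of_dvd_pow h7)]
    obtain _ | s := s
    · exact absurd hp.one_lt (by omega)
    · omega
  have h8 : (a : GaloisField p 2) ^ p = a := by
    have := orderOf_dvd_iff_pow_eq_one.mp (h4 ▸ h7 : orderOf a ∣ p - 1)
    rw [← pow_sub_one_mul hp.ne_zero, ← Units.val_pow_eq_pow_val, this]; simp
  obtain ⟨c, hc⟩ : (a : GaloisField p 2) ∈ (algebraMap (ZMod p) (GaloisField p 2)).fieldRange := by
    have := (Subfield.mem_bot_iff_pow_eq_self (GaloisField p 2) p).mpr h8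
    exact bot_le (α := Subfield (GaloisField p 2)) this
  refine ⟨Equiv.addRight (b / (a - 1)), ⟨1, b / (a - 1), by simp⟩, c, 0, by rintro rfl; exact a.ne_zero (by simp [← hc]),
    fun y => ?_⟩
  simpa [hc, Equiv.Perm.inv_def, ← sub_eq_add_neg, eq_sub_iff_add_eq] using h2 1 y

end Cfsg.Agent.S5728
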