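import Cfsg.Statements.S5743
import Cfsg.Agent.H14.Reg

set_option autoImplicit false
open Cfsg

namespace Cfsg.Agent.S5743

/-- The simple group ²E₆(2) (the twisted group of type E₆ over the field with 4 elements) contains at least three pairwise non-conjugate subgroups isomorphic to the Chevalley group F₄(2). -/
theorem result {K : Type*} [Field K] [Fintype K] (hK : Fintype.card K = 4) :
    ∃ H : Fin 3 → Subgroup (Cfsg.Lie.twistedE6 K 2),
      (∀ i, Nonempty ((H i) ≃* Cfsg.Lie.chevF4.group (ZMod 2))) ∧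
      (∀ i j, i ≠ j → ∀ g : (Cfsg.Lie.twistedE6 K 2), (H i).map (MulAut.conj g).toMonoidHom ≠ H j) := by
  classical
  obtain ⟨H, h1, h2⟩ := H14.exists_three_F4 hK
  let e : Kˣ ≃ Fin 3 := Fintype.equivFinOfCardEq (by rw [Fintype.card_units, hK])
  exact ⟨fun i => H (e.symm i), fun i => h1 _, fun i j h g h' => h (e.symm.injective (h2 _ _ g h'))⟩

end Cfsg.Agent.S5743
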