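import Cfsg.Agent.H17.E6
import Cfsg.Agent.S0816
import Cfsg.Statements.S5744
-- import your own Cfsg.Agent.* helpers here

set_option autoImplicit false
open Cfsg

namespace Cfsg.Agent.S5744

/-- The simple group ²E₆(2) (the twisted group of type E₆ over the field with 4 elements) contains at least three pairwise non-conjugate subgroups isomorphic to the orthogonal group Ω₇(3) (the commutator subgroup of the isometry group of x₀² + x₁y₁ + x₂y₂ + x₃y₃ over the field with 3 elements). -/
theorem result {K : Type*} [Field K] [Fintype K] (hK : Fintype.card K = 4) :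
    ∃ H : Fin 3 → Subgroup (Cfsg.Lie.twistedE6 K 2),
      (∀ i, Nonempty ((H i) ≃* Cfsg.Omega (ZMod 3) (Cfsg.quadFormOdd 3 (ZMod 3)))) ∧
      (∀ i j, i ≠ j → ∀ g : (Cfsg.Lie.twistedE6 K 2), (H i).map (MulAut.conj g).toMonoidHom ≠ H j) := by
  obtain ⟨e⟩ := H17.Fi22.isoO7
  have hZ : Subgroup.center (Omega (ZMod 3) (quadFormOdd 3 (ZMod 3))) = ⊥ := eq_bot_iff.2 fun a ha => by
    obtain ⟨d, hd⟩ := H17.center_Ω_scalar (Q := H13.QOdd 3 (ZMod 3)) (H13.nd_QOdd (by decide))
      (H13.good_of_two_ne_zero (by decide)) (by simp) a ha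
    have h1 := congrArg Units.val (Abelianization.commutator_subset_ker
      (Matrix.detMonoidHom.comp (H17.τO (quadFormOdd 3 (ZMod 3)))).toHomUnits a.2)
    rw [MonoidHom.coe_toHomUnits, Units.val_one, MonoidHom.comp_apply, Matrix.coe_detMonoidHom] at h1
    have h2 := (congrArg Matrix.det hd).symm.trans h1
    obtain rfl : d = 1 := (by decide : ∀ d : ZMod 3, d ^ 7 = 1 → d = 1) d (by simpa using h2)
    exact H17.τΩ_inj _ (hd.trans ((one_smul _ _).trans (map_one _).symm))
  have e2 := (QuotientGroup.quotientMulEquivOfEq hZ).trans QuotientGroup.quotientBot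
  have h0 := S0816.result (F := ZMod 3) 3 1 le_rfl (by simp) (by decide) 3 le_rfl
  have : Finite (POmega (ZMod 3) (quadFormOdd 3 (ZMod 3))) := Nat.finite_of_card_ne_zero (by rw [H17.Fi22.card_O7]; norm_num)
  obtain ⟨H, h1, h2⟩ := H17.E6.three hK ((Subgroup.subtype _).comp e.symm.toMonoidHom) (Subtype.val_injective.comp e.symm.injective)
    (fun x h1 h2 => ⟨e ⟨_, H17.mem_wgrp _ ((by decide : ∀ x < 9, x ≠ 0 → [x] ∈ H17.Fi22aT.W) x h1 h2)⟩, by simp⟩) (by
      have := Subgroup.card_eq_card_quotient_mul_card_subgroup (Inn (POmega (ZMod 3) (quadFormOdd 3 (ZMod 3))))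
      rw [h0, ← Nat.card_congr (MonoidHom.ofInjective (f := MulAut.conj) ((injective_iff_map_eq_one _).2 fun a ha => ?_)).toEquiv] at this
      · exact (Nat.eq_of_mul_eq_mul_right Nat.card_pos this).symm
      refine e2.injective ((hZ.le (Subgroup.mem_center_iff.2 fun g => ?_)).trans e2.map_one.symm)
      obtain ⟨g, rfl⟩ := e2.surjective g
      rw [← map_mul, ← map_mul, show a * g = g * a from mul_inv_eq_iff_eq_mul.1 (DFunLike.congr_fun ha g)])
  exact ⟨H, fun i => (h1 i).map (·.trans e2), h2⟩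

end Cfsg.Agent.S5744
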