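import Cfsg.Statements.S5769
import Cfsg.Agent.H15.E7o
import Cfsg.Agent.H13.PG
import Cfsg.Agent.H28.Spec6
import Cfsg.Agent.S2511

set_option autoImplicit false
open Cfsg

namespace Cfsg.Agent.S5769

/-- The Chevalley group of type E₇ over the field with two elements (generated by its root elements in the adjoint representation) has no subgroup isomorphic to any of PSL₂(64), PSp₄(8), PSL₄(8), PSU₄(8) or PSp₆(8). Here F₈ and F₆₄ denote fields with 8 and 64 elements. -/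
theorem result {F₈ F₆₄ : Type*} [Field F₈] [Fintype F₈] (h8 : Fintype.card F₈ = 8) [Field F₆₄] [Fintype F₆₄] (h64 : Fintype.card F₆₄ = 64)
    (H : Subgroup ↥(Cfsg.Lie.chevE7.group (ZMod 2))) :
    IsEmpty (↥H ≃* Matrix.ProjectiveSpecialLinearGroup (Fin 2) F₆₄) ∧ IsEmpty (↥H ≃* Cfsg.PSp 2 F₈) ∧
    IsEmpty (↥H ≃* Matrix.ProjectiveSpecialLinearGroup (Fin 4) F₈) ∧ IsEmpty (↥H ≃* Cfsg.PSU 4 F₆₄ 8) ∧ IsEmpty (↥H ≃* Cfsg.PSp 3 F₈) := by
  have key : ∀ {X : Type _} [Group X], (∃ y : X, 65 ∣ orderOf y) → IsEmpty (H ≃* X) := fun ⟨y, hy⟩ =>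
    ⟨fun e => H15.e7_no65 (e.symm y) (by rwa [Subgroup.orderOf_coe, MulEquiv.orderOf_eq])⟩
  have key' : ∀ {X : Type _} [Group X], (∃ y : X, 65 ∣ orderOf y) → IsEmpty (H ≃* X) := fun ⟨y, hy⟩ =>
    ⟨fun e => H15.e7_no65 (e.symm y) (by rwa [Subgroup.orderOf_coe, MulEquiv.orderOf_eq])⟩
  have c8 : CharP F₈ 2 := charP_of_card_eq_prime_pow (f := 3) h8
  have c64 : CharP F₆₄ 2 := charP_of_card_eq_prime_pow (f := 6) h64
  have sp : ∀ n, 2 ≤ n → ∃ y : Cfsg.PSp n F₈, 65 ∣ orderOf y := fun n hn => by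
    obtain ⟨V, _, _, _, B, h1, h2, t, h3, -, h4⟩ := H28.tor' (p := 2) (a := 3) h8 (d := 2) (N := 65) ⟨two_pos, Or.inr (by rw [h8]; rfl)⟩
    obtain ⟨y, c, h5, h6, -⟩ := H28.sp_sum h1 (H12.sd_spB (l := Fin 0)) (d' := 0) (n := n) h2 (by simp) hn (by omega)
      h3 (b := 1) fun _ _ => rfl
    have : Nontrivial V := Module.nontrivial_of_finrank_pos (R := F₈) (by omega)
    obtain ⟨v, hv⟩ := exists_ne (0 : V)
    obtain rfl : c = 1 := CharTwo.sq_injective (by simpa [sq] using h5)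
    exact ⟨y, (h4 _ v (by simp [h6])).resolve_right hv⟩
  refine ⟨key' ?_, key (sp 2 le_rfl), key ?_, key' ?_, key (sp 3 (by norm_num))⟩
  · obtain ⟨V, _, _, _, t, h2, h3, h4⟩ := H13.lin_tor (F := F₆₄) (d := 2) (m := 65) two_pos (by rw [h64]; norm_num) (by rw [h64]; norm_num)
    obtain ⟨y, c, h5, -⟩ := H13.psl_sum (n := 2) (W := Fin 0 → F₆₄) (b := 1) (by simp [h2]) h3 (by simp)
    exact ⟨y, h4 _ _ h5⟩
  · obtain ⟨V, _, _, _, t, h2, h3, h4⟩ := H13.lin_tor (F := F₈) (d := 4) (m := 65) four_pos (by rw [h8]; norm_num) (by rw [h8]; norm_num)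
    obtain ⟨y, c, h5, -⟩ := H13.psl_sum (n := 4) (W := Fin 0 → F₈) (b := 1) (by simp [h2]) h3 (by simp)
    exact ⟨y, h4 _ _ h5⟩
  · have hF : Fintype.card F₆₄ = 8 ^ 2 := h64
    obtain ⟨V, _, _, _, B, h1, h2, t, h3, h4, h5⟩ := S2511.tor (p := 2) (a := 3) (q := 8) rfl hF (D := 4) (m := 455) four_pos (by norm_num)
    obtain ⟨e⟩ := h1.nonempty_SUG_equiv_SU hF h2
    obtain ⟨Ψ, hΨ, -⟩ := H28.exists_PR_of_equiv h1 (by omega) e
    obtain ⟨g, hg⟩ := H28.exists_en h3 h4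
    obtain ⟨c, hc⟩ := (hΨ.orderOf_dvd_iff g _).1 dvd_rfl
    have h6 := congrArg LinearMap.det hc
    rw [hg, map_pow, h4, one_pow, LinearMap.det_smul, h2, map_one, mul_one] at h6
    obtain rfl : c = 1 := CharTwo.sq_injective (CharTwo.sq_injective (by simpa [← pow_mul] using h6.symm))
    exact ⟨_, (by norm_num : 65 ∣ 455).trans (h5 _ (by rw [← hg, hc, one_smul]))⟩

end Cfsg.Agent.S5769
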