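import Cfsg.Statements.S5847
import Cfsg.Agent.H18.OmEven
-- import your own Cfsg.Agent.* helpers here

set_option autoImplicit false
open Cfsg

namespace Cfsg.Agent.S5847

/-- Every maximal subgroup of Ω_10^+(q) is of one of the listed geometric types or lies in the residual class. Let F be a finite field with q elements (characteristic p), Q a non-degenerate quadratic form on F^10 of plus type (Witt index 5: some totally singular 5-space), Ω the commutator subgroup of its isometry group, and H a maximal subgroup of Ω (inside GL_10(F)). Then H is the intersection with Ω of one of: the stabiliser of a non-zero totally singular subspace of dimension ≠ 4; for q odd, the stabiliser of a non-degenerate subspace of odd dimension ≠ 5; the stabiliser of a non-degenerate 2-space of minus type; for q ≥ 4, the stabiliser of a non-degenerate 2-space of plus type; the stabiliser of a non-degenerate 4-space; for q even, the stabiliser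 of the span of a non-singular vector; for q = p prime with p ≡ 1 mod 4, the stabiliser of a decomposition into 10 pairwise orthogonal, pairwise isometric non-degenerate 1-spaces; for q ≥ 7, the stabiliser of a decomposition into 5 pairwise orthogonal, pairwise isometric non-degenerate 2-spaces; for q ≡ 1 mod 4, the stabiliser of a decomposition into 2 pairwise orthogonal, pairwise isometric non-degenerate 5-spaces; for q ≡ 3 mod 4, the stabiliser of a decomposition into two orthogonal, non-isometric non-degenerate 5-spaces; for q odd, the normaliser of a degree-2 subfield of the matrix algebra, self-adjoint for the polar form; a subfield group (|F| = |F₀|^r, r prime) whose F₀-structure carries a non-zero multiple of Q — or else H lies in the residual class of the orthogonal case (modulo scalars H is almost simple, with absolutely irreducible perfect socle preimage realisable over no proper subfield and fixing no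 non-degenerate unitary form). -/
theorem result {F : Type*} [Field F] [Fintype F] (Q : (Fin 10 → F) → F) (hQ : Cfsg.Geo.IsNondegenerateQuadraticForm Q) (hplus : Cfsg.Geo.IsPlusTypeOn Q ⊤) (H : Subgroup (Matrix.GeneralLinearGroup (Fin 10) F)) (hH : Cfsg.Geo.IsMaximalIn (Cfsg.Geo.omegaGL Q) H) :
    (∃ W : Submodule F (Fin 10 → F), W ≠ ⊥ ∧ Cfsg.Geo.IsTotallySingularQuad Q W ∧ Module.finrank F W ≠ 4 ∧ H = Cfsg.Geo.subspaceStabilizer W ⊓ Cfsg.Geo.omegaGL Q) ∨
    (Odd (Fintype.card F) ∧ ∃ W : Submodule F (Fin 10 → F), W ≠ ⊥ ∧ W ≠ ⊤ ∧ Odd (Module.finrank F W) ∧ 2 * Module.finrank F W ≠ 10 ∧ Cfsg.Geo.IsNondegenerateOn (QuadraticMap.polar Q) W ∧ H = Cfsg.Geo.subspaceStabilizer W ⊓ Cfsg.Geo.omegaGL Q) ∨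
    (∃ W : Submodule F (Fin 10 → F), Module.finrank F W = 2 ∧ Cfsg.Geo.IsNondegenerateOn (QuadraticMap.polar Q) W ∧ ¬ Cfsg.Geo.IsPlusTypeOn Q W ∧ H = Cfsg.Geo.subspaceStabilizer W ⊓ Cfsg.Geo.omegaGL Q) ∨
    (4 ≤ Fintype.card F ∧ ∃ W : Submodule F (Fin 10 → F), Module.finrank F W = 2 ∧ Cfsg.Geo.IsNondegenerateOn (QuadraticMap.polar Q) W ∧ Cfsg.Geo.IsPlusTypeOn Q W ∧ H = Cfsg.Geo.subspaceStabilizer W ⊓ Cfsg.Geo.omegaGL Q) ∨
    (∃ W : Submodule F (Fin 10 → F), Module.finrank F W = 4 ∧ Cfsg.Geo.IsNondegenerateOn (QuadraticMap.polar Q) W ∧ H = Cfsg.Geo.subspaceStabilizer W ⊓ Cfsg.Geo.omegaGL Q) ∨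
    (¬ Odd (Fintype.card F) ∧ ∃ v : (Fin 10 → F), Q v ≠ 0 ∧ H = Cfsg.Geo.subspaceStabilizer (Submodule.span F {v}) ⊓ Cfsg.Geo.omegaGL Q) ∨
    ((∃ p : ℕ, p.Prime ∧ Fintype.card F = p ∧ (p % 4 = 1)) ∧ ∃ D : Fin 10 → Submodule F (Fin 10 → F), Cfsg.Geo.IsOrthogonalMDecomposition Q 1 D ∧ H = Cfsg.Geo.decompositionStabilizer D ⊓ Cfsg.Geo.omegaGL Q) ∨
    (7 ≤ Fintype.card F ∧ ∃ D : Fin 5 → Submodule F (Fin 10 → F), Cfsg.Geo.IsOrthogonalMDecomposition Q 2 D ∧ H = Cfsg.Geo.decompositionStabilizer D ⊓ Cfsg.Geo.omegaGL Q) ∨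
    (Fintype.card F % 4 = 1 ∧ ∃ D : Fin 2 → Submodule F (Fin 10 → F), Cfsg.Geo.IsOrthogonalMDecomposition Q 5 D ∧ H = Cfsg.Geo.decompositionStabilizer D ⊓ Cfsg.Geo.omegaGL Q) ∨
    (Fintype.card F % 4 = 3 ∧ ∃ D : Fin 2 → Submodule F (Fin 10 → F), Cfsg.Geo.IsNondegenerateMDecomposition (QuadraticMap.polar Q) 5 D ∧ ¬ Cfsg.Geo.AreIsometricFor Q (D 0) (D 1) ∧ H = Cfsg.Geo.decompositionStabilizer D ⊓ Cfsg.Geo.omegaGL Q) ∨
    (Odd (Fintype.card F) ∧ ∃ K : Subalgebra F (Matrix (Fin 10) (Fin 10) F), Cfsg.Geo.IsFieldSubalgebra 2 K ∧ Cfsg.Geo.IsSelfAdjointFor (QuadraticMap.polar Q) K ∧ H = Cfsg.Geo.subalgebraNormalizer K ⊓ Cfsg.Geo.omegaGL Q) ∨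
    (∃ (F₀ : Subfield F) (r : ℕ) (P : Matrix.GeneralLinearGroup (Fin 10) F) (ζ : F), r.Prime ∧ Fintype.card F = Nat.card F₀ ^ r ∧ ζ ≠ 0 ∧ Cfsg.Geo.IsQuadFormRationalStructure (fun v : Fin 10 → F => ζ * Q v) F₀ P ∧ H = Cfsg.Geo.subfieldSubgroup F₀ P ⊓ Cfsg.Geo.omegaGL Q) ∨
    Cfsg.Geo.InOrthogonalResidualClass H := by
  have key : ∀ {t m : ℕ} {D : Fin t → Submodule F (Fin 10 → F)}, Odd (Fintype.card F) →
      Cfsg.Geo.IsOrthogonalMDecomposition Q m D → Even t → Fintype.card F % 4 = 1 := fun b1 b2 b3 => by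
    have b4 := (H18.plus_iff_of_even hQ (H18.two_ne_zero_iff_odd.mpr b1) b2 b3 (k := 5) (by simp)).trans
      (H13.sgn_neg_one_pow_eq_one_iff b1 5)
    rw [Nat.pow_mod] at b4
    have : Fintype.card F % 4 = 1 ∨ Fintype.card F % 4 = 3 := by obtain ⟨k, hk⟩ := b1; omega
    exact this.resolve_right fun b5 => absurd (b4.mp hplus) (by rw [b5]; decide)
  have hn : Fintype.card (Fin 10) = 10 := by simp
  have h : H18.EvH Q H := ⟨hQ, by rw [hn]; decide, by omega, by omega, hH⟩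
  rcases h.cases (by omega) with (⟨W, a1, a2, a3, a4⟩ | ⟨a1, W, a2, a3, a4, a5, a6⟩ |
    ⟨W, k, a1, a2, a3, a4, a5, a6⟩ | a1) | (⟨t, m, D, a1, a2, a3, a4, a5, a6, a7, a8, a9⟩ |
    ⟨m, D, a1, a2, a3, a4, a5, a6⟩ | ⟨m, D, a1, a2, a3, a4⟩) | ⟨F₀, r, P, ζ, a1, a2, a3⟩ |
    (⟨r, K, a1, a2, a3, a4, a5, a6, a7⟩ | ⟨K, a1, a2⟩) | ⟨a1, a2, a3⟩ | ⟨a1, a2, a3⟩ | a1
  · exact Or.inl (⟨W, a1, a2, by have := a3 hplus; omega, a4⟩)
  · exact Or.inr (Or.inl (⟨a1, W, a2, a3, a4, by omega, a6⟩))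
  · obtain rfl | rfl : k = 1 ∨ k = 2 := by omega
    · by_cases hp : Cfsg.Geo.IsPlusTypeOn Q W
      · exact Or.inr (Or.inr (Or.inr (Or.inl (⟨a5 rfl hp, W, a2, a6.1, hp, a6.2⟩))))
      · exact Or.inr (Or.inr (Or.inl (⟨W, a2, a6.1, hp, a6.2⟩)))
    · exact Or.inr (Or.inr (Or.inr (Or.inr (Or.inl (⟨W, a2, a6⟩)))))
  · exact Or.inr (Or.inr (Or.inr (Or.inr (Or.inr (Or.inl (a1))))))
  · have : t ≤ 10 := Nat.le_of_dvd (by omega) ⟨m, hn.symm.trans a1⟩
    obtain ⟨rfl, rfl⟩ | ⟨rfl, rfl⟩ | ⟨rfl, rfl⟩ : t = 10 ∧ m = 1 ∨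
      t = 5 ∧ m = 2 ∨ t = 2 ∧ m = 5 := by interval_cases t <;> omega
    · exact Or.inr (Or.inr (Or.inr (Or.inr (Or.inr (Or.inr (Or.inl (⟨⟨_, a3 rfl, rfl, key (a4 odd_one) a8 (by decide)⟩, D, a8, a9⟩)))))))
    · have b1 := H18.plus_iff_of_odd hQ a8 (by decide) (by decide) 0
      exact Or.inr (Or.inr (Or.inr (Or.inr (Or.inr (Or.inr (Or.inr (Or.inl (⟨((a5 rfl).resolve_right fun b => b.2 0 (b1.mp hplus)).1, D, a8, a9⟩))))))))
    · exact Or.inr (Or.inr (Or.inr (Or.inr (Or.inr (Or.inr (Or.inr (Or.inr (Or.inl (⟨key (a4 (by decide)) a8 (by decide), D, a8, a9⟩)))))))))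
  · obtain rfl : m = 5 := by omega
    have h2 := H18.two_ne_zero_iff_odd.mpr a3
    have b1 := mt (H18.isometric_of_dsc hQ h2 (a4.nondegenerate 0) (a4.nondegenerate 1)
      ((a4.decomp.finrank_eq 0).trans (a4.decomp.finrank_eq 1).symm)) a5
    have b2 := H18.plus_iff_disc hQ h2 (k := 5) (by simp)
    rw [H18.disc_decomp hQ h2 a4, Fin.prod_univ_two, show H18.dsc hQ (D 0) * H18.dsc hQ (D 1) = -1 by
      revert b1; generalize H18.dsc hQ (D 0) = x; generalize H18.dsc hQ (D 1) = y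
      revert x y; decide, eq_comm, H13.sgn_neg_one_pow_eq_neg_one_iff a3, Nat.pow_mod] at b2
    have : Fintype.card F % 4 = 1 ∨ Fintype.card F % 4 = 3 := by obtain ⟨k, hk⟩ := a3; omega
    exact Or.inr (Or.inr (Or.inr (Or.inr (Or.inr (Or.inr (Or.inr (Or.inr (Or.inr (Or.inl (⟨this.resolve_left fun b5 => absurd (b2.mp hplus) (by rw [b5]; decide), D, a4, a5, a6⟩))))))))))
  · obtain rfl : m = 5 := by omega
    exact absurd a2 (by decide)
  · exact Or.inr (Or.inr (Or.inr (Or.inr (Or.inr (Or.inr (Or.inr (Or.inr (Or.inr (Or.inr (Or.inr (Or.inl (⟨F₀, r, P, ζ, a1, a3⟩))))))))))))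
  · rw [hn] at a2 a3 a4
    have := Nat.le_of_dvd (by omega) a2
    have := a1.two_le
    obtain rfl : r = 2 := by interval_cases r <;> first | omega | exact absurd a1 (by decide)
    exact Or.inr (Or.inr (Or.inr (Or.inr (Or.inr (Or.inr (Or.inr (Or.inr (Or.inr (Or.inr (Or.inl (⟨by_contra fun b => absurd (a4 b) (by decide), K, a5, a6, a7⟩)))))))))))
  · exact absurd (hn ▸ a1 hplus :) (by decide)
  · omega
  · omega
  · exact Or.inr (Or.inr (Or.inr (Or.inr (Or.inr (Or.inr (Or.inr (Or.inr (Or.inr (Or.inr (Or.inr (Or.inr (a1))))))))))))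

end Cfsg.Agent.S5847
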