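import Cfsg.Agent.S5489
import Cfsg.Agent.S0144
import Cfsg.Statements.S5883

set_option autoImplicit false
open Cfsg

namespace Cfsg.Agent.S5883

open Subgroup Equiv Cfsg.Agent.H17
open Cfsg.Agent.H29 (rev mapW tb ev_rev mapW_eq tb_eq)
open Cfsg.Agent.S5489 (F z W V Y T fixF hV hbr cz hC)
set_option maxRecDepth 100000
set_option Elab.async false

/-- the stabiliser of a bit set -/
def SS {G : Type*} [Group G] (φ : G →* Perm ℕ) (F : ℕ) : Subgroup G where
  carrier := {a | ∀ i, F.testBit (φ a i) = F.testBit i}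
  one_mem' := fun i => by simp
  mul_mem' := fun {a b} ha hb i => by rw [map_mul, Perm.mul_apply, ha, hb]
  inv_mem' := fun {a} ha i => by rw [← ha (φ a⁻¹ i)]; simp

def DS {G : Type*} [Group G] (H : Subgroup G) (k : ℕ) : Subgroup G := (derivedSeries H k).map H.subtype

noncomputable def cm (u v : List ℕ) : List ℕ := app u (app v (app (rev u) (rev v)))
noncomputable def cj (h u : List ℕ) : List ℕ := app h (app u (rev h))

theorem ds0 {G : Type*} [Group G] {H : Subgroup G} {a : G} (ha : a ∈ H) : a ∈ DS H 0 := ⟨⟨a, ha⟩, mem_top _, rfl⟩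
theorem dsc {G : Type*} [Group G] {H : Subgroup G} {k : ℕ} {a x : G} (ha : a ∈ H) (hx : x ∈ DS H k) :
    a * x * a⁻¹ ∈ DS H k := by
  obtain ⟨y, hy, rfl⟩ := hx
  exact ⟨_, (derivedSeries_normal H k).conj_mem y hy ⟨a, ha⟩, rfl⟩
theorem dsm {G : Type*} [Group G] {H : Subgroup G} {k : ℕ} {x y : G} (hx : x ∈ DS H k) (hy : y ∈ DS H k) :
    x * y * x⁻¹ * y⁻¹ ∈ DS H (k + 1) := by
  obtain ⟨x, hx, rfl⟩ := hx
  obtain ⟨y, hy, rfl⟩ := hy
  exact ⟨_, commutator_mem_commutator hx hy, rfl⟩

theorem ne_of_solv {H : Type*} [Group H] (hs : Group.IsSolvable H) {k : ℕ} (hk : derivedSeries H k ≠ ⊥) :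
    derivedSeries H (k + 1) ≠ derivedSeries H k := fun e => by
  obtain ⟨n, hn⟩ := hs.solvable
  have : ∀ j, derivedSeries H (k + j) = derivedSeries H k := fun j => by
    induction j with
    | zero => rfl
    | succ j ih => rw [← add_assoc, derivedSeries_succ, ih, ← derivedSeries_succ, e]
  exact hk (eq_bot_iff.2 (this n ▸ hn ▸ derivedSeries_antitone H (Nat.le_add_left n k)))

noncomputable def σ : List (List ℕ) := [(unp 4 15 (nat_lit 0x843120101021348)),
  (unp 4 49 (nat_lit 0x2312010102132453423876543201010234567832435401010)),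
  (unp 4 93 (nat_lit 0x82981232893843281930482345654328193048253284195364832038457654328193048253184219324859385475)),
  (unp 4 15 (nat_lit 0x384320101023483)),
  (unp 4 17 (nat_lit 0x38543201010234583)),
  (unp 4 19 (nat_lit 0x9384312010102134839)),
  (unp 4 73 (nat_lit 0x102389438564523412389534123876543210123456783214359832143254658349832010)),
  (unp 4 27 (nat_lit 0x756453423120101021324354657)),
  (unp 4 73 (nat_lit 0x3854320101023458323120101021328654231201010213245680101038543201010234583)),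
  (unp 4 76 (nat_lit 0x9423865432010102345683248654231201010213245689892386543201010234568329801010)),
  (unp 4 25 (nat_lit 0x8943865432010102345683498)),
  (unp 4 33 (nat_lit 0x438954238654320101023456832459834)),
  (unp 4 37 (nat_lit 0x4123898342385432010102345832438983214)),
  (unp 4 111 (nat_lit 0x653412389653423876543201010234567832435698321435601010865423120101021324568453423876543201010234567832435401010)),
  (unp 4 191 (nat_lit 0x10238983423865432101234568324365342387654321012345678324356898320121328134328935432819346543281934823284957654328193482532841937654320101023456784534238934238654320101023456832439832435401010)),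
  (unp 4 251 (nat_lit 0x43895423865432010102345683245983423401238934123856345234012389652341238765432101234567832143256983210432543658321439832104321242382643823948352486135284039182345674328132840391823456203512481352840391823454132803918234120391823018453423120101021324354)),
  (unp 4 256 (nat_lit 0x3843201010234834123898342387654320101023456783243854238765432010102345678324598321493854312010102134583542386543201010234568324598391482352843918234567594823284391823456439182345398234318231264534238965423876543201010234567832456983243546843201010234801010)),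
  (unp 4 39 (nat_lit 0x231201010213286542312010102132456801010)),
  (unp 4 57 (nat_lit 0x543892384320101023483298343423865432010102345683243501010)),
  (unp 4 59 (nat_lit 0x43893423865432010102345683243983238654320101023456832401010)),
  (unp 4 78 (nat_lit 0x423865432010102345683249853423876543201010234567832435890101038543201010234583)),
  (unp 4 52 (nat_lit 0x6453423896542387654320101023456783245698324354601010))]
theorem cσ : allL σ (fun w => Nat.beq (B23.T.pullW1 w F) F) = true := by decide +kernel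
noncomputable def Lu : List US := [⟨(unp 4 7 (nat_lit 0x3843201)), .ext 0, [], 0, [], [], 324⟩,
  ⟨(unp 4 7 (nat_lit 0x8431201)), .dif (.nbS 0 true (.ext 0)) (.one [] 0), [], 0, [], [], 27⟩,
  ⟨(unp 4 9 (nat_lit 0x938431201)), .dif (.dif (.nbS 1 true (.nbS 0 true (.ext 0))) (.one [] 0)) (.one [] 1), [], 0, [], [], 18⟩,
  ⟨(unp 4 13 (nat_lit 0x7564534231201)), .dif (.dif (.dif (.nbS 2 true (.nbS 1 true (.nbS 0 true (.ext 0)))) (.one [] 0)) (.one [] 1)) (.one [] 2), [], 0, [], [], 9⟩,
  ⟨(unp 4 8 (nat_lit 0x38543201)), .dif (.nbS 2 false (.nbS 3 false (.ext 0))) (.fixS [0, 1, 2, 3] (.ext 0)), [], 0, [], [], 256⟩,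
  ⟨(unp 4 38 (nat_lit 0x1238954387564523412389523412387654321)), .fixS [0, 2, 3, 0, 1, 3] (.ext 0), [], 0, [], [(.com [0, 1, 2, 3, 4, 0, 1] 5 5, [(unp 4 40 (nat_lit 0x123895423856345234123896523412387654321)), (unp 4 42 (nat_lit 0x12389534238563452341238986523412387654321)), (unp 4 44 (nat_lit 0x53401238983423856345234123896523412387654321)), (unp 4 40 (nat_lit 0x123894123875645234012389653412387654321)), (unp 4 44 (nat_lit 0x53401238934238456345234123896523412387654321)), (unp 4 40 (nat_lit 0x4012389654123856452341238953412387654321)), (unp 4 38 (nat_lit 0x1238965438564523412389453412387654321)), (unp 4 38 (nat_lit 0x1238954384563452341238953412387654321)), (unp 4 40 (nat_lit 0x5401238954238564523412389653412387654321))])], 3⟩]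
theorem cU : B23.upB [] [F] [] Lu [] = true := by decide +kernel
noncomputable def Ll : List LS := [⟨(unp 4 7 (nat_lit 0x3843201)), [[nat_lit 0], [nat_lit 3], [nat_lit 4], [nat_lit 5], [nat_lit 6]], 0, (unp 23 323 (nat_lit 0x4d48089a900108601272c0022c4083e58191c6020f4a041f28003d28087a5000f82063b1c008c601118c001d8c02463c004558107c4012328044c44009a40093a100e67c0802100476e81055f000a56043b74001c30083860003160414ac002b2808ede00050a064628081a6800a0e01141c0006c808060018db9020d7e041afc0414280828500e50a0826c0084d800055a011c10001c08080d00181f40202420404ac0409080812b0002ee0637d0000bb81027300072e020e5c002ed81028d010728040e50002f100894800e4da09dd1c03b7d80f6fb00f02205e1dc03a0d00f41a00ef3c05cffc03bf880f7f100ec1c05dbd007ada80f5b500e55005caa003bcf80f7f200e7f805d838039fe00f3fc000738084f78084eb00856b0113ac002450080bd018eca0204de0409bc040bc80826f000066060bcc0044d0093eb0001c0040064000d181089b0101ce04039c0401980803300e48a09d1e803a7680f67800eabe05d58807a9e80f53d00ea6005d1c803ac980f59300e9d005d80007a7a00f4f400e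86a05d0d4079bc00f37800e8ea05d1d403a7400f4e800e62a07cfbc0398e00f98e00f1d605ce440399f00f9a800f31e05ce680799080f32100e80c05d018079a180f34300edda05dbb403d6680fb3000e73e05ce7c03b9e00f99400e55e07dc04079f880f3f100ef2205d0100794e00f40400edc805d7800397b80f2f700f5be05dbc80799d00f6f200ea9c05d5380799380f32700ebc205e1fc07af080f5e100e51007cd480393800f27000eae005df1c0398a80f31500e89605d5c003a0e80f41d00e4da05d1380398800f31000e50405ca0803a2580f7af00e96c05e2a007a5b00f8a800e44e07d26c079f500f3ea00ef5a05cd1c0393c80f3e700eb1805dde80795780f2af00e90605d2a007a4180f4a800e60405dbac03a2e80f45d00e76c05d6a407ac600f5a900e50a07d22007a1e00f48800eb6005dbbc03c1a80f85600e91e05d56003b6b00f6d600f62805d56407a0c00f55900edb205e22407c1900f83200e72605db64079c980f39300e48a07d8d8039cc00f39800edcc05d43c03b3100f66200eb3a05d3dc0795580f2ab00eb0605d60c07a8900f51200ea0a05d690079b380f36700e9ec05d3d803b9c80f91500e46407ca2003da380fb4700ea1205ca1403a8480f73600ed6405db7803daf80fb5f00e56405d7640795900f5d900e59c05dd4803dc480fb9600e46405cd600796700f358000a0408159c08281010533000ace023b880034a818695020d2a00370406e7b800dcd02)),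 324⟩,
  ⟨(unp 4 7 (nat_lit 0x8431201)), [[nat_lit 0], [nat_lit 7], [nat_lit 8], [nat_lit 9]], 0, (unp 23 26 (nat_lit 0x1a50110830103640423700c79200070203018004157c0c76380017a030ab60415740448a0100e0032376040e70043e581001903003200157c084e18008b1031bec0437e0040d0010dce03)), 27⟩,
  ⟨(unp 4 9 (nat_lit 0x938431201)), [[nat_lit 5], [nat_lit 10], [nat_lit 7], [nat_lit 8]], 0, (unp 23 17 (nat_lit 0x10830203640646ec080bd0180c0031162000300040d900017a0112280015740c2ad810702031bf00406800c381000dd001)), 18⟩,
  ⟨(unp 4 13 (nat_lit 0x7564534231201)), [[nat_lit 7], [nat_lit 11], [nat_lit 12]], 0, (unp 23 8 (nat_lit 0x23760037d8046fc00034a01069400156c082ae80680101)), 9⟩,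
  ⟨(unp 4 8 (nat_lit 0x38543201)), [[nat_lit 13], [nat_lit 14], [nat_lit 15]], 0, (unp 23 255 (nat_lit 0x6840034a8081a300050a020e50001428002f3000e0a003b7800095808177000a660373dc009d580118f000a66004650002ad008a0b000d2a004218008c6000ee20001ce0205e40029580894800b9ea004fac002ad00052b00e51005ca7003c8a8073ef00eae001c8c803d9400f22700e8ea01ca6403c540077c700f59a03cc9c03a890072b200e73401d64c03b7d80f24500e7e201caac039c980753000e73e03d56403d5f00739f00e67401cd9c03a5400f75200ef0601dbec03ba080758c00e87803e8ac039f500753100efe201eaec039a500f5b000e95001e1fc03b3100753d00e76c03ed7403aaf8074bc00f6e801dca00395400facd00e76c01caa003dcb00750900e6f003ed8803c0a00785b00f65001e86c039b300fb1b00e9e801cf9c03daf80754b00e55e03eddc03a828072af00f65601d12c039b880f89c00f5be01e8e8039b8807b4700e59c03e2a40396700767800ef2801d3d8039a180f60e00f0e001cd0c03ada80743c00062c05cffc03a5b00798c00f17201d61403d7c80fa2300ee0e01dc6c03a0200773900f5a403d03c039428078b800edda01d6a403a4400f40600ede801d22003c44807a2600e9ee03dc0403a7b8076d900f0de01d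ee003a8780f27000f5c001d67403b70807b3500e83403dcf003d8000773800eef401ec500398a80f41a00e93601d3a003c088079cc00e51003d78403c8800756200e51001dbbc03a5c80f27900f72e01dca803b73007ba300e83a03e05403d7c80750f00ebfe01ed80039ac00f74700f66001deb403b09807b8900e63803cc7003a0e80735800e9da01e2080399080f58300ebb201cc8403b8f0074b900e7f803cff003a1a807ad200ef3c01e2200394100f6f200eb4801e26c03a0c007282000066043b28002b2808967000d7e000c58004d80005650002420209cc00281008502002622004718006e0801352000bc40209bc000c58085e2001b720022680070400018b0003e80237cc002b38087c1000ace004e84003d28006c100)), 256⟩,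
  ⟨(unp 4 38 (nat_lit 0x1238954387564523412389523412387654321)), [[nat_lit 16]], 0, [nat_lit 7546624, nat_lit 7690496], 3⟩]
theorem cL : B23.lowC σ [] Ll [] = true := by decide +kernel
theorem cZ : B23.finZ [] (usNodes Lu []) Y [] [([], 5), ((unp 4 6 (nat_lit 0x120154)), 0), ((unp 4 5 (nat_lit 0x51341)), 2), ([], 3), ((unp 4 6 (nat_lit 0x120135)), 0), ((unp 4 4 (nat_lit 0x1541)), 2), ([], 1), ((unp 4 5 (nat_lit 0x20513)), 0), ((unp 4 4 (nat_lit 0x3541)), 2), ([nat_lit 1, nat_lit 5, nat_lit 3], 2), ([nat_lit 4], 1), ((unp 4 4 (nat_lit 0x315)), 0), ([nat_lit 5, nat_lit 1, nat_lit 5], 0), ((unp 4 7 (nat_lit 0x1541315)), 0), ((unp 4 5 (nat_lit 0x13154)), 0)] = true := by decide +kernel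
noncomputable def b1 : List ℕ := (unp 4 7 (nat_lit 0x3843201))
noncomputable def γ : List (List ℕ) := substL σ [[nat_lit 0], [nat_lit 1], [nat_lit 2]]
theorem cR : subB (ones B23.T.n) (B23.fl γ 9 [] (B23.bits [b1, [], [1, 0]])) = true := by decide +kernel
theorem cF : subB F (B23.fl (substL σ [[nat_lit 0], [nat_lit 3], [nat_lit 4], [nat_lit 5], [nat_lit 6]]) 0 (unp 23 323 (nat_lit 0x4d48089a900108601272c0022c4083e58191c6020f4a041f28003d28087a5000f82063b1c008c601118c001d8c02463c004558107c4012328044c44009a40093a100e67c0802100476e81055f000a56043b74001c30083860003160414ac002b2808ede00050a064628081a6800a0e01141c0006c808060018db9020d7e041afc0414280828500e50a0826c0084d800055a011c10001c08080d00181f40202420404ac0409080812b0002ee0637d0000bb81027300072e020e5c002ed81028d010728040e50002f100894800e4da09dd1c03b7d80f6fb00f02205e1dc03a0d00f41a00ef3c05cffc03bf880f7f100ec1c05dbd007ada80f5b500e55005caa003bcf80f7f200e7f805d838039fe00f3fc000738084f78084eb00856b0113ac002450080bd018eca0204de0409bc040bc80826f000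066060bcc0044d0093eb0001c0040064000d181089b0101ce04039c0401980803300e48a09d1e803a7680f67800eabe05d58807a9e80f53d00ea6005d1c803ac980f59300e9d005d80007a7a00f4f400e86a05d0d4079bc00f37800e8ea05d1d403a7400f4e800e62a07cfbc0398e00f98e00f1d605ce440399f00f9a800f31e05ce680799080f32100e80c05d018079a180f34300edda05dbb403d6680fb3000e73e05ce7c03b9e00f99400e55e07dc04079f880f3f100ef2205d0100794e00f40400edc805d7800397b80f2f700f5be05dbc80799d00f6f200ea9c05d5380799380f32700ebc205e1fc07af080f5e100e51007cd480393800f27000eae005df1c0398a80f31500e89605d5c003a0e80f41d00e4da05d1380398800f31000e50405ca0803a2580f7af00e96c05e2a007a5b00f8a800e44e07d26c079f500f3ea00ef5a05cd1c0393c80f3e700eb1805dde80795780f2af00e90605d2a007a4180f4a800e60405dbac03a2e80f45d00e76c05d6a407ac600f5a900e50a07d22007a1e00f48800eb6005dbbc03c1a80f85600e91e05d56003b6b00f6d600f62805d56407a0c00f55900edb205e22407c1900f83200e72605db64079c980f39300e48a07d8d8039cc00f39800edcc05d43c03b3100f66200eb3a05d3dc0795580f2ab00eb0605d60c07a8900f51200ea0a05d690079b380f36700e9ec05d3d803b9c80f91500e46407ca2003da380fb4700ea1205ca1403a8480f73600ed6405db7803daf80fb5f00e56405d7640795900f5d900e59c05dd4803dc480fb9600e46405cd600796700f358000a0408159c08281010533000ace023b880034a818695020d2a00370406e7b800dcd02))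 (B23.bits [b1])) = true := by decide +kernel
theorem c2 : Nat.beq (B23.ap (substW (B23.tw [] :: γ) (unp 4 9 (nat_lit 0x303023032))) (B23.pt b1)) (B23.pt [1, 0]) = true := by decide +kernel
theorem c3 : Nat.beq (B23.ap (substW (B23.tw [1, 0] :: γ) (unp 4 11 (nat_lit 0x3330103310))) (B23.pt b1)) (B23.pt []) = true := by decide +kernel
noncomputable def s (i : ℕ) : List ℕ := nth [] σ i
noncomputable def a2 : List ℕ := cm (cm (s 17) (s 18)) (cm (s 17) (s 2))
noncomputable def u3 : List ℕ := (unp 4 20 (nat_lit 0x54389853423876543201))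
theorem e3 : strict (cm a2 (cj (s 19) a2)) (fun w => B23.eqB w (B23.tw u3)) = true := by decide +kernel
noncomputable def a5 : List ℕ := cm (cm (B23.tw (unp 4 7 (nat_lit 0x3843201))) (B23.tw (unp 4 8 (nat_lit 0x85431201)))) (cm (B23.tw (unp 4 7 (nat_lit 0x8431201))) (B23.tw (unp 4 37 (nat_lit 0x123895438756452341238953412387654321))))
noncomputable def a6 : List ℕ := app (B23.tw (unp 4 7 (nat_lit 0x3843201))) (B23.tw (unp 4 7 (nat_lit 0x8431201)))
theorem e6 : strict (cm a5 (cj (s 0) a5)) (fun w => B23.eqB w a6) = true := by decide +kernel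
noncomputable def a7 : List ℕ := cm a6 (cj (s 20) a6)
noncomputable def a8 : List ℕ := cm a7 (cj (s 4) a7)
theorem e9 : B23.neB (cm a8 (cj (s 21) a8)) [] 9 = true := by decide +kernel

section
variable {G : Type*} [Group G] {D : Set G} {g : ℕ → G} {φ : G →* Perm ℕ} {β : ℕ → G}
  (h : FM B23 4089470473293004800 D g φ β)
include h

theorem hσ : ∀ w ∈ σ, ev g w ∈ SS φ F := fun w hw i => by
  have := TD.testBit_pullW1 h.good.good.toShape i w F
  rw [beq_true (allL_true cσ w hw)] at this
  rw [h.rep.map_ev, ← this]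
theorem hs (i : ℕ) : ev g (s i) ∈ SS φ F := nth_prop (P := fun w => ev g w ∈ SS φ F) (d := []) (one_mem _) (hσ h) i
theorem hw : wgrp g σ ≤ SS φ F := wgrp_le (hσ h)
omit h in
theorem hΩ : ∀ S ∈ [F], InvS B23 φ (SS φ F) S := fun S hS a ha i _ e => by
  rw [List.mem_singleton.1 hS] at e ⊢; rw [ha, e]
theorem memF {i : ℕ} (hi : F.testBit i = true) : β i ∈ SS φ F := fun j => by
  by_cases hj : j < B23.T.n
  · exact h.inv_iff (h.inv_norm (fixF h)) (centralizer_le_normalizer _ (mem_cent_wgrp.2 ((fixF h i).1 hi).2)) hj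
  · rw [h.rep.fix _ (not_lt.1 hj)]

theorem last : Nat.card (St B23 g φ (SS φ F) [] (usNodes Lu [])) ≤ 3 := by
  have := h.fin
  refine le_trans (card_le_of_le fun a ha => ?_) (hC h)
  have hc := cZ
  rw [FD.finZ, band_true] at hc
  have := h.tup_map (a := a) [] [] (List.forall₂_same.2 fun x hx => H29.commute_iff_cj.1 (h.sy_comm ha x hx))
    (fun j hj => FM.node_fix ha hj) _ hc.1
  rw [eq_of_weq hc.2] at this
  have e := FM.fix_of_map this
  have hW : a ∈ centralizer (wgrp g W : Set G) := mem_cent_wgrp.2 fun x hx => by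
    rw [W, mapW_eq] at hx
    obtain ⟨u, hu, rfl⟩ := List.mem_map.1 hx
    rw [h.ev_tw]
    exact ((h.comm_iff a (h.pt_lt u)).2 (by simpa using e _ (FD.pts_eq Y ▸ List.mem_map_of_mem hu))).symm
  have hV' : wgrp g V ≤ wgrp g W := wgrp_le mem_subst
  refine centralizer_le (wgrp_le (List.forall_mem_cons.2 ⟨hV' ?_, fun w hw => hV' (mem_wgrp g hw)⟩)) hW
  rw [← hbr h _ _ cz, ← hV h]
  exact mem_wgrp _ (by simp [T])

theorem solv : Group.IsSolvable (SS φ F) := by
  have := h.fin
  have h1 := h.upK ((wgrp_nil g).le.trans bot_le) hΩ cU (n := 1088391168) (by decide) le_rfl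
  have h2 := h.lowR (hw h) Ll cL
  rw [show lsNodes Ll [] = usNodes Lu [] from rfl, show lsProd Ll = 1088391168 by decide] at h2
  have h3 := le_antisymm h1 h2
  rw [St_nil] at h3
  have h4 := last h
  have h5 : 0 < Nat.card (St B23 g φ (SS φ F) [] (usNodes Lu [])) := Nat.card_pos
  generalize Nat.card (St B23 g φ (SS φ F) [] (usNodes Lu [])) = k at h3 h4 h5
  interval_cases k
  · exact S0144.result 2 3 11 12 Nat.prime_two Nat.prime_three h3
  · exact S0144.result 2 3 12 12 Nat.prime_two Nat.prime_three h3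
  · exact S0144.result 2 3 11 13 Nat.prime_two Nat.prime_three h3

theorem ev_cm (u v : List ℕ) : ev g (cm u v) = ev g u * ev g v * (ev g u)⁻¹ * (ev g v)⁻¹ := by
  simp only [cm, app_eq, ev_append, ev_rev h.sq, mul_assoc]
theorem ev_cj (u v : List ℕ) : ev g (cj u v) = ev g u * ev g v * (ev g u)⁻¹ := by
  simp only [cj, app_eq, ev_append, ev_rev h.sq, mul_assoc]
theorem dm {H : Subgroup G} {k : ℕ} {u v : List ℕ} (hu : ev g u ∈ DS H k) (hv : ev g v ∈ DS H k) :
    ev g (cm u v) ∈ DS H (k + 1) := ev_cm h u v ▸ dsm hu hv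
theorem dn {k : ℕ} {u : List ℕ} (i : ℕ) (hu : ev g u ∈ DS (SS φ F) k) :
    ev g (cm u (cj (s i) u)) ∈ DS (SS φ F) (k + 1) := dm h hu (ev_cj h _ u ▸ dsc (hs h i) hu)

theorem d3 (u : List ℕ) (hu : tb F (B23.pt u) = true) : ev g (B23.tw u) ∈ DS (SS φ F) 3 := by
  have hR := h.reach (H := SS φ F) (fun w hw' => hw h (mem_subst w hw')) cF
  have h3 : ev g (B23.tw u3) ∈ DS (SS φ F) 3 := h.eqB ((strict_eq _ fun w => B23.eqB w _).symm.trans e3) ▸
    dn h _ (dm h (dm h (ds0 (hs h _)) (ds0 (hs h _))) (dm h (ds0 (hs h _)) (ds0 (hs h _))))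
  obtain ⟨-, v, hv, a, ha, e⟩ := hR _ (tb_eq _ _ ▸ hu)
  obtain ⟨-, v', hv', b, hb, e'⟩ := hR (B23.pt u3) (tb_eq _ _ ▸ (by decide +kernel : tb F (B23.pt u3) = true))
  rw [List.mem_singleton.1 hv] at e
  rw [List.mem_singleton.1 hv'] at e'
  have := dsc (mul_mem ha (inv_mem hb)) h3
  rwa [h.ev_tw, h.act _ _ (h.pt_lt _), ← e', ← Perm.mul_apply, ← map_mul, inv_mul_cancel_right, e, ← h.ev_tw] at this

theorem d9 : derivedSeries (SS φ F) 9 ≠ ⊥ := fun e => by
  have h6 : ev g a6 ∈ DS (SS φ F) 6 := h.eqB ((strict_eq _ fun w => B23.eqB w _).symm.trans e6) ▸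
    dn h _ (dm h (dm h (d3 h _ (by decide +kernel)) (d3 h _ (by decide +kernel)))
      (dm h (d3 h _ (by decide +kernel)) (d3 h _ (by decide +kernel))))
  have h9 := dn h 21 (dn h 4 (dn h 20 h6))
  rw [DS, e, Subgroup.map_bot] at h9
  exact h.neB e9 h9

theorem coatom (hD : closure D = ⊤) : IsCoatom (SS φ F) := by
  have hb1 : F.testBit (B23.pt b1) = true := tb_eq _ _ ▸ (by decide +kernel : tb F (B23.pt b1) = true)
  refine ⟨fun e => ?_, fun M hM => ?_⟩
  · have := (e ▸ mem_top (ev g [0])⁻¹ : _ ∈ SS φ F) (B23.pt b1)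
    rw [hb1, ← h.ap _ (h.pt_lt _), ← tb_eq] at this
    exact absurd this (by decide +kernel)
  have key : ∀ a ∈ M, ∀ i, i < B23.T.n → β i ∈ M → β (φ a i) ∈ M := fun a ha i hi hb =>
    h.act a i hi ▸ mul_mem (mul_mem ha hb) (inv_mem ha)
  have hγ : ∀ w ∈ γ, ev g w ∈ SS φ F := fun w hw' => hw h (mem_subst w hw')
  have hR := h.reach hγ cR
  have m1 : β (B23.pt b1) ∈ M := hM.le (memF h hb1)
  have st : ∀ u v c : List ℕ, Nat.beq (B23.ap (substW (B23.tw u :: γ) c) (B23.pt b1)) (B23.pt v) = true →
      β (B23.pt u) ∈ M → β (B23.pt v) ∈ M := fun u v c hc hu => by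
    rw [← beq_true hc, h.ap _ (h.pt_lt _)]
    refine key _ (inv_mem ?_) _ (h.pt_lt _) m1
    rw [← ev_sub]
    exact wgrp_le (List.forall_mem_cons.2 ⟨h.ev_tw u ▸ hu, fun w hw' => hM.le (hγ w hw')⟩)
      (wgrp_sub_le _ g [c] (mem_wgrp _ (List.mem_singleton_self c)))
  obtain ⟨m, hm, hm'⟩ := SetLike.exists_of_lt hM
  have : ∃ j, j < B23.T.n ∧ F.testBit j = false ∧ β j ∈ M := by
    by_contra H
    push Not at H
    have hI : InvS B23 φ M F := fun a ha i hi e => by
      by_contra e'
      exact H _ (h.lt a hi) (by simpa using e') (key a ha i hi (hM.le (memF h e)))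
    refine hm' fun i => ?_
    by_cases hi : i < B23.T.n
    · exact h.inv_iff hI hm hi
    · rw [h.rep.fix _ (not_lt.1 hi)]
  obtain ⟨j, hj, hjF, hjM⟩ := this
  have m23 : β (B23.pt []) ∈ M ∧ β (B23.pt [1, 0]) ∈ M := by
    obtain ⟨-, u, hu, a, ha, e⟩ := hR j (by simp [testBit_ones, hj])
    have hu' : β (B23.pt u) ∈ M := by
      have := key _ (inv_mem (hM.le ha)) j hj hjM
      rw [← e] at this; simpa using this
    simp only [List.mem_cons, List.not_mem_nil, or_false] at hu
    rcases hu with rfl | rfl | rfl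
    · rw [← e, ha, hb1] at hjF; cases hjF
    · exact ⟨hu', st _ _ _ c2 hu'⟩
    · exact ⟨st _ _ _ c3 hu', hu'⟩
  rw [eq_top_iff, ← hD, closure_le]
  intro d hd
  obtain ⟨i, hi, rfl⟩ := (h.img d).1 hd
  obtain ⟨-, u, hu, a, ha, rfl⟩ := hR i (by simp [testBit_ones, hi])
  refine key a (hM.le ha) _ (h.pt_lt u) ?_
  simp only [List.mem_cons, List.not_mem_nil, or_false] at hu
  rcases hu with rfl | rfl | rfl
  exacts [m1, m23.1, m23.2]
end

/-- The constant 10 in the statement that H⁽¹⁰⁾ is perfect for every maximal subgroup H of a finite almost simple group cannot be lowered to 9: there exist a finite almost simple group G (with a non-abelian simple normal subgroup of trivial centralizer) and a maximal subgroup H of G whose ninth derived subgroup H⁽⁹⁾ is not perfect, i.e. H⁽¹⁰⁾ ≠ H⁽⁹⁾. (A solvable maximal subgroup of derived length 10 in the Fischer group Fi₂₃ is such an example.) -/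
theorem result :
    ∃ (G : Type) (_ : Group G) (_ : Finite G) (S H : Subgroup G), S.Normal ∧ IsSimpleGroup S ∧ ¬ IsMulCommutative S ∧
      Subgroup.centralizer (S : Set G) = ⊥ ∧ IsCoatom H ∧ derivedSeries H 10 ≠ derivedSeries H 9 := by
  obtain ⟨β, h⟩ := model23'
  have := Fi23.simple
  have hne : ev Fi23.g [0, 1] ≠ ev Fi23.g [1, 0] := h.neB (i := 26627) (by decide +kernel)
  have hnc : Fi23.g 0 * Fi23.g 1 ≠ Fi23.g 1 * Fi23.g 0 := by simpa using hne
  have hD : closure (conjugatesOf (Fi23.g 0)) = ⊤ := by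
    have e : closure (conjugatesOf (Fi23.g 0)) = normalClosure {Fi23.g 0} := by
      rw [normalClosure]; congr 1; ext; simp [Group.conjugatesOfSet]
    rw [e]
    refine (normalClosure_normal.eq_bot_or_eq_top).resolve_left fun e => hnc ?_
    have : Fi23.g 0 ∈ normalClosure {Fi23.g 0} := subset_normalClosure (Set.mem_singleton _)
    rw [e] at this
    rw [mem_bot.1 this, one_mul, mul_one]
  refine ⟨_, inferInstance, h.fin, ⊤, SS Fi23T.φ F, inferInstance, topEquiv.isSimpleGroup, fun e => hnc ?_, ?_,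
    coatom h hD, ne_of_solv (solv h) (d9 h)⟩
  · exact congrArg Subtype.val (e.is_comm.comm (⟨_, mem_top _⟩ : (⊤ : Subgroup Spor.Fi23)) ⟨_, mem_top _⟩)
  · rw [coe_top, centralizer_univ]
    refine (Subgroup.Normal.eq_bot_or_eq_top inferInstance).resolve_right fun e => hnc ?_
    exact (mem_center_iff.1 (e ▸ mem_top _) _)

end Cfsg.Agent.S5883
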