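import Cfsg.Statements.S5891
import Cfsg.Agent.H12.PMe
import Cfsg.Agent.H18.SpCase

set_option autoImplicit false
open Cfsg

namespace Cfsg.Agent.S5891

/-- Let F be a finite field of odd order q > 3 and characteristic p, and let M be a maximal subgroup of PGL₂(F) not containing the image L of SL₂(F) (a copy of PSL₂(F) of index 2). Then one of the following holds: |M| = q(q − 1) (M is the stabiliser of a point of the projective line); q ≠ 5 and M is dihedral of order 2(q − 1); M is dihedral of order 2(q + 1); q = p ≡ ±3 (mod 8) and M ≅ S₄; or q = q₀^r for an odd prime r and M ≅ PGL₂(F₀) with |F₀| = q₀. -/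
theorem result {F : Type*} [Field F] [Fintype F]
    (hodd : Odd (Fintype.card F)) (h3 : 3 < Fintype.card F) (M : Subgroup (Matrix.ProjGenLinGroup (Fin 2) F)) (hM : IsCoatom M)
    (hML : ¬ (Matrix.ProjGenLinGroup.mk.comp Matrix.SpecialLinearGroup.toGL).range ≤ M) :
    Nat.card M = Fintype.card F * (Fintype.card F - 1) ∨
    (Fintype.card F ≠ 5 ∧ Nonempty (M ≃* DihedralGroup (Fintype.card F - 1))) ∨
    Nonempty (M ≃* DihedralGroup (Fintype.card F + 1)) ∨
    ((Fintype.card F).Prime ∧ (Fintype.card F % 8 = 3 ∨ Fintype.card F % 8 = 5) ∧ Nonempty (M ≃* Equiv.Perm (Fin 4))) ∨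
    (∃ (F₀ : Type) (_ : Field F₀) (_ : Fintype F₀) (r : ℕ), r.Prime ∧ Odd r ∧ Fintype.card F = Fintype.card F₀ ^ r ∧
        Nonempty (M ≃* Matrix.ProjGenLinGroup (Fin 2) F₀)) := by
      obtain ⟨p, hp, n, hpp, hn⟩ := FiniteField.card' F
      have := Fact.mk hpp
      have h2 : (2 : F) ≠ 0 := H18.two_ne_zero_iff_odd.mpr hodd
      have h0 := H12.odd_card h2
      rw [H12.range_eq_LL] at hML
      have h := H12.MP.of_pgl hM hML
      have no : ¬ M ≤ H12.LL F := fun e => by
        rcases hM.le_iff.mp e with c | c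
        · have := H12.index_LL h2; rw [c] at this; simp at this
        · exact hML c.le
      rcases h.cases p (by omega) with ⟨x, a⟩ | ⟨D, b, s, a1, a2, a⟩ | ⟨E, k, r, a1, a2, a3, a⟩ |
        ⟨a, ⟨⟨f⟩⟩ | ⟨⟨f⟩⟩⟩ | ⟨-, -, -, ⟨f⟩⟩
      · have := H12.card_inf_stabilizer h.le x
        rw [← a, Subgroup.card_top, H12.card_PGL2 rfl, show Fintype.card F ^ 2 - 1 =
          (Fintype.card F - 1) * (Fintype.card F + 1) by simpa [mul_comm] using Nat.sq_sub_sq _ 1, ← mul_assoc] at this
        exact Or.inl (Nat.eq_of_mul_eq_mul_right (by omega) this)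
      · rw [top_inf_eq] at a
        subst a
        obtain ⟨s, b1, b2, -⟩ := H12.exists_dih_LL h2 (by omega) a1 a2
        obtain ⟨f⟩ := a1.nonempty_equiv
        rcases a2 with c | c
        · exact Or.inr (Or.inl ⟨fun d => h.not_dih h2 (by omega) b2 b1 (Or.inr (by omega)), ⟨c ▸ f⟩⟩)
        · exact Or.inr (Or.inr (Or.inl ⟨c ▸ f⟩))
      · rw [top_inf_eq] at a
        obtain ⟨f⟩ := H12.nonempty_subPGL_equiv E k
        obtain ⟨K, _, _, ⟨g⟩⟩ := H12.exists_small_field E
        have b1 : Fintype.card K = Nat.card E := by rw [Nat.card_congr g.toEquiv, Nat.card_eq_fintype_card]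
        rcases a1.eq_two_or_odd' with rfl | c
        · exact (no (a ▸ H12.subPGL_le_LL h2 a3 k)).elim
        · exact Or.inr (Or.inr (Or.inr (Or.inr ⟨K, _, _, r, a1, c, by rw [b1, a3], ⟨(a ▸ f).trans (H12.pglCongr _ g)⟩⟩)))
      · exact (no (H12.le_LL_of_gen f (k := 1) H12.closure_alt4 H12.alt4_rels.2.1 H12.alt4_rels.2.2.1)).elim
      · refine Or.inr (Or.inr (Or.inr (Or.inl ⟨a ▸ hpp, ?_, ⟨f⟩⟩)))
        by_contra c
        obtain ⟨x, -, y, -, b1, b2⟩ := H12.KP_perm4 f
        obtain ⟨Y, b3, b5, b4⟩ := h.not_perm4_le h2 (by omega) b1 b2 (by omega)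
        exact no ((Subgroup.eq_of_le_of_card_ge b3 (by rw [b4, Nat.card_congr f.toEquiv, H12.card_perm4])).ge.trans b5)
      · exact (no (H12.le_LL_of_gen f (k := 2) H12.closure_alt5 H12.alt5_rels.2.1 H12.alt5_rels.2.2.1)).elim

end Cfsg.Agent.S5891
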