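import Cfsg.Statements.S5893
import Cfsg.Agent.H12.PMe

set_option autoImplicit false
open Cfsg

namespace Cfsg.Agent.S5893

/-- Let F be a finite field of even order q ≥ 4 and let M be a maximal subgroup of PSL₂(F) (= SL₂(F) = PGL₂(F)). Then one of the following holds: |M| = q(q − 1) (the stabiliser of a point of the projective line, elementary abelian of order q extended by a cyclic group of order q − 1); M is dihedral of order 2(q − 1); M is dihedral of order 2(q + 1); or q = q₀^r for a prime r with q₀ ≠ 2 and M ≅ PSL₂(F₀) with |F₀| = q₀. -/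
theorem result {F : Type*} [Field F] [Fintype F]
    (heven : Even (Fintype.card F)) (h4 : 4 ≤ Fintype.card F) (M : Subgroup (Matrix.ProjectiveSpecialLinearGroup (Fin 2) F)) (hM : IsCoatom M) :
    Nat.card M = Fintype.card F * (Fintype.card F - 1) ∨
    Nonempty (M ≃* DihedralGroup (Fintype.card F - 1)) ∨
    Nonempty (M ≃* DihedralGroup (Fintype.card F + 1)) ∨
    (∃ (F₀ : Type) (_ : Field F₀) (_ : Fintype F₀) (r : ℕ), r.Prime ∧ Fintype.card F₀ ≠ 2 ∧
        Fintype.card F = Fintype.card F₀ ^ r ∧ Nonempty (M ≃* Matrix.ProjectiveSpecialLinearGroup (Fin 2) F₀)) := by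
    obtain ⟨p, hp, n, hpp, hn⟩ := FiniteField.card' F
    have := Fact.mk hpp
    obtain rfl : p = 2 := hpp.even_iff.mp (Nat.even_pow.mp (hn ▸ heven)).1
    have e := M.equivMapOfInjective _ Matrix.ProjectiveSpecialLinearGroup.toPGL_injective
    have h := H12.MP.of_psl hM
    rw [H12.LL_eq_top heven] at h
    rcases h.cases 2 h4 with ⟨x, a⟩ | ⟨D, b, s, a1, a2, a⟩ | ⟨E, k, r, a1, a2, a3, a⟩ | a | a
    · have := H12.card_inf_stabilizer h.le x
      rw [← a, Subgroup.card_top, H12.card_PGL2 rfl, ← Nat.card_congr e.toEquiv, show Fintype.card F ^ 2 - 1 =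
        (Fintype.card F - 1) * (Fintype.card F + 1) by simpa [mul_comm] using Nat.sq_sub_sq _ 1, ← mul_assoc] at this
      exact Or.inl (Nat.eq_of_mul_eq_mul_right (by omega) this)
    · rw [top_inf_eq] at a
      rw [← a] at a1
      obtain ⟨f⟩ := a1.nonempty_equiv
      rcases a2 with c | c <;> rw [c] at f
      exacts [Or.inr (Or.inl ⟨e.trans f⟩), Or.inr (Or.inr (Or.inl ⟨e.trans f⟩))]
    · rw [top_inf_eq] at a
      obtain ⟨f⟩ := H12.nonempty_subPGL_equiv E k
      obtain ⟨K, _, _, ⟨g⟩⟩ := H12.exists_small_field E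
      have b1 : Fintype.card K = Nat.card E := by rw [Nat.card_congr g.toEquiv, Nat.card_eq_fintype_card]
      refine Or.inr (Or.inr (Or.inr ⟨K, _, _, r, a1, by omega, by rw [b1, a3], ⟨e.trans ((a ▸ f).trans
        ((H12.pglCongr _ g).trans (MulEquiv.ofBijective _ ⟨Matrix.ProjectiveSpecialLinearGroup.toPGL_injective,
          MonoidHom.range_eq_top.mp (H12.LL_eq_top ?_)⟩).symm))⟩⟩))
      exact b1 ▸ (Nat.even_pow.mp (a3 ▸ heven)).1
    all_goals omega

end Cfsg.Agent.S5893
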