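import Cfsg.Statements.S5947
import Mathlib
import Cfsg.Agent.H2.Hup2
import Cfsg.Agent.H2.Zsig

set_option autoImplicit false
open Cfsg

namespace Cfsg.Agent.S5947

open Subgroup Module H2 H2.Pm

theorem prime_of_add_one {p f a : ℕ} (hp : p.Prime) (hf : 0 < f) (h : p ^ f + 1 = 2 ^ a) :
    f = 1 := by
  have h2 := hp.two_le
  have h3 : p ≤ p ^ f := Nat.le_self_pow hf.ne' p
  obtain ⟨b, rfl⟩ : ∃ b, a = b + 2 := by
    refine ⟨a - 2, ?_⟩
    by_contra h'
    have : a ≤ 1 := by omega
    interval_cases a <;> omega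
  rcases f.even_or_odd' with ⟨k, rfl | rfl⟩
  · exfalso
    rw [pow_mul', pow_add] at h
    generalize p ^ k = x at h
    rcases x.even_or_odd' with ⟨y, rfl | rfl⟩
    · have : (2 * y) ^ 2 = 4 * y ^ 2 := by ring
      omega
    · have : (2 * y + 1) ^ 2 = 4 * (y ^ 2 + y) + 1 := by ring
      omega
  · by_contra hk
    have hk : k ≠ 0 := by omega
    have hodd : Odd p := by
      rw [← Nat.not_even_iff_odd]
      intro he
      have h1 : Even (p ^ (2 * k + 1)) := he.pow_of_ne_zero (by omega)
      have h4 : Even (2 ^ (b + 2)) := even_two.pow_of_ne_zero (by omega)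
      rw [← h, Nat.even_add_one] at h4
      exact h4 h1
    have e : ∀ k : ℕ, ∃ c, Odd c ∧ p ^ (2 * k + 1) + 1 = (p + 1) * c := fun k => by
      induction k with
      | zero => exact ⟨1, odd_one, by simp⟩
      | succ k ih =>
        obtain ⟨c, hc, e⟩ := ih
        obtain ⟨r, rfl⟩ := hodd
        refine ⟨c + (2 * r + 1) ^ (2 * k + 1) * (2 * r), hc.add_even ((even_two_mul r).mul_left _), ?_⟩
        rw [mul_add (2 * r + 1 + 1), ← e]; ring
    obtain ⟨c, hc, e⟩ := e k
    have h5 : c ∣ 2 ^ (b + 2) := h ▸ e ▸ dvd_mul_left _ _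
    have h6 : c = 1 := Nat.Coprime.eq_one_of_dvd ((Nat.coprime_two_right.2 hc).pow_right _) h5
    rw [h6, mul_one, Nat.add_right_cancel_iff] at e
    have := Nat.pow_right_injective h2 (e.trans (pow_one p).symm)
    omega

theorem irr {F V : Type*} [Field F] [Finite F] [AddCommGroup V] [Module F V] [Finite V] {s : ℕ}
    (h : Ppd (Nat.card F) (finrank F V) s) {x : (End F V)ˣ} (hx : orderOf x = s)
    (W : Submodule F V) (hW : ∀ v ∈ W, (x : End F V) v ∈ W) : W = ⊥ ∨ W = ⊤ := by
  haveI : Module.Finite F V := Module.Finite.of_finite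
  haveI : Finite (End F V) := Finite.of_injective _ DFunLike.coe_injective
  let U := LinearMap.ker ((x : End F V) - 1)
  have hU : ∀ v, v ∈ U ↔ x • v = v := fun v => LinearMap.mem_ker.trans sub_eq_zero
  have key : ∀ W : Submodule F V, (∀ v ∈ W, (x : End F V) v ∈ W) → W ≤ U ∨ (W = ⊤ ∧ U = ⊥) :=
    fun W hW => by
    have hW' : ∀ g ∈ zpowers x, ∀ v ∈ W, g • v ∈ W := by
      intro g hg
      rw [← mem_powers_iff_mem_zpowers] at hg
      obtain ⟨k, rfl⟩ := hg
      induction k with
      | zero => intro v hv; simpa using hv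
      | succ k ih => intro v hv; beta_reduce; rw [pow_succ, mul_smul]; exact ih _ (hW v hv)
    have := card_dvd_ncard_of_free (zpowers x) ((W : Set V) \ (W ⊓ U : Submodule F V))
      (fun g hg v hv => ⟨hW' g hg v hv.1, fun e => hv.2 ⟨hv.1, (hU v).2 (by
        have := (hU _).1 e.2
        rw [← mul_smul, mul_comm_of_mem (A := zpowers x) (mem_zpowers x) hg, mul_smul] at this
        exact MulAction.injective g this)⟩⟩) fun g hg v hv e => by_contra fun h1 => hv.2 ⟨hv.1,
      (hU v).2 ((zpowers_le.2 (show g ∈ MulAction.stabilizer _ v from e))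
        (zpowers_eq_of_prime (hx ▸ h.1) hg h1))⟩
    rw [Set.ncard_diff (s := ((W ⊓ U : Submodule F V) : Set V)) (fun _ h => h.1),
      Nat.card_zpowers, hx] at this
    change s ∣ Nat.card W - Nat.card (W ⊓ U : Submodule F V) at this
    rw [Module.natCard_eq_pow_finrank (K := F) (V := W),
      Module.natCard_eq_pow_finrank (K := F) (V := (W ⊓ U : Submodule F V))] at this
    rcases h.cases Nat.card_pos.ne' (Submodule.finrank_mono inf_le_left) W.finrank_le this
      with h1 | h1
    · exact Or.inl (inf_eq_left.1 (Submodule.eq_of_le_of_finrank_eq inf_le_left h1.symm))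
    · obtain rfl := Submodule.eq_top_of_finrank_eq h1.1
      exact Or.inr ⟨rfl, by simpa using h1.2⟩
  have hb : U = ⊥ := ((key ⊤ fun _ _ => trivial).resolve_left fun e => h.1.one_lt.ne' (by
    rw [← hx, orderOf_eq_one_iff]
    exact Units.ext (LinearMap.ext fun v : V => (hU v).1 (e trivial)))).2
  exact (key W hW).imp (fun e => eq_bot_iff.2 (hb ▸ e)) fun e => e.1

/-- Let F ⊆ K be finite fields with |F| = q and [K : F] = n ≥ 2, regard K as an n-dimensional F-vector space, and let M ≤ GL_F(K) be the Singer group of multiplications by non-zero elements of K (cyclic of order q^n − 1). Assume (n, q) ≠ (6, 2), and that it is not the case that n = 2 with q a prime such that q + 1 is a power of 2. Then every abelian subgroup of GL_F(K) of order q^n − 1 is conjugate to M. -/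
theorem result {F K : Type*} [Field F] [Fintype F] [Field K] [Fintype K] [Algebra F K] (n : ℕ) (hn : 2 ≤ n) (hdim : Module.finrank F K = n)
    (hex1 : ¬ (n = 6 ∧ Fintype.card F = 2))
    (hex2 : ¬ (n = 2 ∧ (Fintype.card F).Prime ∧ ∃ a : ℕ, Fintype.card F + 1 = 2 ^ a))
    (U : Subgroup (Module.End F K)ˣ) (hU : IsMulCommutative U) (hcard : Nat.card U = Fintype.card K - 1) :
    ∃ g : (Module.End F K)ˣ, U.map (MulAut.conj g).toMonoidHom = (Units.map ((Algebra.lmul F K : K →ₐ[F] Module.End F K) : K →* Module.End F K)).range := by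
  classical
  haveI : Finite (End F K) := Finite.of_injective _ DFunLike.coe_injective
  obtain ⟨s, hs, hs1, hs2⟩ := zsigmondy (a := Fintype.card F) (n := n) Fintype.one_lt_card hn
    (fun h => hex1 ⟨h.2, h.1⟩) (fun ⟨h, a, ha⟩ => hex2 ⟨h, by
      obtain ⟨p, -, f, hp, e⟩ := FiniteField.card' F
      rw [e] at ha ⊢
      rwa [prime_of_add_one hp f.pos ha, pow_one], a, ha⟩)
  have hK : Fintype.card K = Fintype.card F ^ n := hdim ▸ Module.card_eq_pow_finrank
  haveI := Fact.mk hs
  obtain ⟨x, hx⟩ := exists_prime_orderOf_dvd_card' (G := U) s (by rwa [hcard, hK])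
  have hI := irr (F := F) (V := K) (s := s) (x := x)
    (by rw [Nat.card_eq_fintype_card, hdim]; exact ⟨hs, hs1, hs2⟩) (by rw [orderOf_coe, hx])
  let L := Subalgebra.centralizer F {((x : (End F K)ˣ) : End F K)}
  have hL : ∀ e : L, ((x : (End F K)ˣ) : End F K) * e = e * (x : (End F K)ˣ) := fun e => e.2 _ rfl
  have hinj : ∀ e : L, e ≠ 0 → Function.Injective (e : End F K) := fun e h0 => by
    rw [← LinearMap.ker_eq_bot]
    refine (hI _ fun v hv => ?_).resolve_right fun e' => h0 (Subtype.ext (LinearMap.ker_eq_top.1 e'))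
    rw [LinearMap.mem_ker] at hv ⊢
    rw [← End.mul_apply, ← hL, End.mul_apply, hv, map_zero]
  haveI : NoZeroDivisors L := ⟨fun {a b} e => by
    by_cases ha : a = 0
    · exact Or.inl ha
    refine Or.inr (Subtype.ext (LinearMap.ext fun v => hinj a ha ?_))
    have := LinearMap.congr_fun (congrArg Subtype.val e) v
    simpa using this⟩
  haveI := NoZeroDivisors.to_isDomain L
  letI := (Finite.isDomain_to_isField L).toField
  let ev : L →ₗ[F] K := ⟨⟨fun e => (e : End F K) 1, fun _ _ => rfl⟩, fun _ _ => rfl⟩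
  have hev : Function.Injective ev := (injective_iff_map_eq_zero ev).2 fun e he =>
    by_contra fun h0 => one_ne_zero (hinj e h0 (he.trans (map_zero _).symm))
  let ι : U → L := fun u => ⟨(u : (End F K)ˣ), by
    rintro _ rfl
    exact congrArg Units.val (mul_comm_of_mem (A := U) x.2 u.2)⟩
  have hι : Function.Injective ι := fun a b e => Subtype.ext (Units.ext (congrArg Subtype.val e))
  have h0 : (0 : L) ∉ Set.range ι := fun ⟨u, e⟩ => Units.ne_zero _ (congrArg Subtype.val e)
  have c1 := Set.ncard_insert_of_notMem h0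
  have c2 := Nat.card_le_card_of_injective ev hev
  have c3 := Fintype.card_pos (α := K)
  rw [Set.ncard_range_of_injective hι, hcard] at c1
  rw [Nat.card_eq_fintype_card (α := K)] at c2
  have c4 : insert 0 (Set.range ι) = Set.univ := Set.eq_of_subset_of_ncard_le (Set.subset_univ _)
    (by rw [Set.ncard_univ]; omega)
  have c5 : Nat.card L = Nat.card K := by
    rw [c4, Set.ncard_univ] at c1
    rw [Nat.card_eq_fintype_card (α := K)]; omega
  have hev' : Function.Bijective ev := (Nat.bijective_iff_injective_and_card _).2 ⟨hev, c5⟩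
  let e := LinearEquiv.ofBijective ev hev'
  obtain ⟨φ⟩ := FiniteField.nonempty_algHom_of_finrank_dvd (F := F) (K := L) (L := K)
    (e.finrank_eq ▸ dvd_rfl)
  have hφ : Function.Bijective φ := (Nat.bijective_iff_injective_and_card _).2 ⟨φ.injective, c5⟩
  let g : K ≃ₗ[F] K := e.symm.trans (LinearEquiv.ofBijective φ.toLinearMap hφ)
  let g' : (End F K)ˣ := (LinearMap.GeneralLinearGroup.generalLinearEquiv F K).symm g
  have hg : ∀ c : L, (g' : End F K) * c = Algebra.lmul F K (φ c) * g' := fun c => by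
    refine LinearMap.ext fun v => ?_
    obtain ⟨d, rfl⟩ := e.surjective v
    change φ (e.symm (e (c * d))) = φ c * φ (e.symm (e d))
    rw [e.symm_apply_apply, e.symm_apply_apply, map_mul]
  refine ⟨g', le_antisymm ?_ ?_⟩
  · rintro _ ⟨u, hu, rfl⟩
    refine ⟨Units.mk0 (φ (ι ⟨u, hu⟩)) ((map_ne_zero φ).2 fun h => h0 ⟨_, h⟩), ?_⟩
    change _ = g' * u * g'⁻¹
    rw [eq_mul_inv_iff_mul_eq]
    exact Units.ext (hg (ι ⟨u, hu⟩)).symm
  · rintro _ ⟨a, rfl⟩
    obtain ⟨c, hc⟩ := hφ.2 a
    rcases (c4.ge trivial : c ∈ insert 0 (Set.range ι)) with rfl | ⟨u, rfl⟩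
    · exact absurd (hc.symm.trans (map_zero φ)) a.ne_zero
    refine ⟨u, u.2, ?_⟩
    change g' * u * g'⁻¹ = _
    rw [mul_inv_eq_iff_eq_mul]
    refine Units.ext ((hg (ι u)).trans ?_)
    rw [hc]; rfl

end Cfsg.Agent.S5947
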